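import Cfsg.Agent.Mrg.Omega.Node.NO3L
import Cfsg.Agent.Mrg.Omega.NOThreeL.PointStab
import Cfsg.Agent.Mrg.Omega.VP
import Cfsg.Agent.Mrg.Omega.FFMutual


/-!
# NO-3L: the cut (A) / (B1) / (B2) / (B3) (#13890, helper863; #12384, helper111), K-free part

`S` a Sylow 2-subgroup, `Z = Ω₁(Z(S))`, `C = C_G(Z) = CZ S`, `Q = O₂(C)`, `Data S` the situation of NO-3L, long
groups `H` (`IsLong S H`: local, `C ≤ H`), `U_H = zl S H = ⟨Z^H⟩`.

* `WP S = ⟨V_P^c : P ∈ P*(S), c ∈ C⟩` : the product of all lines on the point `Z`; the point `Z^g` has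
  `WP^g = MulAut.conj g • WP S`;
* `FH S H = ⟨WP^h : h ∈ H⟩ = F_H` : the product of all lines on the points of `H`;
* `CaseA S` : some `V_P`, `P ∈ P*(S)`, does not centralise some `U_H`;
* `comm_of_le` : `WP^x ≤ Q^y`, `WP^y ≤ Q^x` implies `[WP^x, WP^y] = 1`;
* (not A) `NotA.WP_le`, `NotA.FH_le_o2`, `NotA.FH_comm`, `NotA.FH_sq` : `F_H` is an elementary abelian normal
  subgroup of `H` in `O₂(H)`;
* (not A, not B1, not B2) `NotB2.FH_le_o2`, `NotB2.FH_comm` : `F_K ≤ O₂(H)` and `[F_H, F_K] = 1` for all long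
  `H`, `K`;
* (A) `PairA` : `V_P` and `U_H` normalise each other and do not commute; `PairA.off_of` : with the FF theorem,
  `Off V_P U_H` gives `NoOver`, `Concl` for `P` and `Off U_H V_P`;
* `DataZ S` : moreover `C_Z(P) = 1` for all `P ∈ P*(S)`; `DataZ.cv_eq` : `C_{V_P}(O²(P)) = 1`;
* `o2_sSup` : the long groups generate a nonlocal group; `exists_crit` : a critical pair of long modules.
-/

set_option autoImplicit false

namespace Cfsg.Agent.Omega.NOThreeL.Basic

open Subgroup Cfsg Cfsg.Agent.ZN Cfsg.Agent.Omega.MinPar Cfsg.Agent.Omega.Frame Cfsg.Agent.Omega.FrameNOFF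
open Cfsg.Agent.Omega.Node.NO3L
open Cfsg.Agent.Omega.NoFF.Basic (V conj_conj mem_conj conj_le_iff conj_le_centralizer comm_symm comm_mono
  Z_le_V V_le conj_V_mul)
open Cfsg.Agent.Omega.NOThreeL.Pair (conj_eq_of_mem conj_le_normalizer zl_abel)
open Cfsg.Agent.Omega.FFThm (Off NoOver Concl)
open Cfsg.Agent.MinSimple.VModule (zl_le le_normalizer_zl zc_le_zl zc_le zl_le_zc o2_isPGroup le_normalizer_o2
  mem_zc)
open scoped Pointwise

universe u

variable {G : Type u} [Group G]

/-! ### Definitions -/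

/-- The product of all lines on the point `Z`. -/
def WP (S : Subgroup G) : Subgroup G := NoFF.Lines.W (zc S) (CZ S) (PS S)

/-- `F_H`: the product of all lines on the points `Z^h`, `h ∈ H`. -/
def FH (S H : Subgroup G) : Subgroup G := V (WP S) H

/-- Case (A): some `V_P` does not centralise some `U_H`. -/
def CaseA (S : Subgroup G) : Prop :=
  ∃ P H : Subgroup G, IsParS S P ∧ IsLong S H ∧ ¬ zl S P ≤ centralizer (zl S H : Set G)

/-- Case (B1): not (A), and some `U_H`, `U_K` do not commute. -/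
def CaseB1 (S : Subgroup G) : Prop :=
  ¬ CaseA S ∧ ∃ H K : Subgroup G, IsLong S H ∧ IsLong S K ∧ ¬ zl S H ≤ centralizer (zl S K : Set G)

/-- Case (B2): not (A), all `U_H` commute, and some `U_H` does not centralise some `F_K`. -/
def CaseB2 (S : Subgroup G) : Prop :=
  ¬ CaseA S ∧ (∀ H K : Subgroup G, IsLong S H → IsLong S K → zl S H ≤ centralizer (zl S K : Set G)) ∧
    ∃ H K : Subgroup G, IsLong S H ∧ IsLong S K ∧ ¬ zl S H ≤ centralizer (FH S K : Set G)

/-- Case (B3): not (A), and all `U_H` centralise all `F_K`. -/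
def CaseB3 (S : Subgroup G) : Prop :=
  ¬ CaseA S ∧ ∀ H K : Subgroup G, IsLong S H → IsLong S K → zl S H ≤ centralizer (FH S K : Set G)

/-- The situation of NO-3L with `C_Z(P) = 1` for all `P ∈ P*(S)`. -/
structure DataZ (S : Subgroup G) : Prop extends Data S where
  cz : ∀ P : Subgroup G, IsParS S P → zc S ⊓ centralizer (P : Set G) = ⊥

/-- Case (A): `V_P` and `U_H` do not commute. -/
structure PairA (S P H : Subgroup G) : Prop where
  par : IsParS S P
  long : IsLong S H
  ne : ¬ zl S P ≤ centralizer (zl S H : Set G)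

theorem caseA_iff {S : Subgroup G} : CaseA S ↔ ∃ P H, PairA S P H :=
  ⟨fun ⟨P, H, h1, h2, h3⟩ => ⟨P, H, h1, h2, h3⟩, fun ⟨P, H, h⟩ => ⟨P, H, h.par, h.long, h.ne⟩⟩

/-! ### Elementary facts -/

theorem le_normalizer_FH (S H : Subgroup G) : H ≤ normalizer (FH S H : Set G) := by
  intro h hh
  have key : ∀ h ∈ H, MulAut.conj h • FH S H = FH S H := fun h hh => by
    have := conj_V_mul (Z := WP S) (g := 1) hh
    rwa [one_mul, map_one, one_smul] at this
  rw [mem_normalizer_iff]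
  intro x
  constructor
  · intro hx
    rw [← key h hh, mem_conj]
    simpa [mul_assoc] using hx
  · intro hx
    rw [← key h hh, mem_conj] at hx
    simpa [mul_assoc] using hx

theorem WP_le_FH (S H : Subgroup G) : WP S ≤ FH S H := by
  have h := Z_le_V (Z := WP S) H.one_mem
  rwa [map_one, one_smul] at h

theorem conj_WP_le_FH (S : Subgroup G) {H : Subgroup G} {h : G} (hh : h ∈ H) :
    MulAut.conj h • WP S ≤ FH S H := Z_le_V hh

theorem FH_le {S H A : Subgroup G} (h : ∀ x ∈ H, MulAut.conj x • WP S ≤ A) : FH S H ≤ A := V_le h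

theorem zl_le_WP {S P : Subgroup G} (hP : IsParS S P) : zl S P ≤ WP S := by
  have := NoFF.Lines.line_le (Z := zc S) (C := CZ S) (F := PS S) hP (one_mem _)
  rwa [map_one, one_smul] at this

theorem line_le_WP {S P : Subgroup G} (hP : IsParS S P) {c : G} (hc : c ∈ CZ S) :
    MulAut.conj c • zl S P ≤ WP S :=
  NoFF.Lines.line_le (Z := zc S) (C := CZ S) (F := PS S) hP hc

theorem WP_le {S A : Subgroup G} (h : ∀ P, IsParS S P → ∀ c ∈ CZ S, MulAut.conj c • zl S P ≤ A) :
    WP S ≤ A := NoFF.Lines.W_le fun P hP c hc => h P hP c hc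

theorem conj_WP {S : Subgroup G} {c : G} (hc : c ∈ CZ S) : MulAut.conj c • WP S = WP S :=
  NoFF.Lines.W_conj hc

section fin

variable [Finite G] {S : Sylow 2 G}

theorem zc_le_WP (h : Ctx G) (hF : Full (S : Subgroup G)) : zc (S : Subgroup G) ≤ WP (S : Subgroup G) := by
  obtain ⟨P, hP⟩ := h.exists_isParS hF
  exact (zc_le_zl _ _).trans (zl_le_WP hP)

theorem zl_le_FH (h : Ctx G) (hF : Full (S : Subgroup G)) (H : Subgroup G) :
    zl (S : Subgroup G) H ≤ FH (S : Subgroup G) H :=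
  zl_le ((zc_le_WP h hF).trans (WP_le_FH _ H)) (le_normalizer_FH _ H)

variable (hc : IsCharacteristicTwoType G) (D : Data (S : Subgroup G))
include D

omit [Finite G] in
/-- All lines on `Z` are in `Q = O₂(C)`. -/
theorem WP_le_Q : WP (S : Subgroup G) ≤ o2 (CZ (S : Subgroup G)) := by
  refine WP_le fun P hP c hcc => ?_
  have h1 := (conj_le_iff (g := c)).2 (D.low P hP)
  rwa [conj_eq_of_mem (le_normalizer_o2 _ hcc)] at h1

include hc

theorem geo : NoFF.Lines.Geo (S : Subgroup G) (zc (S : Subgroup G)) (CZ (S : Subgroup G))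
    (PS (S : Subgroup G)) := by
  have hG : (S : Subgroup G) ≠ ⊥ := by
    intro h0
    have h2 : Fact (Nat.Prime 2) := ⟨Nat.prime_two⟩
    have h1 := S.not_dvd_index
    rw [h0, index_bot] at h1
    exact h1 hc.1.two_dvd
  exact FrameNOFF.geo hc S D.noff hG D.low

/-- **Two points whose lines are in each other's `O₂`.** -/
theorem comm_of_le {x y : G}
    (h1 : MulAut.conj x • WP (S : Subgroup G) ≤ MulAut.conj y • o2 (CZ (S : Subgroup G)))
    (h2 : MulAut.conj y • WP (S : Subgroup G) ≤ MulAut.conj x • o2 (CZ (S : Subgroup G))) :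
    MulAut.conj x • WP (S : Subgroup G) ≤
      centralizer ((MulAut.conj y • WP (S : Subgroup G) : Subgroup G) : Set G) := by
  have D' := geo hc D
  have hS : (S : Subgroup G) ≠ ⊥ := by
    intro h0
    have h2 : Fact (Nat.Prime 2) := ⟨Nat.prime_two⟩
    have h1 := S.not_dvd_index
    rw [h0, index_bot] at h1
    exact h1 hc.1.two_dvd
  have hQS : o2 (CZ (S : Subgroup G)) ≤ (S : Subgroup G) := (isLoc_centralizer_zc S hS).o2_le S
  -- lines on `x` are in `P'^(y d)`
  have key : ∀ {x y : G}, MulAut.conj x • WP (S : Subgroup G) ≤ MulAut.conj y • o2 (CZ (S : Subgroup G)) →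
      ∀ {P P' : Subgroup G}, IsParS (S : Subgroup G) P → IsParS (S : Subgroup G) P' →
      ∀ {c d : G}, c ∈ CZ (S : Subgroup G) → d ∈ CZ (S : Subgroup G) →
        MulAut.conj (x * c) • zl (S : Subgroup G) P ≤ MulAut.conj (y * d) • P' := by
    intro x y hxy P P' hP hP' c d hcc hd
    have e1 : MulAut.conj (x * c) • zl (S : Subgroup G) P ≤ MulAut.conj x • WP (S : Subgroup G) := by
      rw [← conj_conj]
      exact conj_le_iff.2 (line_le_WP hP hcc)
    have e2 : MulAut.conj y • o2 (CZ (S : Subgroup G)) ≤ MulAut.conj (y * d) • P' := by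
      rw [← conj_conj]
      refine conj_le_iff.2 ?_
      rw [← conj_eq_of_mem (le_normalizer_o2 _ hd)]
      exact conj_le_iff.2 (hQS.trans hP'.le)
    exact (e1.trans hxy).trans e2
  refine NoFF.Lines.conj_W_le fun P hP c hcc => ?_
  rw [le_centralizer_iff]
  refine NoFF.Lines.conj_W_le fun P' hP' d hd => ?_
  rw [le_centralizer_iff]
  exact D'.noff' hP hP' (key h1 hP hP' hcc hd) (key h2 hP' hP hd hcc)

omit [Finite G] hc D in
/-- A subgroup of `Q` centralising `U_H` is in `O₂(H)`. -/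
theorem le_o2_of_comm {A H : Subgroup G} (hA : A ≤ o2 (CZ (S : Subgroup G)))
    (hH : IsLong (S : Subgroup G) H) (h : A ≤ centralizer (zl (S : Subgroup G) H : Set G)) : A ≤ o2 H :=
  (le_inf hA h).trans (PointStab.inf_le_o2 (zc_le_zl _ _) hH.cz (le_normalizer_zl _ _))

/-! ### Not (A) -/

omit [Finite G] hc D in
theorem WP_le_centralizer (hA : ¬ CaseA (S : Subgroup G)) {H : Subgroup G}
    (hH : IsLong (S : Subgroup G) H) :
    WP (S : Subgroup G) ≤ centralizer (zl (S : Subgroup G) H : Set G) := by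
  refine WP_le fun P hP c hcc => ?_
  have h1 : zl (S : Subgroup G) P ≤ centralizer (zl (S : Subgroup G) H : Set G) := by
    by_contra h
    exact hA ⟨P, H, hP, hH, h⟩
  have h2 := conj_le_centralizer (g := c) h1
  rwa [conj_eq_of_mem (le_normalizer_zl _ _ (hH.cz hcc))] at h2

omit [Finite G] hc in
/-- **(i)** not (A): all lines on `Z` are in `O₂(H)`. -/
theorem NotA.WP_le (hA : ¬ CaseA (S : Subgroup G)) {H : Subgroup G}
    (hH : IsLong (S : Subgroup G) H) : WP (S : Subgroup G) ≤ o2 H :=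
  le_o2_of_comm (WP_le_Q D) hH (WP_le_centralizer hA hH)

omit hc in
/-- **(ii)** not (A): `F_H ≤ O₂(H)`. -/
theorem NotA.FH_le_o2 (hA : ¬ CaseA (S : Subgroup G)) {H : Subgroup G}
    (hH : IsLong (S : Subgroup G) H) : FH (S : Subgroup G) H ≤ o2 H := by
  refine FH_le fun x hx => ?_
  have h1 := (conj_le_iff (g := x)).2 (NotA.WP_le D hA hH)
  rwa [conj_eq_of_mem (le_normalizer_o2 _ hx)] at h1

/-- **(ii)** not (A): `F_H` is abelian. -/
theorem NotA.FH_comm (hA : ¬ CaseA (S : Subgroup G)) {H : Subgroup G}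
    (hH : IsLong (S : Subgroup G) H) :
    FH (S : Subgroup G) H ≤ centralizer (FH (S : Subgroup G) H : Set G) := by
  have hle : ∀ x ∈ H, MulAut.conj x • WP (S : Subgroup G) ≤ o2 H := fun x hx =>
    (conj_WP_le_FH _ hx).trans (NotA.FH_le_o2 D hA hH)
  have hQ : ∀ y ∈ H, o2 H ≤ MulAut.conj y • o2 (CZ (S : Subgroup G)) := fun y hy => by
    rw [← conj_eq_of_mem (le_normalizer_o2 H hy)]
    exact conj_le_iff.2 (hH.o2_le S)
  refine FH_le fun x hx => comm_symm (FH_le fun y hy => comm_symm ?_)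
  exact comm_of_le hc D ((hle x hx).trans (hQ y hy)) ((hle y hy).trans (hQ x hx))

/-- **(ii)** not (A): `F_H` has exponent 2. -/
theorem NotA.FH_sq (hA : ¬ CaseA (S : Subgroup G)) {H : Subgroup G}
    (hH : IsLong (S : Subgroup G) H) : ∀ f ∈ FH (S : Subgroup G) H, f ^ 2 = 1 :=
  NoFF.Lines.Geo.sq_of_comm (NotA.FH_comm hc D hA hH)
    (B := fun h : H => MulAut.conj (h : G) • WP (S : Subgroup G)) (fun h => conj_WP_le_FH _ h.2) le_rfl
    fun h => (geo hc D).W_sq' (h : G)

/-- **(ii)** not (A): `F_H` is elementary abelian. -/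
theorem NotA.FH_elem (hA : ¬ CaseA (S : Subgroup G)) {H : Subgroup G}
    (hH : IsLong (S : Subgroup G) H) : IsElementaryAbelian 2 (FH (S : Subgroup G) H) :=
  ⟨⟨⟨fun a b => Subtype.ext (mem_centralizer_iff.1 (NotA.FH_comm hc D hA hH b.2) a a.2)⟩⟩,
    NotA.FH_sq hc D hA hH⟩

/-! ### Not (A), and `U_H` centralises all `F_K` -/

omit hc in
/-- (B3): `F_K ≤ O₂(H)` for all long `H`, `K`. -/
theorem B3.FH_le_o2 (h3 : CaseB3 (S : Subgroup G)) {H K : Subgroup G}
    (hH : IsLong (S : Subgroup G) H) (hK : IsLong (S : Subgroup G) K) : FH (S : Subgroup G) K ≤ o2 H :=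
  le_o2_of_comm ((NotA.FH_le_o2 D h3.1 hK).trans (hK.o2_le S)) hH (comm_symm (h3.2 H K hH hK))

/-- (B3): `[F_H, F_K] = 1` for all long `H`, `K`, so `d_H ≥ 3`. -/
theorem B3.FH_comm (h3 : CaseB3 (S : Subgroup G)) {H K : Subgroup G}
    (hH : IsLong (S : Subgroup G) H) (hK : IsLong (S : Subgroup G) K) :
    FH (S : Subgroup G) H ≤ centralizer (FH (S : Subgroup G) K : Set G) := by
  have hQ : ∀ {L : Subgroup G}, IsLong (S : Subgroup G) L → ∀ y ∈ L,
      o2 L ≤ MulAut.conj y • o2 (CZ (S : Subgroup G)) := fun hL y hy => by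
    rw [← conj_eq_of_mem (le_normalizer_o2 _ hy)]
    exact conj_le_iff.2 (hL.o2_le S)
  refine FH_le fun x hx => comm_symm (FH_le fun y hy => comm_symm ?_)
  refine comm_of_le hc D ?_ ?_
  · exact ((conj_WP_le_FH _ hx).trans (B3.FH_le_o2 D h3 hK hH)).trans (hQ hK y hy)
  · exact ((conj_WP_le_FH _ hy).trans (B3.FH_le_o2 D h3 hH hK)).trans (hQ hH x hx)

/-! ### (A): the mutual pair `V_P`, `U_H` -/

omit hc D in
theorem IsLong.zl_le_S (hc : IsCharacteristicTwoType G) {H : Subgroup G} (hH : IsLong (S : Subgroup G) H) :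
    zl (S : Subgroup G) H ≤ (S : Subgroup G) := (hH.zl_le_o2 hc S).trans (hH.loc.o2_le S)

omit D in
theorem IsParS.zl_le_S {P : Subgroup G} (hP : IsParS (S : Subgroup G) P) :
    zl (S : Subgroup G) P ≤ (S : Subgroup G) :=
  ((hP.isLoc.zl_le S hc).trans (zc_le _)).trans (hP.isLoc.o2_le S)

omit D in
/-- `U_H` normalises `V_P`. -/
theorem PairA.le_normalizer {P H : Subgroup G} (h : PairA (S : Subgroup G) P H) :
    zl (S : Subgroup G) H ≤ normalizer (zl (S : Subgroup G) P : Set G) :=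
  (IsLong.zl_le_S hc h.long).trans (h.par.le.trans (le_normalizer_zl _ _))

omit D in
/-- `V_P` normalises `U_H`. -/
theorem PairA.le_normalizer' {P H : Subgroup G} (h : PairA (S : Subgroup G) P H) :
    zl (S : Subgroup G) P ≤ normalizer (zl (S : Subgroup G) H : Set G) :=
  (IsParS.zl_le_S hc h.par).trans (h.long.loc.le.trans (le_normalizer_zl _ _))

omit [Finite G] hc D in
theorem PairA.ne' {P H : Subgroup G} (h : PairA (S : Subgroup G) P H) :
    ¬ zl (S : Subgroup G) H ≤ centralizer (zl (S : Subgroup G) P : Set G) :=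
  fun h1 => h.ne (comm_symm h1)

omit D in
/-- One of `V_P`, `U_H` is an offender on the other. -/
theorem PairA.off_or {P H : Subgroup G} (h : PairA (S : Subgroup G) P H) :
    Off (zl (S : Subgroup G) P) (zl (S : Subgroup G) H) ∨
      Off (zl (S : Subgroup G) H) (zl (S : Subgroup G) P) :=
  FFThm.off_or (FFThm.elem_zl hc S h.par.isLoc) (FFThm.elem_zl hc S h.long.loc) h.ne'

omit D in
/-- **(A), `U_H` offends on `V_P`**: the FF theorem for `P`, and `|V_P : C(U_H)| = |U_H : C(V_P)|`. -/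
theorem PairA.off_of (hFF : FFThm.Stmt.{u}) {P H : Subgroup G} (h : PairA (S : Subgroup G) P H)
    (hoff : Off (zl (S : Subgroup G) P) (zl (S : Subgroup G) H)) :
    NoOver (zl (S : Subgroup G) P) P ∧ Concl (S : Subgroup G) P ∧
      Off (zl (S : Subgroup G) H) (zl (S : Subgroup G) P) ∧
      Nat.card (zl (S : Subgroup G) P) *
          Nat.card ↥(zl (S : Subgroup G) H ⊓ centralizer (zl (S : Subgroup G) P : Set G)) =
        Nat.card (zl (S : Subgroup G) H) *
          Nat.card ↥(zl (S : Subgroup G) P ⊓ centralizer (zl (S : Subgroup G) H : Set G)) := by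
  obtain ⟨h1, h2⟩ := FFThm.of_off hFF hc S h.par.toIsPar (PairA.le_normalizer hc h) hoff
  have h3 := h1 _ ((IsLong.zl_le_S hc h.long).trans h.par.le) (FFThm.elem_zl hc S h.long.loc)
  exact ⟨h1, h2, ⟨FFThm.elem_zl hc S h.par.isLoc, h.ne, h3⟩, le_antisymm hoff.le h3⟩

/-! ### `C_Z(P) = 1` -/

omit D in
/-- `C_Z(P) = 1` gives `C_{V_P}(O²(P)) = 1`. -/
theorem DataZ.cv_eq (D : DataZ (S : Subgroup G)) {P : Subgroup G} (hP : IsParS (S : Subgroup G) P) :
    FrameFF.cv (S : Subgroup G) P = ⊥ :=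
  NoFF.LinesPlug.inf_oddGen_eq_bot hc S hP.toIsPar (D.cz P hP)

end fin

/-! ### The long groups generate a nonlocal group -/

section nonloc

variable [Finite G]

/-- **The long groups generate a nonlocal group.** -/
theorem o2_sSup (h : Ctx G) (S : Sylow 2 G) (hF : Full (S : Subgroup G)) (D : Data (S : Subgroup G)) :
    o2 (sSup {H : Subgroup G | IsLong (S : Subgroup G) H}) = ⊥ := by
  refine eq_bot_of_norm h S hF (o2_isPGroup _) (fun P hP => ?_) ?_
  · refine le_trans ?_ (le_normalizer_o2 _)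
    exact (le_sup_left : P ≤ P ⊔ CZ (S : Subgroup G)).trans (le_sSup (D.loc P hP))
  · obtain ⟨P, hP⟩ := h.exists_isParS hF
    refine le_trans ?_ (le_normalizer_o2 _)
    exact (le_sup_right : _ ≤ P ⊔ CZ (S : Subgroup G)).trans (le_sSup (D.loc P hP))

/-- **A critical pair of long modules** (LEMMA P, helper582): `U_H`, `(U_K)^x` do not commute,
`(U_K)^x ≤ Q`, `U_H ≤ Q^x`. -/
theorem exists_crit (h : Ctx G) (S : Sylow 2 G) (hF : Full (S : Subgroup G)) (D : Data (S : Subgroup G)) :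
    ∃ (H K : Subgroup G) (x : G), IsLong (S : Subgroup G) H ∧ IsLong (S : Subgroup G) K ∧
      MulAut.conj x • zl (S : Subgroup G) K ≤ o2 (CZ (S : Subgroup G)) ∧
      zl (S : Subgroup G) H ≤ MulAut.conj x • o2 (CZ (S : Subgroup G)) ∧
      ⁅zl (S : Subgroup G) H, MulAut.conj x • zl (S : Subgroup G) K⁆ ≠ ⊥ := by
  obtain ⟨P, hP⟩ := h.exists_isParS hF
  have hne : Nonempty {H : Subgroup G // IsLong (S : Subgroup G) H} := ⟨⟨_, D.loc P hP⟩⟩
  obtain ⟨H, K, x, -, h1, h2, h3⟩ := PointStab.exists_crit_loc h.char2 S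
    (H := fun H : {H : Subgroup G // IsLong (S : Subgroup G) H} => (H : Subgroup G))
    (fun H => H.2.loc) (fun H => H.2.cz) (by
      have := o2_sSup h S hF D
      rwa [sSup_eq_iSup'] at this)
  exact ⟨H, K, x, H.2, K.2, h1, h2, h3⟩

omit [Finite G] in
/-- (A) fails iff all `V_P` centralise all `U_H`; the four cases. -/
theorem cases (S : Subgroup G) : CaseA S ∨ CaseB1 S ∨ CaseB2 S ∨ CaseB3 S := by
  by_cases hA : CaseA S
  · exact Or.inl hA
  right
  by_cases h1 : ∃ H K : Subgroup G, IsLong S H ∧ IsLong S K ∧ ¬ zl S H ≤ centralizer (zl S K : Set G)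
  · exact Or.inl ⟨hA, h1⟩
  right
  by_cases h2 : ∃ H K : Subgroup G, IsLong S H ∧ IsLong S K ∧ ¬ zl S H ≤ centralizer (FH S K : Set G)
  · refine Or.inl ⟨hA, fun H K hH hK => ?_, h2⟩
    by_contra h
    exact h1 ⟨H, K, hH, hK, h⟩
  · refine Or.inr ⟨hA, fun H K hH hK => ?_⟩
    by_contra h
    exact h2 ⟨H, K, hH, hK, h⟩

end nonloc

end Cfsg.Agent.Omega.NOThreeL.Basic
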