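import Cfsg.Agent.Mrg.Omega.NOThreeL.Star
import Cfsg.Agent.Mrg.Omega.Exit.WeakClosed
import Cfsg.Agent.Mrg.Omega.Assembly
import Cfsg.Agent.Mrg.Omega.VP
import Cfsg.Agent.Mrg.Omega.NOThreeL.Basic
import Cfsg.Agent.Omega.NoFF.Main

section


/-!
# NO-3L and NO-3S.NotFF have a common frame (#16235 helper999, #16346 helper672, #16966 helper597, #17343 helper863)

`S` a Sylow 2-subgroup, `Z = Ω₁(Z(S))`, `C = C_G(Z)`, `Q = O₂(C)`, `M₀ = MZ S = ⟨P*(S)⟩ = Star.YS S`,
`V* = zl S M₀ = ⟨Z^M₀⟩`.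

* `HypG S M` : `S ≤ M`, `O₂(M) ≠ 1`, `M = ⟨P ∈ P*(S) : P ≤ M⟩`, `⟨M, C⟩` nonlocal, `V_M = ⟨Z^M⟩ ≤ Q` is not an
  FF-module (no offender in `S`), NOFF and `V_P ≤ Q` for all `P ∈ P*(S)`;
* `NotFFG K` : the common socket;
* `notFF_of` : `NotFFG K` gives the socket `NO3S.NotFF K` of NO-3S (`M = P`);
* `isLoc_MZ`, `nonLoc_MZ` : `M₀` is local (galleries), `⟨M₀, C⟩` is nonlocal;
* `VF` : THEOREM VF = THEOREM NF (K-free): in NO-3L with `C_Z(P) = 1` for all `P ∈ P*(S)` the module `V*` is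
  not FF; `VF.of_notFF` : from `NO3b.EZero.NotFF (zl S (Star.YS S))`;
* `LOW K` : not (A), and `V* ≰ Q`;
* `RG K` : `C_Z(P) ≠ 1` for some `P ∈ P*(S)`, and `V*` is FF or `V* ≰ Q`;
* `caseB_of`, `r_of` : the sockets `Main.CaseB`, `Main.R` of NO-3L from `NotFFG K`, `VF`, `LOW K`, `RG K`.
-/

set_option autoImplicit false

namespace Cfsg.Agent.Omega.NOThreeL.Merge

open Subgroup Cfsg Cfsg.Agent.ZN Cfsg.Agent.Omega.MinPar Cfsg.Agent.Omega.Frame Cfsg.Agent.Omega.FrameNOFF
open Cfsg.Agent.Omega.Node.NO3L Cfsg.Agent.Omega.NOThreeL.Basic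
open Cfsg.Agent.Omega.NO3S (FFMod HypC)
open Cfsg.Agent.Omega.NoFF.Basic (V conj_le_iff Z_le_V V_le)
open Cfsg.Agent.MinSimple.VModule (zl_le le_normalizer_zl zc_le_zl zc_le)
open scoped Pointwise

universe u

/-- `M₀ = ⟨P*(S)⟩`. -/
def MZ {G : Type u} [Group G] (S : Subgroup G) : Subgroup G := sSup (PS S)

/-- **The common hypotheses of NO-3S.NotFF (`M = P`) and NO-3L (`M = ⟨P*(S)⟩`).** -/
structure HypG {G : Type u} [Group G] [Finite G] (S : Sylow 2 G) (M : Subgroup G) : Prop where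
  ctx : Ctx G
  full : Full (S : Subgroup G)
  noFF : ¬ FF (S : Subgroup G)
  low : ∀ R : Subgroup G, IsParS (S : Subgroup G) R →
    zl (S : Subgroup G) R ≤ o2 (CZ (S : Subgroup G))
  loc : IsLoc (S : Subgroup G) M
  gen : M ≤ sSup {P : Subgroup G | IsParS (S : Subgroup G) P ∧ P ≤ M}
  nonLoc : NonLoc M (CZ (S : Subgroup G))
  lowM : zl (S : Subgroup G) M ≤ o2 (CZ (S : Subgroup G))
  nff : ¬ FFMod (S : Subgroup G) M

section sockets

variable (K : Cls.{u})

/-- **NotFFG**: the common socket. -/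
def NotFFG : Prop :=
  ∀ (G : Type u) [Group G] [Finite G], K G → ∀ (S : Sylow 2 G) (M : Subgroup G), HypG S M →
    IsKnownSimple' G

/-- **THEOREM VF** (K-free): in NO-3L with `C_Z(P) = 1` for all `P ∈ P*(S)`, `⟨Z^M₀⟩` is not FF. -/
def VF : Prop :=
  ∀ (G : Type u) [Group G] [Finite G], Ctx G → ∀ (S : Sylow 2 G), Full (S : Subgroup G) →
    DataZ (S : Subgroup G) → ¬ FFMod (S : Subgroup G) (MZ (S : Subgroup G))

/-- **LOW**: not (A), and `V* = ⟨Z^M₀⟩` is not contained in `Q = O₂(C_G(Z))`. -/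
def LOW : Prop :=
  ∀ (G : Type u) [Group G] [Finite G], Ctx G → K G → ∀ (S : Sylow 2 G), Full (S : Subgroup G) →
    DataZ (S : Subgroup G) → ¬ CaseA (S : Subgroup G) →
      ¬ zl (S : Subgroup G) (MZ (S : Subgroup G)) ≤ o2 (CZ (S : Subgroup G)) → IsKnownSimple' G

/-- **R**: `C_Z(P) ≠ 1` for some `P ∈ P*(S)`, and `V* = ⟨Z^M₀⟩` is an FF-module or `V* ≰ Q`. -/
def RG : Prop :=
  ∀ (G : Type u) [Group G] [Finite G], Ctx G → K G → ∀ (S : Sylow 2 G), Full (S : Subgroup G) →
    Data (S : Subgroup G) → (FFMod (S : Subgroup G) (MZ (S : Subgroup G)) ∨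
      ¬ zl (S : Subgroup G) (MZ (S : Subgroup G)) ≤ o2 (CZ (S : Subgroup G))) →
      ∀ P : Subgroup G, IsParS (S : Subgroup G) P →
        zc (S : Subgroup G) ⊓ centralizer (P : Set G) ≠ ⊥ → IsKnownSimple' G

end sockets

/-! ### NO-3S -/

theorem HypG.of_par {G : Type u} [Group G] [Finite G] {S : Sylow 2 G} {P : Subgroup G} (h : HypC S)
    (hP : IsParS (S : Subgroup G) P) (hn : NonLoc P (CZ (S : Subgroup G)))
    (hff : ¬ FFMod (S : Subgroup G) P) : HypG S P where
  ctx := h.ctx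
  full := h.full
  noFF := h.noFF
  low := h.low
  loc := hP.isLoc
  gen := le_sSup ⟨hP, le_rfl⟩
  nonLoc := hn
  lowM := h.low P hP
  nff := hff

/-- **The socket `NO3S.NotFF` from the common socket.** -/
theorem notFF_of {K : Cls.{u}} (h : NotFFG K) : NO3S.NotFF K := by
  intro G _ _ hK S hC hff
  obtain ⟨P, hP, hn⟩ := hC.ex
  exact h G hK S P (HypG.of_par hC hP hn (hff P hP hn))

/-! ### NO-3L -/

section no3L

variable {G : Type u} [Group G] [Finite G] {S : Sylow 2 G}

omit [Finite G] in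
theorem le_MZ {P : Subgroup G} (hP : IsParS (S : Subgroup G) P) : P ≤ MZ (S : Subgroup G) := le_sSup hP

theorem S_le_MZ (hG : Ctx G) (hF : Full (S : Subgroup G)) :
    (S : Subgroup G) ≤ MZ (S : Subgroup G) := by
  obtain ⟨P, hP⟩ := hG.exists_isParS hF
  exact hP.isLoc.le.trans (le_MZ hP)

omit [Finite G] in
theorem MZ_le_X : MZ (S : Subgroup G) ≤
    NoFF.Main.X (normalizer ((S : Subgroup G) : Set G)) (PS (S : Subgroup G)) := le_sup_right

theorem zl_MZ_le : zl (S : Subgroup G) (MZ (S : Subgroup G)) ≤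
    NoFF.Main.A (zc (S : Subgroup G)) (normalizer ((S : Subgroup G) : Set G)) (PS (S : Subgroup G)) :=
  V_le fun _ hx => Z_le_V (MZ_le_X hx)

/-- `V* = ⟨Z^M₀⟩` is abelian. -/
theorem zl_MZ_comm (hG : Ctx G) (hm : ¬ FF (S : Subgroup G)) :
    zl (S : Subgroup G) (MZ (S : Subgroup G)) ≤
      centralizer (zl (S : Subgroup G) (MZ (S : Subgroup G)) : Set G) :=
  NoFF.Basic.comm_mono (NoFF.Main.comm_A (sys hG.char2 S hm) (inv S)) zl_MZ_le zl_MZ_le

theorem zl_MZ_isPGroup (hG : Ctx G) (hm : ¬ FF (S : Subgroup G)) :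
    IsPGroup 2 (zl (S : Subgroup G) (MZ (S : Subgroup G))) :=
  (NoFF.Main.isPGroup (sys hG.char2 S hm) (inv S) (S.isPGroup'.to_le (zc_le _))).to_le zl_MZ_le

/-- **`M₀` is local.** -/
theorem isLoc_MZ (hG : Ctx G) (hF : Full (S : Subgroup G)) (hm : ¬ FF (S : Subgroup G)) :
    IsLoc (S : Subgroup G) (MZ (S : Subgroup G)) := by
  have hS := S_le_MZ hG hF
  refine ⟨hS, o2_ne_bot_of_le (zl_MZ_isPGroup hG hm) ?_ ?_ (le_normalizer_zl _ _)⟩
  · intro h
    refine MinSimple.Basic.zc_ne_bot S.isPGroup' (hG.sylow_ne_bot S) (le_bot_iff.1 ?_)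
    exact h ▸ zc_le_zl _ _
  · exact zl_le ((zc_le _).trans hS) Subgroup.le_normalizer

/-- **`⟨M₀, C⟩` is nonlocal.** -/
theorem nonLoc_MZ (hG : Ctx G) (hF : Full (S : Subgroup G)) :
    NonLoc (MZ (S : Subgroup G)) (CZ (S : Subgroup G)) := fun _ hU h1 h2 =>
  eq_bot_of_norm hG S hF hU (fun _ hP => (le_MZ hP).trans h1) h2

theorem HypG.of_data (hG : Ctx G) (hF : Full (S : Subgroup G)) (D : Data (S : Subgroup G))
    (hlow : zl (S : Subgroup G) (MZ (S : Subgroup G)) ≤ o2 (CZ (S : Subgroup G)))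
    (hff : ¬ FFMod (S : Subgroup G) (MZ (S : Subgroup G))) : HypG S (MZ (S : Subgroup G)) where
  ctx := hG
  full := hF
  noFF := D.noff
  low := D.low
  loc := isLoc_MZ hG hF D.noff
  gen := sSup_le fun _ hP => le_sSup ⟨hP, le_MZ hP⟩
  nonLoc := nonLoc_MZ hG hF
  lowM := hlow
  nff := hff

/-- `NotFF V` (no offender in the whole of `N_G(V)`) gives `¬ FFMod S M`. -/
theorem not_ffMod {M : Subgroup G} (hM : (S : Subgroup G) ≤ M)
    (h : NO3b.EZero.NotFF (zl (S : Subgroup G) M)) : ¬ FFMod (S : Subgroup G) M := by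
  rintro ⟨A, hA, hoff⟩
  have h1 := h A (S.isPGroup'.to_le hA) ((hA.trans hM).trans (le_normalizer_zl _ _)) hoff.sq hoff.comm hoff.ne
  exact absurd (FFThm.relIndex_le_iff.1 hoff.le) (not_le.2 h1)

end no3L

/-- THEOREM VF in the form of helper863's THEOREM NF. -/
theorem VF.of_notFF
    (h : ∀ (G : Type u) [Group G] [Finite G], Ctx G → ∀ (S : Sylow 2 G), Full (S : Subgroup G) →
      DataZ (S : Subgroup G) → NO3b.EZero.NotFF (zl (S : Subgroup G) (Star.YS (S : Subgroup G)))) : VF.{u} :=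
  fun G _ _ hG S hF D => not_ffMod (S_le_MZ hG hF) (h G hG S hF D)

/-- **not (A)** from the common socket. -/
theorem caseB_of {K : Cls.{u}} (h : NotFFG K) (vf : VF.{u}) (low : LOW K) : Main.CaseB K := by
  intro G _ _ hG hcl S hF D hA
  by_cases hlow : zl (S : Subgroup G) (MZ (S : Subgroup G)) ≤ o2 (CZ (S : Subgroup G))
  · exact h G hcl S _ (HypG.of_data hG hF D.toData hlow (vf G hG S hF D))
  · exact low G hG hcl S hF D hA hlow

/-- **R** from the common socket. -/
theorem r_of {K : Cls.{u}} (h : NotFFG K) (r : RG K) : Main.R K := by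
  intro G _ _ hG hcl S hF D P hP hz
  by_cases hlow : zl (S : Subgroup G) (MZ (S : Subgroup G)) ≤ o2 (CZ (S : Subgroup G))
  · by_cases hff : FFMod (S : Subgroup G) (MZ (S : Subgroup G))
    · exact r G hG hcl S hF D (Or.inl hff) P hP hz
    · exact h G hcl S _ (HypG.of_data hG hF D hlow hff)
  · exact r G hG hcl S hF D (Or.inr hlow) P hP hz

end Cfsg.Agent.Omega.NOThreeL.Merge

end

section


/-!
# NO-3L (K5) (helper111, #14328): `S`-invariant four-groups on `z` are lines

`S : Sylow 2 G`, `Ω₁(Z(S)) = ⟨z⟩`, `E` a four-group normalised by `S` which contains `z` and a second conjugate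
`e ≠ z` of `z`.

* `zc_inf`: `Ω₁(Z(C_S(e))) = E`;
* `exists_swap`: `N_G(E)` contains `t` with `e ^ t = e`, `z ^ t = z e`;
* `conj_all`: `N_G(E)` is transitive on the involutions of `E`;
* `exists_par`: `E = V_P` for some `P ∈ P*(S)`, `P ≤ N_G(E)`.
-/

set_option autoImplicit false

namespace Cfsg.Agent.Omega.NOThreeL.FourLine

open Subgroup Cfsg Cfsg.Agent.ZN Cfsg.Agent.Omega.MinPar
open Cfsg.Agent.MinSimple.VModule (mem_zc zc_le zc_sq zc_comm le_centralizer_zc zc_le_zl zl_le
  le_normalizer_zl normalizer_le_normalizer_zc)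

universe u

variable {G : Type u} [Group G]

/-- The hypotheses of (K5). -/
structure Four (S : Sylow 2 G) (z e : G) (E : Subgroup G) : Prop where
  zc_eq : zc (S : Subgroup G) = zpowers z
  z_ne : z ≠ 1
  sq : ∀ x ∈ E, x * x = 1
  card : Nat.card E = 4
  zE : z ∈ E
  eE : e ∈ E
  ne : e ≠ z
  conj : ∃ g : G, g * z * g⁻¹ = e
  norm : (S : Subgroup G) ≤ normalizer (E : Set G)

theorem mem_zpowers_iff {z x : G} (hz : z * z = 1) : x ∈ zpowers z ↔ x = 1 ∨ x = z := by
  constructor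
  · rintro ⟨k, rfl⟩
    rcases Int.even_or_odd k with ⟨m, hm⟩ | ⟨m, hm⟩
    · left
      change z ^ k = 1
      rw [hm, zpow_add, ← mul_zpow' hz]
    · right
      change z ^ k = z
      rw [hm, zpow_add, zpow_one, two_mul, zpow_add, ← mul_zpow' hz, one_mul]
  · rintro (rfl | rfl)
    · exact one_mem _
    · exact mem_zpowers _
where
  mul_zpow' {z : G} (hz : z * z = 1) {m : ℤ} : (1 : G) = z ^ m * z ^ m := by
    rw [← zpow_add, ← two_mul, zpow_mul, zpow_two, hz, one_zpow]

namespace Four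

variable {S : Sylow 2 G} {z e : G} {E : Subgroup G}

theorem zz (h : Four S z e E) : z * z = 1 := h.sq z h.zE

theorem ee (h : Four S z e E) : e * e = 1 := h.sq e h.eE

theorem e_ne (h : Four S z e E) : e ≠ 1 := by
  obtain ⟨g, hg⟩ := h.conj
  rintro rfl
  apply h.z_ne
  have : z = g⁻¹ * 1 * g := by rw [← hg]; group
  rw [this]; group

theorem comm (h : Four S z e E) {x y : G} (hx : x ∈ E) (hy : y ∈ E) : x * y = y * x := by
  have h5 : (x * y)⁻¹ = x * y := inv_eq_of_mul_eq_one_left (h.sq _ (mul_mem hx hy))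
  rw [mul_inv_rev, inv_eq_of_mul_eq_one_left (h.sq x hx), inv_eq_of_mul_eq_one_left (h.sq y hy)] at h5
  exact h5.symm

theorem ze_ne (h : Four S z e E) : z * e ≠ 1 := fun h1 => h.ne (by
  have : e = z⁻¹ := eq_inv_of_mul_eq_one_right h1
  rw [this, inv_eq_of_mul_eq_one_left h.zz])

theorem mem_cases [Finite G] (h : Four S z e E) {x : G} (hx : x ∈ E) :
    x = 1 ∨ x = z ∨ x = e ∨ x = z * e := by
  have h1 : ({1, z, e, z * e} : Set G) ⊆ (E : Set G) := by
    rintro y (rfl | rfl | rfl | rfl)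
    · exact one_mem _
    · exact h.zE
    · exact h.eE
    · exact mul_mem h.zE h.eE
  have n1 : e ≠ z * e := fun h2 => h.z_ne (by simpa using h2.symm)
  have n2 : z ≠ z * e := fun h2 => h.e_ne (by simpa using h2.symm)
  have n3 : z ∉ ({e, z * e} : Set G) := by
    rintro (h2 | h2)
    · exact h.ne h2.symm
    · exact n2 h2
  have n4 : (1 : G) ∉ ({z, e, z * e} : Set G) := by
    rintro (h2 | h2 | h2)
    · exact h.z_ne h2.symm
    · exact h.e_ne h2.symm
    · exact h.ze_ne h2.symm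
  have h2 : ({1, z, e, z * e} : Set G).ncard = 4 := by
    rw [Set.ncard_insert_of_notMem n4 (Set.toFinite _), Set.ncard_insert_of_notMem n3 (Set.toFinite _),
      Set.ncard_pair n1]
  have h3 : ({1, z, e, z * e} : Set G) = (E : Set G) := by
    refine Set.eq_of_subset_of_ncard_le h1 ?_ (Set.toFinite _)
    rw [h2, ← Nat.card_coe_set_eq]
    exact h.card.le
  have h4 : x ∈ ({1, z, e, z * e} : Set G) := by rw [h3]; exact hx
  simpa using h4

theorem isPGroup (h : Four S z e E) : IsPGroup 2 E := by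
  intro x
  refine ⟨1, ?_⟩
  ext
  simp only [pow_one, Subgroup.coe_pow, OneMemClass.coe_one]
  rw [pow_two]
  exact h.sq x x.2

theorem E_le (h : Four S z e E) : E ≤ (S : Subgroup G) := le_of_le_normalizer S h.isPGroup h.norm

theorem sz (h : Four S z e E) {s : G} (hs : s ∈ (S : Subgroup G)) : s * z = z * s := by
  have h1 : z ∈ zc (S : Subgroup G) := by rw [h.zc_eq]; exact mem_zpowers z
  have h2 := le_centralizer_zc (S : Subgroup G) hs
  exact (mem_centralizer_iff.mp h2 z h1).symm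

theorem mem_zcS (h : Four S z e E) {x : G} : x ∈ zc (S : Subgroup G) ↔ x = 1 ∨ x = z := by
  rw [h.zc_eq, mem_zpowers_iff h.zz]

theorem exists_move (h : Four S z e E) : ∃ s ∈ (S : Subgroup G), s * e ≠ e * s := by
  by_contra hcon
  push Not at hcon
  have h1 : e ∈ zc (S : Subgroup G) := by
    rw [mem_zc]
    refine ⟨h.E_le h.eE, ?_, by rw [pow_two, h.ee]⟩
    intro y hy
    exact hcon y hy
  rcases h.mem_zcS.mp h1 with h2 | h2
  · exact h.e_ne h2
  · exact h.ne h2

/-- `C_S(e)` -/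
def S0 (S : Sylow 2 G) (e : G) : Subgroup G := (S : Subgroup G) ⊓ centralizer ({e} : Set G)

theorem mem_S0 {x : G} : x ∈ S0 S e ↔ x ∈ (S : Subgroup G) ∧ x * e = e * x := by
  rw [S0, Subgroup.mem_inf, mem_centralizer_singleton_iff]

theorem S0_comm (h : Four S z e E) [Finite G] {s x : G} (hs : s ∈ S0 S e) (hx : x ∈ E) : s * x = x * s := by
  have hs' := mem_S0.mp hs
  have h1 := h.sz hs'.1
  rcases h.mem_cases hx with rfl | rfl | rfl | rfl
  · simp
  · exact h1
  · exact hs'.2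
  · rw [← mul_assoc, h1, mul_assoc, hs'.2, mul_assoc]

/-- an element of `S` moving `e` maps it to `z e` -/
theorem conj_e (h : Four S z e E) [Finite G] {s : G} (hs : s ∈ (S : Subgroup G)) (hse : s * e ≠ e * s) :
    s * e * s⁻¹ = z * e := by
  have h1 : s * e * s⁻¹ ∈ E := (mem_normalizer_iff.mp (h.norm hs) e).mp h.eE
  rcases h.mem_cases h1 with h2 | h2 | h2 | h2
  · exfalso; exact h.e_ne (by have := conj_eq_one_iff.mp h2; exact this)
  · exfalso
    apply h.ne
    have h3 : e = s⁻¹ * z * s := by rw [← h2]; group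
    rw [h3, mul_assoc, ← h.sz hs, ← mul_assoc, inv_mul_cancel, one_mul]
  · exfalso
    apply hse
    calc s * e = (s * e * s⁻¹) * s := by group
      _ = e * s := by rw [h2]
  · exact h2

theorem mul_mem_S0 (h : Four S z e E) [Finite G] {s t : G} (hs : s ∈ (S : Subgroup G)) (hse : s * e ≠ e * s)
    (ht : t ∈ (S : Subgroup G)) (hte : t * e ≠ e * t) : s * t ∈ S0 S e := by
  refine mem_S0.mpr ⟨mul_mem hs ht, ?_⟩
  have h1 := h.conj_e hs hse
  have h2 := h.conj_e ht hte
  have h3 : s * t * e * (s * t)⁻¹ = e := by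
    calc s * t * e * (s * t)⁻¹ = s * (t * e * t⁻¹) * s⁻¹ := by group
      _ = (s * z * s⁻¹) * (s * e * s⁻¹) := by rw [h2]; group
      _ = z * (z * e) := by rw [h1, h.sz hs, mul_inv_cancel_right]
      _ = e := by rw [← mul_assoc, h.zz, one_mul]
  calc s * t * e = (s * t * e * (s * t)⁻¹) * (s * t) := by group
    _ = e * (s * t) := by rw [h3]

variable [Finite G]

theorem relIndex_S0 (h : Four S z e E) : (S0 S e).relIndex (S : Subgroup G) = 2 := by
  obtain ⟨s, hs, hse⟩ := h.exists_move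
  rw [relIndex_eq_two_iff]
  refine ⟨s, hs, fun b hb => ?_⟩
  by_cases h1 : b ∈ S0 S e
  · right
    refine ⟨h1, fun h2 => hse ?_⟩
    have h3 : s ∈ S0 S e := by
      have := mul_mem (inv_mem h1) h2
      rwa [inv_mul_cancel_left] at this
    exact (mem_S0.mp h3).2
  · left
    refine ⟨h.mul_mem_S0 hb (fun h2 => h1 (mem_S0.mpr ⟨hb, h2⟩)) hs hse, h1⟩

omit [Finite G] in
theorem E_le_S0 (h : Four S z e E) : E ≤ S0 S e := fun _ hx => mem_S0.mpr ⟨h.E_le hx, h.comm hx h.eE⟩

theorem conj_mem_S0 (h : Four S z e E) {s x : G} (hs : s ∈ (S : Subgroup G)) (hx : x ∈ S0 S e) :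
    s * x * s⁻¹ ∈ S0 S e := by
  by_cases h1 : s * e = e * s
  · exact mul_mem (mul_mem (mem_S0.mpr ⟨hs, h1⟩) hx) (inv_mem (mem_S0.mpr ⟨hs, h1⟩))
  · have h2 : s * e * s⁻¹ = z * e := h.conj_e hs h1
    have hx' := mem_S0.mp hx
    refine mem_S0.mpr ⟨mul_mem (mul_mem hs hx'.1) (inv_mem hs), ?_⟩
    have h3 : s⁻¹ * e * s = z * e := by
      have h4 : s⁻¹ * e ≠ e * s⁻¹ := fun h5 => h1 (by
        calc s * e = s * (e * s⁻¹) * s := by group
          _ = s * (s⁻¹ * e) * s := by rw [h5]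
          _ = e * s := by group)
      have := h.conj_e (inv_mem hs) h4
      rwa [inv_inv] at this
    have h4 := h.S0_comm hx (mul_mem h.zE h.eE)
    calc s * x * s⁻¹ * e = s * (x * (s⁻¹ * e * s)) * s⁻¹ := by group
      _ = s * (z * e * x) * s⁻¹ := by rw [h3, h4]
      _ = s * (s⁻¹ * e * s * x) * s⁻¹ := by rw [h3]
      _ = e * (s * x * s⁻¹) := by group

/-- `Ω₁(Z(C_S(e))) = E` -/
theorem zc_inf (h : Four S z e E) : zc (S0 S e) = E := by
  apply le_antisymm
  · intro x hx
    rw [mem_zc] at hx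
    obtain ⟨hx0, hxc, hx2⟩ := hx
    obtain ⟨s, hs, hse⟩ := h.exists_move
    have hs2 : s * s ∈ S0 S e := h.mul_mem_S0 hs hse hs hse
    -- a description of the elements of `S` outside `S0`
    have hS : ∀ t ∈ (S : Subgroup G), t ∉ S0 S e → ∃ r ∈ S0 S e, t = s⁻¹ * r := fun t ht hn =>
      ⟨s * t, h.mul_mem_S0 hs hse ht (fun h2 => hn (mem_S0.mpr ⟨ht, h2⟩)), by group⟩
    have hxs : ∀ r ∈ S0 S e, r * x = x * r := fun r hr => hxc r hr
    set y := s * x * s⁻¹ with hy
    have hy0 : y ∈ S0 S e := h.conj_mem_S0 hs hx0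
    have hyc : ∀ r ∈ S0 S e, r * y = y * r := by
      intro r hr
      have h1 : s⁻¹ * r * s ∈ S0 S e := by
        have := h.conj_mem_S0 (inv_mem hs) hr
        rwa [inv_inv] at this
      calc r * y = s * (s⁻¹ * r * s * x) * s⁻¹ := by rw [hy]; group
        _ = s * (x * (s⁻¹ * r * s)) * s⁻¹ := by rw [hxs _ h1]
        _ = y * r := by rw [hy]; group
    have hsy : s * y * s⁻¹ = x := by
      calc s * y * s⁻¹ = (s * s) * x * (s * s)⁻¹ := by rw [hy]; group
        _ = x := by rw [hxs _ hs2, mul_inv_cancel_right]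
    have hy2 : y * y = 1 := by
      rw [pow_two] at hx2
      calc y * y = s * (x * x) * s⁻¹ := by rw [hy]; group
        _ = 1 := by rw [hx2]; group
    rw [pow_two] at hx2
    -- `w` in `zc S0` with `s w s⁻¹ = w` is in `zc S`
    have key : ∀ w ∈ S0 S e, (∀ r ∈ S0 S e, r * w = w * r) → w * w = 1 → s * w * s⁻¹ = w →
        w = 1 ∨ w = z := by
      intro w hw0 hwc hw2 hsw
      rw [← h.mem_zcS, mem_zc]
      refine ⟨(mem_S0.mp hw0).1, fun t ht => ?_, by rw [pow_two, hw2]⟩
      by_cases h1 : t ∈ S0 S e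
      · exact hwc t h1
      · obtain ⟨r, hr, rfl⟩ := hS t ht h1
        have h2 : s⁻¹ * w = w * s⁻¹ := by
          calc s⁻¹ * w = s⁻¹ * (s * w * s⁻¹) := by rw [hsw]
            _ = w * s⁻¹ := by group
        rw [mul_assoc, hwc r hr, ← mul_assoc, h2, mul_assoc]
    have hxy : x * y = y * x := (hyc x hx0)
    have h1 : x * y = 1 ∨ x * y = z := by
      refine key _ (mul_mem hx0 hy0) (fun r hr => ?_) ?_ ?_
      · calc r * (x * y) = (r * x) * y := by group
          _ = x * (r * y) := by rw [hxs r hr]; group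
          _ = x * y * r := by rw [hyc r hr]; group
      · calc x * y * (x * y) = x * (y * x) * y := by group
          _ = (x * x) * (y * y) := by rw [← hxy]; group
          _ = 1 := by rw [hx2, hy2, one_mul]
      · calc s * (x * y) * s⁻¹ = (s * x * s⁻¹) * (s * y * s⁻¹) := by group
          _ = y * x := by rw [hsy]
          _ = x * y := hxy.symm
    rcases h1 with h1 | h1
    · -- `y = x`
      have h2 : y = x := by
        have : x * (x * y) = x * 1 := by rw [h1]
        rw [← mul_assoc, hx2, one_mul, mul_one] at this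
        exact this
      rcases key x hx0 hxs hx2 h2 with h3 | h3
      · rw [h3]; exact one_mem _
      · rw [h3]; exact h.zE
    · -- `y = x z`
      have h2 : y = x * z := by
        have : x * (x * y) = x * z := by rw [h1]
        rw [← mul_assoc, hx2, one_mul] at this
        exact this
      have hex : e * x = x * e := (mem_S0.mp hx0).2.symm
      have h3 : x * e = 1 ∨ x * e = z := by
        refine key _ (mul_mem hx0 (h.E_le_S0 h.eE)) (fun r hr => ?_) ?_ ?_
        · rw [← mul_assoc, hxs r hr, mul_assoc, (mem_S0.mp hr).2, mul_assoc]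
        · calc x * e * (x * e) = x * (e * x) * e := by group
            _ = (x * x) * (e * e) := by rw [hex]; group
            _ = 1 := by rw [hx2, h.ee, one_mul]
        · calc s * (x * e) * s⁻¹ = (s * x * s⁻¹) * (s * e * s⁻¹) := by group
            _ = x * z * (z * e) := by rw [← hy, h2, h.conj_e hs hse]
            _ = x * ((z * z) * e) := by group
            _ = x * e := by rw [h.zz, one_mul]
      rcases h3 with h3 | h3
      · have : x = e⁻¹ := eq_inv_of_mul_eq_one_left h3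
        rw [this]; exact inv_mem h.eE
      · have : x = z * e := by
          calc x = x * e * e := by rw [mul_assoc, h.ee, mul_one]
            _ = z * e := by rw [h3]
        rw [this]; exact mul_mem h.zE h.eE
  · intro x hx
    rw [mem_zc]
    exact ⟨h.E_le_S0 hx, fun r hr => h.S0_comm hr hx, by rw [pow_two, h.sq x hx]⟩

/-- a conjugate `h • S` containing `C_S(e)`, with `z ^ h = e` -/
theorem exists_conj_syl (h : Four S z e E) : ∃ g : G, g * z * g⁻¹ = e ∧
    ∀ x ∈ S0 S e, g⁻¹ * x * g ∈ (S : Subgroup G) := by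
  obtain ⟨g, hg⟩ := h.conj
  set C : Subgroup G := centralizer ({e} : Set G) with hC
  have h1 : ((g • S : Sylow 2 G) : Subgroup G) ≤ C := by
    intro x hx
    rw [Sylow.coe_subgroup_smul, Subgroup.mem_pointwise_smul_iff_inv_smul_mem] at hx
    have h2 : g⁻¹ * x * g ∈ (S : Subgroup G) := by
      simpa [MulAut.smul_def, ← map_inv] using hx
    have h3 := h.sz h2
    rw [hC, mem_centralizer_singleton_iff, ← hg]
    calc x * (g * z * g⁻¹) = g * ((g⁻¹ * x * g) * z) * g⁻¹ := by group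
      _ = g * z * g⁻¹ * x := by rw [h3]; group
  have h2 : IsPGroup 2 ((S0 S e).subgroupOf C) :=
    (S.isPGroup'.to_le (inf_le_left : S0 S e ≤ (S : Subgroup G))).comap_of_injective C.subtype
      (Subgroup.subtype_injective C)
  obtain ⟨P, hP⟩ := h2.exists_le_sylow
  have : Fact (Nat.Prime 2) := ⟨Nat.prime_two⟩
  obtain ⟨c, hc⟩ := MulAction.exists_smul_eq C ((g • S : Sylow 2 G).subtype h1) P
  refine ⟨(c : G) * g, ?_, fun x hx => ?_⟩
  · have h3 : (c : G) * e = e * c := mem_centralizer_singleton_iff.mp c.2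
    calc (c : G) * g * z * ((c : G) * g)⁻¹ = (c : G) * (g * z * g⁻¹) * (c : G)⁻¹ := by group
      _ = e := by rw [hg, h3]; group
  · have hxC : x ∈ C := mem_centralizer_singleton_iff.mpr (mem_S0.mp hx).2
    have h3 : (⟨x, hxC⟩ : C) ∈ (P : Subgroup C) := hP (Subgroup.mem_subgroupOf.mpr hx)
    rw [← hc, Sylow.coe_subgroup_smul, Subgroup.mem_pointwise_smul_iff_inv_smul_mem] at h3
    have h4 : (c : G)⁻¹ * x * c ∈ ((g • S : Sylow 2 G) : Subgroup G) := by
      have h5 := h3
      rw [Sylow.coe_subtype, Subgroup.mem_subgroupOf] at h5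
      simpa [MulAut.smul_def, ← map_inv] using h5
    rw [Sylow.coe_subgroup_smul, Subgroup.mem_pointwise_smul_iff_inv_smul_mem] at h4
    have h5 : g⁻¹ * ((c : G)⁻¹ * x * c) * g ∈ (S : Subgroup G) := by
      have h6 : (MulAut.conj g)⁻¹ • ((c : G)⁻¹ * x * c) = g⁻¹ * ((c : G)⁻¹ * x * c) * g := by
        rw [← map_inv, MulAut.smul_def, MulAut.conj_apply, inv_inv]
      rw [h6] at h4
      exact h4
    have h6 : ((c : G) * g)⁻¹ * x * (c * g) = g⁻¹ * ((c : G)⁻¹ * x * c) * g := by group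
    rw [h6]
    exact h5

/-- `N_G(E)` contains `t` with `t e t⁻¹ = e`, `t z t⁻¹ = z e`. -/
theorem exists_swap (h : Four S z e E) :
    ∃ t ∈ normalizer (E : Set G), t * e = e * t ∧ t * z * t⁻¹ = z * e := by
  obtain ⟨g, hg, hS⟩ := h.exists_conj_syl
  let T : Subgroup G := (S : Subgroup G).map (MulAut.conj g).toMonoidHom
  have mT : ∀ x, x ∈ T ↔ g⁻¹ * x * g ∈ (S : Subgroup G) := by
    intro x
    constructor
    · rintro ⟨y, hy, rfl⟩
      simp only [MulEquiv.coe_toMonoidHom, MulAut.conj_apply]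
      have : g⁻¹ * (g * y * g⁻¹) * g = y := by group
      rw [this]; exact hy
    · intro hx
      exact ⟨_, hx, by simp only [MulEquiv.coe_toMonoidHom, MulAut.conj_apply]; group⟩
  have h1 : S0 S e ≤ T := fun x hx => (mT x).mpr (hS x hx)
  have h2 : Nat.card T = Nat.card (S : Subgroup G) :=
    Nat.card_congr ((S : Subgroup G).equivMapOfInjective _ (MulAut.conj g).injective).symm.toEquiv
  have h3 : (S0 S e).relIndex T = 2 := by
    have h4 := h.relIndex_S0
    have h5 : Nat.card (S0 S e) * (S0 S e).relIndex (S : Subgroup G) = Nat.card (S : Subgroup G) := by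
      rw [Subgroup.relIndex, ← Nat.card_congr (Subgroup.subgroupOfEquivOfLe
        (show S0 S e ≤ (S : Subgroup G) from inf_le_left)).toEquiv]
      exact Subgroup.card_mul_index _
    have h6 : Nat.card (S0 S e) * (S0 S e).relIndex T = Nat.card T := by
      rw [Subgroup.relIndex, ← Nat.card_congr (Subgroup.subgroupOfEquivOfLe h1).toEquiv]
      exact Subgroup.card_mul_index _
    rw [h2, ← h5, h4] at h6
    exact Nat.eq_of_mul_eq_mul_left Nat.card_pos h6
  have hn : T ≤ normalizer (S0 S e : Set G) := by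
    have h4 : ((S0 S e).subgroupOf T).Normal := Subgroup.normal_of_index_eq_two h3
    exact (Subgroup.normal_subgroupOf_iff_le_normalizer h1).mp h4
  have hnE : T ≤ normalizer (E : Set G) := by
    rw [← h.zc_inf]
    exact hn.trans (normalizer_le_normalizer_zc _)
  have hTe : ∀ t ∈ T, t * e = e * t := by
    intro t ht
    have h4 := h.sz ((mT t).mp ht)
    rw [← hg]
    calc t * (g * z * g⁻¹) = g * ((g⁻¹ * t * g) * z) * g⁻¹ := by group
      _ = g * z * g⁻¹ * t := by rw [h4]; group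
  have hex : ∃ t ∈ T, t * z ≠ z * t := by
    by_contra hcon
    push Not at hcon
    have h4 : g⁻¹ * z * g ∈ zc (S : Subgroup G) := by
      rw [mem_zc]
      refine ⟨(mT z).mp (h1 (h.E_le_S0 h.zE)), fun y hy => ?_, ?_⟩
      · have h5 := hcon (g * y * g⁻¹) ((mT _).mpr (by
          have : g⁻¹ * (g * y * g⁻¹) * g = y := by group
          rw [this]; exact hy))
        calc y * (g⁻¹ * z * g) = g⁻¹ * ((g * y * g⁻¹) * z) * g := by group
          _ = g⁻¹ * z * g * y := by rw [h5]; group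
      · rw [pow_two]
        calc g⁻¹ * z * g * (g⁻¹ * z * g) = g⁻¹ * (z * z) * g := by group
          _ = 1 := by rw [h.zz]; group
    rcases h.mem_zcS.mp h4 with h5 | h5
    · apply h.z_ne
      have : z = g * (g⁻¹ * z * g) * g⁻¹ := by group
      rw [this, h5]; group
    · apply h.ne
      have : z = g * (g⁻¹ * z * g) * g⁻¹ := by group
      rw [this, h5, hg]
  obtain ⟨t, ht, htz⟩ := hex
  refine ⟨t, hnE ht, hTe t ht, ?_⟩
  have h4 : t * z * t⁻¹ ∈ E := (mem_normalizer_iff.mp (hnE ht) z).mp h.zE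
  rcases h.mem_cases h4 with h5 | h5 | h5 | h5
  · exact absurd (conj_eq_one_iff.mp h5) h.z_ne
  · exfalso
    apply htz
    calc t * z = (t * z * t⁻¹) * t := by group
      _ = z * t := by rw [h5]
  · exfalso
    apply h.ne
    have h6 := hTe t ht
    calc e = t⁻¹ * (t * e) := by group
      _ = t⁻¹ * (e * t) := by rw [h6]
      _ = t⁻¹ * (t * z * t⁻¹) * t := by rw [h5]; group
      _ = z := by group
  · exact h5

/-- `N_G(E)` is transitive on the involutions of `E`. -/
theorem conj_all (h : Four S z e E) {x : G} (hx : x ∈ E) (h1 : x ≠ 1) :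
    ∃ n ∈ normalizer (E : Set G), n * z * n⁻¹ = x := by
  obtain ⟨t, ht, hte, htz⟩ := h.exists_swap
  obtain ⟨s, hs, hse⟩ := h.exists_move
  rcases h.mem_cases hx with rfl | rfl | rfl | rfl
  · exact absurd rfl h1
  · exact ⟨1, one_mem _, by group⟩
  · refine ⟨s⁻¹ * t, mul_mem (inv_mem (h.norm hs)) ht, ?_⟩
    calc s⁻¹ * t * z * (s⁻¹ * t)⁻¹ = s⁻¹ * (t * z * t⁻¹) * s := by group
      _ = s⁻¹ * (s * x * s⁻¹) * s := by rw [htz, h.conj_e hs hse]
      _ = x := by group
  · exact ⟨t, ht, htz⟩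

/-- **(K5)** `E = V_P` for a `P ∈ P*(S)` in `N_G(E)`. -/
theorem exists_par (h : Four S z e E) : ∃ P : Subgroup G, IsParS (S : Subgroup G) P ∧
    P ≤ normalizer (E : Set G) ∧ zl (S : Subgroup G) P = E := by
  have hE1 : E ≠ ⊥ := by
    rintro rfl
    exact h.z_ne (mem_bot.mp h.zE)
  have hL := isLoc_normalizer S h.isPGroup hE1 h.norm
  have hnot : ¬ normalizer (E : Set G) ≤ normalizer (zc (S : Subgroup G) : Set G) := by
    intro hle
    obtain ⟨t, ht, -, htz⟩ := h.exists_swap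
    have h1 : t * z * t⁻¹ ∈ zc (S : Subgroup G) :=
      (mem_normalizer_iff.mp (hle ht) z).mp (by rw [h.zc_eq]; exact mem_zpowers z)
    rw [htz] at h1
    rcases h.mem_zcS.mp h1 with h2 | h2
    · exact h.ze_ne h2
    · exact h.e_ne (by simpa using h2)
  obtain ⟨P, hP, hPE, hPn⟩ := hL.exists_not_le S (M := normalizer (zc (S : Subgroup G) : Set G))
    (inf_le_right.trans (normalizer_le_normalizer_zc _)) hnot
  refine ⟨P, ⟨hP, hPn⟩, hPE, ?_⟩
  have hzE : zc (S : Subgroup G) ≤ E := by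
    rw [h.zc_eq, zpowers_le]; exact h.zE
  have h1 : zl (S : Subgroup G) P ≤ E := zl_le hzE hPE
  refine le_antisymm h1 ?_
  -- a second element
  have h2 : ∃ x ∈ zl (S : Subgroup G) P, x ≠ 1 ∧ x ≠ z := by
    by_contra hcon
    push Not at hcon
    apply hPn
    have h3 : zl (S : Subgroup G) P = zc (S : Subgroup G) := by
      refine le_antisymm (fun x hx => h.mem_zcS.mpr ?_) (zc_le_zl _ _)
      by_cases hx1 : x = 1
      · exact Or.inl hx1
      · exact Or.inr (hcon x hx hx1)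
    rw [← h3]
    exact le_normalizer_zl _ _
  obtain ⟨x, hx, hx1, hxz⟩ := h2
  have hzz : z ∈ zl (S : Subgroup G) P := zc_le_zl _ _ (by rw [h.zc_eq]; exact mem_zpowers z)
  have hxE := h1 hx
  intro y hy
  have hcases : e ∈ zl (S : Subgroup G) P := by
    rcases h.mem_cases hxE with h3 | h3 | h3 | h3
    · exact absurd h3 hx1
    · exact absurd h3 hxz
    · rw [← h3]; exact hx
    · have h4 := mul_mem hzz hx
      rw [h3, ← mul_assoc, h.zz, one_mul] at h4
      exact h4
  rcases h.mem_cases hy with rfl | rfl | rfl | rfl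
  · exact one_mem _
  · exact hzz
  · exact hcases
  · exact mul_mem hzz hcases

end Four

end Cfsg.Agent.Omega.NOThreeL.FourLine

end

section


/-!
# NO-3L: minimal pairs over the point stabiliser (text `bb OMEGA` #14891 (M), (L), helper750; typed by helper737)

`S` a Sylow 2-subgroup, `Z = Ω₁(Z(S))`, `C = C_G(Z) = CZ S`, `Q = O₂(C)`, long groups `H`, `U_H = zl S H`.

* `Star S H K x` : `(U_K)^x ≤ Q`, `U_H ≤ Q^x`, `[U_H, (U_K)^x] ≠ 1` (LEMMA P: exists, `exists_star`); `Star.symm`;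
* `MinStar S H K x` : moreover `|H| + |K|` is minimal (`exists_minStar`);
* (M) `MinStar.sup_lt` : a join of two proper subgroups of `H` over `C` is proper; `MinStar.exists_max` : `C` is in a
  unique maximal subgroup `M` of `H`; `MinStar.eq_sup` : `H = ⟨P, C⟩` for every `P ≤ H`, `P ≰ M`;
* `MinStar.le_o2` : `C ≤ L < H`, `h ∈ H`, `(U_K)^(h x) ≤ Q` imply `(U_K)^(h x) ≤ O₂(L)` and `[U_L, (U_K)^(h x)] = 1`;
* `JJ` : the group generated by all `(U_K)^(h x) ≤ Q`, `h ∈ H`; `MinStar.JJ_le_o2`, `MinStar.JJ_comm`,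
  `MinStar.normalizer_JJ` : `J ≤ O₂(M)`, `[J, U_M] = 1`, `N_H(J) = M`; `MinStar.sup_eq` : `H = ⟨(U_K)^(h x)⟩ C`;
* (L) `Star.lines_comm` : NOFF, the lines of `H` on `Z` and the lines of `K^x` on `Z^x` commute;
  `Star.transv` : `|V| = 4`, `V` a line on `Z`, `[V, (U_K)^x] ≠ 1`: `Z ≤ (U_K)^x`, `V` acts as a transvection with
  centre `Z`.
-/

set_option autoImplicit false

namespace Cfsg.Agent.Omega.NOThreeL.MinOver

open Subgroup Cfsg Cfsg.Agent.ZN Cfsg.Agent.Omega.MinPar Cfsg.Agent.Omega.Frame Cfsg.Agent.Omega.FrameNOFF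
open Cfsg.Agent.Omega.Node.NO3L Cfsg.Agent.Omega.NOThreeL.Basic
open Cfsg.Agent.Omega.NoFF.Basic (V conj_conj mem_conj conj_le_iff conj_le_centralizer comm_symm comm_mono
  Z_le_V V_le conj_V_mul)
open Cfsg.Agent.Omega.NOThreeL.Pair (conj_eq_of_mem conj_le_normalizer zl_abel)
open Cfsg.Agent.MinSimple.VModule (zl_le le_normalizer_zl zc_le_zl zc_le zl_le_zc o2_isPGroup le_normalizer_o2
  mem_zc le_o2)
open scoped Pointwise

universe u

variable {G : Type u} [Group G]

/-! ### Definitions -/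

/-- `(U_K)^x ≤ Q`, `U_H ≤ Q^x` and `[U_H, (U_K)^x] ≠ 1`. -/
structure Star (S H K : Subgroup G) (x : G) : Prop where
  long₁ : IsLong S H
  long₂ : IsLong S K
  le₂ : MulAut.conj x • zl S K ≤ o2 (CZ S)
  le₁ : zl S H ≤ MulAut.conj x • o2 (CZ S)
  ne : ¬ zl S H ≤ centralizer ((MulAut.conj x • zl S K : Subgroup G) : Set G)

/-- `Star` with `|H| + |K|` minimal. -/
structure MinStar (S H K : Subgroup G) (x : G) : Prop extends Star S H K x where
  min : ∀ (H' K' : Subgroup G) (y : G), Star S H' K' y → Nat.card H + Nat.card K ≤ Nat.card H' + Nat.card K'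

theorem conj_inv_conj (g : G) (A : Subgroup G) : MulAut.conj g⁻¹ • MulAut.conj g • A = A := by
  rw [conj_conj, inv_mul_cancel, map_one, one_smul]

theorem conj_conj_inv (g : G) (A : Subgroup G) : MulAut.conj g • MulAut.conj g⁻¹ • A = A := by
  rw [conj_conj, mul_inv_cancel, map_one, one_smul]

theorem Star.symm {S H K : Subgroup G} {x : G} (h : Star S H K x) : Star S K H x⁻¹ where
  long₁ := h.long₂
  long₂ := h.long₁
  le₂ := by
    have h1 := (conj_le_iff (g := x⁻¹)).2 h.le₁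
    rwa [conj_inv_conj] at h1
  le₁ := by
    have h1 := (conj_le_iff (g := x⁻¹)).2 h.le₂
    rwa [conj_inv_conj] at h1
  ne := fun h1 => h.ne (comm_symm (by
    have h2 := conj_le_centralizer (g := x) h1
    rwa [conj_conj_inv] at h2))

theorem MinStar.symm {S H K : Subgroup G} {x : G} (h : MinStar S H K x) : MinStar S K H x⁻¹ :=
  ⟨h.toStar.symm, fun H' K' y h' => by
    have := h.min K' H' y⁻¹ h'.symm
    omega⟩

section fin

variable [Finite G]

/-- **LEMMA P** gives a pair `Star`. -/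
theorem exists_star (h : Ctx G) (S : Sylow 2 G) (hF : Full (S : Subgroup G)) (D : Data (S : Subgroup G)) :
    ∃ (H K : Subgroup G) (x : G), Star (S : Subgroup G) H K x := by
  obtain ⟨H, K, x, h1, h2, h3, h4, h5⟩ := exists_crit h S hF D
  exact ⟨H, K, x, h1, h2, h3, h4, fun h6 => h5 (commutator_eq_bot_iff_le_centralizer.2 h6)⟩

theorem Star.exists_minStar {S H K : Subgroup G} {x : G} (h : Star S H K x) :
    ∃ (H' K' : Subgroup G) (y : G), MinStar S H' K' y := by
  let s : Set (Subgroup G × Subgroup G × G) := {q | Star S q.1 q.2.1 q.2.2}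
  obtain ⟨⟨H', K', y⟩, hm, hmin⟩ := Set.exists_min_image s
    (fun q => Nat.card q.1 + Nat.card q.2.1) (Set.toFinite s) ⟨(H, K, x), h⟩
  exact ⟨H', K', y, hm, fun H'' K'' y' h' => hmin (H'', K'', y') h'⟩

/-- A minimal pair exists. -/
theorem exists_minStar (h : Ctx G) (S : Sylow 2 G) (hF : Full (S : Subgroup G)) (D : Data (S : Subgroup G)) :
    ∃ (H K : Subgroup G) (x : G), MinStar (S : Subgroup G) H K x := by
  obtain ⟨H, K, x, h1⟩ := exists_star h S hF D
  exact h1.exists_minStar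

end fin

/-! ### Facts on `Star` -/

section star

variable {S H K : Subgroup G} {x : G}

/-- `U_H` is not centralised by `(U_K)^x`. -/
theorem Star.ne' (h : Star S H K x) : ¬ MulAut.conj x • zl S K ≤ centralizer (zl S H : Set G) :=
  fun h1 => h.ne (comm_symm h1)

/-- A subgroup `L` with `C ≤ L ≤ H` is long. -/
theorem IsLong.of_le (T : Sylow 2 G) {H L : Subgroup G} (h : IsLong (T : Subgroup G) H)
    (h1 : CZ (T : Subgroup G) ≤ L) (h2 : L ≤ H) : IsLong (T : Subgroup G) L :=
  ⟨h.loc.of_le T ((le_CZ T).trans h1) h2, h1⟩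

theorem zl_mono {S L H : Subgroup G} (h : L ≤ H) : zl S L ≤ zl S H := by
  refine zl_le (zc_le_zl _ _) ?_
  exact h.trans (le_normalizer_zl _ _)

end star

section sylow

variable [Finite G] (hc : IsCharacteristicTwoType G) (S : Sylow 2 G) {H K : Subgroup G} {x : G}

/-- `A ≤ Q`, `A` centralises `U_H`: `A ≤ O₂(H)`. -/
theorem Star.not_le_o2 (h : Star (S : Subgroup G) H K x) {g : G} (hg : g ∈ H)
    (h1 : MulAut.conj (g * x) • zl (S : Subgroup G) K ≤ o2 H) (hc : IsCharacteristicTwoType G) : False := by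
  -- `O₂(H)` centralises `U_H`
  have h2 : o2 H ≤ centralizer (zl (S : Subgroup G) H : Set G) := by
    have h3 := h.long₁.loc.zl_le S hc
    intro y hy
    rw [mem_centralizer_iff]
    intro u hu
    exact ((mem_zc.mp (h3 hu)).2.1 y hy).symm
  have h4 := (conj_le_iff (g := g⁻¹)).2 (h1.trans h2)
  rw [conj_conj, inv_mul_cancel_left] at h4
  refine h.ne' (h4.trans ?_)
  intro y hy
  rw [mem_conj, inv_inv] at hy
  rw [mem_centralizer_iff] at hy ⊢
  intro u hu
  have h5 : g * u * g⁻¹ ∈ zl (S : Subgroup G) H :=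
    (mem_normalizer_iff.1 (le_normalizer_zl _ _ hg) u).1 hu
  have h6 := hy _ h5
  have h7 : g * (u * y) * g⁻¹ = g * (y * u) * g⁻¹ := by
    calc g * (u * y) * g⁻¹ = g * u * g⁻¹ * (g * y * g⁻¹) := by group
      _ = g * y * g⁻¹ * (g * u * g⁻¹) := h6
      _ = g * (y * u) * g⁻¹ := by group
  exact mul_left_cancel (mul_right_cancel h7)

/-- `A ≤ C_H(A)`-form: the group generated by the `H`-conjugates. -/
theorem le_normalizer_V (A H : Subgroup G) : H ≤ normalizer (V A H : Set G) := by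
  have key : ∀ h ∈ H, MulAut.conj h • V A H = V A H := fun h hh => by
    have := conj_V_mul (Z := A) (g := 1) hh
    rwa [one_mul, map_one, one_smul] at this
  intro h hh
  rw [mem_normalizer_iff]
  intro y
  constructor
  · intro hy
    rw [← key h hh, mem_conj]
    simpa [mul_assoc] using hy
  · intro hy
    rw [← key h hh, mem_conj] at hy
    simpa [mul_assoc] using hy

/-- `C < H` -/
theorem Star.cz_lt (h : Star (S : Subgroup G) H K x) : CZ (S : Subgroup G) < H := by
  refine lt_of_le_of_ne h.long₁.cz fun he => ?_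
  have h1 : zl (S : Subgroup G) H ≤ zc (S : Subgroup G) := by
    refine zl_le le_rfl ?_
    rw [← he]
    exact centralizer_le_normalizer _
  refine h.ne' ((h.le₂.trans (MinSimple.VModule.o2_le _)).trans ?_)
  exact centralizer_le h1

/-! ### (M) -/

variable {S}

/-- `C ≤ L < H`, `g ∈ H`, `(U_K)^(g x) ≤ Q`: `[U_L, (U_K)^(g x)] = 1`. -/
theorem MinStar.comm (h : MinStar (S : Subgroup G) H K x) {L : Subgroup G} (hCL : CZ (S : Subgroup G) ≤ L)
    (hLH : L < H) {g : G} (hg : g ∈ H) (hA : MulAut.conj (g * x) • zl (S : Subgroup G) K ≤ o2 (CZ (S : Subgroup G))) :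
    MulAut.conj (g * x) • zl (S : Subgroup G) K ≤ centralizer (zl (S : Subgroup G) L : Set G) := by
  by_contra hne
  have hS : Star (S : Subgroup G) L K (g * x) := by
    refine ⟨IsLong.of_le S h.long₁ hCL hLH.le, h.long₂, hA, ?_, fun h1 => hne (comm_symm h1)⟩
    have h1 : zl (S : Subgroup G) L ≤ MulAut.conj g • zl (S : Subgroup G) H := by
      rw [conj_eq_of_mem (le_normalizer_zl _ _ hg)]
      exact zl_mono hLH.le
    refine h1.trans ?_
    rw [← conj_conj]
    exact conj_le_iff.2 h.le₁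
  have h1 := h.min _ _ _ hS
  have h2 : Nat.card L < Nat.card H :=
    lt_of_le_of_ne (Subgroup.card_le_of_le hLH.le) fun he => hLH.ne (Subgroup.eq_of_le_of_card_ge hLH.le he.ge)
  omega

/-- `C ≤ L < H`, `g ∈ H`, `(U_K)^(g x) ≤ Q`: `(U_K)^(g x) ≤ O₂(L)`. -/
theorem MinStar.le_o2 (h : MinStar (S : Subgroup G) H K x) {L : Subgroup G} (hCL : CZ (S : Subgroup G) ≤ L)
    (hLH : L < H) {g : G} (hg : g ∈ H) (hA : MulAut.conj (g * x) • zl (S : Subgroup G) K ≤ o2 (CZ (S : Subgroup G))) :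
    MulAut.conj (g * x) • zl (S : Subgroup G) K ≤ o2 L :=
  le_o2_of_comm hA (IsLong.of_le S h.long₁ hCL hLH.le) (h.comm hCL hLH hg hA)

/-- `L` preserves `{g ∈ H | (U_K)^(g x) ≤ Q}`. -/
theorem MinStar.le_mul (h : MinStar (S : Subgroup G) H K x) {L : Subgroup G} (hCL : CZ (S : Subgroup G) ≤ L)
    (hLH : L < H) {g : G} (hg : g ∈ H) (hA : MulAut.conj (g * x) • zl (S : Subgroup G) K ≤ o2 (CZ (S : Subgroup G)))
    {k : G} (hk : k ∈ L) :
    MulAut.conj (k * g * x) • zl (S : Subgroup G) K ≤ o2 (CZ (S : Subgroup G)) := by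
  have h1 := (conj_le_iff (g := k)).2 (h.le_o2 hCL hLH hg hA)
  rw [conj_conj, ← mul_assoc, conj_eq_of_mem (le_normalizer_o2 _ hk)] at h1
  exact h1.trans ((IsLong.of_le S h.long₁ hCL hLH.le).o2_le S)

/-- Not all `(U_K)^(g x)`, `g ∈ H`, are in `Q`. -/
theorem Star.exists_not_le (h : Star (S : Subgroup G) H K x) (hc : IsCharacteristicTwoType G) :
    ∃ g ∈ H, ¬ MulAut.conj (g * x) • zl (S : Subgroup G) K ≤ o2 (CZ (S : Subgroup G)) := by
  by_contra hcon
  push Not at hcon
  have h1 : V (MulAut.conj x • zl (S : Subgroup G) K) H ≤ o2 (CZ (S : Subgroup G)) :=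
    V_le fun p hp => by rw [conj_conj]; exact hcon p hp
  have h2 : V (MulAut.conj x • zl (S : Subgroup G) K) H ≤ o2 H :=
    le_o2 ((h1.trans (MinSimple.VModule.o2_le _)).trans h.long₁.cz) ((o2_isPGroup _).to_le h1)
      (le_normalizer_V _ _)
  refine h.not_le_o2 S H.one_mem (le_trans ?_ h2) hc
  rw [← conj_conj]
  exact Z_le_V H.one_mem

/-- **(M)**: a join of two proper subgroups of `H` over `C` is proper. -/
theorem MinStar.sup_lt (h : MinStar (S : Subgroup G) H K x) (hc : IsCharacteristicTwoType G)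
    {L₁ L₂ : Subgroup G} (hC₁ : CZ (S : Subgroup G) ≤ L₁) (h₁ : L₁ < H) (hC₂ : CZ (S : Subgroup G) ≤ L₂)
    (h₂ : L₂ < H) : L₁ ⊔ L₂ < H := by
  refine lt_of_le_of_ne (sup_le h₁.le h₂.le) fun he => ?_
  -- the stabiliser of the set of all `g ∈ H` with `(U_K)^(g x) ≤ Q`
  let p : G → Prop := fun g => g ∈ H ∧ MulAut.conj (g * x) • zl (S : Subgroup G) K ≤ o2 (CZ (S : Subgroup G))
  let Y : Subgroup G :=
    { carrier := {k | ∀ g, p g ↔ p (k * g)}
      one_mem' := fun g => by rw [one_mul]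
      mul_mem' := fun {a b} ha hb g => by
        rw [mul_assoc]
        exact (hb g).trans (ha (b * g))
      inv_mem' := fun {a} ha g => by
        have := ha (a⁻¹ * g)
        rw [mul_inv_cancel_left] at this
        exact this.symm }
  have key : ∀ L : Subgroup G, CZ (S : Subgroup G) ≤ L → L < H → L ≤ Y := by
    intro L hL1 hL2 k hk g
    constructor
    · rintro ⟨hg, hA⟩
      exact ⟨H.mul_mem (hL2.le hk) hg, h.le_mul hL1 hL2 hg hA hk⟩
    · rintro ⟨hg, hA⟩
      have h1 := h.le_mul hL1 hL2 hg hA (L.inv_mem hk)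
      rw [inv_mul_cancel_left] at h1
      exact ⟨(Subgroup.mul_mem_cancel_left H (hL2.le hk)).1 hg, h1⟩
  have hY : H ≤ Y := by
    rw [← he]
    exact sup_le (key L₁ hC₁ h₁) (key L₂ hC₂ h₂)
  obtain ⟨g, hg, hn⟩ := h.toStar.exists_not_le hc
  have h1 : p 1 := ⟨H.one_mem, by rw [one_mul]; exact h.le₂⟩
  have h2 := (hY hg 1).1 h1
  rw [mul_one] at h2
  exact hn h2.2

/-- **(M)**: `C` is in a unique maximal subgroup of `H`. -/
theorem MinStar.exists_max (h : MinStar (S : Subgroup G) H K x) (hc : IsCharacteristicTwoType G) :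
    ∃ M : Subgroup G, CZ (S : Subgroup G) ≤ M ∧ M < H ∧
      ∀ L : Subgroup G, CZ (S : Subgroup G) ≤ L → L < H → L ≤ M := by
  let s : Set (Subgroup G) := {L | CZ (S : Subgroup G) ≤ L ∧ L < H}
  obtain ⟨M, hM⟩ := (Set.toFinite s).exists_maximal ⟨_, le_rfl, h.toStar.cz_lt S⟩
  refine ⟨M, hM.prop.1, hM.prop.2, fun L hL1 hL2 => ?_⟩
  have h1 : M ⊔ L ∈ s := ⟨hM.prop.1.trans le_sup_left, h.sup_lt hc hM.prop.1 hM.prop.2 hL1 hL2⟩
  exact le_sup_right.trans (hM.le_of_ge h1 le_sup_left)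

/-- `H = ⟨P, C⟩` for every subgroup `P` of `H` which is not in `M`. -/
theorem eq_sup_of_max {H M : Subgroup G} (hCH : CZ (S : Subgroup G) ≤ H)
    (hM : ∀ L : Subgroup G, CZ (S : Subgroup G) ≤ L → L < H → L ≤ M) {P : Subgroup G}
    (hP : P ≤ H) (hPM : ¬ P ≤ M) : P ⊔ CZ (S : Subgroup G) = H := by
  by_contra hne
  exact hPM (le_sup_left.trans (hM _ le_sup_right (lt_of_le_of_ne (sup_le hP hCH) hne)))

/-- The group generated by all `(U_K)^(g x) ≤ Q`, `g ∈ H`. -/
def JJ (S H K : Subgroup G) (x : G) : Subgroup G :=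
  ⨆ (g : G) (_ : g ∈ H ∧ MulAut.conj (g * x) • zl S K ≤ o2 (CZ S)), MulAut.conj (g * x) • zl S K

theorem le_JJ {S H K : Subgroup G} {x g : G} (hg : g ∈ H)
    (hA : MulAut.conj (g * x) • zl S K ≤ o2 (CZ S)) : MulAut.conj (g * x) • zl S K ≤ JJ S H K x :=
  le_iSup_of_le g (le_iSup_of_le ⟨hg, hA⟩ le_rfl)

theorem JJ_le {S H K A : Subgroup G} {x : G}
    (h : ∀ g ∈ H, MulAut.conj (g * x) • zl S K ≤ o2 (CZ S) → MulAut.conj (g * x) • zl S K ≤ A) :
    JJ S H K x ≤ A := iSup_le fun g => iSup_le fun hg => h g hg.1 hg.2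

/-- `(U_K)^x ≤ J` -/
theorem Star.le_JJ (h : Star (S : Subgroup G) H K x) :
    MulAut.conj x • zl (S : Subgroup G) K ≤ JJ (S : Subgroup G) H K x := by
  have h1 := MinOver.le_JJ (S := (S : Subgroup G)) (K := K) (x := x) H.one_mem (by rw [one_mul]; exact h.le₂)
  rwa [one_mul] at h1

theorem MinStar.JJ_le_o2 (h : MinStar (S : Subgroup G) H K x) {L : Subgroup G}
    (hCL : CZ (S : Subgroup G) ≤ L) (hLH : L < H) : JJ (S : Subgroup G) H K x ≤ o2 L :=
  JJ_le fun _ hg hA => h.le_o2 hCL hLH hg hA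

theorem MinStar.JJ_comm (h : MinStar (S : Subgroup G) H K x) {L : Subgroup G}
    (hCL : CZ (S : Subgroup G) ≤ L) (hLH : L < H) :
    JJ (S : Subgroup G) H K x ≤ centralizer (zl (S : Subgroup G) L : Set G) :=
  JJ_le fun _ hg hA => h.comm hCL hLH hg hA

theorem MinStar.le_normalizer_JJ (h : MinStar (S : Subgroup G) H K x) {L : Subgroup G}
    (hCL : CZ (S : Subgroup G) ≤ L) (hLH : L < H) : L ≤ normalizer (JJ (S : Subgroup G) H K x : Set G) := by
  have key : ∀ k ∈ L, MulAut.conj k • JJ (S : Subgroup G) H K x ≤ JJ (S : Subgroup G) H K x := by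
    intro k hk
    have h1 : JJ (S : Subgroup G) H K x ≤ MulAut.conj k⁻¹ • JJ (S : Subgroup G) H K x := by
      refine JJ_le fun g hg hA => ?_
      have h2 := (conj_le_iff (g := k⁻¹)).2
        (MinOver.le_JJ (H.mul_mem (hLH.le hk) hg) (h.le_mul hCL hLH hg hA hk))
      rwa [conj_conj, ← mul_assoc, ← mul_assoc, inv_mul_cancel, one_mul] at h2
    have h3 := (conj_le_iff (g := k)).2 h1
    rwa [conj_conj_inv] at h3
  intro k hk
  rw [mem_normalizer_iff]
  intro y
  constructor
  · intro hy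
    refine key k hk ?_
    rw [mem_conj]
    simpa [mul_assoc] using hy
  · intro hy
    have h1 : k⁻¹ * (k * y * k⁻¹) * (k⁻¹)⁻¹ ∈ JJ (S : Subgroup G) H K x := by
      refine key k⁻¹ (L.inv_mem hk) ?_
      rw [mem_conj]
      simpa [mul_assoc] using hy
    simpa [mul_assoc] using h1

/-- `N_H(J) = M` -/
theorem MinStar.normalizer_JJ (h : MinStar (S : Subgroup G) H K x) (hc : IsCharacteristicTwoType G)
    {M : Subgroup G} (hCM : CZ (S : Subgroup G) ≤ M) (hMH : M < H)
    (hM : ∀ L : Subgroup G, CZ (S : Subgroup G) ≤ L → L < H → L ≤ M) :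
    H ⊓ normalizer (JJ (S : Subgroup G) H K x : Set G) = M := by
  have h1 : M ≤ H ⊓ normalizer (JJ (S : Subgroup G) H K x : Set G) :=
    le_inf hMH.le (h.le_normalizer_JJ hCM hMH)
  refine le_antisymm (hM _ (hCM.trans h1) (lt_of_le_of_ne inf_le_left fun he => ?_)) h1
  have h2 : JJ (S : Subgroup G) H K x ≤ o2 H := by
    refine MinSimple.VModule.le_o2 ?_ ?_ (he.ge.trans inf_le_right)
    · exact (h.JJ_le_o2 hCM hMH).trans ((MinSimple.VModule.o2_le _).trans hMH.le)
    · exact (o2_isPGroup _).to_le (h.JJ_le_o2 hCM hMH)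
  refine h.toStar.not_le_o2 S H.one_mem ?_ hc
  rw [one_mul]
  exact h.toStar.le_JJ.trans h2

/-- `H = ⟨(U_K)^(g x) : g ∈ H⟩ C` -/
theorem MinStar.sup_eq (h : MinStar (S : Subgroup G) H K x) (hc : IsCharacteristicTwoType G) :
    V (MulAut.conj x • zl (S : Subgroup G) K) H ⊔ CZ (S : Subgroup G) = H := by
  set N := V (MulAut.conj x • zl (S : Subgroup G) K) H with hN
  have hNH : N ≤ H := by
    refine V_le fun p hp => ?_
    have h1 := (conj_le_iff (g := p)).2 ((h.le₂.trans (MinSimple.VModule.o2_le _)).trans h.long₁.cz)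
    rwa [NoFF.Basic.conj_self hp] at h1
  have hAN : MulAut.conj x • zl (S : Subgroup G) K ≤ N := by
    have h1 := Z_le_V (Z := MulAut.conj x • zl (S : Subgroup G) K) H.one_mem
    rwa [map_one, one_smul] at h1
  by_contra hne
  have hlt : N ⊔ CZ (S : Subgroup G) < H := lt_of_le_of_ne (sup_le hNH h.long₁.cz) hne
  have h1 : MulAut.conj (1 * x) • zl (S : Subgroup G) K ≤ o2 (N ⊔ CZ (S : Subgroup G)) :=
    h.le_o2 le_sup_right hlt H.one_mem (by rw [one_mul]; exact h.le₂)
  have h2 : o2 (N ⊔ CZ (S : Subgroup G)) ⊓ N ≤ o2 N := by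
    refine MinSimple.VModule.le_o2 inf_le_right ((o2_isPGroup _).to_le inf_le_left) ?_
    intro n hn
    have h3 := le_normalizer_o2 (N ⊔ CZ (S : Subgroup G)) ((le_sup_left : N ≤ _) hn)
    rw [mem_normalizer_iff] at h3 ⊢
    intro y
    rw [Subgroup.mem_inf, Subgroup.mem_inf, h3 y]
    refine and_congr_right fun _ => ⟨fun hy => mul_mem (mul_mem hn hy) (inv_mem hn), fun hy => ?_⟩
    have h4 := mul_mem (mul_mem (inv_mem hn) hy) hn
    simpa [mul_assoc] using h4
  have h3 : o2 N ≤ o2 H := by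
    refine MinSimple.VModule.le_o2 ((MinSimple.VModule.o2_le _).trans hNH) (o2_isPGroup _) ?_
    exact (le_normalizer_V _ _).trans (Cfsg.Agent.Omega.normalizer_le_normalizer_o2' _)
  refine h.toStar.not_le_o2 S H.one_mem ?_ hc
  rw [one_mul] at h1 ⊢
  exact ((le_inf h1 hAN).trans h2).trans h3

/-! ### (L) -/

section abstr

omit [Finite G]

variable {V A Z : Subgroup G}

theorem relIndex_eq_two (hZV : Z ≤ V) (hV : Nat.card V = 4) (hZ : Nat.card Z = 2) : Z.relIndex V = 2 := by
  have h1 := Subgroup.card_mul_index (Z.subgroupOf V)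
  have h2 : Nat.card (Z.subgroupOf V) = 2 := by
    rw [← hZ]
    exact Nat.card_congr (Subgroup.subgroupOfEquivOfLe hZV).toEquiv
  rw [h2, hV] at h1
  change (Z.subgroupOf V).index = 2
  omega

/-- `|V| = 4`, `|Z| = 2`, `A` normalises `V` and centralises `Z < V`: `[v, a] ∈ Z`. -/
theorem comm_mem (hZV : Z ≤ V) (hV : Nat.card V = 4) (hZ : Nat.card Z = 2)
    (hA : A ≤ normalizer (V : Set G)) (hAZ : A ≤ centralizer (Z : Set G)) {v a : G} (hv : v ∈ V) (ha : a ∈ A) :
    v * a * v⁻¹ * a⁻¹ ∈ Z := by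
  have hidx : Z.relIndex V = 2 := by
    exact relIndex_eq_two hZV hV hZ
  have hw : a * v * a⁻¹ ∈ V := (mem_normalizer_iff.1 (hA ha) v).1 hv
  have hcz : ∀ z ∈ Z, a * z = z * a := fun z hz => (mem_centralizer_iff.1 (hAZ ha) z hz).symm
  have e : v * a * v⁻¹ * a⁻¹ = v * (a * v * a⁻¹)⁻¹ := by group
  rw [e]
  by_cases hvZ : v ∈ Z
  · rw [hcz v hvZ, mul_inv_cancel_right, mul_inv_cancel]
    exact Z.one_mem
  · have hwZ : a * v * a⁻¹ ∉ Z := by
      intro h
      apply hvZ
      have h1 := hcz _ h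
      have h2 : v = a * v * a⁻¹ := by
        have h3 : a * (a * v * a⁻¹) = a * v * a⁻¹ * a := h1
        rw [inv_mul_cancel_right] at h3
        exact (mul_left_cancel h3).symm
      rw [h2]
      exact h
    have hi : (Z.subgroupOf V).index = 2 := hidx
    have h1 := (Subgroup.mul_mem_iff_of_index_two hi (a := ⟨v, hv⟩) (b := ⟨(a * v * a⁻¹)⁻¹, V.inv_mem hw⟩)).2
    have h2 := h1 (by
      rw [mem_subgroupOf, mem_subgroupOf]
      exact ⟨fun h => absurd h hvZ, fun h => absurd ((Subgroup.inv_mem_iff Z).1 h) hwZ⟩)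
    exact mem_subgroupOf.1 h2

/-- `[V, A] = Z` -/
theorem comm_eq (hZV : Z ≤ V) (hV : Nat.card V = 4) (hZ : Nat.card Z = 2)
    (hA : A ≤ normalizer (V : Set G)) (hAZ : A ≤ centralizer (Z : Set G))
    (hne : ¬ V ≤ centralizer (A : Set G)) : ⁅V, A⁆ = Z := by
  have h1 : ⁅V, A⁆ ≤ Z := by
    rw [commutator_le]
    intro v hv a ha
    exact comm_mem hZV hV hZ hA hAZ hv ha
  have hfin : Finite Z := Nat.finite_of_card_ne_zero (by omega)
  refine Subgroup.eq_of_le_of_card_ge h1 ?_
  rw [hZ]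
  have h2 : ⁅V, A⁆ ≠ ⊥ := fun h => hne (commutator_eq_bot_iff_le_centralizer.1 h)
  have : Finite (⁅V, A⁆ : Subgroup G) := Finite.of_injective (Subgroup.inclusion h1) (Subgroup.inclusion_injective h1)
  exact (Subgroup.one_lt_card_iff_ne_bot _).2 h2

/-- `|A : C_A(V)| = 2` -/
theorem relIndex_centralizer (hZV : Z ≤ V) (hV : Nat.card V = 4) (hZ : Nat.card Z = 2)
    (hA : A ≤ normalizer (V : Set G)) (hAZ : A ≤ centralizer (Z : Set G))
    (hne : ¬ V ≤ centralizer (A : Set G)) : (centralizer (V : Set G)).relIndex A = 2 := by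
  have hidx : (Z.subgroupOf V).index = 2 := by
    exact relIndex_eq_two hZV hV hZ
  -- the involution of `Z`
  obtain ⟨z, hz, hzall⟩ : ∃ z ∈ Z, ∀ y ∈ Z, y = 1 ∨ y = z := by
    have hfin : Finite Z := Nat.finite_of_card_ne_zero (by omega)
    obtain ⟨a, b, hab, huniv⟩ := Nat.card_eq_two_iff.1 hZ
    have h1 : (1 : Z) ∈ ({a, b} : Set Z) := by rw [huniv]; trivial
    rcases h1 with h1 | h1
    · refine ⟨b, b.2, fun y hy => ?_⟩
      have h2 : (⟨y, hy⟩ : Z) ∈ ({a, b} : Set Z) := by rw [huniv]; trivial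
      rcases h2 with h2 | h2
      · left; rw [← h1] at h2; exact congrArg Subtype.val h2
      · right; exact congrArg Subtype.val h2
    · have h1' : (1 : Z) = b := h1
      refine ⟨a, a.2, fun y hy => ?_⟩
      have h2 : (⟨y, hy⟩ : Z) ∈ ({a, b} : Set Z) := by rw [huniv]; trivial
      rcases h2 with h2 | h2
      · right; exact congrArg Subtype.val h2
      · left
        have h3 : (⟨y, hy⟩ : Z) = b := h2
        rw [← h1'] at h3
        exact congrArg Subtype.val h3
  have hcz : ∀ a ∈ A, ∀ y ∈ Z, a * y = y * a := fun a ha y hy => (mem_centralizer_iff.1 (hAZ ha) y hy).symm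
  -- an element which does not centralise `V` acts as `v ↦ z⁻¹ v` outside `Z`
  have hcent : ∀ a ∈ A, ∀ v ∈ V, v ∉ Z → a * v = v * a → a ∈ centralizer (V : Set G) := by
    intro a ha v hv hvZ hav
    rw [mem_centralizer_iff]
    intro w hw
    by_cases hwZ : w ∈ Z
    · exact (hcz a ha w hwZ).symm
    · have h1 := (Subgroup.mul_mem_iff_of_index_two hidx (a := ⟨w, hw⟩) (b := ⟨v⁻¹, V.inv_mem hv⟩)).2 (by
        rw [mem_subgroupOf, mem_subgroupOf]
        exact ⟨fun h => absurd h hwZ, fun h => absurd ((Subgroup.inv_mem_iff Z).1 h) hvZ⟩)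
      have h2 : w * v⁻¹ ∈ Z := mem_subgroupOf.1 h1
      have h3 := hcz a ha _ h2
      have e : w = w * v⁻¹ * v := by group
      calc w * a = w * v⁻¹ * v * a := by rw [← e]
        _ = w * v⁻¹ * (v * a) := mul_assoc _ _ _
        _ = w * v⁻¹ * (a * v) := by rw [hav]
        _ = w * v⁻¹ * a * v := (mul_assoc _ _ _).symm
        _ = a * (w * v⁻¹) * v := by rw [h3]
        _ = a * w := by group
  obtain ⟨v, hv, hvn⟩ : ∃ v ∈ V, v ∉ centralizer (A : Set G) := by
    by_contra hcon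
    push Not at hcon
    exact hne hcon
  have hvZ : v ∉ Z := by
    intro h
    apply hvn
    rw [mem_centralizer_iff]
    intro a ha
    exact hcz a ha v h
  obtain ⟨s, hs, hsn⟩ : ∃ s ∈ A, s * v ≠ v * s := by
    by_contra hcon
    push Not at hcon
    apply hvn
    rw [mem_centralizer_iff]
    exact fun a ha => hcon a ha
  have hval : ∀ a ∈ A, a * v ≠ v * a → v * a * v⁻¹ * a⁻¹ = z := by
    intro a ha hn
    rcases hzall _ (comm_mem hZV hV hZ hA hAZ hv ha) with h | h
    · exfalso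
      apply hn
      have h1 : v * a * v⁻¹ * a⁻¹ * (a * v) = a * v := by rw [h, one_mul]
      rw [← h1]
      group
    · exact h
  have hzz : z * z = 1 := by
    rcases hzall _ (Z.mul_mem hz hz) with h | h
    · exact h
    · exfalso
      have hz1 : z = 1 := by
        have := mul_left_cancel (h.trans (mul_one z).symm)
        exact this
      have h1 := hval s hs hsn
      rw [hz1] at h1
      apply hsn
      have h2 : v * s * v⁻¹ * s⁻¹ * (s * v) = s * v := by rw [h1, one_mul]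
      rw [← h2]
      group
  rw [relIndex_eq_two_iff]
  refine ⟨s, hs, fun a ha => ?_⟩
  have hsC : s ∉ centralizer (V : Set G) := fun h => hsn ((mem_centralizer_iff.1 h v hv).symm)
  by_cases hac : a ∈ centralizer (V : Set G)
  · right
    exact ⟨hac, fun h => hsC ((Subgroup.mul_mem_cancel_left _ hac).1 h)⟩
  · left
    refine ⟨?_, hac⟩
    have han : a * v ≠ v * a := fun h => hac (hcent a ha v hv hvZ h)
    refine hcent _ (A.mul_mem ha hs) v hv hvZ ?_
    have h1 := hval a ha han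
    have h2 := hval s hs hsn
    -- `v a = z a v`, `v s = z s v`
    have h3 : v * a = z * (a * v) := by rw [← h1]; group
    have h4 : v * s = z * (s * v) := by rw [← h2]; group
    calc a * s * v = a * (s * v) := mul_assoc _ _ _
      _ = a * (z * z * (s * v)) := by rw [hzz, one_mul]
      _ = a * z * (z * (s * v)) := by simp only [mul_assoc]
      _ = z * a * (v * s) := by rw [hcz a ha z hz, ← h4]
      _ = z * (a * v) * s := by simp only [mul_assoc]
      _ = v * a * s := by rw [← h3]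
      _ = v * (a * s) := mul_assoc _ _ _

end abstr

/-- **(L)**: the lines of `H` on `Z` and the lines of `K^x` on `Z^x` commute. -/
theorem Star.lines_comm (h : Star (S : Subgroup G) H K x) (hc : IsCharacteristicTwoType G)
    (D : Data (S : Subgroup G)) {P P' : Subgroup G} (hP : IsParS (S : Subgroup G) P)
    (hPH : zl (S : Subgroup G) P ≤ zl (S : Subgroup G) H) (hP' : IsParS (S : Subgroup G) P')
    (hPK : zl (S : Subgroup G) P' ≤ zl (S : Subgroup G) K) {c d : G} (hcc : c ∈ CZ (S : Subgroup G))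
    (hd : d ∈ CZ (S : Subgroup G)) :
    MulAut.conj c • zl (S : Subgroup G) P ≤
      centralizer ((MulAut.conj (x * d) • zl (S : Subgroup G) P' : Subgroup G) : Set G) := by
  have D' := geo hc D
  have hS : (S : Subgroup G) ≠ ⊥ := by
    intro h0
    have h2 : Fact (Nat.Prime 2) := ⟨Nat.prime_two⟩
    have h1 := S.not_dvd_index
    rw [h0, index_bot] at h1
    exact h1 hc.1.two_dvd
  have hQS : o2 (CZ (S : Subgroup G)) ≤ (S : Subgroup G) := (isLoc_centralizer_zc S hS).o2_le S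
  refine D'.noff' hP hP' ?_ ?_
  · have e1 : MulAut.conj c • zl (S : Subgroup G) P ≤ zl (S : Subgroup G) H := by
      have := (conj_le_iff (g := c)).2 hPH
      rwa [conj_eq_of_mem (le_normalizer_zl _ _ (h.long₁.cz hcc))] at this
    refine e1.trans (h.le₁.trans ?_)
    rw [← conj_conj]
    refine conj_le_iff.2 ?_
    rw [← conj_eq_of_mem (le_normalizer_o2 _ hd)]
    exact conj_le_iff.2 (hQS.trans hP'.le)
  · have e1 : MulAut.conj (x * d) • zl (S : Subgroup G) P' ≤ MulAut.conj x • zl (S : Subgroup G) K := by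
      rw [← conj_conj]
      refine conj_le_iff.2 ?_
      have := (conj_le_iff (g := d)).2 hPK
      rwa [conj_eq_of_mem (le_normalizer_zl _ _ (h.long₂.cz hd))] at this
    refine e1.trans (h.le₂.trans ?_)
    rw [← conj_eq_of_mem (le_normalizer_o2 _ hcc)]
    exact conj_le_iff.2 (hQS.trans hP.le)

/-- **(L)**: a line `V` of `H` on `Z` of order 4 (`|Z| = 2`) not centralised by `(U_K)^x`: `[V, (U_K)^x] = Z`
and `|(U_K)^x : C(V)| = 2`. -/
theorem Star.transv (h : Star (S : Subgroup G) H K x) (hc : IsCharacteristicTwoType G)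
    (hZ : Nat.card (zc (S : Subgroup G)) = 2) {P : Subgroup G} (hP : IsParS (S : Subgroup G) P)
    (h4 : Nat.card (zl (S : Subgroup G) P) = 4) {c : G} (hcc : c ∈ CZ (S : Subgroup G))
    (hne : ¬ MulAut.conj c • zl (S : Subgroup G) P ≤
      centralizer ((MulAut.conj x • zl (S : Subgroup G) K : Subgroup G) : Set G)) :
    ⁅MulAut.conj c • zl (S : Subgroup G) P, MulAut.conj x • zl (S : Subgroup G) K⁆ = zc (S : Subgroup G) ∧
      (centralizer ((MulAut.conj c • zl (S : Subgroup G) P : Subgroup G) : Set G)).relIndex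
        (MulAut.conj x • zl (S : Subgroup G) K) = 2 := by
  have hS : (S : Subgroup G) ≠ ⊥ := by
    intro h0
    have h2 : Fact (Nat.Prime 2) := ⟨Nat.prime_two⟩
    have h1 := S.not_dvd_index
    rw [h0, index_bot] at h1
    exact h1 hc.1.two_dvd
  have hQS : o2 (CZ (S : Subgroup G)) ≤ (S : Subgroup G) := (isLoc_centralizer_zc S hS).o2_le S
  have hZc : MulAut.conj c • zc (S : Subgroup G) = zc (S : Subgroup G) :=
    conj_eq_of_mem (centralizer_le_normalizer _ hcc)
  have hZV : zc (S : Subgroup G) ≤ MulAut.conj c • zl (S : Subgroup G) P := by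
    have := (conj_le_iff (g := c)).2 (zc_le_zl (S : Subgroup G) P)
    rwa [hZc] at this
  have hV : Nat.card (MulAut.conj c • zl (S : Subgroup G) P : Subgroup G) = 4 := by
    rw [← h4]
    exact Nat.card_congr (Subgroup.equivSMul (MulAut.conj c) (zl (S : Subgroup G) P)).toEquiv.symm
  have hAN : MulAut.conj x • zl (S : Subgroup G) K ≤
      normalizer ((MulAut.conj c • zl (S : Subgroup G) P : Subgroup G) : Set G) := by
    have h1 : o2 (CZ (S : Subgroup G)) ≤ MulAut.conj c • P := by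
      rw [← conj_eq_of_mem (le_normalizer_o2 _ hcc)]
      exact conj_le_iff.2 (hQS.trans hP.le)
    refine h.le₂.trans (h1.trans ?_)
    intro y hy
    rw [mem_conj] at hy
    have h2 := le_normalizer_zl (S : Subgroup G) P hy
    rw [mem_normalizer_iff] at h2 ⊢
    intro w
    rw [mem_conj, mem_conj, h2]
    have e : c⁻¹ * y * c * (c⁻¹ * w * c) * (c⁻¹ * y * c)⁻¹ = c⁻¹ * (y * w * y⁻¹) * c := by group
    rw [e]
  have hAZ : MulAut.conj x • zl (S : Subgroup G) K ≤ centralizer (zc (S : Subgroup G) : Set G) :=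
    h.le₂.trans (MinSimple.VModule.o2_le _)
  exact ⟨comm_eq hZV hV hZ hAN hAZ hne, relIndex_centralizer hZV hV hZ hAN hAZ hne⟩

end sylow

end Cfsg.Agent.Omega.NOThreeL.MinOver

end

section


/-!
# NO-3L, not (A), `|Z| = 2`: the lines of order 4 are null (#15766, helper848)

`S` a Sylow 2-subgroup, `Z = Ω₁(Z(S))`, `|Z| = 2`, `C = C_G(Z) = CZ S`, `Q = O₂(C)`, long groups `H`,
`U_H = zl S H`.

* `caseA_of` : a conjugate `V` of a line `V_P`, `|V_P| = 4`, in `Q`, normalised but not centralised by `U_H`: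
  case (A);
* `line_null` : not (A): such a `V ≤ Q^x` normalised by `(U_K)^x` centralises `(U_K)^x`;
* `Star.line_comm` : in a critical pair (LEMMA P) the lines of order 4 of one side on its point centralise the
  other side;
* `not_caseB2` : (B2) is void if all lines have order 4; more precisely `CaseB2.exists_line` gives a line of order
  `≠ 4`.
-/

set_option autoImplicit false

namespace Cfsg.Agent.Omega.NOThreeL.LinePlug

open Subgroup Cfsg Cfsg.Agent.ZN Cfsg.Agent.Omega.MinPar Cfsg.Agent.Omega.Frame Cfsg.Agent.Omega.FrameNOFF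
open Cfsg.Agent.Omega.Node.NO3L Cfsg.Agent.Omega.NOThreeL.Basic Cfsg.Agent.Omega.NOThreeL.MinOver
open Cfsg.Agent.Omega.NoFF.Basic (V conj_conj mem_conj conj_le_iff conj_le_centralizer comm_symm comm_mono
  Z_le_V V_le conj_V_mul)
open Cfsg.Agent.Omega.NOThreeL.Pair (conj_eq_of_mem conj_le_normalizer zl_abel)
open Cfsg.Agent.MinSimple.VModule (zl_le le_normalizer_zl zc_le_zl zc_le zl_le_zc o2_isPGroup le_normalizer_o2
  mem_zc le_o2 o2_le le_centralizer_zc zc_sq)
open scoped Pointwise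

universe u

variable {G : Type u} [Group G] [Finite G] {S : Sylow 2 G}

omit [Finite G] in
theorem exists_z (hZ : Nat.card (zc (S : Subgroup G)) = 2) :
    ∃ z : G, z ≠ 1 ∧ z * z = 1 ∧ zc (S : Subgroup G) = zpowers z := by
  have hne : zc (S : Subgroup G) ≠ ⊥ := by
    intro h0
    rw [h0, card_bot] at hZ
    exact absurd hZ (by decide)
  obtain ⟨⟨z, hz⟩, hz1⟩ := Subgroup.ne_bot_iff_exists_ne_one.1 hne
  have hz1' : (z : G) ≠ 1 := fun h => hz1 (Subtype.ext h)
  have hsq : (z : G) * z = 1 := by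
    have := (mem_zc.mp hz).2.2
    rwa [pow_two] at this
  refine ⟨z, hz1', hsq, ?_⟩
  have h1 : zpowers (z : G) ≤ zc (S : Subgroup G) := zpowers_le.2 hz
  have h2 : Nat.card (zpowers (z : G)) = 2 := by
    rw [Nat.card_zpowers]
    exact orderOf_eq_prime (by rw [pow_two]; exact hsq) hz1'
  have h3 : Finite (zc (S : Subgroup G)) := Nat.finite_of_card_ne_zero (by rw [hZ]; decide)
  exact (Subgroup.eq_of_le_of_card_ge h1 (by rw [h2, hZ])).symm

omit [Finite G] in
theorem mem_CZ {z g : G} (hz : zc (S : Subgroup G) = zpowers z) : g ∈ CZ (S : Subgroup G) ↔ g * z = z * g := by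
  rw [mem_centralizer_iff, hz]
  constructor
  · intro h
    exact (h z (mem_zpowers z)).symm
  · rintro h _ ⟨n, rfl⟩
    have h1 : Commute g z := h
    exact (h1.zpow_right n).eq.symm

/-- `V_P` of order 4 is a four-group as in (K5). -/
theorem exists_four (hc : IsCharacteristicTwoType G) {z : G} (hz : zc (S : Subgroup G) = zpowers z)
    (hz1 : z ≠ 1) {P : Subgroup G} (hP : IsParS (S : Subgroup G) P)
    (h4 : Nat.card (zl (S : Subgroup G) P) = 4) : ∃ e, FourLine.Four S z e (zl (S : Subgroup G) P) := by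
  have hzP : z ∈ zl (S : Subgroup G) P := by
    have := zc_le_zl (S : Subgroup G) P
    rw [hz] at this
    exact this (mem_zpowers z)
  obtain ⟨p, hp, hpz⟩ : ∃ p ∈ P, p * z * p⁻¹ ≠ z := by
    by_contra hcon
    push Not at hcon
    apply hP.not_zc
    intro p hp
    rw [mem_normalizer_iff]
    have h1 : p * z * p⁻¹ = z := hcon p hp
    have h2 : ∀ n : ℤ, p * z ^ n * p⁻¹ = z ^ n := by
      intro n
      rw [← conj_zpow, h1]
    intro x
    rw [hz]
    constructor
    · rintro ⟨n, rfl⟩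
      exact ⟨n, (h2 n).symm⟩
    · rintro ⟨n, hn⟩
      refine ⟨n, ?_⟩
      have hn' : z ^ n = p * x * p⁻¹ := hn
      change z ^ n = x
      have h3 := h2 n
      have h4 : z ^ n = x := by
        have h5 : p * z ^ n * p⁻¹ = p * x * p⁻¹ := by rw [h3, hn']
        simpa using h5
      exact h4
  refine ⟨p * z * p⁻¹, hz, hz1, ?_, h4, hzP, ?_, hpz, ⟨p, rfl⟩, ?_⟩
  · intro x hx
    have := (zl_abel hc S hP.isLoc).2 x hx
    rwa [pow_two] at this
  · exact (mem_normalizer_iff.1 (le_normalizer_zl (S : Subgroup G) P hp) z).1 hzP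
  · exact hP.le.trans (le_normalizer_zl (S : Subgroup G) P)

/-- **A line of order 4 in `Q`, normalised but not centralised by `U_H`: case (A).** -/
theorem caseA_of (hc : IsCharacteristicTwoType G) (hZ : Nat.card (zc (S : Subgroup G)) = 2) {P H : Subgroup G}
    (hP : IsParS (S : Subgroup G) P) (h4 : Nat.card (zl (S : Subgroup G) P) = 4)
    (hH : IsLong (S : Subgroup G) H) {g : G}
    (h1 : MulAut.conj g • zl (S : Subgroup G) P ≤ o2 (CZ (S : Subgroup G)))
    (h2 : zl (S : Subgroup G) H ≤ normalizer ((MulAut.conj g • zl (S : Subgroup G) P : Subgroup G) : Set G))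
    (hne : ¬ MulAut.conj g • zl (S : Subgroup G) P ≤ centralizer (zl (S : Subgroup G) H : Set G)) :
    CaseA (S : Subgroup G) := by
  obtain ⟨z, hz1, hzz, hz⟩ := exists_z hZ
  have hS : (S : Subgroup G) ≠ ⊥ := by
    intro h0
    rw [h0] at hz
    have : z ∈ zc (⊥ : Subgroup G) := by rw [hz]; exact mem_zpowers z
    exact hz1 (mem_bot.1 (zc_le _ this))
  set U := zl (S : Subgroup G) H with hU
  set W := MulAut.conj g • zl (S : Subgroup G) P with hW
  have hcz : ∀ k, k * z = z * k → k ∈ H := fun k hk => hH.cz ((mem_CZ hz).2 hk)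
  have hzU : z ∈ U := by
    have := zc_le_zl (S : Subgroup G) H
    rw [hz] at this
    exact this (mem_zpowers z)
  obtain ⟨hUab, hUsq⟩ := zl_abel hc S hH.loc
  have hUcomm : ∀ a ∈ U, ∀ b ∈ U, a * b = b * a := fun a ha b hb => (mem_centralizer_iff.1 (hUab hb) a ha)
  have hUS : U ≤ (S : Subgroup G) := IsLong.zl_le_S hc hH
  have hWcard : Nat.card W = 4 := by
    rw [← h4]
    exact Nat.card_congr (Subgroup.equivSMul (MulAut.conj g) (zl (S : Subgroup G) P)).toEquiv.symm
  have hWsq : ∀ w ∈ W, w * w = 1 := by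
    intro w hw
    rw [hW, mem_conj] at hw
    have h3 := (zl_abel hc S hP.isLoc).2 _ hw
    have h4 : g * ((g⁻¹ * w * g) ^ 2) * g⁻¹ = w * w := by rw [pow_two]; group
    rw [← h4, h3]; group
  have hWcomm : ∀ a ∈ W, ∀ b ∈ W, a * b = b * a := fun a ha b hb =>
    AdjTransv.eq_of_sq (hWsq a ha) (hWsq b hb) (hWsq _ (mul_mem ha hb))
  have hWU : W ≤ normalizer (U : Set G) := by
    refine h1.trans ((o2_le _).trans (hH.cz.trans (le_normalizer_zl _ _)))
  -- a noncommuting pair
  obtain ⟨v, hv, u0, hu0, hvu⟩ : ∃ v ∈ W, ∃ u ∈ U, v * u * v⁻¹ ≠ u := by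
    by_contra hcon
    push Not at hcon
    apply hne
    intro v hv
    rw [mem_centralizer_iff]
    intro u hu
    have := hcon v hv u hu
    rw [mul_inv_eq_iff_eq_mul] at this
    exact this.symm
  have hcomm_mem : ∀ v ∈ W, ∀ u ∈ U, v * u * v⁻¹ * u⁻¹ ∈ W ⊓ U := by
    intro v hv u hu
    constructor
    · have h3 := (mem_normalizer_iff.1 (h2 hu) v⁻¹).1 (W.inv_mem hv)
      have e1 : v * u * v⁻¹ * u⁻¹ = v * (u * v⁻¹ * u⁻¹) := by group
      rw [e1]
      exact mul_mem hv h3
    · exact U.mul_mem ((mem_normalizer_iff.1 (hWU hv) u).1 hu) (U.inv_mem hu)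
  set y := v * u0 * v⁻¹ * u0⁻¹ with hy
  have hyWU := hcomm_mem v hv u0 hu0
  have hy1 : y ≠ 1 := by
    intro h0
    apply hvu
    rw [hy, mul_inv_eq_one] at h0
    exact h0
  have hinf : ∀ w ∈ W ⊓ U, w = 1 ∨ w = y := by
    -- `W ⊓ U` has order 2
    have h3 : Nat.card (W ⊓ U : Subgroup G) ∣ 4 := by
      rw [← hWcard]
      exact Subgroup.card_dvd_of_le inf_le_left
    have h4' : Nat.card (W ⊓ U : Subgroup G) ≠ 4 := by
      intro h5
      have h6 : W ⊓ U = W := Subgroup.eq_of_le_of_card_ge inf_le_left (by rw [h5, hWcard])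
      have h7 : v ∈ U := by
        have h8 : v ∈ W ⊓ U := by rw [h6]; exact hv
        exact h8.2
      apply hvu
      rw [hUcomm v h7 u0 hu0]
      group
    have h5 : Nat.card (W ⊓ U : Subgroup G) ≤ 2 := by
      have h6 : Nat.card (W ⊓ U : Subgroup G) ≤ 4 := Nat.le_of_dvd (by decide) h3
      interval_cases h7 : Nat.card (W ⊓ U : Subgroup G)
      · decide
      · decide
      · decide
      · exact absurd h3 (by decide)
      · exact absurd rfl h4'
    intro w hw
    by_contra hcon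
    push Not at hcon
    have h6 : ({1, w, y} : Set G) ⊆ (W ⊓ U : Subgroup G) := by
      rintro x (rfl | rfl | rfl)
      · exact one_mem _
      · exact hw
      · exact hyWU
    have h7 : ({1, w, y} : Set G).ncard = 3 := by
      rw [Set.ncard_eq_three]
      exact ⟨1, w, y, hcon.1.symm, hy1.symm, hcon.2, rfl⟩
    have h8 := Set.ncard_le_ncard h6 (Set.toFinite _)
    rw [h7, ← Nat.card_coe_set_eq] at h8
    exact absurd (h8.trans h5) (by decide)
  -- `y` is a point of the line `W`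
  obtain ⟨e, hE⟩ := exists_four hc hz hz1 hP h4
  have hyW : g⁻¹ * y * g ∈ zl (S : Subgroup G) P := by
    rw [← mem_conj]
    exact hyWU.1
  obtain ⟨n, hn, hnz⟩ := hE.conj_all hyW (fun h0 => hy1 (by
    have h9 : y = g * (g⁻¹ * y * g) * g⁻¹ := by group
    rw [h9, h0]; group))
  have hyz : (g * n) * z * (g * n)⁻¹ = y := by
    have e1 : (g * n) * z * (g * n)⁻¹ = g * (n * z * n⁻¹) * g⁻¹ := by group
    rw [e1, hnz]; group
  have hcard : Nat.card (centralizer ({y} : Set G)) ≤ Nat.card (centralizer ({z} : Set G)) := by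
    refine Nat.card_le_card_of_injective
      (fun c => ⟨(g * n)⁻¹ * (c : G) * (g * n), ?_⟩) ?_
    · rw [mem_centralizer_singleton_iff]
      have h9 := mem_centralizer_singleton_iff.1 c.2
      have e1 : (g * n)⁻¹ * (c : G) * (g * n) * z = (g * n)⁻¹ * ((c : G) * ((g * n) * z * (g * n)⁻¹)) * (g * n) := by
        group
      have e2 : z = (g * n)⁻¹ * y * (g * n) := by rw [← hyz]; group
      rw [e1, hyz, h9, e2]
      group
    · intro c d h
      have h9 := congrArg Subtype.val h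
      have h10 : (g * n)⁻¹ * (c : G) * (g * n) = (g * n)⁻¹ * (d : G) * (g * n) := h9
      exact Subtype.ext (by simpa using h10)
  have D : LineNull.Sit z y v U H (S : Subgroup G) (o2 (CZ (S : Subgroup G))) := by
    refine ⟨hzU, fun u hu => by have := hUsq u hu; rwa [pow_two] at this, fun h hh u hu =>
      (mem_normalizer_iff.1 (le_normalizer_zl (S : Subgroup G) H hh) u).1 hu, hcz, ?_, S.isPGroup', ?_, ?_, ?_, ?_,
      o2_isPGroup _, h1 hv, hyWU.2, ?_, ?_, ⟨u0, hu0, hvu⟩, hcard⟩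
    · intro N hzN hNU hN
      refine zl_le (by rw [hz]; exact zpowers_le.2 hzN) ?_
      have key : ∀ h ∈ H, ∀ n ∈ N, h * n * h⁻¹ ∈ N := hN
      intro h hh
      rw [mem_normalizer_iff]
      intro x
      constructor
      · exact key h hh x
      · intro hx
        have := key h⁻¹ (inv_mem hh) _ hx
        have e1 : h⁻¹ * (h * x * h⁻¹) * h⁻¹⁻¹ = x := by group
        rwa [e1] at this
    · intro s hs
      exact (mem_CZ hz).1 (le_centralizer_zc _ hs)
    · intro u hu hfix
      have h9 : u ∈ zc (S : Subgroup G) := by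
        rw [mem_zc]
        refine ⟨hUS hu, fun b hb => ?_, hUsq u hu⟩
        have := hfix b hb
        rwa [mul_inv_eq_iff_eq_mul] at this
      rw [hz] at h9
      exact (FourLine.mem_zpowers_iff hzz).1 h9
    · intro q hq
      exact (mem_CZ hz).1 (o2_le _ hq)
    · intro k hk q hq
      exact (mem_normalizer_iff.1 (le_normalizer_o2 _ ((mem_CZ hz).2 hk)) q).1 hq
    · rw [hWcomm v hv y hyWU.1]; group
    · intro u hu
      rcases hinf _ (hcomm_mem v hv u hu) with h9 | h9
      · left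
        rw [mul_inv_eq_one] at h9
        exact h9
      · right
        have e1 : v * u * v⁻¹ = y * u := by rw [← h9]; group
        rw [e1, hUcomm y hyWU.2 u hu]
  have hyz' := D.eq
  -- `g * n ∈ C`
  have hgn : g * n ∈ CZ (S : Subgroup G) := by
    rw [mem_CZ hz]
    rw [hyz'] at hyz
    rwa [mul_inv_eq_iff_eq_mul] at hyz
  refine ⟨P, H, hP, hH, fun hcon => hne ?_⟩
  have h9 : W = MulAut.conj (g * n) • zl (S : Subgroup G) P := by
    rw [hW, ← conj_conj, conj_eq_of_mem hn]
  rw [h9]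
  have h10 := conj_le_centralizer (g := g * n) hcon
  rwa [conj_eq_of_mem (le_normalizer_zl (S : Subgroup G) H (hH.cz hgn))] at h10

/-- **Not (A), `|Z| = 2`: lines of order 4 are null.** -/
theorem line_null (hc : IsCharacteristicTwoType G) (hZ : Nat.card (zc (S : Subgroup G)) = 2)
    (hA : ¬ CaseA (S : Subgroup G)) {P K : Subgroup G}
    (hP : IsParS (S : Subgroup G) P) (h4 : Nat.card (zl (S : Subgroup G) P) = 4)
    (hK : IsLong (S : Subgroup G) K) {g x : G}
    (h1 : MulAut.conj g • zl (S : Subgroup G) P ≤ MulAut.conj x • o2 (CZ (S : Subgroup G)))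
    (h2 : MulAut.conj x • zl (S : Subgroup G) K ≤
      normalizer ((MulAut.conj g • zl (S : Subgroup G) P : Subgroup G) : Set G)) :
    MulAut.conj g • zl (S : Subgroup G) P ≤
      centralizer ((MulAut.conj x • zl (S : Subgroup G) K : Subgroup G) : Set G) := by
  have e1 : MulAut.conj x • MulAut.conj (x⁻¹ * g) • zl (S : Subgroup G) P =
      MulAut.conj g • zl (S : Subgroup G) P := by rw [conj_conj, mul_inv_cancel_left]
  rw [← e1] at h1 h2 ⊢
  refine conj_le_centralizer ?_
  by_contra hne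
  refine hA (caseA_of hc hZ hP h4 hK (conj_le_iff.1 h1) ?_ hne)
  have h3 := conj_le_normalizer (g := x⁻¹) h2
  rw [conj_conj, conj_conj, inv_mul_cancel, map_one, one_smul, one_smul] at h3
  exact h3

theorem o2_CZ_le_S (hc : IsCharacteristicTwoType G) :
    o2 (CZ (S : Subgroup G)) ≤ (S : Subgroup G) := by
  have hS : (S : Subgroup G) ≠ ⊥ := by
    intro h0
    have h2 : Fact (Nat.Prime 2) := ⟨Nat.prime_two⟩
    have h1 := S.not_dvd_index
    rw [h0, index_bot] at h1
    exact h1 hc.1.two_dvd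
  exact (isLoc_centralizer_zc S hS).o2_le S

/-- A subgroup of `Q^x` normalises all lines on `Z^x`. -/
theorem le_normalizer_line (hc : IsCharacteristicTwoType G) {P A : Subgroup G} (hP : IsParS (S : Subgroup G) P)
    {x c : G} (hcc : c ∈ CZ (S : Subgroup G)) (hA : A ≤ MulAut.conj x • o2 (CZ (S : Subgroup G))) :
    A ≤ normalizer ((MulAut.conj (x * c) • zl (S : Subgroup G) P : Subgroup G) : Set G) := by
  refine hA.trans ?_
  have h1 : o2 (CZ (S : Subgroup G)) ≤ MulAut.conj c • P := by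
    rw [← conj_eq_of_mem (le_normalizer_o2 _ hcc)]
    exact conj_le_iff.2 ((o2_CZ_le_S hc).trans hP.le)
  have h2 := (conj_le_iff (g := x)).2 h1
  rw [conj_conj] at h2
  exact h2.trans (conj_le_normalizer (le_normalizer_zl _ _))

/-- **Critical pairs (LEMMA P)**: `U_H ≤ Q^x`, `(U_K)^x ≤ Q`: the lines of order 4 of `U_H` on `Z` centralise
`(U_K)^x`. -/
theorem Star.line_comm (hc : IsCharacteristicTwoType G) (hZ : Nat.card (zc (S : Subgroup G)) = 2)
    (hA : ¬ CaseA (S : Subgroup G)) {H K : Subgroup G} {x : G} (h : Star (S : Subgroup G) H K x)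
    {P : Subgroup G} (hP : IsParS (S : Subgroup G) P) (h4 : Nat.card (zl (S : Subgroup G) P) = 4)
    (hPH : zl (S : Subgroup G) P ≤ zl (S : Subgroup G) H) {c : G} (hcc : c ∈ CZ (S : Subgroup G)) :
    MulAut.conj c • zl (S : Subgroup G) P ≤
      centralizer ((MulAut.conj x • zl (S : Subgroup G) K : Subgroup G) : Set G) := by
  refine line_null hc hZ hA hP h4 h.long₂ ?_ ?_
  · refine le_trans ?_ h.le₁
    have := (conj_le_iff (g := c)).2 hPH
    rwa [conj_eq_of_mem (le_normalizer_zl _ _ (h.long₁.cz hcc))] at this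
  · have h1 := le_normalizer_line hc hP hcc (A := MulAut.conj x • zl (S : Subgroup G) K) (x := 1)
      (by rw [map_one, one_smul]; exact h.le₂)
    rwa [one_mul] at h1

/-- the same for the lines of `(U_K)^x` on `Z^x` -/
theorem Star.line_comm' (hc : IsCharacteristicTwoType G) (hZ : Nat.card (zc (S : Subgroup G)) = 2)
    (hA : ¬ CaseA (S : Subgroup G)) {H K : Subgroup G} {x : G} (h : Star (S : Subgroup G) H K x)
    {P : Subgroup G} (hP : IsParS (S : Subgroup G) P) (h4 : Nat.card (zl (S : Subgroup G) P) = 4)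
    (hPK : zl (S : Subgroup G) P ≤ zl (S : Subgroup G) K) {c : G} (hcc : c ∈ CZ (S : Subgroup G)) :
    MulAut.conj (x * c) • zl (S : Subgroup G) P ≤ centralizer (zl (S : Subgroup G) H : Set G) := by
  have h1 := Star.line_comm hc hZ hA h.symm hP h4 hPK hcc
  have h2 := conj_le_centralizer (g := x) h1
  rwa [conj_conj, conj_conj, mul_inv_cancel, map_one, one_smul] at h2

/-- **(B2), `|Z| = 2`: some line `V_P`, `P ∈ P*(S)`, has order `≠ 4`, and a conjugate of it, `V ≤ F_K`, does not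
centralise some `U_H`; `V` and `U_H` normalise each other.** -/
theorem CaseB2.exists_line (hc : IsCharacteristicTwoType G) (D : Data (S : Subgroup G))
    (hZ : Nat.card (zc (S : Subgroup G)) = 2) (h : CaseB2 (S : Subgroup G)) :
    ∃ H K P : Subgroup G, IsLong (S : Subgroup G) H ∧ IsLong (S : Subgroup G) K ∧ IsParS (S : Subgroup G) P ∧
      Nat.card (zl (S : Subgroup G) P) ≠ 4 ∧ ∃ k ∈ K,
        MulAut.conj k • zl (S : Subgroup G) P ≤ o2 K ∧
        zl (S : Subgroup G) H ≤ normalizer ((MulAut.conj k • zl (S : Subgroup G) P : Subgroup G) : Set G) ∧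
        ¬ MulAut.conj k • zl (S : Subgroup G) P ≤ centralizer (zl (S : Subgroup G) H : Set G) := by
  obtain ⟨hA, hcomm, H, K, hH, hK, hne⟩ := h
  obtain ⟨P, hP, k, hk, hkne⟩ : ∃ P, IsParS (S : Subgroup G) P ∧ ∃ k ∈ K,
      ¬ MulAut.conj k • zl (S : Subgroup G) P ≤ centralizer (zl (S : Subgroup G) H : Set G) := by
    by_contra hcon
    push Not at hcon
    apply hne
    refine comm_symm (FH_le fun x hx => ?_)
    rw [Subgroup.pointwise_smul_subset_iff]
    refine WP_le fun P hP c hcc => ?_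
    rw [← Subgroup.pointwise_smul_subset_iff, conj_conj]
    exact hcon P hP (x * c) (mul_mem hx (hK.cz hcc))
  have h1 : MulAut.conj k • zl (S : Subgroup G) P ≤ o2 K :=
    ((conj_le_iff.2 (zl_le_WP hP)).trans (conj_WP_le_FH _ hk)).trans (NotA.FH_le_o2 D hA hK)
  have h2 : zl (S : Subgroup G) H ≤ o2 K :=
    le_o2_of_comm ((IsLong.zl_le_o2 hc S hH).trans (hH.o2_le S)) hK (hcomm H K hH hK)
  have h3 : zl (S : Subgroup G) H ≤ normalizer ((MulAut.conj k • zl (S : Subgroup G) P : Subgroup G) : Set G) := by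
    have h4 : zl (S : Subgroup G) H ≤ MulAut.conj k • o2 (CZ (S : Subgroup G)) := by
      rw [← conj_eq_of_mem (le_normalizer_o2 K hk)] at h2
      exact h2.trans (conj_le_iff.2 (hK.o2_le S))
    have h5 := le_normalizer_line hc hP (one_mem _) h4
    rwa [mul_one] at h5
  refine ⟨H, K, P, hH, hK, hP, ?_, k, hk, h1, h3, hkne⟩
  intro h4
  exact hA (caseA_of hc hZ hP h4 hH (h1.trans (hK.o2_le S)) h3 hkne)

/-- **(B2) is void if `|Z| = 2` and all lines have order 4.** -/
theorem not_caseB2 (hc : IsCharacteristicTwoType G) (D : Data (S : Subgroup G))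
    (hZ : Nat.card (zc (S : Subgroup G)) = 2)
    (h4 : ∀ P : Subgroup G, IsParS (S : Subgroup G) P → Nat.card (zl (S : Subgroup G) P) = 4) :
    ¬ CaseB2 (S : Subgroup G) := by
  intro h
  obtain ⟨-, -, P, -, -, hP, hne, -⟩ := CaseB2.exists_line hc D hZ h
  exact hne (h4 P hP)

end Cfsg.Agent.Omega.NOThreeL.LinePlug

end

section


/-!
# NO-3L, not (A): the lines and the long modules of a residue (text bb OMEGA #15922, helper597)

`S` a Sylow 2-subgroup, `Z = Ω₁(Z(S))`, `C = C_G(Z) = CZ S`, `Q = O₂(C)`, long groups `H`, `U_H = zl S H`,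
`F` a set of members of `P*(S)`, `N ≤ C` a group of normalising elements of `S` which permutes `F` (e.g. `N = 1` or
`N = N_G(S)` if `|Z| = 2`), `X = N⟨F⟩` (`NoFF.Main.X N F`), `V* = ⟨Z^X⟩` (`NoFF.Main.A Z N F`).

* `NullF S F` : (L) a conjugate `V` of a line `V_P`, `P ∈ F`, with `V ≤ Q`, `U_H ≤ N(V)`, centralises `U_H`;
  `nullF_of_four` : (L) holds if `|Z| = 2`, not (A), and all `V_P`, `P ∈ F`, have order 4 (helper848);
* `claim` : the claim of (M);
* (M) `zl_le_o2` : `U_H ≤ O₂(X)` for all long `H`; `zl_comm` : `[U_H, V*] = 1`; `A_le` : `V* ≤ Q`;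
* `JC` : `J = ⟨U_H : H long⟩`, normal in `C`; `JC_le_o2`, `JC_comm` : `J ≤ O₂(X)`, `[J, V*] = 1`; `JC_conj` :
  `J^x`, `J^y` (`x, y ∈ X`) are in `S` and normalise each other; more precisely `J^x` normalises all `(U_H)^y`;
* `WS` : `W⁺ = ⟨V*^C⟩`: `WS_comm`, `WS_JC`, `WS_le_o2`: abelian, `≤ Q`, centralises `J`, `≤ O₂(H)`;
* `FHS` : `F_H⁺ = ⟨W⁺^H⟩`: `FHS_comm`, `FHS_le_o2`;
* `isLoc_X` : `X` is local; `PF S`, `nullF_PF`, `inv_PF`, `normalizer_le_CZ` : the lines of order 4, `|Z| = 2`;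
* (M') `claim'` : `E = (U_K)^h ≤ S`, `h ∈ H`, `H`, `K` long: `E ≤ O₂(X)` and `[E, V*] = 1`; `line_comm'` : `E` centralises
  every line on `Z` which it normalises.
-/

set_option autoImplicit false

namespace Cfsg.Agent.Omega.NOThreeL.MutLine

open Subgroup Cfsg Cfsg.Agent.ZN Cfsg.Agent.Omega.MinPar Cfsg.Agent.Omega.Frame Cfsg.Agent.Omega.FrameNOFF
open Cfsg.Agent.Omega.Node.NO3L Cfsg.Agent.Omega.NOThreeL.Basic
open Cfsg.Agent.Omega.NoFF.Basic (V conj_conj mem_conj conj_le_iff conj_le_centralizer comm_symm comm_mono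
  Z_le_V V_le conj_V_mul Sys Gal conj_Z_le)
open Cfsg.Agent.Omega.NOThreeL.Pair (conj_eq_of_mem conj_le_normalizer zl_abel)
open Cfsg.Agent.MinSimple.VModule (zl_le le_normalizer_zl zc_le_zl zc_le zl_le_zc o2_isPGroup le_normalizer_o2
  mem_zc le_o2 o2_le le_centralizer_zc zc_sq)
open scoped Pointwise

universe u

variable {G : Type u} [Group G]

/-! ### Galleries -/

/-- the first step of a gallery -/
theorem Gal.head {F : Set (Subgroup G)} {k : ℕ} {a b : G} (h : Gal F (k + 1) a b) :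
    ∃ P ∈ F, ∃ p ∈ P, Gal F k (a * p) b := by
  have h1 := h.symm
  cases h1 with
  | @step _ _ c p P hc hP hp =>
    refine ⟨P, hP, p⁻¹, P.inv_mem hp, ?_⟩
    rw [mul_inv_cancel_right]
    exact hc.symm

theorem Gal.head' {F : Set (Subgroup G)} {k : ℕ} {b : G} (h : Gal F (k + 1) 1 b) :
    ∃ P ∈ F, ∃ p ∈ P, ∃ c, Gal F k 1 c ∧ b = p * c := by
  obtain ⟨P, hP, p, hp, h1⟩ := Gal.head h
  refine ⟨P, hP, p, hp, p⁻¹ * b, ?_, by group⟩
  have h2 := h1.mul_left p⁻¹
  rwa [one_mul, inv_mul_cancel] at h2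

/-! ### The hypothesis (L) -/

/-- **(L)** A conjugate `V ≤ Q` of a line `V_P`, `P ∈ F`, which is normalised by `U_H` centralises `U_H`. -/
def NullF (S : Subgroup G) (F : Set (Subgroup G)) : Prop :=
  ∀ P H : Subgroup G, ∀ g : G, P ∈ F → IsLong S H → MulAut.conj g • zl S P ≤ o2 (CZ S) →
    zl S H ≤ normalizer ((MulAut.conj g • zl S P : Subgroup G) : Set G) →
    MulAut.conj g • zl S P ≤ centralizer (zl S H : Set G)

/-- (L) holds for the lines of order 4 (`|Z| = 2`, not (A)). -/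
theorem nullF_of_four [Finite G] (hc : IsCharacteristicTwoType G) {S : Sylow 2 G}
    (hZ : Nat.card (zc (S : Subgroup G)) = 2) (hA : ¬ CaseA (S : Subgroup G)) {F : Set (Subgroup G)}
    (hF : F ⊆ PS (S : Subgroup G)) (h4 : ∀ P ∈ F, Nat.card (zl (S : Subgroup G) P) = 4) :
    NullF (S : Subgroup G) F := by
  intro P H g hP hH h1 h2
  by_contra hne
  exact hA (LinePlug.caseA_of hc hZ (hF hP) (h4 P hP) hH h1 h2 hne)

/-- (L) at the point `Z^x`. -/
theorem NullF.conj {S : Subgroup G} {F : Set (Subgroup G)} (h : NullF S F) {P K : Subgroup G} (hP : P ∈ F)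
    (hK : IsLong S K) {g x : G} (h1 : MulAut.conj g • zl S P ≤ MulAut.conj x • o2 (CZ S))
    (h2 : MulAut.conj x • zl S K ≤ normalizer ((MulAut.conj g • zl S P : Subgroup G) : Set G)) :
    MulAut.conj g • zl S P ≤ centralizer ((MulAut.conj x • zl S K : Subgroup G) : Set G) := by
  have e1 : MulAut.conj x • MulAut.conj (x⁻¹ * g) • zl S P = MulAut.conj g • zl S P := by
    rw [conj_conj, mul_inv_cancel_left]
  rw [← e1] at h1 h2 ⊢
  refine conj_le_centralizer (h P K _ hP hK (conj_le_iff.1 h1) ?_)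
  have h3 := conj_le_normalizer (g := x⁻¹) h2
  rw [conj_conj, conj_conj, inv_mul_cancel, map_one, one_smul, one_smul] at h3
  exact h3

/-! ### Definitions -/

/-- `J = ⟨U_H : H long⟩` -/
def JC (S : Subgroup G) : Subgroup G := sSup {U : Subgroup G | ∃ H, IsLong S H ∧ U = zl S H}

/-- `W⁺ = ⟨V*^C⟩` -/
def WS (S N : Subgroup G) (F : Set (Subgroup G)) : Subgroup G := V (NoFF.Main.A (zc S) N F) (CZ S)

/-- `F_H⁺ = ⟨W⁺^H⟩` -/
def FHS (S N : Subgroup G) (F : Set (Subgroup G)) (H : Subgroup G) : Subgroup G := V (WS S N F) H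

theorem zl_le_JC {S H : Subgroup G} (hH : IsLong S H) : zl S H ≤ JC S := le_sSup ⟨H, hH, rfl⟩

theorem JC_le {S A : Subgroup G} (h : ∀ H, IsLong S H → zl S H ≤ A) : JC S ≤ A :=
  sSup_le (by rintro _ ⟨H, hH, rfl⟩; exact h H hH)

theorem CZ_le_normalizer_JC (S : Subgroup G) : CZ S ≤ normalizer (JC S : Set G) := by
  have key : ∀ c ∈ CZ S, MulAut.conj c • JC S ≤ JC S := by
    intro c hcc
    rw [Subgroup.pointwise_smul_subset_iff]
    refine JC_le fun H hH => ?_
    rw [← Subgroup.pointwise_smul_subset_iff, conj_eq_of_mem (le_normalizer_zl S H (hH.cz hcc))]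
    exact zl_le_JC hH
  intro c hcc
  rw [mem_normalizer_iff]
  intro x
  constructor
  · intro hx
    refine key c hcc ?_
    rw [mem_conj]
    simpa [mul_assoc] using hx
  · intro hx
    have h1 := key c⁻¹ (inv_mem hcc) (mem_conj.2 (by simpa [mul_assoc] using hx) :
      c⁻¹ * (c * x * c⁻¹) * c ∈ _)
    simpa [mul_assoc] using h1

theorem WS_conj (S N : Subgroup G) (F : Set (Subgroup G)) {c : G} (hc : c ∈ CZ S) :
    MulAut.conj c • WS S N F = WS S N F := by
  have := conj_V_mul (Z := NoFF.Main.A (zc S) N F) (P := CZ S) (g := 1) hc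
  rwa [one_mul, map_one, one_smul] at this

theorem A_le_WS (S N : Subgroup G) (F : Set (Subgroup G)) : NoFF.Main.A (zc S) N F ≤ WS S N F := by
  have h := Z_le_V (Z := NoFF.Main.A (zc S) N F) (CZ S).one_mem
  rwa [map_one, one_smul] at h

theorem WS_le_FHS (S N : Subgroup G) (F : Set (Subgroup G)) (H : Subgroup G) : WS S N F ≤ FHS S N F H := by
  have h := Z_le_V (Z := WS S N F) H.one_mem
  rwa [map_one, one_smul] at h

theorem FHS_conj (S N : Subgroup G) (F : Set (Subgroup G)) {H : Subgroup G} {h : G} (hh : h ∈ H) :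
    MulAut.conj h • FHS S N F H = FHS S N F H := by
  have := conj_V_mul (Z := WS S N F) (P := H) (g := 1) hh
  rwa [one_mul, map_one, one_smul] at this

/-! ### A tool: subgroups of all Sylow subgroups `S^x` -/

/-- `A ≤ S^x` for all `x ∈ X` implies `A ≤ O₂(X)`. -/
theorem le_o2_of_conj {S X A : Subgroup G} (hS : IsPGroup 2 S) (hSX : S ≤ X)
    (h : ∀ x ∈ X, A ≤ MulAut.conj x • S) : A ≤ o2 X := by
  let B : Subgroup G := ⨅ x : X, MulAut.conj (x : G) • S
  have hAB : A ≤ B := le_iInf fun x => h x x.2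
  have hBS : B ≤ S := by
    have := iInf_le (fun x : X => MulAut.conj (x : G) • S) 1
    rwa [OneMemClass.coe_one, map_one, one_smul] at this
  refine hAB.trans (le_o2 (hBS.trans hSX) (hS.to_le hBS) ?_)
  have key : ∀ x ∈ X, ∀ b ∈ B, x * b * x⁻¹ ∈ B := by
    intro x hx b hb
    rw [Subgroup.mem_iInf]
    intro y
    have h1 := Subgroup.mem_iInf.1 hb (⟨x⁻¹ * y, X.mul_mem (X.inv_mem hx) y.2⟩ : X)
    rw [mem_conj] at h1 ⊢
    simpa [mul_assoc] using h1
  intro x hx
  rw [mem_normalizer_iff]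
  intro b
  refine ⟨key x hx b, fun hb => ?_⟩
  have h1 := key x⁻¹ (X.inv_mem hx) _ hb
  simpa [mul_assoc] using h1

/-! ### (M) -/

section fin

variable [Finite G] {S : Sylow 2 G} (hc : IsCharacteristicTwoType G) (D : Data (S : Subgroup G))
  {N : Subgroup G} {F : Set (Subgroup G)} (hF : F ⊆ PS (S : Subgroup G)) (hL : NullF (S : Subgroup G) F)

include hc D hF in
theorem sysF : Sys (S : Subgroup G) (zc (S : Subgroup G)) F :=
  (sys hc S D.noff).mono hF

include hc D hF hL

/-- **The claim of (M).** -/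
theorem claim : ∀ (k : ℕ) (w : G), Gal F k 1 w → ∀ H : Subgroup G, IsLong (S : Subgroup G) H →
    zl (S : Subgroup G) H ≤ MulAut.conj w • (S : Subgroup G) ∧
    ∀ P ∈ F, MulAut.conj w • zl (S : Subgroup G) P ≤ o2 (CZ (S : Subgroup G)) ∧
      MulAut.conj w • zl (S : Subgroup G) P ≤ centralizer (zl (S : Subgroup G) H : Set G) := by
  have Y := sysF hc D hF
  intro k
  induction k with
  | zero =>
    intro w hw H hH
    cases hw
    rw [map_one, one_smul]
    refine ⟨IsLong.zl_le_S hc hH, fun P hP => ?_⟩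
    rw [one_smul]
    refine ⟨D.low P (hF hP), ?_⟩
    have h1 := hL P H 1 hP hH (by rw [map_one, one_smul]; exact D.low P (hF hP)) (by
      rw [map_one, one_smul]
      exact (IsLong.zl_le_S hc hH).trans ((hF hP).le.trans (le_normalizer_zl _ _)))
    rwa [map_one, one_smul] at h1
  | succ k ih =>
    intro w' hw' H hH
    -- (a) the last step
    have ha : zl (S : Subgroup G) H ≤ MulAut.conj w' • (S : Subgroup G) := by
      cases hw' with
      | @step _ _ w q R hw hR hq =>
        refine Y.pass hR hq (ih w hw H hH).1 fun p' hp' => ?_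
        exact comm_symm ((conj_Z_le hp').trans ((ih w hw H hH).2 R hR).2)
    refine ⟨ha, fun P hP => ?_⟩
    -- (b) the first step
    have hb : MulAut.conj w' • zl (S : Subgroup G) P ≤ o2 (CZ (S : Subgroup G)) := by
      obtain ⟨R, hR, q, hq, w, hw, rfl⟩ := Gal.head' hw'
      have hlong := D.loc R (hF hR)
      have h1 := (ih w hw _ hlong).2 P hP
      have h2 := le_o2_of_comm h1.1 hlong h1.2
      have h3 := (conj_le_iff (g := q)).2 h2
      rw [conj_conj, conj_eq_of_mem (le_normalizer_o2 _ ((le_sup_left : R ≤ R ⊔ CZ (S : Subgroup G)) hq))] at h3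
      exact h3.trans (hlong.o2_le S)
    -- (c) commute
    refine ⟨hb, hL P H w' hP hH hb (ha.trans ?_)⟩
    exact (conj_le_iff.2 (hF hP).le).trans (conj_le_normalizer (le_normalizer_zl _ _))

/-! ### (M): `U_H ≤ O₂(X)`, `[U_H, V*] = 1` -/

variable (hI : NoFF.Main.Inv (S : Subgroup G) (zc (S : Subgroup G)) N F) (hne : F.Nonempty)

omit hc D hL [Finite G] in
include hne in
theorem le_X : (S : Subgroup G) ≤ NoFF.Main.X N F := by
  obtain ⟨P, hP⟩ := hne
  exact (hF hP).le.trans (NoFF.Main.le_X hP)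

include hI in
theorem zl_le_conj {x : G} (hx : x ∈ NoFF.Main.X N F) {H : Subgroup G} (hH : IsLong (S : Subgroup G) H) :
    zl (S : Subgroup G) H ≤ MulAut.conj x • (S : Subgroup G) := by
  obtain ⟨k, u, hu, n, hn, rfl⟩ := NoFF.Main.exists_gal hI hx
  rw [← conj_conj, hI.nS n hn]
  exact (claim hc D hF hL k u hu H hH).1

include hI hne

/-- **(M)** `U_H ≤ O₂(X)`. -/
theorem zl_le_o2 {H : Subgroup G} (hH : IsLong (S : Subgroup G) H) :
    zl (S : Subgroup G) H ≤ o2 (NoFF.Main.X N F) :=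
  le_o2_of_conj S.isPGroup' (le_X hF hne) fun _ hx => zl_le_conj hc D hF hL hI hx hH

/-- `V* ≤ Q` -/
theorem A_le : NoFF.Main.A (zc (S : Subgroup G)) N F ≤ o2 (CZ (S : Subgroup G)) := by
  obtain ⟨P, hP⟩ := hne
  have h1 := NoFF.Main.conj_A_le (Z := zc (S : Subgroup G)) (g := 1) (B := o2 (CZ (S : Subgroup G))) hI
    fun k a ha => (conj_le_iff.2 (zc_le_zl _ P)).trans
      ((claim hc D hF hL k a ha _ (D.loc P (hF hP))).2 P hP).1
  rwa [map_one, one_smul] at h1

/-- **(M)** `[V*, U_H] = 1` -/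
theorem A_comm {H : Subgroup G} (hH : IsLong (S : Subgroup G) H) :
    NoFF.Main.A (zc (S : Subgroup G)) N F ≤ centralizer (zl (S : Subgroup G) H : Set G) := by
  obtain ⟨P, hP⟩ := hne
  have h1 := NoFF.Main.conj_A_le (Z := zc (S : Subgroup G)) (g := 1)
    (B := centralizer (zl (S : Subgroup G) H : Set G)) hI
    fun k a ha => (conj_le_iff.2 (zc_le_zl _ P)).trans ((claim hc D hF hL k a ha H hH).2 P hP).2
  rwa [map_one, one_smul] at h1

omit hc D hF hL hI hne [Finite G] in
/-- `V_P^w ≤ V*` for a gallery `w`. -/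
theorem line_le_A {P : Subgroup G} (hP : P ∈ F) {w : G} (hw : w ∈ NoFF.Main.X N F) :
    MulAut.conj w • zl (S : Subgroup G) P ≤ NoFF.Main.A (zc (S : Subgroup G)) N F := by
  refine NoFF.Basic.conj_V_le fun p hp => ?_
  exact Z_le_V ((NoFF.Main.X N F).mul_mem hw (NoFF.Main.le_X hP hp))

/-! ### `J = ⟨U_H : H long⟩` -/

omit hne in
theorem JC_le_conj {x : G} (hx : x ∈ NoFF.Main.X N F) :
    JC (S : Subgroup G) ≤ MulAut.conj x • (S : Subgroup G) :=
  JC_le fun _ hH => zl_le_conj hc D hF hL hI hx hH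

/-- `J ≤ O₂(X)` -/
theorem JC_le_o2 : JC (S : Subgroup G) ≤ o2 (NoFF.Main.X N F) :=
  JC_le fun _ hH => zl_le_o2 hc D hF hL hI hne hH

/-- `[V*, J] = 1` -/
theorem JC_comm : NoFF.Main.A (zc (S : Subgroup G)) N F ≤ centralizer (JC (S : Subgroup G) : Set G) :=
  comm_symm (JC_le fun _ hH => comm_symm (A_comm hc D hF hL hI hne hH))

/-- all `J^x`, `x ∈ X`, are in `O₂(X)` -/
theorem conj_JC_le {x : G} (hx : x ∈ NoFF.Main.X N F) :
    MulAut.conj x • JC (S : Subgroup G) ≤ o2 (NoFF.Main.X N F) := by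
  have h1 := (conj_le_iff (g := x)).2 (JC_le_o2 hc D hF hL hI hne)
  rwa [conj_eq_of_mem (le_normalizer_o2 _ hx)] at h1

/-- `J^x` normalises `(U_H)^y`, `x, y ∈ X`. -/
theorem JC_conj {x y : G} (hx : x ∈ NoFF.Main.X N F) (hy : y ∈ NoFF.Main.X N F) {H : Subgroup G}
    (hH : IsLong (S : Subgroup G) H) :
    MulAut.conj x • JC (S : Subgroup G) ≤
      normalizer ((MulAut.conj y • zl (S : Subgroup G) H : Subgroup G) : Set G) := by
  have h1 := (conj_JC_le hc D hF hL hI hne (NoFF.Main.X N F |>.mul_mem ((NoFF.Main.X N F).inv_mem hy) hx))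
  have h2 : o2 (NoFF.Main.X N F) ≤ (S : Subgroup G) :=
    MinSimple.VModule.o2_le_of_sylow S.isPGroup' (MinSimple.Basic.not_dvd_relIndex S (le_X hF hne))
  have h3 := (h1.trans h2).trans (hH.loc.le.trans (le_normalizer_zl (S : Subgroup G) H))
  have h4 := conj_le_normalizer (g := y) h3
  rwa [conj_conj, mul_inv_cancel_left] at h4

/-! ### `W⁺ = ⟨V*^C⟩` -/

/-- `W⁺ ≤ Q` -/
theorem WS_le : WS (S : Subgroup G) N F ≤ o2 (CZ (S : Subgroup G)) := by
  refine V_le fun c hcc => ?_
  have h1 := (conj_le_iff (g := c)).2 (A_le hc D hF hL hI hne)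
  rwa [conj_eq_of_mem (le_normalizer_o2 _ hcc)] at h1

/-- `W⁺` is abelian. -/
theorem WS_comm : WS (S : Subgroup G) N F ≤ centralizer (WS (S : Subgroup G) N F : Set G) := by
  refine NoFF.Main.comm_W (sysF hc D hF) hI fun c hcc => ?_
  refine (A_le hc D hF hL hI hne).trans ?_
  rw [← conj_eq_of_mem (le_normalizer_o2 (CZ (S : Subgroup G)) hcc)]
  exact conj_le_iff.2 (LinePlug.o2_CZ_le_S hc)

/-- `[W⁺, J] = 1` -/
theorem WS_JC : WS (S : Subgroup G) N F ≤ centralizer (JC (S : Subgroup G) : Set G) := by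
  refine V_le fun c hcc => ?_
  have h1 := conj_le_centralizer (g := c) (JC_comm hc D hF hL hI hne)
  rwa [conj_eq_of_mem (CZ_le_normalizer_JC _ hcc)] at h1

/-- `W⁺ ≤ O₂(H)` -/
theorem WS_le_o2 {H : Subgroup G} (hH : IsLong (S : Subgroup G) H) : WS (S : Subgroup G) N F ≤ o2 H :=
  le_o2_of_comm (WS_le hc D hF hL hI hne) hH
    (comm_mono (WS_JC hc D hF hL hI hne) le_rfl (zl_le_JC hH))

/-! ### `F_H⁺ = ⟨W⁺^H⟩` -/

/-- `F_H⁺ ≤ O₂(H)` -/
theorem FHS_le_o2 {H : Subgroup G} (hH : IsLong (S : Subgroup G) H) : FHS (S : Subgroup G) N F H ≤ o2 H := by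
  refine V_le fun x hx => ?_
  have h1 := (conj_le_iff (g := x)).2 (WS_le_o2 hc D hF hL hI hne hH)
  rwa [conj_eq_of_mem (le_normalizer_o2 _ hx)] at h1

/-- `F_H⁺` is abelian. -/
theorem FHS_comm {H : Subgroup G} (hH : IsLong (S : Subgroup G) H) :
    FHS (S : Subgroup G) N F H ≤ centralizer (FHS (S : Subgroup G) N F H : Set G) := by
  have key : ∀ x ∈ H, ∀ c ∈ CZ (S : Subgroup G), ∀ y ∈ H, ∀ d ∈ CZ (S : Subgroup G),
      MulAut.conj (x * c) • NoFF.Main.A (zc (S : Subgroup G)) N F ≤ MulAut.conj (y * d) • (S : Subgroup G) := by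
    intro x hx c hcc y hy d hd
    have h1 : MulAut.conj (x * c) • NoFF.Main.A (zc (S : Subgroup G)) N F ≤ o2 H := by
      rw [← conj_conj]
      refine (conj_le_iff.2 (Z_le_V (P := CZ (S : Subgroup G)) hcc)).trans ?_
      exact (Z_le_V (Z := WS (S : Subgroup G) N F) hx).trans (FHS_le_o2 hc D hF hL hI hne hH)
    refine h1.trans ?_
    rw [← conj_eq_of_mem (le_normalizer_o2 H (H.mul_mem hy (hH.cz hd)))]
    exact conj_le_iff.2 (hH.loc.o2_le S)
  refine V_le fun x hx => comm_symm (V_le fun y hy => comm_symm ?_)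
  refine NoFF.Basic.conj_V_le fun c hcc => comm_symm (NoFF.Basic.conj_V_le fun d hd => comm_symm ?_)
  exact NoFF.Main.comm_of_le (sysF hc D hF) hI (key x hx c hcc y hy d hd) (key y hy d hd x hx c hcc)

/-! ### (M') -/

/-- `V_P^w ≤ W⁺` -/
theorem conj_line_le_o2 {H P : Subgroup G} (hH : IsLong (S : Subgroup G) H) (hP : P ∈ F) {w : G}
    (hw : w ∈ NoFF.Main.X N F) : MulAut.conj w • zl (S : Subgroup G) P ≤ o2 H :=
  ((line_le_A hP hw).trans (A_le_WS _ _ _)).trans (WS_le_o2 hc D hF hL hI hne hH)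

/-- **The claim of (M')**: `E = (U_K)^h ≤ S`, `h ∈ H`. -/
theorem claim' {H K : Subgroup G} (hH : IsLong (S : Subgroup G) H) (hK : IsLong (S : Subgroup G) K) {h : G}
    (hh : h ∈ H) (hE : MulAut.conj h • zl (S : Subgroup G) K ≤ (S : Subgroup G)) :
    ∀ (k : ℕ) (w : G), Gal F k 1 w →
      MulAut.conj h • zl (S : Subgroup G) K ≤ MulAut.conj w • (S : Subgroup G) ∧
      ∀ P ∈ F, MulAut.conj w • zl (S : Subgroup G) P ≤
        centralizer ((MulAut.conj h • zl (S : Subgroup G) K : Subgroup G) : Set G) := by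
  have Y := sysF hc D hF
  have hmem : ∀ {k : ℕ} {w : G}, Gal F k 1 w → w ∈ NoFF.Main.X N F := fun hw => by
    have := NoFF.Main.gal_mem (N := N) hw
    rwa [inv_one, one_mul] at this
  have hcomm : ∀ w ∈ NoFF.Main.X N F, MulAut.conj h • zl (S : Subgroup G) K ≤ MulAut.conj w • (S : Subgroup G) →
      ∀ P ∈ F, MulAut.conj w • zl (S : Subgroup G) P ≤
        centralizer ((MulAut.conj h • zl (S : Subgroup G) K : Subgroup G) : Set G) := by
    intro w hw h1 P hP
    refine hL.conj hP hK ?_ ?_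
    · refine (conj_line_le_o2 hc D hF hL hI hne hH hP hw).trans ?_
      rw [← conj_eq_of_mem (le_normalizer_o2 H hh)]
      exact conj_le_iff.2 (hH.o2_le S)
    · exact h1.trans ((conj_le_iff.2 (hF hP).le).trans (conj_le_normalizer (le_normalizer_zl _ _)))
  intro k
  induction k with
  | zero =>
    intro w hw
    have h1 := hmem hw
    cases hw
    have h2 : MulAut.conj h • zl (S : Subgroup G) K ≤ MulAut.conj (1 : G) • (S : Subgroup G) := by
      rwa [map_one, one_smul]
    exact ⟨h2, hcomm 1 h1 h2⟩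
  | succ k ih =>
    intro w' hw'
    have h1 := hmem hw'
    have h2 : MulAut.conj h • zl (S : Subgroup G) K ≤ MulAut.conj w' • (S : Subgroup G) := by
      cases hw' with
      | @step _ _ w q R hw hR hq =>
        refine Y.pass hR hq (ih w hw).1 fun p' hp' => ?_
        exact comm_symm ((conj_Z_le hp').trans ((ih w hw).2 R hR))
    exact ⟨h2, hcomm w' h1 h2⟩

/-- **(M')** `E = (U_K)^h ≤ S`, `h ∈ H`: `E ≤ O₂(X)`. -/
theorem conj_zl_le_o2 {H K : Subgroup G} (hH : IsLong (S : Subgroup G) H) (hK : IsLong (S : Subgroup G) K) {h : G}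
    (hh : h ∈ H) (hE : MulAut.conj h • zl (S : Subgroup G) K ≤ (S : Subgroup G)) :
    MulAut.conj h • zl (S : Subgroup G) K ≤ o2 (NoFF.Main.X N F) := by
  refine le_o2_of_conj S.isPGroup' (le_X hF hne) fun x hx => ?_
  obtain ⟨k, u, hu, n, hn, rfl⟩ := NoFF.Main.exists_gal hI hx
  rw [← conj_conj, hI.nS n hn]
  exact (claim' hc D hF hL hI hne hH hK hh hE k u hu).1

/-- **(M')** `E = (U_K)^h ≤ S`, `h ∈ H`: `[V*, E] = 1`. -/
theorem conj_zl_comm {H K : Subgroup G} (hH : IsLong (S : Subgroup G) H) (hK : IsLong (S : Subgroup G) K) {h : G}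
    (hh : h ∈ H) (hE : MulAut.conj h • zl (S : Subgroup G) K ≤ (S : Subgroup G)) :
    NoFF.Main.A (zc (S : Subgroup G)) N F ≤
      centralizer ((MulAut.conj h • zl (S : Subgroup G) K : Subgroup G) : Set G) := by
  obtain ⟨P, hP⟩ := id hne
  have h1 := NoFF.Main.conj_A_le (Z := zc (S : Subgroup G)) (g := 1)
    (B := centralizer ((MulAut.conj h • zl (S : Subgroup G) K : Subgroup G) : Set G)) hI
    fun k a ha => (conj_le_iff.2 (zc_le_zl _ P)).trans
      ((claim' hc D hF hL hI hne hH hK hh hE k a ha).2 P hP)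
  rwa [map_one, one_smul] at h1

/-- **(M')** for every Sylow subgroup `S^c` of `C` which contains `E = (U_K)^h`, `h ∈ H`. -/
theorem conj_zl_of_conj {H K : Subgroup G} (hH : IsLong (S : Subgroup G) H) (hK : IsLong (S : Subgroup G) K)
    {h c : G} (hh : h ∈ H) (hcc : c ∈ CZ (S : Subgroup G))
    (hE : MulAut.conj h • zl (S : Subgroup G) K ≤ MulAut.conj c • (S : Subgroup G)) :
    MulAut.conj h • zl (S : Subgroup G) K ≤ MulAut.conj c • o2 (NoFF.Main.X N F) ∧
    MulAut.conj c • NoFF.Main.A (zc (S : Subgroup G)) N F ≤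
      centralizer ((MulAut.conj h • zl (S : Subgroup G) K : Subgroup G) : Set G) := by
  have hh' : c⁻¹ * h ∈ H := H.mul_mem (H.inv_mem (hH.cz hcc)) hh
  have hE' : MulAut.conj (c⁻¹ * h) • zl (S : Subgroup G) K ≤ (S : Subgroup G) := by
    have h1 := (conj_le_iff (g := c⁻¹)).2 hE
    rwa [conj_conj, conj_conj, inv_mul_cancel, map_one, one_smul] at h1
  have h1 := (conj_le_iff (g := c)).2 (conj_zl_le_o2 hc D hF hL hI hne hH hK hh' hE')
  have h2 := conj_le_centralizer (g := c) (conj_zl_comm hc D hF hL hI hne hH hK hh' hE')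
  rw [conj_conj, mul_inv_cancel_left] at h1 h2
  exact ⟨h1, h2⟩

omit hc D hF hI hne in
/-- `E = (U_K)^h`, `h ∈ H`, centralises every line in `O₂(H)` (of type `F`) which it normalises. -/
theorem line_comm {H K P : Subgroup G} (hH : IsLong (S : Subgroup G) H) (hK : IsLong (S : Subgroup G) K)
    (hP : P ∈ F) {h g : G} (hh : h ∈ H) (hg : MulAut.conj g • zl (S : Subgroup G) P ≤ o2 H)
    (hn : MulAut.conj h • zl (S : Subgroup G) K ≤
      normalizer ((MulAut.conj g • zl (S : Subgroup G) P : Subgroup G) : Set G)) :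
    MulAut.conj g • zl (S : Subgroup G) P ≤
      centralizer ((MulAut.conj h • zl (S : Subgroup G) K : Subgroup G) : Set G) := by
  refine hL.conj hP hK (hg.trans ?_) hn
  rw [← conj_eq_of_mem (le_normalizer_o2 H hh)]
  exact conj_le_iff.2 (hH.o2_le S)

/-- **(M')** `E = (U_K)^h`, `h ∈ H`, centralises every line on `Z` (of type `F`) which it normalises. -/
theorem line_comm' {H K P : Subgroup G} (hH : IsLong (S : Subgroup G) H) (hK : IsLong (S : Subgroup G) K)
    (hP : P ∈ F) {h c : G} (hh : h ∈ H) (hcc : c ∈ CZ (S : Subgroup G))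
    (hn : MulAut.conj h • zl (S : Subgroup G) K ≤
      normalizer ((MulAut.conj c • zl (S : Subgroup G) P : Subgroup G) : Set G)) :
    MulAut.conj c • zl (S : Subgroup G) P ≤
      centralizer ((MulAut.conj h • zl (S : Subgroup G) K : Subgroup G) : Set G) := by
  refine line_comm hL hH hK hP hh ?_ hn
  have h1 := (conj_le_iff (g := c)).2 (conj_line_le_o2 hc D hF hL hI hne hH hP (one_mem _))
  rw [map_one, one_smul, conj_eq_of_mem (le_normalizer_o2 H (hH.cz hcc))] at h1
  exact h1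

/-- `X` is local. -/
theorem isLoc_X (hXN : ∃ H, IsLong (S : Subgroup G) H) : IsLoc (S : Subgroup G) (NoFF.Main.X N F) := by
  obtain ⟨H, hH⟩ := hXN
  have hS : (S : Subgroup G) ≠ ⊥ := by
    intro h0
    exact hH.loc.o2_ne (le_bot_iff.mp (h0 ▸ hH.loc.o2_le S))
  have h1 : zl (S : Subgroup G) H ≠ ⊥ := fun h0 => by
    have h2 := zc_le_zl (S : Subgroup G) H
    rw [h0, le_bot_iff] at h2
    exact MinSimple.Basic.zc_ne_bot S.isPGroup' hS h2
  exact isLoc_of_le_normalizer S (le_X hF hne) (o2_isPGroup _)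
    (fun h0 => h1 (le_bot_iff.1 (h0 ▸ zl_le_o2 hc D hF hL hI hne hH))) (le_normalizer_o2 _)

end fin

/-! ### The lines of order 4, `|Z| = 2` -/

section four

variable [Finite G] {S : Sylow 2 G}

/-- the members of `P*(S)` with a line of order 4 -/
def PF (S : Subgroup G) : Set (Subgroup G) := {P | IsParS S P ∧ Nat.card (zl S P) = 4}

omit [Finite G] in
theorem PF_le (S : Subgroup G) : PF S ⊆ PS S := fun _ h => h.1

theorem nullF_PF (hc : IsCharacteristicTwoType G) (hZ : Nat.card (zc (S : Subgroup G)) = 2)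
    (hA : ¬ CaseA (S : Subgroup G)) : NullF (S : Subgroup G) (PF (S : Subgroup G)) :=
  nullF_of_four hc hZ hA (PF_le _) fun _ h => h.2

omit [Finite G] in
/-- `N_G(S)` permutes `PF S`. -/
theorem inv_PF (S : Sylow 2 G) :
    NoFF.Main.Inv (S : Subgroup G) (zc (S : Subgroup G)) (normalizer ((S : Subgroup G) : Set G))
      (PF (S : Subgroup G)) := by
  have h1 := FrameNOFF.inv S
  refine ⟨h1.nS, h1.nZ, fun n hn P hP => ⟨h1.nF n hn P hP.1, ?_⟩⟩
  have h2 : zl (S : Subgroup G) (MulAut.conj n • P) = MulAut.conj n • zl (S : Subgroup G) P := by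
    have key : ∀ m ∈ normalizer ((S : Subgroup G) : Set G), ∀ R : Subgroup G,
        zl (S : Subgroup G) (MulAut.conj m • R) ≤ MulAut.conj m • zl (S : Subgroup G) R := by
      intro m hm R
      refine zl_le ?_ ?_
      · rw [← h1.nZ m hm]
        exact conj_le_iff.2 (zc_le_zl _ _)
      · exact conj_le_normalizer (le_normalizer_zl _ _)
    refine le_antisymm (key n hn P) ?_
    have h3 := (conj_le_iff (g := n)).2 (key n⁻¹ (inv_mem hn) (MulAut.conj n • P))
    rwa [conj_conj, inv_mul_cancel, map_one, one_smul, conj_conj, mul_inv_cancel, map_one, one_smul] at h3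
  rw [h2, ← hP.2]
  exact (Nat.card_congr (Subgroup.equivSMul (MulAut.conj n) (zl (S : Subgroup G) P)).toEquiv).symm

/-- `N_G(S) ≤ C` if `|Z| = 2`. -/
theorem normalizer_le_CZ (hZ : Nat.card (zc (S : Subgroup G)) = 2) :
    normalizer ((S : Subgroup G) : Set G) ≤ CZ (S : Subgroup G) :=
  (MinSimple.VModule.normalizer_le_normalizer_zc _).trans (AdjTransv.norm_le_cent hZ)

end four

end Cfsg.Agent.Omega.NOThreeL.MutLine

end

section


/-!
# (TR) of bb #15808 (helper999): `V_P` is the only `T`-invariant fours group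

`X` acts on the `F_2`-space `M`, `T` is a Sylow 2-subgroup of `X` with `C_M(T) = {0, z}`, `{0, z, v, v + z}` is
`T`-invariant, some `g ∈ X` exchanges `z` and `v`, the elements of `gTg⁻¹` fixing `z` lie in `T`, and `X` induces
a transvection `u ↦ u + f(u) z` with `f(v) = 1` (`Sit X T z v`).

* `Sit.mem` : if `[w, T] ≤ {0, z}`, then `w ∈ {0, z, v, v + z}`;
* `Grp.mem`, `Grp.eq` : the same for an elementary abelian subgroup `V` of a group `G`.
-/

set_option autoImplicit false

namespace Cfsg.Agent.Omega.NOThreeL.TR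

open Cfsg.Agent.Omega.NOThreeL.ThmL

variable {X M : Type*} [Group X] [AddCommGroup M] [Module (ZMod 2) M] [DistribMulAction X M]

/-! ### Sylow -/

/-- a 2-subgroup normalised by a 2-subgroup of odd index lies in it -/
theorem le_of_odd {R : Type*} [Group R] {T A : Subgroup R} (hT : IsPGroup 2 T) (hi : ¬ 2 ∣ T.index)
    (hA : IsPGroup 2 A) (hn : T ≤ Subgroup.normalizer (A : Set R)) : A ≤ T := by
  have h1 : IsPGroup 2 (T ⊔ A : Subgroup R) := IsPGroup.to_sup_of_normal_right' hT hA hn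
  have h2 : T.relIndex (T ⊔ A) = 1 := by
    have hi0 : T.index ≠ 0 := fun h => hi (by rw [h]; exact dvd_zero 2)
    have h3 : T.relIndex (T ⊔ A) ∣ T.index := Subgroup.relIndex_dvd_index_of_le le_sup_left
    have h4 : T.relIndex (T ⊔ A) ≠ 0 := fun h => hi0 (by rw [h, zero_dvd_iff] at h3; exact h3)
    have : Fact (Nat.Prime 2) := ⟨Nat.prime_two⟩
    have : (T.subgroupOf (T ⊔ A)).FiniteIndex := ⟨h4⟩
    obtain ⟨n, hn⟩ := h1.index (T.subgroupOf (T ⊔ A))
    change (T.subgroupOf (T ⊔ A)).index = 1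
    rcases Nat.eq_zero_or_pos n with h | h
    · rw [hn, h, pow_zero]
    · exfalso
      apply hi
      refine dvd_trans ?_ h3
      change 2 ∣ (T.subgroupOf (T ⊔ A)).index
      rw [hn]
      exact dvd_pow_self 2 (by omega)
  exact le_sup_right.trans (Subgroup.relIndex_eq_one.mp h2)

theorem tr_add {f g : M →+ ZMod 2} {e : M} (hf : Tr X f e) (hg : Tr X g e) : Tr X (f + g) e := by
  obtain ⟨h1, x, hx⟩ := hf
  obtain ⟨h2, y, hy⟩ := hg
  refine ⟨by rw [AddMonoidHom.add_apply, h1, h2, add_zero], x * y, fun u => ?_⟩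
  rw [mul_smul, hy, smul_add, smul_zmod, hx, hx, h1, zero_smul, add_zero, AddMonoidHom.add_apply, add_smul,
    add_assoc]

theorem tr_conj {f : M →+ ZMod 2} {e : M} (hf : Tr X f e) (x : X) : Tr X (act x f) (x • e) :=
  smul_mem_Y (X := X) (f := f) (e := e) hf x

/-- A transvection with centre `v` induced by `X` is induced by every Sylow 2-subgroup fixing `v`. -/
theorem exists_mem {T : Subgroup X} (hT : IsPGroup 2 T) (hi : ¬ 2 ∣ T.index) {v : M}
    (hv : ∀ t ∈ T, t • v = v) {f : M →+ ZMod 2} (hf : Tr X f v) :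
    ∃ t ∈ T, ∀ u : M, t • u = u + f u • v := by
  let ρ : X →* Equiv.Perm M := MulAction.toPermHom X M
  let T' : Subgroup ρ.range := T.map ρ.rangeRestrict
  have hval : ∀ (x : X) (u : M), ((ρ.rangeRestrict x : ρ.range) : Equiv.Perm M) u = x • u := fun _ _ => rfl
  have hT' : IsPGroup 2 T' := hT.map ρ.rangeRestrict
  have hi' : ¬ 2 ∣ T'.index := fun h =>
    hi (h.trans (Subgroup.index_map_dvd T ρ.rangeRestrict_surjective))
  have sq : ∀ (φ : M →+ ZMod 2), φ v = 0 → ∀ u : M, φ (φ u • v) = 0 := by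
    intro φ h1 u
    rcases z2 (φ u) with h | h <;> simp [h, h1]
  have dbl : ∀ (φ : M →+ ZMod 2), φ v = 0 → ∀ u : M, (u + φ u • v) + φ (u + φ u • v) • v = u := by
    intro φ h1 u
    rw [map_add, sq φ h1 u, add_zero, add_assoc, ← add_smul, CharTwo.add_self_eq_zero, zero_smul, add_zero]
  let A : Subgroup ρ.range :=
    { carrier := {a | ∃ φ : M →+ ZMod 2, φ v = 0 ∧ ∀ u : M, (a : Equiv.Perm M) u = u + φ u • v}
      one_mem' := ⟨0, rfl, fun u => by simp⟩
      mul_mem' := by
        rintro a b ⟨φ, h1, ha⟩ ⟨ψ, h2, hb⟩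
        refine ⟨φ + ψ, by rw [AddMonoidHom.add_apply, h1, h2, add_zero], fun u => ?_⟩
        change (a : Equiv.Perm M) ((b : Equiv.Perm M) u) = _
        have h3 : φ (ψ u • v) = 0 := by
          rcases z2 (ψ u) with h | h <;> simp [h, h1]
        rw [hb, ha, map_add, h3, add_zero, AddMonoidHom.add_apply, add_smul]
        abel
      inv_mem' := by
        rintro a ⟨φ, h1, ha⟩
        refine ⟨φ, h1, fun u => ?_⟩
        change (a : Equiv.Perm M).symm u = _
        rw [Equiv.symm_apply_eq, ha, dbl φ h1 u] }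
  have hA : IsPGroup 2 A := by
    rintro ⟨a, φ, h1, ha⟩
    refine ⟨1, ?_⟩
    apply Subtype.ext
    apply Subtype.ext
    ext u
    change ((a : Equiv.Perm M) ^ (2 ^ 1)) u = u
    rw [pow_one, pow_two]
    change (a : Equiv.Perm M) ((a : Equiv.Perm M) u) = u
    rw [ha, ha, dbl φ h1 u]
  have key : ∀ t ∈ T', ∀ a ∈ A, t * a * t⁻¹ ∈ A := by
    rintro _ ⟨t, ht, rfl⟩ a ⟨φ, h1, ha⟩
    refine ⟨act t φ, ?_, fun u => ?_⟩
    · rw [act_apply]
      have h3 : t⁻¹ • v = v := by rw [inv_smul_eq_iff, hv t ht]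
      rw [h3, h1]
    · change t • ((a : Equiv.Perm M) (t⁻¹ • u)) = _
      rw [ha, smul_add, smul_inv_smul, smul_zmod, hv t ht]
      rfl
  have hn : T' ≤ Subgroup.normalizer (A : Set ρ.range) := by
    intro t ht
    rw [Subgroup.mem_normalizer_iff]
    refine fun a => ⟨key t ht a, fun h => ?_⟩
    have h1 := key t⁻¹ (inv_mem ht) _ h
    have h2 : t⁻¹ * (t * a * t⁻¹) * t⁻¹⁻¹ = a := by group
    rwa [h2] at h1
  have hle := le_of_odd hT' hi' hA hn
  obtain ⟨h0, x, hx⟩ := hf
  have hxA : ρ.rangeRestrict x ∈ A := ⟨f, h0, fun u => hx u⟩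
  obtain ⟨t, ht, htx⟩ := hle hxA
  refine ⟨t, ht, fun u => ?_⟩
  rw [← hx u, ← hval t u, htx]
  rfl

/-! ### The module form -/

/-- The hypotheses of (TR). -/
structure Sit (X : Type*) {M : Type*} [Group X] [AddCommGroup M] [Module (ZMod 2) M] [DistribMulAction X M]
    (T : Subgroup X) (z v : M) : Prop where
  T2 : IsPGroup 2 T
  odd : ¬ 2 ∣ T.index
  z0 : z ≠ 0
  vz : v ≠ z
  fz : ∀ t ∈ T, t • z = z
  fix : ∀ u : M, (∀ t ∈ T, t • u = u) → u = 0 ∨ u = z
  Tv : ∀ t ∈ T, t • v = v ∨ t • v = v + z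
  swap : ∃ g : X, g • z = v ∧ g • v = z ∧ ∀ t ∈ T, (g * t * g⁻¹) • z = z → g * t * g⁻¹ ∈ T
  tr : ∃ f : M →+ ZMod 2, Tr X f z ∧ f v = 1

namespace Sit

variable {T : Subgroup X} {z v : M} (D : Sit X T z v)
include D

/-- (i) -/
theorem step1 {f : M →+ ZMod 2} (hf : Tr X f v) (h0 : f z = 0) : Tr X f z := by
  obtain ⟨p, hp, hpv⟩ := D.tr
  obtain ⟨hfv, x, hx⟩ := hf
  have h1 : act x p = p + f := Data.smul_functional hfv hx hpv
  have h2 := tr_conj hp x
  have h3 : x • z = z := by rw [hx, h0, zero_smul, add_zero]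
  rw [h1, h3] at h2
  have h4 := tr_add hp h2
  have h5 : p + (p + f) = f := by
    ext u
    rw [AddMonoidHom.add_apply, AddMonoidHom.add_apply, ← add_assoc, CharTwo.add_self_eq_zero, zero_add]
  rwa [h5] at h4

/-- (ii) -/
theorem step2 {f : M →+ ZMod 2} (hf : Tr X f z) (h0 : f v = 0) : Tr X f v := by
  obtain ⟨g, hg1, hg2, -⟩ := D.swap
  have e1 : g⁻¹ • z = v := by rw [inv_smul_eq_iff, hg2]
  have e2 : g⁻¹ • v = z := by rw [inv_smul_eq_iff, hg1]
  have h1 := tr_conj hf g⁻¹
  rw [e1] at h1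
  have h2 := D.step1 h1 (by rw [act_apply, inv_inv, hg1, h0])
  have h3 := tr_conj h2 g
  rw [hg1] at h3
  have h4 : act g (act g⁻¹ f) = f := by ext u; simp
  rwa [h4] at h3

/-- a functional `f`, `f(z) = 0 = f(v)` of a transvection with centre `z` vanishes on every `T`-invariant
fours group on `z` -/
theorem step3 {f : M →+ ZMod 2} (hf : Tr X f z) (h0 : f v = 0) {w : M}
    (hw : ∀ t ∈ T, t • w = w ∨ t • w = w + z) : f w = 0 := by
  rcases z2 (f w) with h | h
  · exact h
  exfalso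
  have h1 := D.step2 hf h0
  obtain ⟨g, hg1, hg2, hgT⟩ := D.swap
  have e2 : g⁻¹ • v = z := by rw [inv_smul_eq_iff, hg1]
  -- the conjugate of `T`
  let T' : Subgroup X := T.map (MulAut.conj g).toMonoidHom
  have hT' : IsPGroup 2 T' := D.T2.map _
  have hi' : ¬ 2 ∣ T'.index := by
    have : T'.index = T.index := Subgroup.index_map_equiv T (MulAut.conj g)
    rw [this]
    exact D.odd
  have hv' : ∀ t ∈ T', t • v = v := by
    rintro _ ⟨t, ht, rfl⟩
    simp only [MulEquiv.coe_toMonoidHom, MulAut.conj_apply]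
    rw [mul_smul, mul_smul, e2, D.fz t ht, hg1]
  obtain ⟨_, ⟨t, ht, rfl⟩, hx⟩ := exists_mem hT' hi' hv' h1
  simp only [MulEquiv.coe_toMonoidHom, MulAut.conj_apply] at hx
  have h2 : (g * t * g⁻¹) • z = z := by rw [hx, hf.1, zero_smul, add_zero]
  have h3 := hgT t ht h2
  have h4 := hx w
  rw [h, one_smul] at h4
  rcases hw _ h3 with h5 | h5
  · rw [h4] at h5
    have h6 : v = 0 := by simpa using h5
    have h7 : g • z = 0 := by rw [hg1, h6]
    rw [smul_eq_zero_iff_eq] at h7
    exact D.z0 h7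
  · rw [h4] at h5
    exact D.vz (add_left_cancel h5)

theorem mem {w : M} (hw : ∀ t ∈ T, t • w = w ∨ t • w = w + z) : w = 0 ∨ w = z ∨ w = v ∨ w = v + z := by
  by_contra hcon
  have hw0 : w ≠ 0 := fun h => hcon (Or.inl h)
  have hwz : w ≠ z := fun h => hcon (Or.inr (Or.inl h))
  have hwv : w ≠ v := fun h => hcon (Or.inr (Or.inr (Or.inl h)))
  have hwvz : w ≠ v + z := fun h => hcon (Or.inr (Or.inr (Or.inr h)))
  have hzz : z + z = 0 := add_self z
  have hvv : v + v = 0 := add_self v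
  have ne : ∀ a : M, a + z ≠ a := fun a h => D.z0 (by simpa using h)
  -- an element of `T` which fixes `v` and moves `w`
  have hex : ∃ h ∈ T, h • v = v ∧ h • w = w + z := by
    by_contra hno
    push Not at hno
    have h1 : ∀ h ∈ T, h • v = v → h • w = w := fun h hh hv => (hw h hh).resolve_right (hno h hh hv)
    -- some element moves `v`, some element moves `w`
    have hmw : ∃ b ∈ T, b • w = w + z := by
      by_contra hno'
      push Not at hno'
      rcases D.fix w (fun t ht => (hw t ht).resolve_right (hno' t ht)) with h | h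
      · exact hw0 h
      · exact hwz h
    obtain ⟨b, hb, hbw⟩ := hmw
    have hbv : b • v = v + z := by
      rcases D.Tv b hb with h | h
      · exact absurd (h1 b hb h) (by rw [hbw]; exact ne w)
      · exact h
    have h2 : ∀ t ∈ T, t • (w + v) = w + v := by
      intro t ht
      rcases D.Tv t ht with h | h
      · rw [smul_add, h, h1 t ht h]
      · have h3 : (b * t) • v = v := by
          rw [mul_smul, h, smul_add, hbv, D.fz b hb, add_assoc, hzz, add_zero]
        have h4 := h1 _ (mul_mem hb ht) h3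
        rcases hw t ht with h5 | h5
        · rw [mul_smul, h5, hbw] at h4
          exact absurd h4 (ne w)
        · rw [smul_add, h, h5]
          have : w + z + (v + z) = w + v + (z + z) := by abel
          rw [this, hzz, add_zero]
    rcases D.fix _ h2 with h | h
    · apply hwv
      have : w = w + v + v := by rw [add_assoc, hvv, add_zero]
      rw [this, h, zero_add]
    · apply hwvz
      have : w = w + v + v := by rw [add_assoc, hvv, add_zero]
      rw [this, h, add_comm]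
  obtain ⟨h, hh, hhv, hhw⟩ := hex
  obtain ⟨g, hg1, hg2, -⟩ := D.swap
  have e1 : g⁻¹ • z = v := by rw [inv_smul_eq_iff, hg2]
  obtain ⟨p, hp, hpv⟩ := D.tr
  -- `p₁ ∈ F_v`, `p₁ z = 1`
  have h1 := tr_conj hp g
  rw [hg1] at h1
  have h2 : act g p z = 1 := by rw [act_apply, e1, hpv]
  set q := act g p with hq
  have h3 := tr_conj h1 h
  rw [hhv] at h3
  have h4 := tr_add h1 h3
  have i1 : h⁻¹ • z = z := by rw [inv_smul_eq_iff, D.fz h hh]
  have i2 : h⁻¹ • v = v := by rw [inv_smul_eq_iff, hhv]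
  have i3 : h⁻¹ • w = w + z := by
    rw [inv_smul_eq_iff, smul_add, hhw, D.fz h hh, add_assoc, hzz, add_zero]
  have h5 : (q + act h q) z = 0 := by
    rw [AddMonoidHom.add_apply, act_apply h, i1, CharTwo.add_self_eq_zero]
  have h6 : (q + act h q) v = 0 := by
    rw [AddMonoidHom.add_apply, act_apply h, i2, CharTwo.add_self_eq_zero]
  have h7 := D.step3 (D.step1 h4 h5) h6 hw
  rw [AddMonoidHom.add_apply, act_apply h, i3, map_add, h2, ← add_assoc, CharTwo.add_self_eq_zero, zero_add] at h7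
  exact absurd h7 (by decide)

end Sit

/-! ### The group form -/

open Subgroup

variable {G : Type*} [Group G]

/-- The hypotheses of (TR) inside a group `G`: `V` is elementary abelian, normalised by `Y`, `S` is a Sylow
2-subgroup of `Y`. -/
structure Grp (z v : G) (V Y S : Subgroup G) : Prop where
  zV : z ∈ V
  vV : v ∈ V
  sq : ∀ u ∈ V, u * u = 1
  nV : ∀ y ∈ Y, ∀ u ∈ V, y * u * y⁻¹ ∈ V
  SY : S ≤ Y
  S2 : IsPGroup 2 S
  odd : ¬ 2 ∣ S.relIndex Y
  z1 : z ≠ 1
  vz : v ≠ z
  cS : ∀ s ∈ S, s * z = z * s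
  fix : ∀ u ∈ V, (∀ s ∈ S, s * u * s⁻¹ = u) → u = 1 ∨ u = z
  Sv : ∀ s ∈ S, s * v * s⁻¹ = v ∨ s * v * s⁻¹ = v * z
  swap : ∃ g ∈ Y, g * z * g⁻¹ = v ∧ g * v * g⁻¹ = z ∧
    ∀ s ∈ S, g * s * g⁻¹ * z = z * (g * s * g⁻¹) → g * s * g⁻¹ ∈ S
  tr : ∃ t ∈ Y, t * v * t⁻¹ ≠ v ∧ ∀ u ∈ V, t * u * t⁻¹ = u ∨ t * u * t⁻¹ = u * z

namespace Grp

variable {z v : G} {V Y S : Subgroup G}

/-- **(TR), group form.** -/
theorem mem (D : Grp z v V Y S) {w : G} (hwV : w ∈ V)
    (hw : ∀ s ∈ S, s * w * s⁻¹ = w ∨ s * w * s⁻¹ = w * z) : w = 1 ∨ w = z ∨ w = v ∨ w = v * z := by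
  classical
  have comm : ∀ {u w : G}, u ∈ V → w ∈ V → u * w = w * u := fun hu hw =>
    AdjTransv.eq_of_sq (D.sq _ hu) (D.sq _ hw) (D.sq _ (mul_mem hu hw))
  -- the module
  let i0 : CommGroup V :=
    { (inferInstance : Group V) with
      mul_comm := fun a b => Subtype.ext (comm a.2 b.2) }
  let M := Additive V
  let i1 : AddCommGroup M := inferInstanceAs (AddCommGroup (Additive V))
  let i2 : Module (ZMod 2) M := AddCommGroup.zmodModule (n := 2) fun a => by
    rw [two_nsmul]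
    exact Subtype.ext (D.sq _ (Additive.toMul a).2)
  let i3 : DistribMulAction Y M :=
    { smul := fun x a => Additive.ofMul ⟨(x : G) * (Additive.toMul a : V) * (x : G)⁻¹,
        D.nV x x.2 _ (Additive.toMul a : V).2⟩
      one_smul := fun a => Subtype.ext (by
        change (1 : G) * ((Additive.toMul a : V) : G) * (1 : G)⁻¹ = ((Additive.toMul a : V) : G)
        rw [one_mul, inv_one, mul_one])
      mul_smul := fun a b c => Subtype.ext (by
        change ((a : G) * b) * ((Additive.toMul c : V) : G) * ((a : G) * b)⁻¹ =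
          (a : G) * ((b : G) * ((Additive.toMul c : V) : G) * (b : G)⁻¹) * (a : G)⁻¹
        rw [mul_inv_rev]; simp only [mul_assoc])
      smul_zero := fun a => Subtype.ext (by
        change (a : G) * 1 * (a : G)⁻¹ = 1
        rw [mul_one, mul_inv_cancel])
      smul_add := fun a b c => Subtype.ext (by
        change (a : G) * (((Additive.toMul b : V) : G) * ((Additive.toMul c : V) : G)) * (a : G)⁻¹ =
          ((a : G) * ((Additive.toMul b : V) : G) * (a : G)⁻¹) * ((a : G) * ((Additive.toMul c : V) : G) * (a : G)⁻¹)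
        group) }
  -- coercion to `G`
  let co : M → G := fun a => ((Additive.toMul a : V) : G)
  have co_inj : ∀ {a b : M}, co a = co b → a = b := fun h => Subtype.ext h
  have co_mem : ∀ a : M, co a ∈ V := fun a => (Additive.toMul a : V).2
  have co_add : ∀ a b : M, co (a + b) = co a * co b := fun a b => rfl
  have co_zero : co 0 = 1 := rfl
  have co_smul : ∀ (x : Y) (a : M), co (x • a) = (x : G) * co a * (x : G)⁻¹ := fun x a => rfl
  let mk : ∀ u : G, u ∈ V → M := fun u hu => Additive.ofMul ⟨u, hu⟩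
  have co_mk : ∀ (u : G) (hu : u ∈ V), co (mk u hu) = u := fun u hu => rfl
  let c : M := mk z D.zV
  let d : M := mk v D.vV
  obtain ⟨t, htY, htv, ht⟩ := D.tr
  have hzz : z * z = 1 := D.sq z D.zV
  have hne : ∀ w : G, w * z ≠ w := fun w h => D.z1 (by simpa using h)
  have htz : t * z * t⁻¹ = z := by
    rcases ht z D.zV with h | h
    · exact h
    · rw [hzz, conj_eq_one_iff] at h
      exact absurd h D.z1
  let f : M →+ ZMod 2 :=
    { toFun := fun a => if t * co a * t⁻¹ = co a then 0 else 1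
      map_zero' := by
        rw [if_pos]
        rw [co_zero, mul_one, mul_inv_cancel]
      map_add' := fun a b => by
        have e1 : t * co (a + b) * t⁻¹ = (t * co a * t⁻¹) * (t * co b * t⁻¹) := by rw [co_add]; group
        rcases ht _ (co_mem a) with ha | ha <;> rcases ht _ (co_mem b) with hb | hb
        · have h3 : t * co (a + b) * t⁻¹ = co (a + b) := by rw [e1, ha, hb, co_add]
          rw [if_pos h3, if_pos ha, if_pos hb, add_zero]
        · have h3 : ¬ t * co (a + b) * t⁻¹ = co (a + b) := by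
            rw [e1, ha, hb, ← mul_assoc, ← co_add]
            exact hne _
          have hb' : ¬ t * co b * t⁻¹ = co b := by rw [hb]; exact hne _
          rw [if_neg h3, if_pos ha, if_neg hb', zero_add]
        · have h3 : ¬ t * co (a + b) * t⁻¹ = co (a + b) := by
            rw [e1, ha, hb, mul_assoc, comm D.zV (co_mem b), ← mul_assoc, ← co_add]
            exact hne _
          have ha' : ¬ t * co a * t⁻¹ = co a := by rw [ha]; exact hne _
          rw [if_neg h3, if_neg ha', if_pos hb, add_zero]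
        · have h3 : t * co (a + b) * t⁻¹ = co (a + b) := by
            rw [e1, ha, hb, mul_assoc, ← mul_assoc z, comm D.zV (co_mem b), mul_assoc, hzz, mul_one, co_add]
          have ha' : ¬ t * co a * t⁻¹ = co a := by rw [ha]; exact hne _
          have hb' : ¬ t * co b * t⁻¹ = co b := by rw [hb]; exact hne _
          rw [if_pos h3, if_neg ha', if_neg hb']
          decide }
  have hf0 : ∀ a : M, f a = 0 ↔ t * co a * t⁻¹ = co a := by
    intro a
    change (if t * co a * t⁻¹ = co a then (0 : ZMod 2) else 1) = 0 ↔ _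
    constructor
    · intro h
      by_contra h1
      rw [if_neg h1] at h
      exact absurd h (by decide)
    · intro h
      rw [if_pos h]
  have cof : ∀ {a b : M}, a = b → co a = co b := fun h => congrArg co h
  have hSit : Sit Y (S.subgroupOf Y) c d := by
    refine ⟨D.S2.comap_subtype, D.odd, fun h => D.z1 (cof h), fun h => D.vz (cof h), ?_, ?_, ?_, ?_, ?_⟩
    · intro s hs
      apply co_inj
      rw [co_smul, mul_inv_eq_iff_eq_mul]
      exact D.cS s hs
    · intro u hu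
      rcases D.fix (co u) (co_mem u) (fun s hs => by
        have h1 := cof (hu ⟨s, D.SY hs⟩ hs)
        rwa [co_smul] at h1) with h | h
      · exact Or.inl (co_inj h)
      · exact Or.inr (co_inj h)
    · intro s hs
      rcases D.Sv s hs with h | h
      · exact Or.inl (co_inj h)
      · exact Or.inr (co_inj h)
    · obtain ⟨g, hgY, hg1, hg2, hg3⟩ := D.swap
      refine ⟨⟨g, hgY⟩, co_inj hg1, co_inj hg2, fun s hs h => ?_⟩
      have h1 := cof h
      rw [co_smul, mul_inv_eq_iff_eq_mul] at h1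
      exact hg3 s hs h1
    · refine ⟨f, ⟨(hf0 c).2 htz, ⟨t, htY⟩, fun u => ?_⟩, ?_⟩
      · apply co_inj
        rw [co_smul]
        change t * co u * t⁻¹ = _
        rcases z2 (f u) with h | h
        · rw [h, zero_smul, add_zero, (hf0 u).1 h]
        · rw [h, one_smul, co_add]
          rcases ht _ (co_mem u) with h1 | h1
          · rw [(hf0 u).2 h1] at h
            exact absurd h (by decide)
          · exact h1
      · rcases z2 (f d) with h | h
        · exact absurd ((hf0 d).1 h) htv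
        · exact h
  have hmem := hSit.mem (w := mk w hwV) (fun s hs => by
    rcases hw s hs with h | h
    · exact Or.inl (co_inj h)
    · exact Or.inr (co_inj h))
  rcases hmem with h | h | h | h
  · exact Or.inl (cof h)
  · exact Or.inr (Or.inl (cof h))
  · exact Or.inr (Or.inr (Or.inl (cof h)))
  · exact Or.inr (Or.inr (Or.inr (cof h)))

/-- an `S`-invariant group of order at most 4 contains with `w` only `w`, `w z` -/
theorem of_card [Finite G] (D : Grp z v V Y S) {E : Subgroup G} (hEV : E ≤ V) (hc : Nat.card E ≤ 4)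
    (hE1 : E ≠ ⊥) (hn : S ≤ normalizer (E : Set G)) :
    z ∈ E ∧ ∀ w ∈ E, ∀ s ∈ S, s * w * s⁻¹ = w ∨ s * w * s⁻¹ = w * z := by
  classical
  have hn' : ∀ s ∈ S, ∀ n ∈ E, s * n * s⁻¹ ∈ E := fun s hs n hn1 => (mem_normalizer_iff.mp (hn hs) n).mp hn1
  obtain ⟨n, hnE, hn1, hnS⟩ := AdjTransv.exists_fixed D.S2 hE1 (fun n hn => D.sq n (hEV hn)) hn'
  have hzE : z ∈ E := by
    rcases D.fix n (hEV hnE) hnS with h | h
    · exact absurd h hn1
    · rwa [h] at hnE
  refine ⟨hzE, fun w hw s hs => ?_⟩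
  by_contra hcon
  push Not at hcon
  obtain ⟨h1, h2⟩ := hcon
  set w' := s * w * s⁻¹ with hw'
  have hw'E : w' ∈ E := hn' s hs w hw
  have hzz : z * z = 1 := D.sq z D.zV
  have hww : w * w = 1 := D.sq w (hEV hw)
  have hw1 : w ≠ 1 := by
    rintro rfl
    apply h1
    rw [hw', mul_one, mul_inv_cancel]
  have hwz : w ≠ z := by
    rintro rfl
    apply h1
    rw [hw', D.cS s hs, mul_inv_cancel_right]
  have hw'1 : w' ≠ 1 := fun h => hw1 (conj_eq_one_iff.mp (hw'.symm.trans h))
  have hw'z : w' ≠ z := by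
    intro h
    apply hwz
    have h3 : s * w * s⁻¹ = s * z * s⁻¹ := by rw [← hw', h, D.cS s hs, mul_inv_cancel_right]
    exact mul_left_cancel (mul_right_cancel h3)
  have hwz1 : w * z ≠ 1 := fun h => hwz (by
    calc w = w * (z * z) := by rw [hzz, mul_one]
      _ = z := by rw [← mul_assoc, h, one_mul])
  have hwzz : w * z ≠ z := fun h => hw1 (by simpa using h)
  have hwzw : w * z ≠ w := fun h => D.z1 (by simpa using h)
  have hsub : ((({1, z, w, w * z, w'} : Finset G)) : Set G) ⊆ (E : Set G) := by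
    intro x hx
    simp only [Finset.coe_insert, Finset.coe_singleton, Set.mem_insert_iff, Set.mem_singleton_iff] at hx
    rcases hx with rfl | rfl | rfl | rfl | rfl
    · exact E.one_mem
    · exact hzE
    · exact hw
    · exact mul_mem hw hzE
    · exact hw'E
  have h5 := Set.ncard_le_ncard hsub (Set.toFinite _)
  rw [Set.ncard_coe_finset] at h5
  have h6 : ({1, z, w, w * z, w'} : Finset G).card = 5 := by
    rw [Finset.card_insert_of_notMem, Finset.card_insert_of_notMem, Finset.card_insert_of_notMem,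
      Finset.card_insert_of_notMem, Finset.card_singleton]
    · rw [Finset.mem_singleton]; exact Ne.symm h2
    · simp only [Finset.mem_insert, Finset.mem_singleton, not_or]
      exact ⟨hwzw.symm, Ne.symm h1⟩
    · simp only [Finset.mem_insert, Finset.mem_singleton, not_or]
      exact ⟨hwz.symm, hwzz.symm, hw'z.symm⟩
    · simp only [Finset.mem_insert, Finset.mem_singleton, not_or]
      exact ⟨D.z1.symm, hw1.symm, hwz1.symm, hw'1.symm⟩
  rw [h6] at h5
  have h7 : (E : Set G).ncard = Nat.card E := rfl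
  omega

/-- **(TR), group form**: `V_P = {1, z, v, v z}` is the only `S`-invariant fours group of `V`. -/
theorem eq [Finite G] (D : Grp z v V Y S) {E F : Subgroup G} (hE : E ≤ V) (hEc : Nat.card E = 4)
    (hEn : S ≤ normalizer (E : Set G)) (hF : F ≤ V) (hFc : Nat.card F = 4)
    (hFn : S ≤ normalizer (F : Set G)) : E = F := by
  classical
  have ne : ∀ {A : Subgroup G}, Nat.card A = 4 → A ≠ ⊥ := fun h h1 => by
    rw [h1, card_bot] at h; omega
  have key : ∀ {A : Subgroup G}, A ≤ V → Nat.card A = 4 → S ≤ normalizer (A : Set G) →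
      (A : Set G) = {1, z, v, v * z} := by
    intro A hA hAc hAn
    obtain ⟨-, h2⟩ := D.of_card hA hAc.le (ne hAc) hAn
    have hsub : (A : Set G) ⊆ ((({1, z, v, v * z} : Finset G)) : Set G) := by
      intro w hw
      simp only [Finset.coe_insert, Finset.coe_singleton, Set.mem_insert_iff, Set.mem_singleton_iff]
      exact D.mem (hA hw) (h2 w hw)
    have h3 : (({1, z, v, v * z} : Finset G) : Set G).ncard ≤ (A : Set G).ncard := by
      rw [Set.ncard_coe_finset]
      have h4 : (A : Set G).ncard = Nat.card A := rfl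
      rw [h4, hAc]
      exact Finset.card_le_four
    have h4 := Set.eq_of_subset_of_ncard_le hsub h3 (Set.toFinite _)
    rw [h4]
    simp
  exact SetLike.coe_injective ((key hE hEc hEn).trans (key hF hFc hFn).symm)

end Grp

end Cfsg.Agent.Omega.NOThreeL.TR

end

section


/-!
# (TR) of bb #15808 in the frame

`S : Sylow 2 G`, `Ω₁(Z(S)) = ⟨z⟩`, `P ∈ P*(S)` with `|V_P| = 4`, `V` elementary abelian, normalised by `Y ≥ P`, and some
`t ∈ Y` acts on `V` as a transvection with centre `z` and does not centralise `V_P`.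

* `eq_zl` : `V_P` is the only `S`-invariant four-group of `V`;
* `zl_le_zl` : `V_P ≤ V_{P'}` for every `P' ∈ P*(S)` with `V_{P'} ≤ V`.
-/

set_option autoImplicit false

namespace Cfsg.Agent.Omega.NOThreeL.TRPlug

open Subgroup Cfsg Cfsg.Agent.ZN Cfsg.Agent.Omega.MinPar
open Cfsg.Agent.MinSimple.VModule (mem_zc zc_le zc_sq zc_comm le_centralizer_zc zc_le_zl zl_le
  le_normalizer_zl normalizer_le_normalizer_zc le_normalizer_o2 o2_isPGroup)
open Cfsg.Agent.Omega.NOThreeL.FourLine (mem_zpowers_iff)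

universe u

variable {G : Type u} [Group G] [Finite G]

/-- a group of order four is `{1, z, v, v z}` -/
theorem mem_of_card {F : Subgroup G} (hc : Nat.card F = 4) {z v : G} (hz : z ∈ F) (hv : v ∈ F)
    (hsq : ∀ x ∈ F, x * x = 1) (z1 : z ≠ 1) (v1 : v ≠ 1) (hvz : v ≠ z) {x : G} (hx : x ∈ F) :
    x = 1 ∨ x = z ∨ x = v ∨ x = v * z := by
  classical
  have hzz := hsq z hz
  have hvz1 : v * z ≠ 1 := fun h => hvz (by
    calc v = v * (z * z) := by rw [hzz, mul_one]
      _ = z := by rw [← mul_assoc, h, one_mul])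
  have hvzz : v * z ≠ z := fun h => v1 (by simpa using h)
  have hvzv : v * z ≠ v := fun h => z1 (by simpa using h)
  have hsub : ((({1, z, v, v * z} : Finset G)) : Set G) ⊆ (F : Set G) := by
    intro y hy
    simp only [Finset.coe_insert, Finset.coe_singleton, Set.mem_insert_iff, Set.mem_singleton_iff] at hy
    rcases hy with rfl | rfl | rfl | rfl
    · exact F.one_mem
    · exact hz
    · exact hv
    · exact mul_mem hv hz
  have h6 : ({1, z, v, v * z} : Finset G).card = 4 := by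
    rw [Finset.card_insert_of_notMem, Finset.card_insert_of_notMem, Finset.card_insert_of_notMem,
      Finset.card_singleton]
    · rw [Finset.mem_singleton]; exact hvzv.symm
    · simp only [Finset.mem_insert, Finset.mem_singleton, not_or]
      exact ⟨hvz.symm, hvzz.symm⟩
    · simp only [Finset.mem_insert, Finset.mem_singleton, not_or]
      exact ⟨z1.symm, v1.symm, hvz1.symm⟩
  have h7 : (F : Set G).ncard = Nat.card F := rfl
  have h8 := Set.eq_of_subset_of_ncard_le hsub (by rw [Set.ncard_coe_finset, h6, h7, hc]) (Set.toFinite _)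
  have h9 : x ∈ (F : Set G) := hx
  rw [← h8] at h9
  simpa using h9

variable {S : Sylow 2 G} {z : G} {P : Subgroup G}

/-- `P ∈ P*(S)`, `|V_P| = 4`: `P` exchanges `z` and `v`, and the elements of `S^g` centralising `z` lie in `S`. -/
theorem exists_swap (hG : IsCharacteristicTwoType G) (hz : zc (S : Subgroup G) = zpowers z) (hz1 : z ≠ 1)
    (hP : IsParS (S : Subgroup G) P) (hc : Nat.card (zl (S : Subgroup G) P) = 4)
    (hsq : ∀ x ∈ zl (S : Subgroup G) P, x * x = 1) {v : G} (hv : v ∈ zl (S : Subgroup G) P) (hv1 : v ≠ 1)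
    (hvz : v ≠ z) : ∃ g ∈ P, g * z * g⁻¹ = v ∧ g * v * g⁻¹ = z ∧
      ∀ s ∈ (S : Subgroup G), g * s * g⁻¹ * z = z * (g * s * g⁻¹) → g * s * g⁻¹ ∈ (S : Subgroup G) := by
  have hzc : z ∈ zc (S : Subgroup G) := by rw [hz]; exact mem_zpowers z
  have hzF : z ∈ zl (S : Subgroup G) P := zc_le_zl _ _ hzc
  have hzz : z * z = 1 := hsq z hzF
  have hvv : v * v = 1 := hsq v hv
  have hcomm : ∀ {x y : G}, x ∈ zl (S : Subgroup G) P → y ∈ zl (S : Subgroup G) P → x * y = y * x :=
    fun hx hy => AdjTransv.eq_of_sq (hsq _ hx) (hsq _ hy) (hsq _ (mul_mem hx hy))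
  have hcs : ∀ {x : G}, x ∈ zl (S : Subgroup G) P → x = 1 ∨ x = z ∨ x = v ∨ x = v * z :=
    fun hx => mem_of_card hc hzF hv hsq hz1 hv1 hvz hx
  have hnF : ∀ g ∈ P, ∀ x ∈ zl (S : Subgroup G) P, g * x * g⁻¹ ∈ zl (S : Subgroup G) P :=
    fun g hg x hx => (mem_normalizer_iff.mp (le_normalizer_zl (S : Subgroup G) P hg) x).mp hx
  have hSz : ∀ s ∈ (S : Subgroup G), s * z = z * s := fun s hs => (mem_zc.mp hzc).2.1 s hs
  -- `S` moves `v`
  obtain ⟨s, hs, hsv⟩ : ∃ s ∈ (S : Subgroup G), s * v * s⁻¹ = v * z := by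
    by_contra hcon
    push Not at hcon
    have h1 : v ∈ zc (S : Subgroup G) := by
      rw [mem_zc]
      refine ⟨?_, fun s hs => ?_, by rw [pow_two, hvv]⟩
      · exact zc_le _ (hP.isLoc.zl_le S hG hv) |> fun h => hP.isLoc.o2_le S h
      · rcases hcs (hnF s (hP.le hs) v hv) with h | h | h | h
        · exact absurd (conj_eq_one_iff.mp h) hv1
        · exfalso
          apply hvz
          have h3 : s * v * s⁻¹ = s * z * s⁻¹ := by rw [h, hSz s hs, mul_inv_cancel_right]
          exact mul_left_cancel (mul_right_cancel h3)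
        · rwa [mul_inv_eq_iff_eq_mul] at h
        · exact absurd h (hcon s hs)
    rw [hz, mem_zpowers_iff hzz] at h1
    rcases h1 with h1 | h1
    · exact hv1 h1
    · exact hvz h1
  have hsP : s ∈ P := hP.le hs
  have hsz : s * z * s⁻¹ = z := by rw [hSz s hs, mul_inv_cancel_right]
  -- `P` moves `z`
  obtain ⟨a, ha, haz⟩ : ∃ a ∈ P, a * z * a⁻¹ ≠ z := by
    by_contra hcon
    push Not at hcon
    apply hP.not_zc
    intro a ha
    rw [hz, mem_normalizer_iff]
    have key : ∀ a ∈ P, ∀ x ∈ zpowers z, a * x * a⁻¹ ∈ zpowers z := by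
      intro a ha x hx
      rcases (mem_zpowers_iff hzz).mp hx with rfl | rfl
      · rw [mul_one, mul_inv_cancel]; exact one_mem _
      · rw [hcon a ha]; exact hx
    refine fun x => ⟨key a ha x, fun h => ?_⟩
    have h1 := key a⁻¹ (inv_mem ha) _ h
    have h2 : a⁻¹ * (a * x * a⁻¹) * a⁻¹⁻¹ = x := by group
    rwa [h2] at h1
  -- `z ↦ v`
  obtain ⟨b, hb, hbz⟩ : ∃ b ∈ P, b * z * b⁻¹ = v := by
    rcases hcs (hnF a ha z hzF) with h | h | h | h
    · exact absurd (conj_eq_one_iff.mp h) hz1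
    · exact absurd h haz
    · exact ⟨a, ha, h⟩
    · refine ⟨s * a, mul_mem hsP ha, ?_⟩
      calc s * a * z * (s * a)⁻¹ = s * (a * z * a⁻¹) * s⁻¹ := by group
        _ = (s * v * s⁻¹) * (s * z * s⁻¹) := by rw [h]; group
        _ = v := by rw [hsv, hsz, mul_assoc, hzz, mul_one]
  -- `z ↔ v`
  obtain ⟨g, hg, hg1, hg2⟩ : ∃ g ∈ P, g * z * g⁻¹ = v ∧ g * v * g⁻¹ = z := by
    rcases hcs (hnF b hb v hv) with h | h | h | h
    · exact absurd (conj_eq_one_iff.mp h) hv1
    · exact ⟨b, hb, hbz, h⟩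
    · exfalso
      apply hvz
      have h3 : b * v * b⁻¹ = b * z * b⁻¹ := by rw [h, hbz]
      exact mul_left_cancel (mul_right_cancel h3)
    · refine ⟨b * s, mul_mem hb hsP, ?_, ?_⟩
      · calc b * s * z * (b * s)⁻¹ = b * (s * z * s⁻¹) * b⁻¹ := by group
          _ = v := by rw [hsz, hbz]
      · calc b * s * v * (b * s)⁻¹ = b * (s * v * s⁻¹) * b⁻¹ := by group
          _ = (b * v * b⁻¹) * (b * z * b⁻¹) := by rw [hsv]; group
          _ = z := by rw [h, hbz, hcomm hv hzF, mul_assoc, hvv, mul_one]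
  refine ⟨g, hg, hg1, hg2, fun s hs h => ?_⟩
  have h1 : s ∈ centralizer (zl (S : Subgroup G) P : Set G) := by
    rw [mem_centralizer_iff]
    have h2 : s * z = z * s := hSz s hs
    have h3 : s * v = v * s := by
      have h4 : g⁻¹ * (g * s * g⁻¹ * z) * g = g⁻¹ * (z * (g * s * g⁻¹)) * g := by rw [h]
      have h5 : g⁻¹ * z * g = v := by rw [← hg2]; group
      calc s * v = g⁻¹ * (g * s * g⁻¹ * z) * g := by rw [← h5]; group
        _ = v * s := by rw [h4, ← h5]; group
    intro x hx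
    rcases hcs hx with rfl | rfl | rfl | rfl
    · rw [one_mul, mul_one]
    · exact h2.symm
    · exact h3.symm
    · rw [mul_assoc, ← h2, ← mul_assoc, ← h3, mul_assoc]
  have h2 : s ∈ o2 P := by
    rw [← hP.inf_centralizer S hG]
    exact ⟨hs, h1⟩
  exact hP.isLoc.o2_le S ((mem_normalizer_iff.mp (le_normalizer_o2 P hg) s).mp h2)

/-- The data of (TR) in the frame. -/
structure Dat (S : Sylow 2 G) (z : G) (P V Y : Subgroup G) : Prop where
  hz : zc (S : Subgroup G) = zpowers z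
  z1 : z ≠ 1
  par : IsParS (S : Subgroup G) P
  card : Nat.card (zl (S : Subgroup G) P) = 4
  SY : (S : Subgroup G) ≤ Y
  PY : P ≤ Y
  nV : Y ≤ normalizer (V : Set G)
  sq : ∀ u ∈ V, u * u = 1
  zV : z ∈ V
  tr : ∃ t ∈ Y, (¬ ∀ u ∈ zl (S : Subgroup G) P, t * u = u * t) ∧
    ∀ u ∈ V, t * u * t⁻¹ = u ∨ t * u * t⁻¹ = u * z

namespace Dat

variable {V Y : Subgroup G}

omit [Finite G] in
theorem zl_le_V (D : Dat S z P V Y) : zl (S : Subgroup G) P ≤ V :=
  zl_le (by rw [D.hz, zpowers_le]; exact D.zV) (D.PY.trans D.nV)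

theorem exists_grp (D : Dat S z P V Y) (hG : IsCharacteristicTwoType G) :
    ∃ v ∈ zl (S : Subgroup G) P, TR.Grp z v V Y (S : Subgroup G) := by
  obtain ⟨t, htY, htv, ht⟩ := D.tr
  push Not at htv
  obtain ⟨v, hv, htv⟩ := htv
  have hzc : z ∈ zc (S : Subgroup G) := by rw [D.hz]; exact mem_zpowers z
  have hSz : ∀ s ∈ (S : Subgroup G), s * z = z * s := fun s hs => (mem_zc.mp hzc).2.1 s hs
  have hzz : z * z = 1 := D.sq z D.zV
  have hv1 : v ≠ 1 := by
    rintro rfl
    exact htv (by rw [mul_one, one_mul])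
  have htz : t * z * t⁻¹ = z := by
    rcases ht z D.zV with h | h
    · exact h
    · rw [hzz, conj_eq_one_iff] at h
      exact absurd h D.z1
  have hvz : v ≠ z := by
    rintro rfl
    apply htv
    rwa [mul_inv_eq_iff_eq_mul] at htz
  have hsq : ∀ x ∈ zl (S : Subgroup G) P, x * x = 1 := fun x hx => D.sq x (D.zl_le_V hx)
  have hzF : z ∈ zl (S : Subgroup G) P := zc_le_zl _ _ hzc
  obtain ⟨g, hg, hg1, hg2, hg3⟩ := exists_swap hG D.hz D.z1 D.par D.card hsq hv hv1 hvz
  have hV2 : IsPGroup 2 V := by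
    intro x
    exact ⟨1, Subtype.ext (by
      change (x : G) ^ (2 ^ 1) = 1
      rw [pow_one, pow_two, D.sq _ x.2])⟩
  have hVS : V ≤ (S : Subgroup G) := le_of_le_normalizer S hV2 (D.SY.trans D.nV)
  refine ⟨v, hv, D.zV, D.zl_le_V hv, D.sq, fun y hy u hu => (mem_normalizer_iff.mp (D.nV hy) u).mp hu, D.SY,
    S.isPGroup', MinSimple.Basic.not_dvd_relIndex S D.SY, D.z1, hvz, hSz, fun u hu h => ?_, fun s hs => ?_,
    ⟨g, D.PY hg, hg1, hg2, hg3⟩, t, htY, ?_, ht⟩
  · have h1 : u ∈ zc (S : Subgroup G) := by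
      rw [mem_zc]
      refine ⟨hVS hu, fun s hs => ?_, by rw [pow_two, D.sq u hu]⟩
      have h2 := h s hs
      rwa [mul_inv_eq_iff_eq_mul] at h2
    rwa [D.hz, mem_zpowers_iff hzz] at h1
  · have h1 : s * v * s⁻¹ ∈ zl (S : Subgroup G) P :=
      (mem_normalizer_iff.mp (le_normalizer_zl (S : Subgroup G) P (D.par.le hs)) v).mp hv
    rcases mem_of_card D.card hzF hv hsq D.z1 hv1 hvz h1 with h | h | h | h
    · exact absurd (conj_eq_one_iff.mp h) hv1
    · exfalso
      apply hvz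
      have h3 : s * v * s⁻¹ = s * z * s⁻¹ := by rw [h, hSz s hs, mul_inv_cancel_right]
      exact mul_left_cancel (mul_right_cancel h3)
    · exact Or.inl h
    · exact Or.inr h
  · intro h
    rw [mul_inv_eq_iff_eq_mul] at h
    exact htv h

/-- **(TR)**: `V_P` is the only `S`-invariant four-group of `V`. -/
theorem eq_zl (D : Dat S z P V Y) (hG : IsCharacteristicTwoType G) {E : Subgroup G} (hE : E ≤ V)
    (hc : Nat.card E = 4) (hn : (S : Subgroup G) ≤ normalizer (E : Set G)) : E = zl (S : Subgroup G) P := by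
  obtain ⟨v, -, hg⟩ := D.exists_grp hG
  exact hg.eq hE hc hn D.zl_le_V D.card (D.par.le.trans (le_normalizer_zl _ _))

/-- `w ∈ V`, `[w, S] ≤ ⟨z⟩` implies `w ∈ V_P`. -/
theorem mem_zl (D : Dat S z P V Y) (hG : IsCharacteristicTwoType G) {w : G} (hw : w ∈ V)
    (h : ∀ s ∈ (S : Subgroup G), s * w * s⁻¹ = w ∨ s * w * s⁻¹ = w * z) : w ∈ zl (S : Subgroup G) P := by
  obtain ⟨v, hv, hg⟩ := D.exists_grp hG
  have hzc : z ∈ zc (S : Subgroup G) := by rw [D.hz]; exact mem_zpowers z
  have hzF : z ∈ zl (S : Subgroup G) P := zc_le_zl _ _ hzc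
  rcases hg.mem hw h with rfl | rfl | rfl | rfl
  · exact one_mem _
  · exact hzF
  · exact hv
  · exact mul_mem hv hzF

/-- **(TR)**: `V_P ≤ A` for every `S`-invariant `A ≤ V`, `A ≰ ⟨z⟩`. -/
theorem zl_le_of (D : Dat S z P V Y) (hG : IsCharacteristicTwoType G) {A : Subgroup G} (hA : A ≤ V)
    (hn : (S : Subgroup G) ≤ normalizer (A : Set G)) (hAz : ¬ A ≤ zpowers z) : zl (S : Subgroup G) P ≤ A := by
  have hzc : z ∈ zc (S : Subgroup G) := by rw [D.hz]; exact mem_zpowers z
  have hSz : ∀ s ∈ (S : Subgroup G), s * z = z * s := fun s hs => (mem_zc.mp hzc).2.1 s hs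
  have hzz : z * z = 1 := D.sq z D.zV
  have hV2 : IsPGroup 2 V := by
    intro x
    exact ⟨1, Subtype.ext (by
      change (x : G) ^ (2 ^ 1) = 1
      rw [pow_one, pow_two, D.sq _ x.2])⟩
  have hVS : V ≤ (S : Subgroup G) := le_of_le_normalizer S hV2 (D.SY.trans D.nV)
  have hnA : ∀ s ∈ (S : Subgroup G), ∀ a ∈ A, s * a * s⁻¹ ∈ A := fun s hs a ha =>
    (mem_normalizer_iff.mp (hn hs) a).mp ha
  -- `z ∈ A`
  have hzA : z ∈ A := by
    have hA1 : A ≠ ⊥ := fun h => hAz (by rw [h]; exact bot_le)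
    obtain ⟨n, hnE, hn1, hnS⟩ := AdjTransv.exists_fixed S.isPGroup' hA1 (fun n hn => D.sq n (hA hn)) hnA
    have h1 : n ∈ zc (S : Subgroup G) := by
      rw [mem_zc]
      refine ⟨hVS (hA hnE), fun s hs => ?_, by rw [pow_two, D.sq n (hA hnE)]⟩
      have h2 := hnS s hs
      rwa [mul_inv_eq_iff_eq_mul] at h2
    rw [D.hz, mem_zpowers_iff hzz] at h1
    rcases h1 with h | h
    · exact absurd h hn1
    · rwa [h] at hnE
  -- the quotient `S / ⟨z⟩`
  let Zs : Subgroup (S : Subgroup G) := (zpowers z).subgroupOf (S : Subgroup G)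
  have hZn : Zs.Normal := by
    constructor
    intro x hx y
    rw [mem_subgroupOf] at hx ⊢
    rcases (mem_zpowers_iff hzz).mp hx with h | h
    · rw [Subgroup.coe_mul, Subgroup.coe_mul, h, mul_one, Subgroup.coe_inv, mul_inv_cancel]
      exact one_mem _
    · rw [Subgroup.coe_mul, Subgroup.coe_mul, h, Subgroup.coe_inv, hSz _ y.2, mul_inv_cancel_right]
      exact mem_zpowers z
  let π : (S : Subgroup G) →* (S : Subgroup G) ⧸ Zs := QuotientGroup.mk' Zs
  let N : Subgroup ((S : Subgroup G) ⧸ Zs) := (A.subgroupOf (S : Subgroup G)).map π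
  have hN1 : N ≠ ⊥ := by
    intro h
    apply hAz
    intro a ha
    have h1 : π ⟨a, hVS (hA ha)⟩ ∈ N := ⟨_, ha, rfl⟩
    rw [h, mem_bot, QuotientGroup.mk'_apply, QuotientGroup.eq_one_iff] at h1
    exact h1
  have hNsq : ∀ n ∈ N, n * n = 1 := by
    rintro _ ⟨a, ha, rfl⟩
    rw [← map_mul]
    have h1 : a * a = 1 := Subtype.ext (D.sq _ (hA ha))
    rw [h1, map_one]
  have hNn : ∀ s ∈ (⊤ : Subgroup ((S : Subgroup G) ⧸ Zs)), ∀ n ∈ N, s * n * s⁻¹ ∈ N := by
    rintro s - _ ⟨a, ha, rfl⟩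
    obtain ⟨s, rfl⟩ := QuotientGroup.mk'_surjective Zs s
    refine ⟨s * a * s⁻¹, hnA _ s.2 _ ha, ?_⟩
    rw [map_mul, map_mul, map_inv]
  obtain ⟨_, ⟨w, hw, rfl⟩, hw1, hwS⟩ := AdjTransv.exists_fixed
    (S := (⊤ : Subgroup ((S : Subgroup G) ⧸ Zs))) ((S.isPGroup'.to_quotient Zs).to_subgroup _) hN1 hNsq hNn
  have hwA : (w : G) ∈ A := hw
  have hwz : (w : G) ∉ zpowers z := fun h => hw1 (by
    rw [QuotientGroup.mk'_apply, QuotientGroup.eq_one_iff]
    exact h)
  have hws : ∀ s ∈ (S : Subgroup G), s * w * s⁻¹ = w ∨ s * w * s⁻¹ = w * z := by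
    intro s hs
    have h1 := hwS (π ⟨s, hs⟩) (mem_top _)
    rw [← map_inv, ← map_mul, ← map_mul] at h1
    have h2 := QuotientGroup.eq.mp h1.symm
    rw [mem_subgroupOf, mem_zpowers_iff hzz] at h2
    rcases h2 with h2 | h2
    · left
      have h3 : (w : G)⁻¹ * (s * w * s⁻¹) = 1 := h2
      rw [inv_mul_eq_one] at h3
      exact h3.symm
    · right
      have h3 : (w : G)⁻¹ * (s * w * s⁻¹) = z := h2
      rw [inv_mul_eq_iff_eq_mul] at h3
      exact h3
  have hwF := D.mem_zl hG (hA hwA) hws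
  have hwz' : (w : G) ≠ z := fun h => hwz (by rw [h]; exact mem_zpowers z)
  have hw1' : (w : G) ≠ 1 := fun h => hwz (by rw [h]; exact one_mem _)
  intro x hx
  rcases mem_of_card D.card (zc_le_zl _ _ hzc) hwF (fun x hx => D.sq x (D.zl_le_V hx)) D.z1 hw1' hwz' hx with
    rfl | rfl | rfl | rfl
  · exact one_mem _
  · exact hzA
  · exact hwA
  · exact mul_mem hwA hzA

/-- **(TR)**: `V_P ≤ V_{P'}` for every `P' ∈ P*(S)` with `P' ≤ Y`. -/
theorem zl_le_zl (D : Dat S z P V Y) (hG : IsCharacteristicTwoType G) {P' : Subgroup G}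
    (hP' : IsParS (S : Subgroup G) P') (hY : P' ≤ Y) : zl (S : Subgroup G) P ≤ zl (S : Subgroup G) P' := by
  refine D.zl_le_of hG (zl_le (by rw [D.hz, zpowers_le]; exact D.zV) (hY.trans D.nV))
    (hP'.le.trans (le_normalizer_zl _ _)) fun h => hP'.not_zc ?_
  have h1 : zl (S : Subgroup G) P' = zc (S : Subgroup G) :=
    le_antisymm (by rw [D.hz]; exact h) (zc_le_zl _ _)
  rw [← h1]
  exact le_normalizer_zl _ _

end Dat

end Cfsg.Agent.Omega.NOThreeL.TRPlug

end
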