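import Cfsg.Agent.Mrg.Omega.NOThreeL.Basic
import Cfsg.Agent.Mrg.Omega.NO3b.EZeroBase
import Cfsg.Agent.Mrg.Omega.FrameI
import Mathlib
import Cfsg.Agent.Mrg.Omega.NO3b.Bang
import Cfsg.Agent.Mrg.Omega.FFBr.Main
import Cfsg.Agent.Mrg.Omega.Node.NO3L

section


/-!
# NO-3L: the group `⟨P*(S)⟩` and its module (#15808 (L0), #16235, helper999)

`S` a Sylow 2-subgroup, `Y = ⟨P*(S)⟩ = YS S`, `V* = zl S Y = ⟨Ω₁(Z(S))^Y⟩`, no mutual pair (`¬ FF S`).

* `zl_comm`, `zl_sq` : `V*` is elementary abelian;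
* `le_norm_cs`, `cs_le_o2`, `isLoc` : `C_S(V*)` is normal in `Y`, so it is `O₂(Y)`, and `Y` is 2-local;
* `Root S L` : `S ≤ L`, `V_L = zl S L` elementary abelian, `C_S(V_L) ≤ O₂(L)`, `L` is generated by members of
  `P*(S)`;
* `Opt V A` : `A` has `|A : C_A(V)| |C_V(A)|` maximal and then `|A : C_A(V)|` minimal;
* `exists_exact` : if `V*` is FF, then a 2-group `A ≤ S` acts on some `V_P`, `P ∈ P*(S)`, as an exact offender and
  `V* = V_P C_{V*}(A)`.
-/

set_option autoImplicit false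

namespace Cfsg.Agent.Omega.NOThreeL.Star

open Subgroup Cfsg Cfsg.Agent.ZN Cfsg.Agent.ZN.ChoiceBase
open Cfsg.Agent.Omega.MinPar Cfsg.Agent.Omega.Frame Cfsg.Agent.Omega.FrameNOFF
open Cfsg.Agent.Omega.NO3b.EZero (NotFF cent_symm cj_cent cj_norm cj_eq_cj_iff)
open Cfsg.Agent.Omega.FFThm (ElemM OffM NoOverM ConclM)
open Cfsg.Agent.MinSimple.VModule (zc_le_zl le_normalizer_zl zl_le zc_le mem_zc le_centralizer_zc zc_sq
  le_normalizer_o2 o2_isPGroup o2_le le_o2)

universe u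

variable {G : Type u} [Group G]

/-- `⟨P*(S)⟩` -/
def YS (S : Subgroup G) : Subgroup G := sSup {P | IsParS S P}

theorem le_YS {S P : Subgroup G} (hP : IsParS S P) : P ≤ YS S := le_sSup hP

theorem zl_mono (S : Subgroup G) {A B : Subgroup G} (h : A ≤ B) : zl S A ≤ zl S B :=
  zl_le (zc_le_zl S B) (h.trans (le_normalizer_zl S B))

section fin

variable [Finite G] {S : Sylow 2 G}

theorem S_le_YS (h : Ctx G) (hF : Full (S : Subgroup G)) : (S : Subgroup G) ≤ YS (S : Subgroup G) := by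
  obtain ⟨P, hP⟩ := h.exists_isParS hF
  exact hP.le.trans (le_YS hP)

variable (hc : IsCharacteristicTwoType G) (hm : ¬ FF (S : Subgroup G))
include hc hm

/-- `V*` is abelian. -/
theorem zl_comm : zl (S : Subgroup G) (YS S) ≤ centralizer (zl (S : Subgroup G) (YS S) : Set G) := by
  have h1 := NoFF.Main.comm_A (sys hc S hm) (inv S)
  have h2 : zl (S : Subgroup G) (YS S) ≤ NoFF.Main.A (zc (S : Subgroup G))
      (normalizer ((S : Subgroup G) : Set G)) (PS (S : Subgroup G)) :=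
    NoFF.Basic.V_le fun p hp => NoFF.Basic.Z_le_V ((le_sup_right : YS (S : Subgroup G) ≤ _) hp)
  exact NoFF.Basic.comm_mono h1 h2 h2

theorem zl_sq : ∀ v ∈ zl (S : Subgroup G) (YS S), v ^ 2 = 1 := by
  refine NoFF.Lines.Geo.sq_of_comm (zl_comm hc hm)
    (B := fun y : YS (S : Subgroup G) => (zc (S : Subgroup G)).map (MulAut.conj (y : G)).toMonoidHom) ?_
    le_rfl ?_
  · exact fun y => le_iSup (fun y : YS (S : Subgroup G) =>
      (zc (S : Subgroup G)).map (MulAut.conj (y : G)).toMonoidHom) y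
  · rintro y _ ⟨x, hx, rfl⟩
    rw [← map_pow, zc_sq _ x hx, map_one]

omit hm in
/-- `C_S(V*)` is normalised by `Y`. -/
theorem le_norm_cs : YS (S : Subgroup G) ≤
    normalizer (((S : Subgroup G) ⊓ centralizer (zl (S : Subgroup G) (YS S) : Set G) : Subgroup G) : Set G) := by
  refine sSup_le fun P hP => ?_
  have hVP : zl (S : Subgroup G) P ≤ zl (S : Subgroup G) (YS S) := zl_mono _ (le_YS hP)
  have key : ∀ p ∈ P, ∀ x ∈ (S : Subgroup G) ⊓ centralizer (zl (S : Subgroup G) (YS S) : Set G),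
      p * x * p⁻¹ ∈ (S : Subgroup G) ⊓ centralizer (zl (S : Subgroup G) (YS S) : Set G) := by
    intro p hp x hx
    refine ⟨?_, ?_⟩
    · have h1 : x ∈ o2 P := mem_o2_of_cent hc S hP hx.1 (centralizer_le hVP hx.2)
      exact hP.isLoc.o2_le S ((mem_normalizer_iff.1 (le_normalizer_o2 P hp) x).1 h1)
    · refine mem_centralizer_iff.2 fun v hv => ?_
      have h2 := (mem_normalizer_iff''.1 (le_normalizer_zl (S : Subgroup G) (YS S) (le_YS hP hp)) v).1 hv
      have h3 := mem_centralizer_iff.1 hx.2 _ h2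
      have e1 : v * (p * x * p⁻¹) = p * ((p⁻¹ * v * p) * x) * p⁻¹ := by group
      have e2 : p * x * p⁻¹ * v = p * (x * (p⁻¹ * v * p)) * p⁻¹ := by group
      rw [e1, e2, h3]
  intro p hp
  rw [mem_normalizer_iff]
  intro x
  refine ⟨key p hp x, fun hx => ?_⟩
  have h1 := key p⁻¹ (P.inv_mem hp) _ hx
  have e : p⁻¹ * (p * x * p⁻¹) * p⁻¹⁻¹ = x := by group
  rwa [e] at h1

omit hm in
theorem cs_le_o2 (hSY : (S : Subgroup G) ≤ YS S) :
    (S : Subgroup G) ⊓ centralizer (zl (S : Subgroup G) (YS S) : Set G) ≤ o2 (YS (S : Subgroup G)) :=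
  le_o2 (inf_le_left.trans hSY) (S.isPGroup'.to_le inf_le_left) (le_norm_cs hc)

theorem isLoc (hSY : (S : Subgroup G) ≤ YS S) (hS : (S : Subgroup G) ≠ ⊥) :
    IsLoc (S : Subgroup G) (YS S) := by
  refine ⟨hSY, fun h0 => MinSimple.Basic.zc_ne_bot S.isPGroup' hS ?_⟩
  have h1 : zc (S : Subgroup G) ≤ (S : Subgroup G) ⊓ centralizer (zl (S : Subgroup G) (YS S) : Set G) :=
    le_inf (zc_le _) ((zc_le_zl _ _).trans (zl_comm hc hm))
  exact le_bot_iff.1 (h0 ▸ h1.trans (cs_le_o2 hc hSY))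

end fin

/-! ### Optimal offenders -/

/-- `|A : C_A(V)| |C_V(A)|` -/
noncomputable def ff (V A : Subgroup G) : ℕ :=
  (centralizer (V : Set G)).relIndex A * Nat.card ↥(V ⊓ centralizer (A : Set G))

/-- `A` is a 2-group which acts on `V` as an elementary abelian group. -/
structure Ok (V A : Subgroup G) : Prop extends ElemM V A where
  pg : IsPGroup 2 A
  norm : A ≤ normalizer (V : Set G)

/-- `A` acts on `V`, `|A : C_A(V)| |C_V(A)|` is maximal and then `|A : C_A(V)|` is minimal. -/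
structure Opt (V A : Subgroup G) : Prop extends Ok V A where
  ne : ¬ A ≤ centralizer (V : Set G)
  max : ∀ B, Ok V B → ff V B ≤ ff V A
  min : ∀ B, Ok V B → ¬ B ≤ centralizer (V : Set G) → ff V B = ff V A →
    (centralizer (V : Set G)).relIndex A ≤ (centralizer (V : Set G)).relIndex B

section opt

variable {V A : Subgroup G}

theorem ff_cj {g : G} (hg : g ∈ normalizer (V : Set G)) : ff V (cj g A) = ff V A := by
  have hV : cj g V = V := cj_eq_of_mem_normalizer hg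
  unfold ff
  congr 1
  · conv_lhs => rw [← hV, ← cj_centralizer]
    exact relIndex_map_map_of_injective _ _ (MulAut.conj g).injective
  · conv_lhs => rw [← cj_centralizer, ← hV, ← cj_inf]
    exact card_cj _ _

theorem rel_cj {g : G} (hg : g ∈ normalizer (V : Set G)) :
    (centralizer (V : Set G)).relIndex (cj g A) = (centralizer (V : Set G)).relIndex A := by
  have hV : cj g V = V := cj_eq_of_mem_normalizer hg
  conv_lhs => rw [← hV, ← cj_centralizer]
  exact relIndex_map_map_of_injective _ _ (MulAut.conj g).injective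

theorem cen_cj {g x : G} (hg : g ∈ normalizer (V : Set G)) (hx : x ∈ centralizer (V : Set G)) :
    g * x * g⁻¹ ∈ centralizer (V : Set G) := by
  rw [mem_centralizer_iff] at hx ⊢
  intro v hv
  have h1 := hx _ ((mem_normalizer_iff''.1 hg v).1 hv)
  have e1 : v * (g * x * g⁻¹) = g * ((g⁻¹ * v * g) * x) * g⁻¹ := by group
  have e2 : g * x * g⁻¹ * v = g * (x * (g⁻¹ * v * g)) * g⁻¹ := by group
  rw [e1, e2, h1]

theorem Ok.cj (h : Ok V A) {g : G} (hg : g ∈ normalizer (V : Set G)) : Ok V (cj g A) := by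
  refine ⟨⟨?_, ?_⟩, isPGroup_cj _ h.pg, ?_⟩
  · rintro _ ⟨a, ha, rfl⟩
    have h1 := cen_cj hg (h.sq a ha)
    change (g * a * g⁻¹) ^ 2 ∈ _
    have e : (g * a * g⁻¹) ^ 2 = g * a ^ 2 * g⁻¹ := by rw [pow_two, pow_two]; group
    rwa [e]
  · rintro _ ⟨a, ha, rfl⟩ _ ⟨b, hb, rfl⟩
    have h1 := cen_cj hg (h.comm a ha b hb)
    change g * a * g⁻¹ * (g * b * g⁻¹) * (g * a * g⁻¹)⁻¹ * (g * b * g⁻¹)⁻¹ ∈ _
    have e : g * a * g⁻¹ * (g * b * g⁻¹) * (g * a * g⁻¹)⁻¹ * (g * b * g⁻¹)⁻¹ =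
      g * (a * b * a⁻¹ * b⁻¹) * g⁻¹ := by group
    rwa [e]
  · have h1 := cj_norm (g := g) h.norm
    rwa [cj_eq_of_mem_normalizer hg] at h1

theorem Opt.cj (h : Opt V A) {g : G} (hg : g ∈ normalizer (V : Set G)) : Opt V (cj g A) := by
  refine ⟨h.toOk.cj hg, fun h0 => h.ne ?_, fun B hB => ?_, fun B hB hB1 hB2 => ?_⟩
  · have hV : ChoiceBase.cj g V = V := cj_eq_of_mem_normalizer hg
    rw [← hV, ← cj_centralizer, cj_le_iff, cj_inv_cj] at h0
    exact h0
  · rw [ff_cj hg]; exact h.max B hB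
  · rw [rel_cj hg]
    exact h.min B hB hB1 (by rw [hB2, ff_cj hg])

theorem Ok.mono (h : Ok V A) {B : Subgroup G} (hBA : B ≤ A) : Ok V B :=
  ⟨⟨fun b hb => h.sq b (hBA hb), fun a ha b hb => h.comm a (hBA ha) b (hBA hb)⟩, h.pg.to_le hBA,
    hBA.trans h.norm⟩

theorem rel_mul_card [Finite G] (A B : Subgroup G) :
    B.relIndex A * Nat.card ↥(A ⊓ B) = Nat.card A := by
  have e := relIndex_inf_mul_relIndex (⊥ : Subgroup G) B A
  rw [relIndex_bot_left, bot_inf_eq, relIndex_bot_left, mul_comm, inf_comm] at e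
  exact e

theorem exists_opt [Finite G] (h : ¬ NotFF V) : ∃ A, Opt V A := by
  unfold NO3b.EZero.NotFF at h
  push Not at h
  obtain ⟨A0, h1, h2, h3, h4, h5, h6⟩ := h
  have ok0 : Ok V A0 := ⟨⟨h3, h4⟩, h1, h2⟩
  have hV0 : Nat.card V ≤ ff V A0 := by
    unfold ff
    rw [← rel_mul_card V (centralizer (A0 : Set G))]
    exact Nat.mul_le_mul_right _ h6
  obtain ⟨A1, ⟨hA1, hA1n⟩, hmax⟩ := Set.exists_max_image {A : Subgroup G | Ok V A ∧ ¬ A ≤ centralizer (V : Set G)}
    (ff V) (Set.toFinite _) ⟨A0, ok0, h5⟩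
  obtain ⟨A, ⟨⟨hA, hAn⟩, hAf⟩, hmin⟩ := Set.exists_min_image
    {A : Subgroup G | (Ok V A ∧ ¬ A ≤ centralizer (V : Set G)) ∧ ff V A = ff V A1}
    (fun A => (centralizer (V : Set G)).relIndex A) (Set.toFinite _) ⟨A1, ⟨hA1, hA1n⟩, rfl⟩
  refine ⟨A, hA, hAn, fun B hB => ?_, fun B hB hB1 hB2 => hmin B ⟨⟨hB, hB1⟩, by rw [hB2, hAf]⟩⟩
  rw [hAf]
  by_cases hBV : B ≤ centralizer (V : Set G)
  · have e1 : V ⊓ centralizer (B : Set G) = V := inf_eq_left.2 (cent_symm hBV)
    have e2 : (centralizer (V : Set G)).relIndex B = 1 := relIndex_eq_one.2 hBV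
    have e3 : ff V B = Nat.card V := by unfold ff; rw [e1, e2, one_mul]
    rw [e3]
    exact hV0.trans (hmax A0 ⟨ok0, h5⟩)
  · exact hmax B ⟨hB, hBV⟩

theorem card_sup_mul [Finite G] {A B V : Subgroup G} (hV : V ≤ centralizer (V : Set G)) (hA : A ≤ V)
    (hB : B ≤ V) : Nat.card ↥(A ⊔ B) * Nat.card ↥(A ⊓ B) = Nat.card A * Nat.card B :=
  Cfsg.Agent.PLocal.ElemAbSup.card_sup_mul_card_inf (hB.trans (hV.trans (centralizer_le hA)))

/-- **Exactness.** -/
theorem Opt.exact [Finite G] {W P : Subgroup G} (h : Opt V A) (hV : V ≤ centralizer (V : Set G)) (hW : W ≤ V)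
    (hne : ¬ A ≤ centralizer (W : Set G)) (hAP : A ≤ P)
    (hno : OffM W A → NoOverM W P) :
    OffM W A ∧ A ⊓ centralizer (W : Set G) ≤ centralizer (V : Set G) ∧
      V = W ⊔ (V ⊓ centralizer (A : Set G)) ∧
      (centralizer (A : Set G)).relIndex V = (centralizer (V : Set G)).relIndex A := by
  set B : Subgroup G := A ⊓ centralizer (W : Set G) with hB
  have okB : Ok V B := h.toOk.mono inf_le_left
  have hmax := h.max B okB
  have hBV : B ⊓ centralizer (V : Set G) = A ⊓ centralizer (V : Set G) := by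
    rw [hB, inf_assoc, inf_eq_right.2 (centralizer_le hW)]
  have hWA : W ⊓ (V ⊓ centralizer (A : Set G)) = W ⊓ centralizer (A : Set G) := by
    rw [← inf_assoc, inf_eq_left.2 hW]
  have s1 := card_sup_mul hV hW (inf_le_left : V ⊓ centralizer (A : Set G) ≤ V)
  rw [hWA] at s1
  have hsup : W ⊔ (V ⊓ centralizer (A : Set G)) ≤ V ⊓ centralizer (B : Set G) := by
    refine sup_le (le_inf hW ?_) (le_inf inf_le_left (inf_le_right.trans (centralizer_le inf_le_left)))
    exact cent_symm inf_le_right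
  have s2 : Nat.card ↥(W ⊔ (V ⊓ centralizer (A : Set G))) ≤ Nat.card ↥(V ⊓ centralizer (B : Set G)) :=
    Subgroup.card_le_of_le hsup
  have r1 := rel_mul_card A (centralizer (V : Set G))
  have r2 := rel_mul_card B (centralizer (V : Set G))
  rw [hBV] at r2
  unfold ff at hmax
  set a := Nat.card A
  set b := Nat.card B
  set c := Nat.card ↥(A ⊓ centralizer (V : Set G))
  set n := Nat.card ↥(V ⊓ centralizer (A : Set G))
  set nB := Nat.card ↥(V ⊓ centralizer (B : Set G))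
  set w := Nat.card W
  set w0 := Nat.card ↥(W ⊓ centralizer (A : Set G))
  set m := Nat.card ↥(W ⊔ (V ⊓ centralizer (A : Set G)))
  set rA := (centralizer (V : Set G)).relIndex A
  set rB := (centralizer (V : Set G)).relIndex B
  have pc : 0 < c := Nat.card_pos
  have pn : 0 < n := Nat.card_pos
  have pw0 : 0 < w0 := Nat.card_pos
  have pb : 0 < b := Nat.card_pos
  have pa : 0 < a := Nat.card_pos
  have i1 : b * nB ≤ a * n := by
    calc b * nB = (rB * nB) * c := by rw [← r2]; ring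
      _ ≤ (rA * n) * c := Nat.mul_le_mul_right _ hmax
      _ = a * n := by rw [← r1]; ring
  have i2 : b * (w * n) ≤ a * n * w0 := by
    calc b * (w * n) = b * m * w0 := by rw [← s1]; ring
      _ ≤ b * nB * w0 := Nat.mul_le_mul_right _ (Nat.mul_le_mul_left _ s2)
      _ ≤ a * n * w0 := Nat.mul_le_mul_right _ i1
  have i3 : w * b ≤ a * w0 := by
    have : (w * b) * n ≤ (a * w0) * n := by
      calc (w * b) * n = b * (w * n) := by ring
        _ ≤ a * n * w0 := i2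
        _ = (a * w0) * n := by ring
    exact Nat.le_of_mul_le_mul_right this pn
  have hoff : OffM W A := by
    refine ⟨⟨fun x hx => centralizer_le hW (h.sq x hx), fun x hx y hy => centralizer_le hW (h.comm x hx y hy)⟩,
      hne, i3⟩
  have i4 : a * w0 ≤ w * b := hno hoff A hAP hoff.toElemM
  have e1 : w * b = a * w0 := le_antisymm i3 i4
  have i5 : a * n ≤ b * nB := by
    have : (a * n) * w0 ≤ (b * nB) * w0 := by
      calc (a * n) * w0 = (w * b) * n := by rw [e1]; ring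
        _ = b * m * w0 := by
          have : b * m * w0 = b * (m * w0) := by ring
          rw [this, s1]; ring
        _ ≤ b * nB * w0 := Nat.mul_le_mul_right _ (Nat.mul_le_mul_left _ s2)
    exact Nat.le_of_mul_le_mul_right this pw0
  have e2 : b * nB = a * n := le_antisymm i1 i5
  have e3 : rB * nB = rA * n := by
    have : (rB * nB) * c = (rA * n) * c := by
      calc (rB * nB) * c = b * nB := by rw [← r2]; ring
        _ = a * n := e2
        _ = (rA * n) * c := by rw [← r1]; ring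
    exact Nat.eq_of_mul_eq_mul_right pc this
  have hBc : B ≤ centralizer (V : Set G) := by
    by_contra hcon
    have h1 := h.min B okB hcon (by unfold ff; exact e3)
    have h2 : a ≤ b := by
      rw [← r1, ← r2]; exact Nat.mul_le_mul_right _ h1
    have h3 : B = A := Subgroup.eq_of_le_of_card_ge inf_le_left h2
    exact hne (h3 ▸ inf_le_right)
  have hnB : V ⊓ centralizer (B : Set G) = V := inf_eq_left.2 (cent_symm hBc)
  have hnB' : nB = Nat.card V := by rw [← hnB]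
  have hbc : b = c := by
    change Nat.card B = Nat.card ↥(A ⊓ centralizer (V : Set G))
    rw [← hBV, inf_eq_left.2 hBc]
  have e4 : m = Nat.card V := by
    have : m * (w0 * b) = Nat.card V * (w0 * b) := by
      calc m * (w0 * b) = (m * w0) * b := by ring
        _ = (w * b) * n := by rw [s1]; ring
        _ = w0 * (a * n) := by rw [e1]; ring
        _ = Nat.card V * (w0 * b) := by rw [← e2, hnB']; ring
    exact Nat.eq_of_mul_eq_mul_right (Nat.mul_pos pw0 pb) this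
  refine ⟨hoff, hBc, (Subgroup.eq_of_le_of_card_ge (sup_le hW inf_le_left) e4.ge).symm, ?_⟩
  have r3 := rel_mul_card V (centralizer (A : Set G))
  have : (centralizer (A : Set G)).relIndex V * (n * c) = rA * (n * c) := by
    calc (centralizer (A : Set G)).relIndex V * (n * c) = ((centralizer (A : Set G)).relIndex V * n) * c := by ring
      _ = Nat.card V * b := by rw [r3, hbc]
      _ = a * n := by rw [← hnB', ← e2]; ring
      _ = rA * (n * c) := by rw [← r1]; ring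
  exact Nat.eq_of_mul_eq_mul_right (Nat.mul_pos pn pc) this

end opt

/-! ### The exact offender -/

section exact

variable [Finite G] {S : Sylow 2 G}

/-- If an offender in `S` centralises all `V_P`, it is in all `S^y`, `y ∈ Y`. -/
theorem conj_le_of_all (hc : IsCharacteristicTwoType G) {V : Subgroup G}
    (hV : V = zl (S : Subgroup G) (YS S))
    (hall : ∀ A : Subgroup G, Opt V A → A ≤ (S : Subgroup G) → ∀ P : Subgroup G, IsParS (S : Subgroup G) P →
      A ≤ centralizer (zl (S : Subgroup G) P : Set G)) {y : G} (hy : y ∈ YS (S : Subgroup G)) :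
    y ∈ normalizer (V : Set G) ∧ ∀ A : Subgroup G, Opt V A → A ≤ (S : Subgroup G) →
      cj y A ≤ (S : Subgroup G) := by
  have hy' : y ∈ ⨆ P : {P : Subgroup G // IsParS (S : Subgroup G) P}, (P : Subgroup G) := by
    unfold YS at hy
    rwa [sSup_eq_iSup'] at hy
  refine Subgroup.iSup_induction (S := fun P : {P : Subgroup G // IsParS (S : Subgroup G) P} => (P : Subgroup G))
    (C := fun y => y ∈ normalizer (V : Set G) ∧ ∀ A : Subgroup G, Opt V A → A ≤ (S : Subgroup G) →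
      cj y A ≤ (S : Subgroup G)) hy' ?_ ?_ ?_
  · rintro ⟨P, hP⟩ p hp
    refine ⟨?_, fun A hA hAS => ?_⟩
    · rw [hV]; exact le_normalizer_zl _ _ (le_YS hP hp)
    · rintro _ ⟨a, ha, rfl⟩
      have h1 : a ∈ o2 P := mem_o2_of_cent hc S hP (hAS ha) (hall A hA hAS P hP ha)
      exact hP.isLoc.o2_le S ((mem_normalizer_iff.1 (le_normalizer_o2 P hp) a).1 h1)
  · exact ⟨one_mem _, fun A _ hAS => by rwa [cj_one]⟩
  · rintro x y ⟨hx1, hx2⟩ ⟨hy1, hy2⟩
    refine ⟨mul_mem hx1 hy1, fun A hA hAS => ?_⟩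
    rw [← cj_cj]
    exact hx2 _ (hA.cj hy1) (hy2 A hA hAS)

/-- **The exact offender** (#15808 (L0) for `F = P*(S)`). -/
theorem exists_exact (hFF : FFThm.StmtM.{u}) (hc : IsCharacteristicTwoType G) (hm : ¬ FF (S : Subgroup G))
    {V : Subgroup G} (hV : V = zl (S : Subgroup G) (YS S)) (hSY : (S : Subgroup G) ≤ YS S)
    (hn : ¬ NotFF V) :
    ∃ P A : Subgroup G, IsParS (S : Subgroup G) P ∧ A ≤ (S : Subgroup G) ∧ Opt V A ∧
      OffM (zl (S : Subgroup G) P) A ∧
      A ⊓ centralizer (zl (S : Subgroup G) P : Set G) ≤ centralizer (V : Set G) ∧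
      V = zl (S : Subgroup G) P ⊔ (V ⊓ centralizer (A : Set G)) ∧
      (centralizer (A : Set G)).relIndex V = (centralizer (V : Set G)).relIndex A := by
  have hYV : YS (S : Subgroup G) ≤ normalizer (V : Set G) := by rw [hV]; exact le_normalizer_zl _ _
  have hVc : V ≤ centralizer (V : Set G) := by rw [hV]; exact zl_comm hc hm
  obtain ⟨A0, hA0⟩ := exists_opt hn
  obtain ⟨n, hnV, hnS⟩ := FFThm.exists_conj_le S (hSY.trans hYV) hA0.pg hA0.norm
  have hA1 := hA0.cj hnV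
  by_contra hcon
  have hall : ∀ A : Subgroup G, Opt V A → A ≤ (S : Subgroup G) → ∀ P : Subgroup G,
      IsParS (S : Subgroup G) P → A ≤ centralizer (zl (S : Subgroup G) P : Set G) := by
    intro A hA hAS P hP
    by_contra hne
    apply hcon
    have hW : zl (S : Subgroup G) P ≤ V := by rw [hV]; exact zl_mono _ (le_YS hP)
    obtain ⟨h1, h2, h3, h4⟩ := hA.exact (P := P) hVc hW hne (hAS.trans hP.le) fun hoff =>
      (hFF G (S : Subgroup G) P (MinSimple.EmptyTI.syl_of_le hP.le) hP.toIsMinPar (hP.isLoc.char2 S hc)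
        ⟨A, hAS.trans hP.le, hoff⟩).1
    exact ⟨P, A, hP, hAS, hA, h1, h2, h3, h4⟩
  refine hA1.ne (cent_symm ?_)
  have hle : zl (S : Subgroup G) (YS S) ≤ centralizer (cj n A0 : Set G) := by
    refine iSup_le fun y => ?_
    have h1 := (conj_le_of_all hc hV hall (inv_mem y.2)).2 _ hA1 hnS
    have h2 : cj n A0 ≤ cj (y : G) (S : Subgroup G) := by
      have h3 := cj_mono (y : G) h1
      rwa [cj_cj_inv] at h3
    exact cent_symm (h2.trans (cj_cent (g := (y : G)) (le_centralizer_zc _)))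
  exact hV.le.trans hle

end exact

end Cfsg.Agent.Omega.NOThreeL.Star

end

section


/-!
# NO-3L: the tree of leaves (#13890, #14283, helper863, helper111; FF theorem: `FFThm.Stmt`)

All sockets are relative to a class `K` and contain `Ctx G`, `K G`, `Full S`, `Data S` (`¬ FF S`, all
`V_P ≤ O₂(C_G(Z))`, all `⟨P, C_G(Z)⟩` local); all but `R` contain `DataZ S` (`C_Z(P) = 1` for all `P ∈ P*(S)`).
`H`, `K` are long groups (local, `≥ C_G(Z)`), `U_H = zl S H`, `F_H = FH S H`.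

* `R` : `C_Z(P) ≠ 1` for some `P ∈ P*(S)` (helper858, helper691);
* `A1` : `[V_P, U_H] ≠ 1`, `U_H` is an exact offender on `V_P`, one natural factor (THEOREM T, helper863);
* `A2` : the same, `k ≥ 2` natural factors (helper900, helper850);
* `A3` : the same, `V_P` of type `S_{2^m+1}^k` (helper823, helper378);
* `A4` : `[V_P, U_H] ≠ 1` and `|U_H : C(V_P)| < |V_P : C(U_H)|` (helper9, helper455);
* `B1` : not (A), `[U_H, U_K] ≠ 1` (helper535, helper133);
* `B2` : not (A), all `U_H` commute, `[U_H, F_K] ≠ 1` (helper985, helper83, helper42);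
* `B3` : not (A), all `U_H`, `F_K` commute (helper111, helper908, helper855);
* `nodeNO3L` : `FFThm.Stmt` and the sockets imply `FrameNOFF.NodeNO3L K`; `caseB_of` : `B1`, `B2`, `B3` give
  `CaseB` (not (A)), the goal of the minimal pairs (MP, helper28, helper707).
-/

set_option autoImplicit false

namespace Cfsg.Agent.Omega.NOThreeL.Main

open Subgroup Cfsg Cfsg.Agent.ZN Cfsg.Agent.Omega.MinPar Cfsg.Agent.Omega.Frame Cfsg.Agent.Omega.FrameNOFF
open Cfsg.Agent.Omega.Node.NO3L Cfsg.Agent.Omega.NOThreeL.Basic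
open Cfsg.Agent.Omega.FFThm (Off NoOver Concl NatK SymK)
open Cfsg.Agent.Omega.FrameFF (cv)

universe u

/-- Case (A), `U_H` offends on `V_P`: everything the FF theorem gives. -/
structure Exact {G : Type u} [Group G] (S P H : Subgroup G) : Prop extends PairA S P H where
  off : Off (zl S P) (zl S H)
  off' : Off (zl S H) (zl S P)
  noOver : NoOver (zl S P) P
  /-- `|V_P : C_{V_P}(U_H)| = |U_H : C_{U_H}(V_P)|` -/
  eq : Nat.card (zl S P) * Nat.card ↥(zl S H ⊓ centralizer (zl S P : Set G)) =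
    Nat.card (zl S H) * Nat.card ↥(zl S P ⊓ centralizer (zl S H : Set G))

section sockets

variable (K : Cls.{u})

/-- **R**: `C_Z(P) ≠ 1` for some `P ∈ P*(S)`. -/
def R : Prop :=
  ∀ (G : Type u) [Group G] [Finite G], Ctx G → K G → ∀ (S : Sylow 2 G), Full (S : Subgroup G) →
    Data (S : Subgroup G) → ∀ P : Subgroup G, IsParS (S : Subgroup G) P →
      zc (S : Subgroup G) ⊓ centralizer (P : Set G) ≠ ⊥ → IsKnownSimple' G

/-- **A1**: one natural factor. -/
def A1 : Prop :=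
  ∀ (G : Type u) [Group G] [Finite G], Ctx G → K G → ∀ (S : Sylow 2 G), Full (S : Subgroup G) →
    DataZ (S : Subgroup G) → ∀ P H : Subgroup G, Exact (S : Subgroup G) P H →
      ∀ (F : Type) [Field F] [Finite F] [CharP F 2],
        NatK F (S : Subgroup G) P (zl (S : Subgroup G) P) (cv (S : Subgroup G) P) 1 → IsKnownSimple' G

/-- **A2**: `k ≥ 2` natural factors. -/
def A2 : Prop :=
  ∀ (G : Type u) [Group G] [Finite G], Ctx G → K G → ∀ (S : Sylow 2 G), Full (S : Subgroup G) →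
    DataZ (S : Subgroup G) → ∀ P H : Subgroup G, Exact (S : Subgroup G) P H →
      ∀ (F : Type) [Field F] [Finite F] [CharP F 2] (k : ℕ), 2 ≤ k →
        NatK F (S : Subgroup G) P (zl (S : Subgroup G) P) (cv (S : Subgroup G) P) k → IsKnownSimple' G

/-- **A3**: type `S_{2^m+1}^k`. -/
def A3 : Prop :=
  ∀ (G : Type u) [Group G] [Finite G], Ctx G → K G → ∀ (S : Sylow 2 G), Full (S : Subgroup G) →
    DataZ (S : Subgroup G) → ∀ P H : Subgroup G, Exact (S : Subgroup G) P H →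
      ∀ k m : ℕ, 0 < k → 2 ≤ m →
        SymK (S : Subgroup G) P (zl (S : Subgroup G) P) (cv (S : Subgroup G) P) k m → IsKnownSimple' G

/-- **A4**: `U_H` does not offend on `V_P`: `|U_H : C_{U_H}(V_P)| < |V_P : C_{V_P}(U_H)|`. -/
def A4 : Prop :=
  ∀ (G : Type u) [Group G] [Finite G], Ctx G → K G → ∀ (S : Sylow 2 G), Full (S : Subgroup G) →
    DataZ (S : Subgroup G) → ∀ P H : Subgroup G, PairA (S : Subgroup G) P H →
      Off (zl (S : Subgroup G) H) (zl (S : Subgroup G) P) →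
      Nat.card (zl (S : Subgroup G) H) *
          Nat.card ↥(zl (S : Subgroup G) P ⊓ centralizer (zl (S : Subgroup G) H : Set G)) <
        Nat.card (zl (S : Subgroup G) P) *
          Nat.card ↥(zl (S : Subgroup G) H ⊓ centralizer (zl (S : Subgroup G) P : Set G)) →
      IsKnownSimple' G

/-- **B1** -/
def B1 : Prop :=
  ∀ (G : Type u) [Group G] [Finite G], Ctx G → K G → ∀ (S : Sylow 2 G), Full (S : Subgroup G) →
    DataZ (S : Subgroup G) → CaseB1 (S : Subgroup G) → IsKnownSimple' G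

/-- **B2** -/
def B2 : Prop :=
  ∀ (G : Type u) [Group G] [Finite G], Ctx G → K G → ∀ (S : Sylow 2 G), Full (S : Subgroup G) →
    DataZ (S : Subgroup G) → CaseB2 (S : Subgroup G) → IsKnownSimple' G

/-- **B3** -/
def B3 : Prop :=
  ∀ (G : Type u) [Group G] [Finite G], Ctx G → K G → ∀ (S : Sylow 2 G), Full (S : Subgroup G) →
    DataZ (S : Subgroup G) → CaseB3 (S : Subgroup G) → IsKnownSimple' G

/-- Case (A). -/
def CaseAS : Prop :=
  ∀ (G : Type u) [Group G] [Finite G], Ctx G → K G → ∀ (S : Sylow 2 G), Full (S : Subgroup G) →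
    DataZ (S : Subgroup G) → CaseA (S : Subgroup G) → IsKnownSimple' G

/-- Not (A): the goal of B1, B2, B3 and of the minimal pairs (MP). -/
def CaseB : Prop :=
  ∀ (G : Type u) [Group G] [Finite G], Ctx G → K G → ∀ (S : Sylow 2 G), Full (S : Subgroup G) →
    DataZ (S : Subgroup G) → ¬ CaseA (S : Subgroup G) → IsKnownSimple' G

end sockets

variable {K : Cls.{u}}

/-- **Case (A) from its leaves.** -/
theorem caseA_of (hFF : FFThm.Stmt.{u}) (h1 : A1 K) (h2 : A2 K) (h3 : A3 K) (h4 : A4 K) : CaseAS K := by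
  intro G _ _ hG hcl S hF D hA
  obtain ⟨P, H, hPH⟩ := caseA_iff.1 hA
  by_cases hoff : Off (zl (S : Subgroup G) P) (zl (S : Subgroup G) H)
  · obtain ⟨hn, hC, hoff', he⟩ := PairA.off_of hG.char2 hFF hPH hoff
    have hE : Exact (S : Subgroup G) P H := ⟨hPH, hoff, hoff', hn, he⟩
    rcases hC with ⟨F, _, _, _, k, hk, ⟨M⟩⟩ | ⟨k, m, hk, hm, ⟨M⟩⟩
    · rcases Nat.lt_or_ge k 2 with h | h
      · obtain rfl : k = 1 := by omega
        exact h1 G hG hcl S hF D P H hE F M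
      · exact h2 G hG hcl S hF D P H hE F k h M
    · exact h3 G hG hcl S hF D P H hE k m hk hm M
  · have hoff' := (PairA.off_or hG.char2 hPH).resolve_left hoff
    refine h4 G hG hcl S hF D P H hPH hoff' ?_
    by_contra hcon
    exact hoff ⟨FFThm.elem_zl hG.char2 S hPH.long.loc, hPH.ne', not_lt.1 hcon⟩

/-- **Not (A) from its leaves.** -/
theorem caseB_of (h1 : B1 K) (h2 : B2 K) (h3 : B3 K) : CaseB K := by
  intro G _ _ hG hcl S hF D hA
  rcases Basic.cases (S : Subgroup G) with h | h | h | h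
  · exact absurd h hA
  · exact h1 G hG hcl S hF D h
  · exact h2 G hG hcl S hF D h
  · exact h3 G hG hcl S hF D h

/-- **The leaf NO-3L from R, (A) and not (A).** -/
theorem nodeNO3L_of (hR : R K) (hA : CaseAS K) (hB : CaseB K) : FrameNOFF.NodeNO3L K := by
  intro G _ _ hG hcl S hF hm hlow hloc
  have D := Data.mk' S hm hlow hloc
  by_cases hz : ∀ P : Subgroup G, IsParS (S : Subgroup G) P →
      zc (S : Subgroup G) ⊓ centralizer (P : Set G) = ⊥
  · have D' : DataZ (S : Subgroup G) := ⟨D, hz⟩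
    by_cases h : CaseA (S : Subgroup G)
    · exact hA G hG hcl S hF D' h
    · exact hB G hG hcl S hF D' h
  · push Not at hz
    obtain ⟨P, hP, h⟩ := hz
    exact hR G hG hcl S hF D P hP h

/-- **The leaf NO-3L from its sockets.** -/
theorem nodeNO3L (hFF : FFThm.Stmt.{u}) (hR : R K) (a1 : A1 K) (a2 : A2 K) (a3 : A3 K) (a4 : A4 K)
    (b1 : B1 K) (b2 : B2 K) (b3 : B3 K) : FrameNOFF.NodeNO3L K :=
  nodeNO3L_of hR (caseA_of hFF a1 a2 a3 a4) (caseB_of b1 b2 b3)

end Cfsg.Agent.Omega.NOThreeL.Main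

end

section


/-!
# NO-3L, piece B1, `|Z| = 2`: THEOREM TV (helper905)

K-free. `z` an involution, `H, K ≥ C_G(z)`, `U = ⟨z^H⟩`, `W = ⟨z^K⟩` elementary abelian, normal in `H` resp. `K`,
`S` a 2-subgroup of `C_G(z)` with `C_U(S), C_W(S) ≤ {1, z}`. If `[U, W] ≠ 1` and `|U : C_U(W)| = 2`, then

* `Tv.symm` : `|W : C_W(U)| = 2`, `[U, W] = ⟨z⟩`;
* `Tv.exists_form` : there is an `H`-invariant symplectic form on `U` such that `W` induces the transvection
  with centre `z`;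
* `Tv.false_of` : no `⟨z^P⟩ ≠ ⟨z⟩` with `S ≤ P ≤ K` is centralised by `U` (by `Tv.symm` the same with `H`, `W`).
-/

set_option autoImplicit false
set_option linter.style.haveILetI false

namespace Cfsg.Agent.Omega.NOThreeL.AdjTransv

open Subgroup

variable {G : Type*} [Group G]

/-- a 2-group `S` normalising the nontrivial elementary abelian group `N` has a nontrivial fixed point in `N` -/
theorem exists_fixed [Finite G] {S N : Subgroup G} (hS : IsPGroup 2 S) (hN : N ≠ ⊥) (hsq : ∀ n ∈ N, n * n = 1)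
    (hn : ∀ s ∈ S, ∀ n ∈ N, s * n * s⁻¹ ∈ N) : ∃ n ∈ N, n ≠ 1 ∧ ∀ s ∈ S, s * n * s⁻¹ = n := by
  letI act : MulAction S N :=
    { smul := fun s n => ⟨(s : G) * n * (s : G)⁻¹, hn s s.2 n n.2⟩
      one_smul := fun n => Subtype.ext (by change (1 : G) * n * (1 : G)⁻¹ = n; simp)
      mul_smul := fun a b n => Subtype.ext (by
        change ((a : G) * b) * n * ((a : G) * b)⁻¹ = a * (b * n * (b : G)⁻¹) * (a : G)⁻¹
        simp [mul_assoc]) }
  have hdvd : 2 ∣ Nat.card N := by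
    obtain ⟨n, hn1⟩ := ne_bot_iff_exists_ne_one.1 hN
    have h2 : orderOf n = 2 := by
      apply orderOf_eq_prime
      · rw [pow_two]; exact Subtype.ext (hsq _ n.2)
      · exact hn1
    rw [← h2]
    exact orderOf_dvd_natCard _
  have h1 : (1 : N) ∈ MulAction.fixedPoints S N := by
    intro s
    apply Subtype.ext
    change (s : G) * 1 * (s : G)⁻¹ = 1
    simp
  obtain ⟨b, hb, hne⟩ := hS.exists_fixed_point_of_prime_dvd_card_of_fixed_point N hdvd h1
  refine ⟨b, b.2, fun h => hne (Subtype.ext h.symm), fun s hs => ?_⟩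
  exact congrArg Subtype.val (hb ⟨s, hs⟩)

/-- an adjacent pair (without the noncommutativity) -/
structure Adj (z : G) (U W H K S : Subgroup G) : Prop where
  z1 : z ≠ 1
  zU : z ∈ U
  zW : z ∈ W
  sqU : ∀ u ∈ U, u * u = 1
  sqW : ∀ w ∈ W, w * w = 1
  nU : ∀ h ∈ H, ∀ u ∈ U, h * u * h⁻¹ ∈ U
  nW : ∀ k ∈ K, ∀ w ∈ W, k * w * k⁻¹ ∈ W
  cH : ∀ g, g * z = z * g → g ∈ H
  cK : ∀ g, g * z = z * g → g ∈ K
  genU : U ≤ closure {x | ∃ h ∈ H, x = h * z * h⁻¹}
  genW : W ≤ closure {x | ∃ k ∈ K, x = k * z * k⁻¹}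
  pS : IsPGroup 2 S
  cS : ∀ s ∈ S, s * z = z * s
  fixU : ∀ u ∈ U, (∀ s ∈ S, s * u * s⁻¹ = u) → u = 1 ∨ u = z
  fixW : ∀ w ∈ W, (∀ s ∈ S, s * w * s⁻¹ = w) → w = 1 ∨ w = z

/-- the centraliser of `W` -/
abbrev C (W : Subgroup G) : Subgroup G := centralizer (W : Set G)

theorem mem_C {W : Subgroup G} {v : G} : v ∈ C W ↔ ∀ w ∈ W, w * v = v * w := mem_centralizer_iff

/-- the character with kernel `C(W)` -/
noncomputable def chi (W : Subgroup G) (v : G) : ℤˣ := by
  classical exact if v ∈ C W then 1 else -1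

theorem chi_eq_one {W : Subgroup G} {v : G} : chi W v = 1 ↔ v ∈ C W := by
  unfold chi
  split
  · simpa
  · rename_i h
    simp only [h, iff_false]
    decide

theorem chi_of_not {W : Subgroup G} {v : G} (h : v ∉ C W) : chi W v = -1 := by
  unfold chi
  rw [if_neg h]

theorem eq_of_sq {a b : G} (ha : a * a = 1) (hb : b * b = 1) (hab : a * b * (a * b) = 1) : a * b = b * a := by
  have h1 : a⁻¹ = a := inv_eq_of_mul_eq_one_left ha
  have h2 : b⁻¹ = b := inv_eq_of_mul_eq_one_left hb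
  have h3 : (a * b)⁻¹ = a * b := inv_eq_of_mul_eq_one_left hab
  rw [mul_inv_rev, h1, h2] at h3
  exact h3.symm

theorem units_mul_self (a : ℤˣ) : a * a = 1 := by
  rcases Int.units_eq_one_or a with h | h <;> rw [h] <;> decide

namespace Adj

variable {z : G} {U W H K S : Subgroup G}

theorem symm (a : Adj z U W H K S) : Adj z W U K H S :=
  { z1 := a.z1, zU := a.zW, zW := a.zU, sqU := a.sqW, sqW := a.sqU, nU := a.nW, nW := a.nU, cH := a.cK, cK := a.cH,
    genU := a.genW, genW := a.genU, pS := a.pS, cS := a.cS, fixU := a.fixW, fixW := a.fixU }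

theorem zz (a : Adj z U W H K S) : z * z = 1 := a.sqU z a.zU

theorem commU (a : Adj z U W H K S) {u v : G} (hu : u ∈ U) (hv : v ∈ U) : u * v = v * u :=
  eq_of_sq (a.sqU u hu) (a.sqU v hv) (a.sqU _ (U.mul_mem hu hv))

theorem commW (a : Adj z U W H K S) {u v : G} (hu : u ∈ W) (hv : v ∈ W) : u * v = v * u := a.symm.commU hu hv

theorem UH (a : Adj z U W H K S) : U ≤ H := fun _ hu => a.cH _ (a.commU hu a.zU)

theorem UK (a : Adj z U W H K S) : U ≤ K := fun _ hu => a.cK _ (a.commU hu a.zU)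

theorem WH (a : Adj z U W H K S) : W ≤ H := a.symm.UK

theorem WK (a : Adj z U W H K S) : W ≤ K := a.symm.UH

theorem SH (a : Adj z U W H K S) : S ≤ H := fun _ hs => a.cH _ (a.cS _ hs)

theorem SK (a : Adj z U W H K S) : S ≤ K := fun _ hs => a.cK _ (a.cS _ hs)

theorem invU (a : Adj z U W H K S) {u : G} (hu : u ∈ U) : u⁻¹ = u := inv_eq_of_mul_eq_one_left (a.sqU u hu)

theorem invW (a : Adj z U W H K S) {u : G} (hu : u ∈ W) : u⁻¹ = u := a.symm.invU hu

/-- `C(W)` is normalised by `K` -/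
theorem normC (a : Adj z U W H K S) {k v : G} (hk : k ∈ K) (hv : v ∈ C W) : k * v * k⁻¹ ∈ C W := by
  rw [mem_C] at hv ⊢
  intro w hw
  have h1 := hv _ (a.nW k⁻¹ (K.inv_mem hk) w hw)
  rw [inv_inv] at h1
  calc w * (k * v * k⁻¹) = k * ((k⁻¹ * w * k) * v) * k⁻¹ := by simp only [mul_assoc, mul_inv_cancel_left]
    _ = k * (v * (k⁻¹ * w * k)) * k⁻¹ := by rw [h1]
    _ = k * v * k⁻¹ * w := by simp only [mul_assoc, mul_inv_cancel, mul_one]

theorem normC' (a : Adj z U W H K S) {k v : G} (hk : k ∈ K) (hv : k * v * k⁻¹ ∈ C W) : v ∈ C W := by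
  have h1 := a.normC (K.inv_mem hk) hv
  rw [inv_inv] at h1
  simpa [mul_assoc] using h1

/-- a nontrivial `S`-invariant subgroup of `U` contains `z` -/
theorem mem_of [Finite G] (a : Adj z U W H K S) {N : Subgroup G} (h1 : N ≤ U) (h2 : N ≠ ⊥)
    (h3 : ∀ s ∈ S, ∀ n ∈ N, s * n * s⁻¹ ∈ N) : z ∈ N := by
  obtain ⟨n, hn, hn1, hs⟩ := exists_fixed a.pS h2 (fun n hn => a.sqU n (h1 hn)) h3
  rcases a.fixU n (h1 hn) hs with h | h
  · exact absurd h hn1
  · rwa [← h]

/-- every point lies in `U` -/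
theorem ptU (a : Adj z U W H K S) {h : G} (hh : h ∈ H) : h * z * h⁻¹ ∈ U := a.nU h hh z a.zU

theorem zCW (a : Adj z U W H K S) : z ∈ C W := mem_C.2 fun _ hw => a.commW hw a.zW

end Adj

/-- an adjacent pair with `[U, W] ≠ 1` and `|U : C_U(W)| = 2` -/
structure Tv (z : G) (U W H K S : Subgroup G) : Prop extends Adj z U W H K S where
  ne : ∃ u ∈ U, u ∉ C W
  idx : ∀ u ∈ U, ∀ v ∈ U, u ∉ C W → v ∉ C W → u * v ∈ C W

namespace Tv

variable {z : G} {U W H K S : Subgroup G}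

theorem chi_mul (t : Tv z U W H K S) {u v : G} (hu : u ∈ U) (hv : v ∈ U) : chi W (u * v) = chi W u * chi W v := by
  by_cases h1 : u ∈ C W
  · by_cases h2 : v ∈ C W
    · rw [chi_eq_one.2 h1, chi_eq_one.2 h2, chi_eq_one.2 (mul_mem h1 h2)]; rfl
    · have h3 : u * v ∉ C W := fun h => h2 (by simpa using mul_mem (inv_mem h1) h)
      rw [chi_eq_one.2 h1, chi_of_not h2, chi_of_not h3]; rfl
  · by_cases h2 : v ∈ C W
    · have h3 : u * v ∉ C W := fun h => h1 (by simpa using mul_mem h (inv_mem h2))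
      rw [chi_of_not h1, chi_eq_one.2 h2, chi_of_not h3]; rfl
    · rw [chi_of_not h1, chi_of_not h2, chi_eq_one.2 (t.idx u hu v hv h1 h2)]; rfl

/-- `w` acts on `U` as a transvection with axis `C_U(W)` -/
theorem exists_e (t : Tv z U W H K S) {w : G} (hw : w ∈ W) : ∃ e ∈ U, e ∈ W ∧
    ∀ u ∈ U, u ∉ C W → w * u * w⁻¹ = u * e := by
  obtain ⟨u₁, hu₁, hn₁⟩ := t.ne
  refine ⟨u₁⁻¹ * (w * u₁ * w⁻¹), U.mul_mem (U.inv_mem hu₁) (t.nU w (t.WH hw) u₁ hu₁), ?_, ?_⟩
  · have h1 := t.nW u₁⁻¹ (t.UK (U.inv_mem hu₁)) w hw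
    rw [inv_inv] at h1
    have h2 := W.mul_mem h1 (W.inv_mem hw)
    have h3 : u₁⁻¹ * (w * u₁ * w⁻¹) = u₁⁻¹ * w * u₁ * w⁻¹ := by group
    rw [h3]; exact h2
  · intro u hu hn
    have h1 := mem_C.1 (t.idx u₁ hu₁ u hu hn₁ hn) w hw
    have h2 : w * u₁ * w⁻¹ ∈ U := t.nU w (t.WH hw) u₁ hu₁
    have h3 : w * u * w⁻¹ = (w * u₁ * w⁻¹) * (u₁ * u) := by
      have h4 : (w * u₁ * w⁻¹) * (w * (u₁ * u) * w⁻¹) = w * (u₁ * u₁) * u * w⁻¹ := by group
      rw [t.sqU u₁ hu₁, mul_one] at h4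
      rw [← h4, h1]
      group
    rw [h3, t.commU h2 (U.mul_mem hu₁ hu), t.commU hu₁ hu, t.invU hu₁]
    simp only [mul_assoc]

/-- some `w ∈ W` induces the transvection with axis `C_U(W)` and centre `z` -/
theorem exists_w [Finite G] (t : Tv z U W H K S) : ∃ w ∈ W, ∀ u ∈ U, u ∉ C W → w * u * w⁻¹ = u * z := by
  obtain ⟨u₁, hu₁, hn₁⟩ := t.ne
  let E : Subgroup G :=
    { carrier := {e | e ∈ U ∧ e ∈ W ∧ ∃ w ∈ W, ∀ u ∈ U, u ∉ C W → w * u * w⁻¹ = u * e}
      one_mem' := ⟨U.one_mem, W.one_mem, 1, W.one_mem, fun u _ _ => by simp⟩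
      mul_mem' := by
        rintro e f ⟨he, heW, w, hw, h1⟩ ⟨hf, hfW, v, hv, h2⟩
        refine ⟨U.mul_mem he hf, W.mul_mem heW hfW, w * v, W.mul_mem hw hv, fun u hu hn => ?_⟩
        have h3 : w * v * u * (w * v)⁻¹ = w * (v * u * v⁻¹) * w⁻¹ := by group
        rw [h3, h2 u hu hn]
        have h4 : w * (u * f) * w⁻¹ = (w * u * w⁻¹) * (w * f * w⁻¹) := by group
        rw [h4, h1 u hu hn, t.commW hw hfW, mul_inv_cancel_right, mul_assoc]
      inv_mem' := by
        rintro e ⟨he, heW, w, hw, h1⟩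
        refine ⟨U.inv_mem he, W.inv_mem heW, w, hw, fun u hu hn => ?_⟩
        rw [t.invU he]
        exact h1 u hu hn }
  have hz : z ∈ E := by
    apply t.mem_of (N := E) (fun e (he : e ∈ E) => he.1)
    · intro hE
      apply hn₁
      rw [mem_C]
      intro w hw
      obtain ⟨e, he, heW, h1⟩ := t.exists_e hw
      have h2 : e ∈ E := ⟨he, heW, w, hw, h1⟩
      rw [hE, mem_bot] at h2
      have h3 := h1 u₁ hu₁ hn₁
      rw [h2, mul_one] at h3
      exact mul_inv_eq_iff_eq_mul.1 h3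
    · rintro s hs e ⟨he, heW, w, hw, h1⟩
      refine ⟨t.nU s (t.SH hs) e he, t.nW s (t.SK hs) e heW, s * w * s⁻¹, t.nW s (t.SK hs) w hw, fun u hu hn => ?_⟩
      have h2 : s⁻¹ * u * s ∈ U := by
        have := t.nU s⁻¹ (t.SH (S.inv_mem hs)) u hu
        rwa [inv_inv] at this
      have h3 : s⁻¹ * u * s ∉ C W := by
        intro h
        apply hn
        have := t.normC (t.SK hs) h
        simpa [mul_assoc] using this
      have h4 := h1 _ h2 h3
      calc s * w * s⁻¹ * u * (s * w * s⁻¹)⁻¹ = s * (w * (s⁻¹ * u * s) * w⁻¹) * s⁻¹ := by group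
        _ = s * ((s⁻¹ * u * s) * e) * s⁻¹ := by rw [h4]
        _ = u * (s * e * s⁻¹) := by group
  exact hz.2.2

/-- symmetry -/
theorem sym1 [Finite G] (t : Tv z U W H K S) {k : G} (hk : k ∈ H) (h : k⁻¹ * z * k ∈ C W) : k * z * k⁻¹ ∈ C W := by
  by_contra hc
  obtain ⟨w₀, hw₀, hw⟩ := t.exists_w
  have hkz : k * w₀ * k⁻¹ * z = z * (k * w₀ * k⁻¹) := by
    have h1 := mem_C.1 h w₀ hw₀
    calc k * w₀ * k⁻¹ * z = k * (w₀ * (k⁻¹ * z * k)) * k⁻¹ := by group
      _ = k * ((k⁻¹ * z * k) * w₀) * k⁻¹ := by rw [h1]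
      _ = z * (k * w₀ * k⁻¹) := by group
  have hwK : k * w₀ * k⁻¹ ∈ K := t.cK _ hkz
  have key : ∀ u ∈ U ⊓ C W, k⁻¹ * u * k ∈ U ⊓ C W := by
    rintro u ⟨hu, huC⟩
    have hu' : k⁻¹ * u * k ∈ U := by
      have := t.nU k⁻¹ (H.inv_mem hk) u hu
      rwa [inv_inv] at this
    refine ⟨hu', ?_⟩
    by_contra hn
    have h1 := hw _ hu' hn
    have h2 : (k * w₀ * k⁻¹) * u * (k * w₀ * k⁻¹)⁻¹ = u * (k * z * k⁻¹) := by
      calc (k * w₀ * k⁻¹) * u * (k * w₀ * k⁻¹)⁻¹ = k * (w₀ * (k⁻¹ * u * k) * w₀⁻¹) * k⁻¹ := by group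
        _ = k * ((k⁻¹ * u * k) * z) * k⁻¹ := by rw [h1]
        _ = u * (k * z * k⁻¹) := by group
    have h3 := t.normC hwK huC
    rw [h2] at h3
    have h4 := (C W).mul_mem ((C W).inv_mem huC) h3
    rw [inv_mul_cancel_left] at h4
    exact hc h4
  let f : ↥(U ⊓ C W) → ↥(U ⊓ C W) := fun u => ⟨k⁻¹ * u * k, key u u.2⟩
  have hf : Function.Injective f := by
    intro a b hab
    have h1 : k⁻¹ * (a : G) * k = k⁻¹ * b * k := congrArg Subtype.val hab
    exact Subtype.ext (mul_left_cancel (mul_right_cancel h1))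
  obtain ⟨u, hu⟩ := (Finite.injective_iff_surjective.1 hf) ⟨z, t.zU, t.zCW⟩
  have h1 : k⁻¹ * (u : G) * k = z := congrArg Subtype.val hu
  have h2 : (u : G) = k * z * k⁻¹ := by rw [← h1]; group
  exact hc (h2 ▸ u.2.2)

theorem sym [Finite G] (t : Tv z U W H K S) {k : G} (hk : k ∈ H) : chi W (k⁻¹ * z * k) = chi W (k * z * k⁻¹) := by
  by_cases h : k⁻¹ * z * k ∈ C W
  · rw [chi_eq_one.2 h, chi_eq_one.2 (t.sym1 hk h)]
  · have h' : k * z * k⁻¹ ∉ C W := by
      intro h1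
      apply h
      have h2 := t.sym1 (H.inv_mem hk) (by rwa [inv_inv])
      rwa [inv_inv] at h2
    rw [chi_of_not h, chi_of_not h']

theorem sym2 [Finite G] (t : Tv z U W H K S) {k l : G} (hk : k ∈ H) (hl : l ∈ H) :
    chi W (k⁻¹ * (l * z * l⁻¹) * k) = chi W (l⁻¹ * (k * z * k⁻¹) * l) := by
  have h1 := t.sym (H.mul_mem (H.inv_mem hl) hk)
  have h2 : k⁻¹ * (l * z * l⁻¹) * k = (l⁻¹ * k)⁻¹ * z * (l⁻¹ * k) := by group
  have h3 : l⁻¹ * (k * z * k⁻¹) * l = (l⁻¹ * k) * z * (l⁻¹ * k)⁻¹ := by group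
  rw [h2, h3]
  exact h1

/-- the radical is trivial -/
theorem rad [Finite G] (t : Tv z U W H K S) {v : G} (hv : v ∈ U) (h : ∀ l ∈ H, l⁻¹ * v * l ∈ C W) : v = 1 := by
  let N : Subgroup G :=
    { carrier := {v | v ∈ U ∧ ∀ l ∈ H, l⁻¹ * v * l ∈ C W}
      one_mem' := ⟨U.one_mem, fun l _ => by simp⟩
      mul_mem' := by
        rintro a b ⟨ha, ha'⟩ ⟨hb, hb'⟩
        refine ⟨U.mul_mem ha hb, fun l hl => ?_⟩
        have := mul_mem (ha' l hl) (hb' l hl)
        have h1 : l⁻¹ * (a * b) * l = l⁻¹ * a * l * (l⁻¹ * b * l) := by group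
        rwa [h1]
      inv_mem' := by
        rintro a ⟨ha, ha'⟩
        show a⁻¹ ∈ U ∧ ∀ l ∈ H, l⁻¹ * a⁻¹ * l ∈ C W
        rw [t.invU ha]
        exact ⟨ha, ha'⟩ }
  by_contra hne
  have hN : N ≠ ⊥ := by
    intro h1
    apply hne
    have : v ∈ N := ⟨hv, h⟩
    rwa [h1, mem_bot] at this
  have hz : z ∈ N := by
    apply t.mem_of (N := N) (fun e (he : e ∈ N) => he.1) hN
    rintro s hs n ⟨hn, hn'⟩
    refine ⟨t.nU s (t.SH hs) n hn, fun l hl => ?_⟩
    have := hn' (s⁻¹ * l) (H.mul_mem (H.inv_mem (t.SH hs)) hl)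
    have h1 : l⁻¹ * (s * n * s⁻¹) * l = (s⁻¹ * l)⁻¹ * n * (s⁻¹ * l) := by group
    rwa [h1]
  obtain ⟨u₁, hu₁, hn₁⟩ := t.ne
  apply hn₁
  have : U ≤ C W := by
    refine t.genU.trans ((closure_le _).2 ?_)
    rintro x ⟨k, hk, rfl⟩
    have := hz.2 k⁻¹ (H.inv_mem hk)
    rwa [inv_inv] at this
  exact this hu₁

/-- some point of `U` is moved by `W` -/
theorem exists_pt (t : Tv z U W H K S) : ∃ k ∈ H, k * z * k⁻¹ ∉ C W := by
  by_contra hcon
  push Not at hcon
  obtain ⟨u₁, hu₁, hn₁⟩ := t.ne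
  apply hn₁
  have : U ≤ C W := by
    refine t.genU.trans ((closure_le _).2 ?_)
    rintro x ⟨k, hk, rfl⟩
    exact hcon k hk
  exact this hu₁

/-- the centre of `w` is `1` or `z` -/
theorem centre [Finite G] (t : Tv z U W H K S) {w e : G} (hw : w ∈ W) (he : e ∈ U)
    (h : ∀ u ∈ U, u ∉ C W → w * u * w⁻¹ = u * e) : e = 1 ∨ e = z := by
  obtain ⟨k, hk, hkc⟩ := t.exists_pt
  have hwH : w ∈ H := t.WH hw
  have hconj : ∀ l ∈ H, ∀ u ∈ U, l⁻¹ * u * l ∈ U := by
    intro l hl u hu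
    have := t.nU l⁻¹ (H.inv_mem hl) u hu
    rwa [inv_inv] at this
  have hmul : ∀ l ∈ H, ∀ u ∈ U, ∀ v ∈ U, chi W (l⁻¹ * (u * v) * l) = chi W (l⁻¹ * u * l) * chi W (l⁻¹ * v * l) := by
    intro l hl u hu v hv
    rw [← t.chi_mul (hconj l hl u hu) (hconj l hl v hv)]
    congr 1
    group
  have hxk : (w * k) * z * (w * k)⁻¹ = (k * z * k⁻¹) * e := by
    rw [← h _ (t.ptU hk) hkc]
    group
  have key : ∀ l ∈ H, chi W (l⁻¹ * (k * z * k⁻¹) * l) * chi W (l⁻¹ * e * l) =
      chi W (k⁻¹ * (w * (l * z * l⁻¹) * w⁻¹) * k) := by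
    intro l hl
    have h1 := t.sym2 hl (H.mul_mem hwH hk)
    rw [hxk, hmul l hl _ (t.ptU hk) _ he] at h1
    rw [h1]
    have h2 : w⁻¹ = w := t.invW hw
    congr 1
    rw [mul_inv_rev, h2]
    simp only [mul_assoc]
  have hA : ∀ l ∈ H, l * z * l⁻¹ ∈ C W → chi W (l⁻¹ * e * l) = 1 := by
    intro l hl hlc
    have h1 := key l hl
    have h2 : w * (l * z * l⁻¹) * w⁻¹ = l * z * l⁻¹ := mul_inv_eq_iff_eq_mul.2 (mem_C.1 hlc w hw)
    rw [h2, t.sym2 hk hl] at h1
    exact mul_eq_left.1 h1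
  have hB : ∀ l ∈ H, l * z * l⁻¹ ∉ C W → chi W (l⁻¹ * e * l) = chi W (k⁻¹ * e * k) := by
    intro l hl hlc
    have h1 := key l hl
    rw [h _ (t.ptU hl) hlc, hmul k hk _ (t.ptU hl) _ he, t.sym2 hk hl] at h1
    exact mul_left_cancel h1
  rcases Int.units_eq_one_or (chi W (k⁻¹ * e * k)) with h1 | h1
  · left
    refine t.rad he fun l hl => chi_eq_one.1 ?_
    by_cases hlc : l * z * l⁻¹ ∈ C W
    · exact hA l hl hlc
    · rw [hB l hl hlc, h1]
  · right
    have h2 : e * z = 1 := by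
      refine t.rad (U.mul_mem he t.zU) fun l hl => chi_eq_one.1 ?_
      rw [hmul l hl _ he _ t.zU, t.sym hl]
      by_cases hlc : l * z * l⁻¹ ∈ C W
      · rw [hA l hl hlc, chi_eq_one.2 hlc]; rfl
      · rw [hB l hl hlc, h1, chi_of_not hlc]; rfl
    rw [← t.invU t.zU]
    exact eq_inv_of_mul_eq_one_left h2

/-- `[U, W] = ⟨z⟩` -/
theorem dich [Finite G] (t : Tv z U W H K S) {w : G} (hw : w ∈ W) :
    w ∈ C U ∨ ∀ u ∈ U, u ∉ C W → w * u * w⁻¹ = u * z := by
  obtain ⟨e, he, _, h1⟩ := t.exists_e hw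
  rcases t.centre hw he h1 with h2 | h2
  · left
    rw [mem_C]
    intro u hu
    by_cases hc : u ∈ C W
    · exact (mem_C.1 hc w hw).symm
    · have h3 := h1 u hu hc
      rw [h2, mul_one] at h3
      exact (mul_inv_eq_iff_eq_mul.1 h3).symm
  · right
    intro u hu hc
    rw [h1 u hu hc, h2]

/-- the index is `2` on the other side as well -/
theorem symm [Finite G] (t : Tv z U W H K S) : Tv z W U K H S :=
  { t.toAdj.symm with
    ne := by
      obtain ⟨u₁, hu₁, hn₁⟩ := t.ne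
      obtain ⟨w, hw, h⟩ := t.exists_w
      refine ⟨w, hw, fun hc => t.z1 ?_⟩
      have h1 := mem_C.1 hc u₁ hu₁
      have h2 := h u₁ hu₁ hn₁
      rw [← h1, mul_inv_cancel_right] at h2
      exact (mul_eq_left.1 h2.symm)
    idx := by
      intro w hw w' hw' hc hc'
      have h1 := (t.dich hw).resolve_left hc
      have h2 := (t.dich hw').resolve_left hc'
      rw [mem_C]
      intro u hu
      by_cases hcu : u ∈ C W
      · exact (mem_C.1 hcu _ (W.mul_mem hw hw')).symm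
      · have h3 : (w * w') * u * (w * w')⁻¹ = u := by
          calc (w * w') * u * (w * w')⁻¹ = w * (w' * u * w'⁻¹) * w⁻¹ := by group
            _ = (w * u * w⁻¹) * (w * z * w⁻¹) := by rw [h2 u hu hcu]; group
            _ = u * z * z := by rw [h1 u hu hcu, t.commW hw t.zW, mul_inv_cancel_right]
            _ = u := by rw [mul_assoc, t.zz, mul_one]
        exact (mul_inv_eq_iff_eq_mul.1 h3).symm }

/-! ### the form -/

theorem ext_hom (t : Tv z U W H K S) {f g : G → ℤˣ} (hf : ∀ u ∈ U, ∀ v ∈ U, f (u * v) = f u * f v)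
    (hg : ∀ u ∈ U, ∀ v ∈ U, g (u * v) = g u * g v) (h : ∀ k ∈ H, f (k * z * k⁻¹) = g (k * z * k⁻¹)) :
    ∀ u ∈ U, f u = g u := by
  have h1 : ∀ u ∈ closure {x | ∃ h ∈ H, x = h * z * h⁻¹}, u ∈ U ∧ f u = g u := by
    intro u hu
    refine closure_induction (p := fun u _ => u ∈ U ∧ f u = g u) ?_ ?_ ?_ ?_ hu
    · rintro x ⟨k, hk, rfl⟩
      exact ⟨t.ptU hk, h k hk⟩
    · refine ⟨U.one_mem, ?_⟩
      have h2 := hf 1 U.one_mem 1 U.one_mem
      have h3 := hg 1 U.one_mem 1 U.one_mem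
      rw [mul_one, units_mul_self] at h2 h3
      rw [h2, h3]
    · rintro x y _ _ ⟨hx, hx'⟩ ⟨hy, hy'⟩
      exact ⟨U.mul_mem hx hy, by rw [hf x hx y hy, hg x hx y hy, hx', hy']⟩
    · rintro x _ ⟨hx, hx'⟩
      rw [t.invU hx]
      exact ⟨hx, hx'⟩
  exact fun u hu => (h1 u (t.genU hu)).2

/-- the `H`-invariant symplectic form on `U` -/
theorem exists_form [Finite G] (t : Tv z U W H K S) : ∃ B : G → G → ℤˣ,
    (∀ u ∈ U, ∀ v ∈ U, ∀ v' ∈ U, B u (v * v') = B u v * B u v') ∧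
    (∀ u ∈ U, ∀ v ∈ U, B u v = B v u) ∧
    (∀ h ∈ H, ∀ u ∈ U, ∀ v ∈ U, B (h * u * h⁻¹) (h * v * h⁻¹) = B u v) ∧
    (∀ v ∈ U, (∀ u ∈ U, B v u = 1) → v = 1) ∧
    (∀ v ∈ U, B z v = chi W v) := by
  have hconj : ∀ l ∈ H, ∀ u ∈ U, l⁻¹ * u * l ∈ U := by
    intro l hl u hu
    have := t.nU l⁻¹ (H.inv_mem hl) u hu
    rwa [inv_inv] at this
  have hmul : ∀ l ∈ H, ∀ u ∈ U, ∀ v ∈ U, chi W (l⁻¹ * (u * v) * l) = chi W (l⁻¹ * u * l) * chi W (l⁻¹ * v * l) := by
    intro l hl u hu v hv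
    rw [← t.chi_mul (hconj l hl u hu) (hconj l hl v hv)]
    congr 1
    group
  have hex : ∀ u, u ∈ U → ∃ φ : G → ℤˣ, (∀ v ∈ U, ∀ v' ∈ U, φ (v * v') = φ v * φ v') ∧
      ∀ k ∈ H, φ (k * z * k⁻¹) = chi W (k⁻¹ * u * k) := by
    intro u hu
    have h1 : u ∈ U ∧ ∃ φ : G → ℤˣ, (∀ v ∈ U, ∀ v' ∈ U, φ (v * v') = φ v * φ v') ∧
      ∀ k ∈ H, φ (k * z * k⁻¹) = chi W (k⁻¹ * u * k) := by
      refine closure_induction (p := fun u _ => u ∈ U ∧ ∃ φ : G → ℤˣ,
        (∀ v ∈ U, ∀ v' ∈ U, φ (v * v') = φ v * φ v') ∧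
        ∀ k ∈ H, φ (k * z * k⁻¹) = chi W (k⁻¹ * u * k)) ?_ ?_ ?_ ?_ (t.genU hu)
      · rintro x ⟨l, hl, rfl⟩
        exact ⟨t.ptU hl, fun v => chi W (l⁻¹ * v * l), hmul l hl, fun k hk => (t.sym2 hl hk)⟩
      · refine ⟨U.one_mem, fun _ => 1, fun _ _ _ _ => (one_mul _).symm, fun k _ => ?_⟩
        rw [mul_one, inv_mul_cancel]
        exact (chi_eq_one.2 (C W).one_mem).symm
      · rintro x y _ _ ⟨hx, φ, h1, h2⟩ ⟨hy, ψ, h3, h4⟩
        refine ⟨U.mul_mem hx hy, fun v => φ v * ψ v, fun v hv v' hv' => ?_, fun k hk => ?_⟩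
        · simp only [h1 v hv v' hv', h3 v hv v' hv']
          exact mul_mul_mul_comm _ _ _ _
        · show φ (k * z * k⁻¹) * ψ (k * z * k⁻¹) = _
          rw [h2 k hk, h4 k hk, hmul k hk x hx y hy]
      · rintro x _ ⟨hx, h⟩
        rw [t.invU hx]
        exact ⟨hx, h⟩
    exact h1.2
  choose! B hB1 hB2 using hex
  have hpt : ∀ k ∈ H, ∀ v ∈ U, B (k * z * k⁻¹) v = chi W (k⁻¹ * v * k) := by
    intro k hk
    refine t.ext_hom (hB1 _ (t.ptU hk)) (hmul k hk) fun l hl => ?_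
    rw [hB2 _ (t.ptU hk) l hl]
    exact t.sym2 hl hk
  have hadd : ∀ u ∈ U, ∀ u' ∈ U, ∀ v ∈ U, B (u * u') v = B u v * B u' v := by
    intro u hu u' hu'
    refine t.ext_hom (hB1 _ (U.mul_mem hu hu')) ?_ fun l hl => ?_
    · intro v hv v' hv'
      rw [hB1 u hu v hv v' hv', hB1 u' hu' v hv v' hv']
      exact mul_mul_mul_comm _ _ _ _
    · rw [hB2 _ (U.mul_mem hu hu') l hl, hB2 _ hu l hl, hB2 _ hu' l hl]
      exact hmul l hl u hu u' hu'
  refine ⟨B, hB1, ?_, ?_, ?_, ?_⟩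
  · intro u hu
    refine t.ext_hom (hB1 u hu) (fun v hv v' hv' => hadd v hv v' hv' u hu) fun k hk => ?_
    rw [hB2 u hu k hk, hpt k hk u hu]
  · intro h hh u hu
    refine t.ext_hom ?_ (hB1 u hu) fun k hk => ?_
    · intro v hv v' hv'
      have h1 : h * (v * v') * h⁻¹ = (h * v * h⁻¹) * (h * v' * h⁻¹) := by group
      rw [h1]
      exact hB1 _ (t.nU h hh u hu) _ (t.nU h hh v hv) _ (t.nU h hh v' hv')
    · have h1 : h * (k * z * k⁻¹) * h⁻¹ = (h * k) * z * (h * k)⁻¹ := by group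
      rw [h1, hB2 _ (t.nU h hh u hu) _ (H.mul_mem hh hk), hB2 u hu k hk]
      congr 1
      group
  · intro v hv h
    refine t.rad hv fun l hl => chi_eq_one.1 ?_
    rw [← hB2 v hv l hl]
    exact h _ (t.ptU hl)
  · intro v hv
    have := hpt 1 H.one_mem v hv
    simpa using this

end Tv

/-! ### the three points `z`, `c' = g z g⁻¹`, `z c'` -/

/-- `c' = g z g⁻¹` is a point of `U` moved by `s ∈ W`; `s' = g s g⁻¹` -/
structure Sit (z : G) (U W H K S : Subgroup G) (g s : G) : Prop extends Tv z U W H K S where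
  hg : g ∈ H
  hc : g * z * g⁻¹ ∉ C W
  hs : s ∈ W
  hs' : ∀ u ∈ U, u ∉ C W → s * u * s⁻¹ = u * z

theorem Tv.exists_sit [Finite G] {z : G} {U W H K S : Subgroup G} (t : Tv z U W H K S) :
    ∃ g s, Sit z U W H K S g s := by
  obtain ⟨g, hg, hc⟩ := t.exists_pt
  obtain ⟨s, hs, hs'⟩ := t.exists_w
  exact ⟨g, s, { t with hg := hg, hc := hc, hs := hs, hs' := hs' }⟩

namespace Sit

variable {z : G} {U W H K S : Subgroup G} {g s : G}

/-- `Y = C_W(U)` -/
def Y (_ : Sit z U W H K S g s) : Subgroup G := W ⊓ C U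

/-- `Y' = C_{W^g}(U)` -/
def Y' (_ : Sit z U W H K S g s) : Subgroup G := (W ⊓ C U).comap (MulAut.conj g⁻¹).toMonoidHom

/-- `T = Y ∩ Y'` -/
def T (d : Sit z U W H K S g s) : Subgroup G := d.Y ⊓ d.Y'

variable (d : Sit z U W H K S g s)

include d

theorem mem_Y {y : G} : y ∈ d.Y ↔ y ∈ W ∧ y ∈ C U := Iff.rfl

theorem mem_Y' {y : G} : y ∈ d.Y' ↔ g⁻¹ * y * g ∈ W ∧ y ∈ C U := by
  have h0 : y ∈ d.Y' ↔ g⁻¹ * y * g⁻¹⁻¹ ∈ W ∧ g⁻¹ * y * g⁻¹⁻¹ ∈ C U := Iff.rfl
  rw [h0, inv_inv]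
  refine and_congr_right fun _ => ⟨fun h => ?_, fun h => ?_⟩
  · have := d.toAdj.symm.normC d.hg h
    simpa [mul_assoc] using this
  · have := d.toAdj.symm.normC (H.inv_mem d.hg) h
    rwa [inv_inv] at this

theorem mem_T {y : G} : y ∈ d.T ↔ y ∈ d.Y ∧ y ∈ d.Y' := Iff.rfl

theorem sH : s ∈ H := d.WH d.hs

theorem s'H : g * s * g⁻¹ ∈ H := H.mul_mem (H.mul_mem d.hg d.sH) (H.inv_mem d.hg)

/-- `s` moves `c'` to `c' z` -/
theorem s_c' : s * (g * z * g⁻¹) * s⁻¹ = g * z * g⁻¹ * z := d.hs' _ (d.ptU d.hg) d.hc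

/-- `s'` moves `z` to `z c'` -/
theorem s'_z [Finite G] : (g * s * g⁻¹) * z * (g * s * g⁻¹)⁻¹ = z * (g * z * g⁻¹) := by
  have h1 : g⁻¹ * z * g ∈ U := by
    have := d.ptU (H.inv_mem d.hg)
    rwa [inv_inv] at this
  have h2 : g⁻¹ * z * g ∉ C W := fun h => d.hc (d.sym1 d.hg h)
  calc (g * s * g⁻¹) * z * (g * s * g⁻¹)⁻¹ = g * (s * (g⁻¹ * z * g) * s⁻¹) * g⁻¹ := by group
    _ = g * ((g⁻¹ * z * g) * z) * g⁻¹ := by rw [d.hs' _ h1 h2]
    _ = z * (g * z * g⁻¹) := by group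

theorem comm_s {y : G} (hy : y ∈ W) : s * y * s⁻¹ = y := by
  rw [d.commW d.hs hy, mul_inv_cancel_right]

theorem comm_s' {y : G} (hy : g⁻¹ * y * g ∈ W) : (g * s * g⁻¹) * y * (g * s * g⁻¹)⁻¹ = y := by
  calc (g * s * g⁻¹) * y * (g * s * g⁻¹)⁻¹ = g * (s * (g⁻¹ * y * g) * s⁻¹) * g⁻¹ := by group
    _ = y := by rw [d.comm_s hy]; group

theorem c'_ne : g * z * g⁻¹ ≠ 1 := fun h => d.hc (h ▸ (C W).one_mem)

/-- `z ∉ T` -/
theorem z_T [Finite G] : z ∉ d.T := by
  intro h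
  have h1 := (d.mem_Y'.1 h.2).1
  have h2 := d.comm_s' h1
  rw [d.s'_z] at h2
  exact d.c'_ne (mul_eq_left.1 h2)

/-- `Y` is normalised by everything centralising `z` -/
theorem Y_norm {x y : G} (hx : x * z = z * x) (hy : y ∈ d.Y) : x * y * x⁻¹ ∈ d.Y :=
  ⟨d.nW x (d.cK x hx) y hy.1, d.toAdj.symm.normC (d.cH x hx) hy.2⟩

/-- `Y'` is normalised by everything centralising `c'` -/
theorem Y'_norm {x y : G} (hx : x * (g * z * g⁻¹) = (g * z * g⁻¹) * x) (hy : y ∈ d.Y') : x * y * x⁻¹ ∈ d.Y' := by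
  have h1 : (g⁻¹ * x * g) * z = z * (g⁻¹ * x * g) := by
    calc (g⁻¹ * x * g) * z = g⁻¹ * (x * (g * z * g⁻¹)) * g := by group
      _ = g⁻¹ * ((g * z * g⁻¹) * x) * g := by rw [hx]
      _ = z * (g⁻¹ * x * g) := by group
  have h2 := d.mem_Y'.1 hy
  have h3 := d.nW _ (d.cK _ h1) _ h2.1
  have h4 : g⁻¹ * x * g * (g⁻¹ * y * g) * (g⁻¹ * x * g)⁻¹ = g⁻¹ * (x * y * x⁻¹) * g := by group
  rw [h4] at h3
  refine d.mem_Y'.2 ⟨h3, ?_⟩
  have h5 : x ∈ H := by
    have := H.mul_mem (H.mul_mem d.hg (d.cH _ h1)) (H.inv_mem d.hg)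
    have h6 : g * (g⁻¹ * x * g) * g⁻¹ = x := by group
    rwa [h6] at this
  exact d.toAdj.symm.normC h5 h2.2

theorem CU_z {y : G} (hy : y ∈ C U) : y * z = z * y := (mem_C.1 hy z d.zU).symm

theorem CU_c' {y : G} (hy : y ∈ C U) : y * (g * z * g⁻¹) = (g * z * g⁻¹) * y := (mem_C.1 hy _ (d.ptU d.hg)).symm

/-- `[Y, Y'] ≤ T` -/
theorem comm_T {y y' : G} (hy : y ∈ d.Y) (hy' : y' ∈ d.Y') : y' * y * y'⁻¹ * y⁻¹ ∈ d.T := by
  refine ⟨d.Y.mul_mem (d.Y_norm (d.CU_z (d.mem_Y'.1 hy').2) hy) (d.Y.inv_mem hy), ?_⟩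
  have h1 := d.Y'_norm (d.CU_c' hy.2) (d.Y'.inv_mem hy')
  have h2 := d.Y'.mul_mem hy' h1
  have h3 : y' * (y * y'⁻¹ * y⁻¹) = y' * y * y'⁻¹ * y⁻¹ := by group
  rwa [h3] at h2

/-- `s' Y s'⁻¹ = s Y' s⁻¹` -/
theorem exists_y0 [Finite G] {y : G} (hy : y ∈ d.Y) : ∃ y₀ ∈ d.Y', s * y₀ * s⁻¹ = (g * s * g⁻¹) * y * (g * s * g⁻¹)⁻¹ := by
  refine ⟨s⁻¹ * ((g * s * g⁻¹) * y * (g * s * g⁻¹)⁻¹) * s, ?_, by group⟩
  -- `x = (s g)⁻¹ s'` centralises `z`
  have h1 : ((s * g)⁻¹ * (g * s * g⁻¹)) * z = z * ((s * g)⁻¹ * (g * s * g⁻¹)) := by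
    have h2 : (s * g) * z * (s * g)⁻¹ = (g * s * g⁻¹) * z * (g * s * g⁻¹)⁻¹ := by
      rw [d.s'_z, d.commU d.zU (d.ptU d.hg), ← d.s_c']
      group
    have h3 := mul_inv_eq_iff_eq_mul.1 h2
    calc ((s * g)⁻¹ * (g * s * g⁻¹)) * z
        = (s * g)⁻¹ * ((g * s * g⁻¹) * z * (g * s * g⁻¹)⁻¹) * (g * s * g⁻¹) := by group
      _ = (s * g)⁻¹ * ((s * g) * z * (s * g)⁻¹) * (g * s * g⁻¹) := by rw [h2]
      _ = z * ((s * g)⁻¹ * (g * s * g⁻¹)) := by group
  have h4 := d.Y_norm h1 hy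
  have h5 : g⁻¹ * (s⁻¹ * ((g * s * g⁻¹) * y * (g * s * g⁻¹)⁻¹) * s) * g =
      ((s * g)⁻¹ * (g * s * g⁻¹)) * y * ((s * g)⁻¹ * (g * s * g⁻¹))⁻¹ := by group
  refine d.mem_Y'.2 ⟨?_, ?_⟩
  · rw [h5]; exact h4.1
  · have h6 : ((g * s * g⁻¹) * y * (g * s * g⁻¹)⁻¹) ∈ C U := d.toAdj.symm.normC d.s'H hy.2
    have h7 := d.toAdj.symm.normC (H.inv_mem d.sH) h6
    rwa [inv_inv] at h7

/-- `[W, Y'] ≤ Y` -/
theorem W_Y' {w y' : G} (hw : w ∈ W) (hy' : y' ∈ C U) : w * y' * w⁻¹ * y'⁻¹ ∈ d.Y := by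
  constructor
  · have h1 := d.nW y' (d.cK _ (d.CU_z hy')) w⁻¹ (W.inv_mem hw)
    have h2 := W.mul_mem hw h1
    have h3 : w * (y' * w⁻¹ * y'⁻¹) = w * y' * w⁻¹ * y'⁻¹ := by group
    rwa [h3] at h2
  · exact (C U).mul_mem (d.toAdj.symm.normC (d.WH hw) hy') ((C U).inv_mem hy')

/-- `[s', Y] ≤ Y'` -/
theorem s'_Y {y : G} (hy : y ∈ d.Y) : (g * s * g⁻¹) * y * (g * s * g⁻¹)⁻¹ * y⁻¹ ∈ d.Y' := by
  have h1 : (g⁻¹ * y⁻¹ * g) * z = z * (g⁻¹ * y⁻¹ * g) := by
    have h0 := d.CU_c' ((C U).inv_mem hy.2)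
    calc (g⁻¹ * y⁻¹ * g) * z = g⁻¹ * (y⁻¹ * (g * z * g⁻¹)) * g := by group
      _ = g⁻¹ * ((g * z * g⁻¹) * y⁻¹) * g := by rw [h0]
      _ = z * (g⁻¹ * y⁻¹ * g) := by group
  refine d.mem_Y'.2 ⟨?_, ?_⟩
  · have h2 := d.nW _ (K.inv_mem (d.cK _ h1)) s⁻¹ (W.inv_mem d.hs)
    have h3 := W.mul_mem d.hs h2
    have h4 : s * ((g⁻¹ * y⁻¹ * g)⁻¹ * s⁻¹ * (g⁻¹ * y⁻¹ * g)⁻¹⁻¹) =
        g⁻¹ * (g * s * g⁻¹ * y * (g * s * g⁻¹)⁻¹ * y⁻¹) * g := by group
    rwa [h4] at h3
  · exact (C U).mul_mem (d.toAdj.symm.normC d.s'H hy.2) ((C U).inv_mem hy.2)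

/-- (*) : `Y = [s, Y'] T` -/
theorem star [Finite G] {y : G} (hy : y ∈ d.Y) : ∃ y₀ ∈ d.Y', (s * y₀ * s⁻¹ * y₀⁻¹)⁻¹ * y ∈ d.T := by
  obtain ⟨y₀, hy₀, h0⟩ := d.exists_y0 hy
  refine ⟨y₀, hy₀, ?_⟩
  -- `a = [s, y₀] ∈ Y`, `b = [s', y] ∈ Y'`, `b y = a y₀`
  have ha := d.W_Y' d.hs (d.mem_Y'.1 hy₀).2
  have hb := d.s'_Y hy
  rw [← h0] at hb
  set a := s * y₀ * s⁻¹ * y₀⁻¹ with ha_def
  set b := s * y₀ * s⁻¹ * y⁻¹ with hb_def
  have h1 : b * y = a * y₀ := by rw [ha_def, hb_def]; group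
  -- `b⁻¹ a⁻¹ b y = b⁻¹ y₀ ∈ Y ∩ Y'`
  have h2 : b⁻¹ * y₀ = (b⁻¹ * a⁻¹ * b) * y := by
    have : y₀ = a⁻¹ * (b * y) := by rw [h1]; group
    rw [this]; group
  have hbz : b⁻¹ * z = z * b⁻¹ := d.CU_z ((C U).inv_mem (d.mem_Y'.1 hb).2)
  have h3 : b⁻¹ * a⁻¹ * b ∈ d.Y := by
    have := d.Y_norm hbz (d.Y.inv_mem ha)
    rwa [inv_inv] at this
  have h4 : (b⁻¹ * a⁻¹ * b) * y ∈ d.T :=
    ⟨d.Y.mul_mem h3 hy, h2 ▸ d.Y'.mul_mem (d.Y'.inv_mem hb) hy₀⟩
  have h5 : b⁻¹ * a⁻¹ * b * a ∈ d.T := by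
    have := d.comm_T (d.Y.inv_mem ha) (d.Y'.inv_mem hb)
    rwa [inv_inv, inv_inv] at this
  have h6 := d.T.mul_mem (d.T.inv_mem h5) h4
  have h7 : (b⁻¹ * a⁻¹ * b * a)⁻¹ * (b⁻¹ * a⁻¹ * b * y) = a⁻¹ * y := by group
  rwa [h7] at h6

/-- `Y = T ∪ z T`, and `Y'` centralises `Y` -/
theorem Y_T [Finite G] {y : G} (hy : y ∈ d.Y) : y ∈ d.T ∨ z * y ∈ d.T := by
  obtain ⟨B, hB1, hB2, hB3, hB4, hB5⟩ := d.toTv.symm.exists_form
  have hB1' : ∀ u ∈ W, ∀ v ∈ W, ∀ x ∈ W, B (u * v) x = B u x * B v x := by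
    intro u hu v hv x hx
    rw [hB2 _ (W.mul_mem hu hv) x hx, hB1 x hx u hu v hv, hB2 x hx u hu, hB2 x hx v hv]
  have hYW : ∀ y, y ∈ d.Y → y ∈ W := fun y hy => hy.1
  have hTW : ∀ y, y ∈ d.T → y ∈ W := fun y hy => hy.1.1
  -- invariance : an element of `C(U)` centralising `v` : `B([w, y'], v) = 1`
  have hinv : ∀ w ∈ W, ∀ y' ∈ C U, ∀ v ∈ W, y' * v * y'⁻¹ = v → B (w * y' * w⁻¹ * y'⁻¹) v = 1 := by
    intro w hw y' hy' v hv hc
    have h1 : w * y' * w⁻¹ * y'⁻¹ = w * (y' * w⁻¹ * y'⁻¹) := by group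
    have hK := d.cK _ (d.CU_z hy')
    have h2 : B (y' * w⁻¹ * y'⁻¹) v = B w⁻¹ v := by
      conv_lhs => rw [← hc]
      exact hB3 y' hK _ (W.inv_mem hw) v hv
    rw [h1, hB1' w hw _ (d.nW y' hK _ (W.inv_mem hw)) v hv, h2, d.invW hw, units_mul_self]
  -- `Y'` is abelian
  have hab : ∀ y' ∈ d.Y', ∀ x ∈ d.Y', y' * x * y'⁻¹ = x := by
    intro y' hy' x hx
    have h1 := d.commW (d.mem_Y'.1 hy').1 (d.mem_Y'.1 hx).1
    have h2 : y' * x = x * y' := by
      calc y' * x = g * ((g⁻¹ * y' * g) * (g⁻¹ * x * g)) * g⁻¹ := by group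
        _ = g * ((g⁻¹ * x * g) * (g⁻¹ * y' * g)) * g⁻¹ := by rw [h1]
        _ = x * y' := by group
    rw [h2, mul_inv_cancel_right]
  have hperp : ∀ w ∈ W, ∀ y' ∈ d.Y', ∀ x ∈ d.T, B (w * y' * w⁻¹ * y'⁻¹) x = 1 := fun w hw y' hy' x hx =>
    hinv w hw y' (d.mem_Y'.1 hy').2 x (hTW x hx) (hab y' hy' x hx.2)
  -- an element of `W` perpendicular to `Y` is `1` or `z`
  have hYperp : ∀ x ∈ W, (∀ y ∈ d.Y, B x y = 1) → x = 1 ∨ x = z := by
    intro x hx hxy
    have hBz : ∀ w ∈ W, w ∉ d.Y → B z w = -1 := by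
      intro w hw hn
      rw [hB5 w hw]
      exact chi_of_not fun h => hn ⟨hw, h⟩
    have hBz' : ∀ w, w ∈ d.Y → B z w = 1 := by
      intro w hw
      rw [hB5 w (hYW w hw)]
      exact chi_eq_one.2 hw.2
    have hsn : s ∉ d.Y := by
      intro h
      have h1 := mem_C.1 h.2 _ (d.ptU d.hg)
      have h2 := d.s_c'
      rw [← h1, mul_inv_cancel_right] at h2
      exact d.z1 (mul_eq_left.1 h2.symm)
    have hoff : ∀ w ∈ W, w ∉ d.Y → B x w = B x s := by
      intro w hw hn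
      have h1 : w * s ∈ d.Y := ⟨W.mul_mem hw d.hs, d.toTv.symm.idx w hw s d.hs (fun h => hn ⟨hw, h⟩) fun h => hsn ⟨d.hs, h⟩⟩
      have h2 := hxy _ h1
      rw [hB1 x hx w hw s d.hs] at h2
      rw [eq_inv_of_mul_eq_one_left h2, Int.units_inv_eq_self]
    rcases Int.units_eq_one_or (B x s) with h1 | h1
    · left
      refine hB4 x hx fun w hw => ?_
      by_cases hwy : w ∈ d.Y
      · exact hxy w hwy
      · rw [hoff w hw hwy, h1]
    · right
      have h2 : x * z = 1 := by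
        refine hB4 _ (W.mul_mem hx d.zW) fun w hw => ?_
        rw [hB1' x hx z d.zW w hw]
        by_cases hwy : w ∈ d.Y
        · rw [hxy w hwy, hBz' w hwy]; rfl
        · rw [hoff w hw hwy, h1, hBz w hw hwy]; rfl
      rw [← d.invW d.zW]
      exact eq_inv_of_mul_eq_one_left h2
  -- `T ∩ T^⊥ = 1`
  have hTT : ∀ x ∈ d.T, (∀ x' ∈ d.T, B x x' = 1) → x = 1 := by
    intro x hx h
    refine (hYperp x (hTW x hx) fun y hy => ?_).resolve_right fun h => d.z_T (h ▸ hx)
    obtain ⟨y₀, hy₀, h1⟩ := d.star hy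
    have ha := d.W_Y' d.hs (d.mem_Y'.1 hy₀).2
    have h2 : y = (s * y₀ * s⁻¹ * y₀⁻¹) * ((s * y₀ * s⁻¹ * y₀⁻¹)⁻¹ * y) := by group
    rw [h2, hB1 x (hTW x hx) _ (hYW _ ha) _ (hTW _ h1), h _ h1, mul_one,
      hB2 x (hTW x hx) _ (hYW _ ha)]
    exact hperp s d.hs y₀ hy₀ x hx
  -- `[Y, Y'] = 1`
  have hYY : ∀ y ∈ d.Y, ∀ y' ∈ d.Y', y' * y * y'⁻¹ = y := by
    intro y hy y' hy'
    have h1 := d.comm_T hy hy'
    have h2 : y' * y * y'⁻¹ * y⁻¹ = 1 := by
      refine hTT _ h1 fun x hx => ?_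
      have h3 : y' * y * y'⁻¹ * y⁻¹ = (y * y' * y⁻¹ * y'⁻¹)⁻¹ := by group
      have h4 : y * y' * y⁻¹ * y'⁻¹ ∈ W := (d.W_Y' (hYW y hy) (d.mem_Y'.1 hy').2).1
      rw [h3, d.invW h4]
      exact hperp y (hYW y hy) y' hy' x hx
    exact mul_inv_eq_one.1 h2
  -- `[W, Y'] ≤ ⟨z⟩`
  obtain ⟨y₀, hy₀, h1⟩ := d.star hy
  have ha := d.W_Y' d.hs (d.mem_Y'.1 hy₀).2
  rcases hYperp _ (hYW _ ha) fun y hy => hinv s d.hs y₀ (d.mem_Y'.1 hy₀).2 y (hYW y hy) (hYY y hy y₀ hy₀) with h2 | h2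
  · left
    rwa [h2, inv_one, one_mul] at h1
  · right
    rwa [h2, d.invW d.zW] at h1

/-- no point of `W` under `K` lies in `T` -/
theorem pt_T [Finite G] {p : G} (hp : p ∈ K) : p * z * p⁻¹ ∉ d.T := by
  intro h
  have h1 := d.comm_s' (d.mem_Y'.1 h.2).1
  have h2 : (p⁻¹ * (g * s * g⁻¹) * p) * z = z * (p⁻¹ * (g * s * g⁻¹) * p) := by
    have h3 := mul_inv_eq_iff_eq_mul.1 h1
    calc (p⁻¹ * (g * s * g⁻¹) * p) * z = p⁻¹ * ((g * s * g⁻¹) * (p * z * p⁻¹)) * p := by group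
      _ = p⁻¹ * ((p * z * p⁻¹) * (g * s * g⁻¹)) * p := by rw [h3]
      _ = z * (p⁻¹ * (g * s * g⁻¹) * p) := by group
  have h4 : g * s * g⁻¹ ∈ K := by
    have := K.mul_mem (K.mul_mem hp (d.cK _ h2)) (K.inv_mem hp)
    have h5 : p * (p⁻¹ * (g * s * g⁻¹) * p) * p⁻¹ = g * s * g⁻¹ := by group
    rwa [h5] at this
  have h5 := d.nW _ h4 z d.zW
  rw [d.s'_z] at h5
  have h6 : g * z * g⁻¹ ∈ W := by
    have := W.mul_mem (W.inv_mem d.zW) h5
    rwa [inv_mul_cancel_left] at this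
  have h7 := d.comm_s h6
  rw [d.s_c'] at h7
  exact d.z1 (mul_eq_left.1 h7)

end Sit

/-- **THEOREM TV** -/
theorem Tv.false_of [Finite G] {z : G} {U W H K S P : Subgroup G} (t : Tv z U W H K S) (hSP : S ≤ P) (hPK : P ≤ K)
    (hcen : ∀ p ∈ P, p * z * p⁻¹ ∈ C U) (hne : ∃ p ∈ P, p * z ≠ z * p) : False := by
  obtain ⟨g, s, d⟩ := t.exists_sit
  have hptY : ∀ p ∈ P, p * z * p⁻¹ ∈ d.Y := fun p hp => ⟨t.nW p (hPK hp) z t.zW, hcen p hp⟩
  have hptT : ∀ p ∈ P, p * z * p⁻¹ ∉ d.T := fun p hp => d.pt_T (hPK hp)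
  -- in `Y` : `a b ∈ T` iff (`a ∈ T` iff `b ∈ T`)
  have hTz : ∀ a ∈ d.Y, a ∉ d.T → ∀ b ∈ d.Y, b ∉ d.T → a * b ∈ d.T := by
    intro a ha hna b hb hnb
    have h1 := (d.Y_T ha).resolve_left hna
    have h2 := (d.Y_T hb).resolve_left hnb
    have h3 := d.T.mul_mem h1 h2
    have h4 : z * a * (z * b) = a * b := by
      rw [t.commW t.zW ha.1, mul_assoc, ← mul_assoc z z b, t.zz, one_mul]
    rwa [h4] at h3
  -- `V`
  let V : Subgroup G := closure {x | ∃ p ∈ P, x = p * z * p⁻¹}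
  have hV : ∀ v ∈ V, v ∈ d.Y ∧ ∀ p ∈ P, p * v * p⁻¹ ∈ d.Y ∧ (v ∈ d.T ↔ p * v * p⁻¹ ∈ d.T) := by
    intro v hv
    refine closure_induction (p := fun v _ => v ∈ d.Y ∧ ∀ p ∈ P, p * v * p⁻¹ ∈ d.Y ∧ (v ∈ d.T ↔ p * v * p⁻¹ ∈ d.T))
      ?_ ?_ ?_ ?_ hv
    · rintro x ⟨q, hq, rfl⟩
      refine ⟨hptY q hq, fun p hp => ?_⟩
      have h1 : p * (q * z * q⁻¹) * p⁻¹ = (p * q) * z * (p * q)⁻¹ := by group
      rw [h1]
      exact ⟨hptY _ (P.mul_mem hp hq), iff_of_false (hptT q hq) (hptT _ (P.mul_mem hp hq))⟩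
    · refine ⟨d.Y.one_mem, fun p hp => ?_⟩
      rw [mul_one, mul_inv_cancel]
      exact ⟨d.Y.one_mem, Iff.rfl⟩
    · rintro x y _ _ ⟨hx, hx'⟩ ⟨hy, hy'⟩
      refine ⟨d.Y.mul_mem hx hy, fun p hp => ?_⟩
      obtain ⟨hx1, hx2⟩ := hx' p hp
      obtain ⟨hy1, hy2⟩ := hy' p hp
      have h1 : p * (x * y) * p⁻¹ = (p * x * p⁻¹) * (p * y * p⁻¹) := by group
      rw [h1]
      refine ⟨d.Y.mul_mem hx1 hy1, ?_⟩
      by_cases hxT : x ∈ d.T
      · have hxT' := hx2.1 hxT
        rw [d.T.mul_mem_cancel_left hxT, d.T.mul_mem_cancel_left hxT', hy2]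
      · have hxT' := fun h => hxT (hx2.2 h)
        by_cases hyT : y ∈ d.T
        · rw [d.T.mul_mem_cancel_right hyT, d.T.mul_mem_cancel_right (hy2.1 hyT), hx2]
        · exact iff_of_true (hTz x hx hxT y hy hyT) (hTz _ hx1 hxT' _ hy1 fun h => hyT (hy2.2 h))
    · rintro x _ ⟨hx, hx'⟩
      have h1 : x⁻¹ = x := t.invW hx.1
      rw [h1]
      exact ⟨hx, hx'⟩
  -- `V ∩ T = 1`
  have hVT : V ⊓ d.T = ⊥ := by
    by_contra hcon
    have h1 := t.toAdj.symm.mem_of (N := V ⊓ d.T) (fun v hv => hv.2.1.1) hcon ?_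
    · exact d.z_T h1.2
    · rintro x hx v ⟨hv, hvT⟩
      refine ⟨?_, ((hV v hv).2 x (hSP hx)).2.1 hvT⟩
      have h2 : V ≤ V.comap (MulAut.conj x).toMonoidHom := by
        refine (closure_le _).2 ?_
        rintro y ⟨p, hp, rfl⟩
        show x * (p * z * p⁻¹) * x⁻¹ ∈ V
        have h3 : x * (p * z * p⁻¹) * x⁻¹ = (x * p) * z * (x * p)⁻¹ := by group
        rw [h3]
        exact subset_closure ⟨x * p, P.mul_mem (hSP hx) hp, rfl⟩
      exact h2 hv
  obtain ⟨p, hp, hpz⟩ := hne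
  apply hpz
  have h1 : p * z * p⁻¹ ∈ V := subset_closure ⟨p, hp, rfl⟩
  have h2 : z ∈ V := subset_closure ⟨1, P.one_mem, by group⟩
  have h3 : z ∈ d.Y := by
    have := hptY 1 P.one_mem
    rwa [one_mul, inv_one, mul_one] at this
  have h4 : p * z * p⁻¹ * z ∈ V ⊓ d.T := ⟨V.mul_mem h1 h2, hTz _ (hptY p hp) (hptT p hp) _ h3 d.z_T⟩
  rw [hVT, mem_bot] at h4
  have h5 : p * z * p⁻¹ = z := by
    rw [← t.invU t.zU]
    conv_lhs => rw [t.invU t.zU]
    exact eq_inv_of_mul_eq_one_left h4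
  exact mul_inv_eq_iff_eq_mul.1 h5

end Cfsg.Agent.Omega.NOThreeL.AdjTransv

end

section


/-!
# THEOREM L (NO-3L, #A2 (5)): irreducible groups containing several transvections with one axis

`X` acts irreducibly on the finite `F_2`-space `M`, `Φ` is an `X`-orbit of nonzero functionals, and for
`f ∈ Φ` at least two transvections `u ↦ u + f(u) e` are induced by `X`.  Then `M` is a direct sum of subspaces
permuted by `X`, `Φ` is the union of their duals, and `X` induces every transvection of every summand.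
-/

set_option autoImplicit false

namespace Cfsg.Agent.Omega.NOThreeL.ThmL

variable {X M : Type*} [Group X] [AddCommGroup M] [Module (ZMod 2) M] [DistribMulAction X M]

omit [Group X] [DistribMulAction X M] in
theorem add_self (x : M) : x + x = 0 := by
  have h : (2 : ZMod 2) • x = x + x := two_smul _ _
  rw [← h]
  have : (2 : ZMod 2) = 0 := by decide
  rw [this, zero_smul]

omit [Group X] [DistribMulAction X M] in
theorem z2 (a : ZMod 2) : a = 0 ∨ a = 1 := by
  revert a; decide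

variable (X) in
/-- `X` induces the transvection `u ↦ u + f(u) e`. -/
def Tr (f : M →+ ZMod 2) (e : M) : Prop := f e = 0 ∧ ∃ x : X, ∀ u : M, x • u = u + f u • e

variable (X) in
/-- The centres of the transvections with axis `ker f`. -/
def Y (f : M →+ ZMod 2) : AddSubgroup M where
  carrier := {e | Tr X f e}
  zero_mem' := ⟨map_zero f, 1, fun u => by simp⟩
  add_mem' := by
    rintro a b ⟨ha, x, hx⟩ ⟨hb, y, hy⟩
    refine ⟨by rw [map_add, ha, hb, add_zero], x * y, fun u => ?_⟩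
    rw [mul_smul, hy, smul_add, hx, hx]
    have h1 : f (f u • b) = 0 := by
      rcases z2 (f u) with h | h <;> simp [h, hb]
    rw [h1]
    simp [smul_add, add_assoc]
  neg_mem' := by
    rintro a ⟨ha, x, hx⟩
    have h1 : -a = a := by
      have := add_self a
      exact neg_eq_of_add_eq_zero_left this
    rw [h1]
    exact ⟨ha, x, hx⟩

theorem mem_Y {f : M →+ ZMod 2} {e : M} : e ∈ Y X f ↔ f e = 0 ∧ ∃ x : X, ∀ u : M, x • u = u + f u • e :=
  Iff.rfl

theorem apply_eq_zero {f : M →+ ZMod 2} {e : M} (h : e ∈ Y X f) : f e = 0 := h.1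

/-- The action on functionals. -/
def act (x : X) (f : M →+ ZMod 2) : M →+ ZMod 2 := f.comp (DistribSMul.toAddMonoidHom M x⁻¹)

omit [Module (ZMod 2) M] in
@[simp] theorem act_apply (x : X) (f : M →+ ZMod 2) (u : M) : act x f u = f (x⁻¹ • u) := rfl

omit [Module (ZMod 2) M] in
theorem act_smul (x : X) (f : M →+ ZMod 2) (u : M) : act x f (x • u) = f u := by simp

theorem smul_zmod (x : X) (a : ZMod 2) (m : M) : x • (a • m) = a • (x • m) := by
  rcases z2 a with h | h <;> simp [h]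

theorem smul_mem_Y {f : M →+ ZMod 2} {e : M} (h : e ∈ Y X f) (x : X) : x • e ∈ Y X (act x f) := by
  obtain ⟨h0, y, hy⟩ := h
  refine ⟨by simpa using h0, x * y * x⁻¹, fun u => ?_⟩
  rw [mul_smul, mul_smul, hy, smul_add, smul_inv_smul, smul_zmod]
  rfl

/-- The data of THEOREM L. -/
structure Data (Φ : Set (M →+ ZMod 2)) : Prop where
  inv : ∀ (x : X), ∀ f ∈ Φ, act x f ∈ Φ
  trans : ∀ f ∈ Φ, ∀ g ∈ Φ, ∃ x : X, act x f = g
  ne : ∀ f ∈ Φ, f ≠ 0
  nonempty : Φ.Nonempty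
  irr : ∀ N : AddSubgroup M, (∀ (x : X), ∀ n ∈ N, x • n ∈ N) → N = ⊥ ∨ N = ⊤
  four : ∀ f ∈ Φ, ∃ a ∈ Y X f, ∃ b ∈ Y X f, a ≠ 0 ∧ b ≠ 0 ∧ a ≠ b

/-- `f ~ g` : the transvections with axis `ker f` move `g`. -/
def Adj (X : Type*) [Group X] {M : Type*} [AddCommGroup M] [Module (ZMod 2) M] [DistribMulAction X M]
    (f g : M →+ ZMod 2) : Prop := ∃ e ∈ Y X f, g e = 1

namespace Data

variable {Φ : Set (M →+ ZMod 2)}

theorem not_adj {f g : M →+ ZMod 2} (h : ¬ Adj X f g) {e : M} (he : e ∈ Y X f) : g e = 0 := by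
  rcases z2 (g e) with h1 | h1
  · exact h1
  · exact absurd ⟨e, he, h1⟩ h

theorem not_adj_self (f : M →+ ZMod 2) : ¬ Adj X f f := by
  rintro ⟨e, he, h⟩
  rw [apply_eq_zero he] at h
  exact absurd h (by decide)

theorem Adj.ne' {f g : M →+ ZMod 2} (h : Adj X f g) : f ≠ g := by
  rintro rfl
  exact not_adj_self f h

variable (D : Data (X := X) Φ)
include D

theorem card_eq [Finite M] {f g : M →+ ZMod 2} (hf : f ∈ Φ) (hg : g ∈ Φ) :
    Nat.card (Y X f) = Nat.card (Y X g) := by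
  obtain ⟨x, rfl⟩ := D.trans f hf g hg
  refine Nat.card_congr ⟨fun e => ⟨x • (e : M), smul_mem_Y e.2 x⟩,
    fun e => ⟨x⁻¹ • (e : M), ?_⟩, fun e => ?_, fun e => ?_⟩
  · have := smul_mem_Y e.2 x⁻¹
    have h1 : act x⁻¹ (act x f) = f := by ext u; simp
    rwa [h1] at this
  · ext; simp
  · ext; simp

theorem eq_of_le [Finite M] {f g : M →+ ZMod 2} (hf : f ∈ Φ) (hg : g ∈ Φ) (h : Y X f ≤ Y X g) :
    Y X f = Y X g := by
  apply SetLike.coe_injective
  apply Set.eq_of_subset_of_ncard_le h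
  exact (D.card_eq hg hf).le

/-- (a) -/
theorem adj_symm [Finite M] {f g : M →+ ZMod 2} (hf : f ∈ Φ) (hg : g ∈ Φ) (h : Adj X f g) : Adj X g f := by
  by_contra hcon
  obtain ⟨e, he, hge⟩ := h
  have key : Y X g ≤ Y X f := by
    intro e' he'
    obtain ⟨h0, x, hx⟩ := he'
    have h1 := not_adj hcon ⟨h0, x, hx⟩
    have h2 := smul_mem_Y he x
    have h3 : act x f = f := by
      ext u
      have h4 : act x f (x • (x⁻¹ • u)) = f (x⁻¹ • u) := act_smul x f _
      have h5 : f u = f (x • (x⁻¹ • u)) := by rw [smul_inv_smul]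
      rw [smul_inv_smul] at h4
      rw [h4, h5, hx (x⁻¹ • u), map_add]
      have h6 : f (g (x⁻¹ • u) • e') = 0 := by
        rcases z2 (g (x⁻¹ • u)) with h | h <;> simp [h, h1]
      rw [h6, add_zero]
    rw [h3, hx e, hge, one_smul] at h2
    have h7 := (Y X f).sub_mem h2 he
    rwa [add_sub_cancel_left] at h7
  have h8 := D.eq_of_le hg hf key
  rw [← h8] at he
  rw [apply_eq_zero he] at hge
  exact absurd hge (by decide)

omit D in
theorem smul_functional {f g : M →+ ZMod 2} {e : M} {x : X} (h0 : g e = 0)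
    (hx : ∀ u : M, x • u = u + g u • e) (hfe : f e = 1) : act x f = f + g := by
  ext u
  have h4 : act x f (x • (x⁻¹ • u)) = f (x⁻¹ • u) := act_smul x f _
  rw [smul_inv_smul] at h4
  have h5 : u = x⁻¹ • u + g (x⁻¹ • u) • e := by
    conv_lhs => rw [← smul_inv_smul x u, hx (x⁻¹ • u)]
  have h6 : g (g (x⁻¹ • u) • e) = 0 := by
    rcases z2 (g (x⁻¹ • u)) with h | h <;> simp [h, h0]
  have h7 : g u = g (x⁻¹ • u) := by
    conv_lhs => rw [h5]
    rw [map_add, h6, add_zero]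
  have h8 : f u = f (x⁻¹ • u) + g (x⁻¹ • u) := by
    conv_lhs => rw [h5]
    rw [map_add]
    congr 1
    rcases z2 (g (x⁻¹ • u)) with h | h <;> simp [h, hfe]
  rw [h4, AddMonoidHom.add_apply, h7, h8, add_assoc, CharTwo.add_self_eq_zero, add_zero]

/-- (b) -/
theorem add_mem {f g : M →+ ZMod 2} (hf : f ∈ Φ) (h : Adj X g f) : f + g ∈ Φ := by
  obtain ⟨e, ⟨h0, x, hx⟩, hfe⟩ := h
  rw [← smul_functional h0 hx hfe]
  exact D.inv x f hf

omit D in
theorem mem_Y_add {f g : M →+ ZMod 2} (h : Adj X g f) {e : M} (he : e ∈ Y X f)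
    (hge : g e = 0) : e ∈ Y X (f + g) := by
  obtain ⟨e', ⟨h0, x, hx⟩, hfe⟩ := h
  rw [← smul_functional h0 hx hfe]
  have h1 : x • e = e := by rw [hx, hge, zero_smul, add_zero]
  rw [← h1]
  exact smul_mem_Y he x

theorem mem_Y_of [Finite M] {f g : M →+ ZMod 2} (hf : f ∈ Φ) (hg : g ∈ Φ) (h : Adj X f g) {e : M}
    (he : e ∈ Y X f) (hge : g e = 0) : e ∈ Y X g := by
  have h1 := mem_Y_add (D.adj_symm hf hg h) he hge
  obtain ⟨e', ⟨h0, x, hx⟩, hfe⟩ := h
  have h2 : act x g = f + g := by rw [smul_functional h0 hx hfe, add_comm]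
  rw [← h2] at h1
  have h3 := smul_mem_Y h1 x⁻¹
  have h4 : act x⁻¹ (act x g) = g := by ext u; simp
  rw [h4] at h3
  have h5 : x⁻¹ • e = e := by
    rw [inv_smul_eq_iff, hx, apply_eq_zero he, zero_smul, add_zero]
  rwa [h5] at h3

/-- (c) -/
theorem eq_on [Finite M] {f g h : M →+ ZMod 2} (hf : f ∈ Φ) (hg : g ∈ Φ) (h1 : Adj X g f)
    (h2 : Adj X g h) (h3 : ¬ Adj X f h) {x : M} (hx : x ∈ Y X g) : f x = h x := by
  have key : ∀ y ∈ Y X g, f y = 0 → h y = 0 := fun y hy h0 => not_adj h3 (D.mem_Y_of hg hf h1 hy h0)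
  rcases z2 (f x) with h0 | h0
  · rw [h0, key x hx h0]
  · obtain ⟨y, hy, hy1⟩ := h2
    have hfy : f y = 1 := by
      rcases z2 (f y) with h5 | h5
      · rw [key y hy h5] at hy1
        exact absurd hy1 (by decide)
      · exact h5
    have h6 := key (x + y) ((Y X g).add_mem hx hy) (by rw [map_add, h0, hfy]; decide)
    rw [map_add, hy1] at h6
    rw [h0]
    rcases z2 (h x) with h7 | h7
    · rw [h7] at h6; exact absurd h6 (by decide)
    · exact h7.symm

theorem mem_of_mem [Finite M] {f g h : M →+ ZMod 2} (hg : g ∈ Φ) (hh : h ∈ Φ)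
    (h2 : Adj X g h) (h3 : ¬ Adj X f h) {x : M} (hx : x ∈ Y X g) (hxf : x ∈ Y X f) : x ∈ Y X h :=
  D.mem_Y_of hg hh h2 hx (not_adj h3 hxf)

/-- (d) -/
theorem not_eq_on [Finite M] {f k j : M →+ ZMod 2} (hf : f ∈ Φ) (hj : j ∈ Φ)
    (h1 : Adj X k f) {e : M} (he : e ∈ Y X f) (hek : e ∈ Y X k) (hje : j e = 1)
    (hall : ∀ x ∈ Y X j, f x = k x) : False := by
  have h2 : f + k ∈ Φ := D.add_mem hf h1
  have h3 : e ∈ Y X (f + k) := mem_Y_add h1 he (apply_eq_zero hek)
  have h4 : Adj X j (f + k) := D.adj_symm h2 hj ⟨e, h3, hje⟩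
  obtain ⟨x, hx, hx1⟩ := h4
  rw [AddMonoidHom.add_apply, hall x hx, CharTwo.add_self_eq_zero] at hx1
  exact absurd hx1 (by decide)

/-- the common kernel of `Φ` is trivial -/
theorem exists_one {e : M} (he : e ≠ 0) : ∃ j ∈ Φ, j e = 1 := by
  by_contra hcon
  push Not at hcon
  have h0 : ∀ f ∈ Φ, f e = 0 := fun f hf => (z2 (f e)).resolve_right (hcon f hf)
  let N : AddSubgroup M :=
    { carrier := {m | ∀ f ∈ Φ, f m = 0}
      zero_mem' := fun f _ => map_zero f
      add_mem' := fun {a b} ha hb f hf => by rw [map_add, ha f hf, hb f hf, add_zero]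
      neg_mem' := fun {a} ha f hf => by rw [map_neg, ha f hf, neg_zero] }
  rcases D.irr N (fun x n hn f hf => by
      have h1 := hn _ (D.inv x⁻¹ f hf)
      simpa using h1) with h | h
  · have : e ∈ N := h0
    rw [h] at this
    exact he ((AddSubgroup.mem_bot).mp this)
  · obtain ⟨f, hf⟩ := D.nonempty
    apply D.ne f hf
    ext m
    have : m ∈ N := by rw [h]; trivial
    exact this f hf

/-- the groups `Y_k` generate `M` -/
theorem eq_zero_of {φ : M →+ ZMod 2} (h : ∀ k ∈ Φ, ∀ x ∈ Y X k, φ x = 0) : φ = 0 := by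
  let N : AddSubgroup M := AddSubgroup.closure {m | ∃ k ∈ Φ, m ∈ Y X k}
  have hN : N ≤ φ.ker := by
    rw [AddSubgroup.closure_le]
    rintro m ⟨k, hk, hm⟩
    exact h k hk m hm
  rcases D.irr N (fun x n hn => by
      induction hn using AddSubgroup.closure_induction with
      | mem m hm =>
        obtain ⟨k, hk, hm⟩ := hm
        exact AddSubgroup.subset_closure ⟨act x k, D.inv x k hk, smul_mem_Y hm x⟩
      | zero => rw [smul_zero]; exact N.zero_mem
      | add a b _ _ ha hb => rw [smul_add]; exact N.add_mem ha hb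
      | neg a _ ha => rw [smul_neg]; exact N.neg_mem ha) with h1 | h1
  · obtain ⟨f, hf⟩ := D.nonempty
    obtain ⟨a, ha, -, -, ha0, -⟩ := D.four f hf
    have : a ∈ N := AddSubgroup.subset_closure ⟨f, hf, ha⟩
    rw [h1] at this
    exact absurd ((AddSubgroup.mem_bot).mp this) ha0
  · ext m
    have : m ∈ N := by rw [h1]; trivial
    exact hN this

theorem exists_common {f g : M →+ ZMod 2} [Finite M] (hf : f ∈ Φ) (hg : g ∈ Φ) (h : Adj X f g) :
    ∃ e : M, e ≠ 0 ∧ e ∈ Y X f ∧ e ∈ Y X g := by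
  obtain ⟨a, ha, b, hb, ha0, hb0, hab⟩ := D.four f hf
  rcases z2 (g a) with h1 | h1
  · exact ⟨a, ha0, ha, D.mem_Y_of hf hg h ha h1⟩
  · rcases z2 (g b) with h2 | h2
    · exact ⟨b, hb0, hb, D.mem_Y_of hf hg h hb h2⟩
    · refine ⟨a + b, fun h3 => hab ?_, (Y X f).add_mem ha hb, D.mem_Y_of hf hg h
        ((Y X f).add_mem ha hb) (by rw [map_add, h1, h2]; decide)⟩
      rw [add_eq_zero_iff_eq_neg] at h3
      rw [h3]
      exact neg_eq_of_add_eq_zero_left (add_self b)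

/-- (e) -/
theorem no_mixed [Finite M] {f g h k : M →+ ZMod 2} (hf : f ∈ Φ) (hg : g ∈ Φ) (hh : h ∈ Φ) (hk : k ∈ Φ)
    (h1 : Adj X f g) (h2 : Adj X g h) (h3 : ¬ Adj X f h) (h4 : Adj X k f) (h5 : ¬ Adj X k h) : False := by
  have h3' : ¬ Adj X h f := fun h => h3 (D.adj_symm hh hf h)
  have h5' : ¬ Adj X h k := fun h => h5 (D.adj_symm hh hk h)
  obtain ⟨e, he0, hef, heg⟩ := D.exists_common hf hg h1
  have heh : e ∈ Y X h := D.mem_of_mem hg hh h2 h3 heg hef
  have hek : e ∈ Y X k := by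
    by_cases h6 : Adj X g k
    · exact D.mem_of_mem hg hk h6 h5' heg heh
    · exact D.mem_of_mem hf hk (D.adj_symm hk hf h4) h6 hef heg
  obtain ⟨j, hj, hje⟩ := D.exists_one he0
  have jf : Adj X j f := D.adj_symm hf hj ⟨e, hef, hje⟩
  have jh : Adj X j h := D.adj_symm hh hj ⟨e, heh, hje⟩
  have jk : Adj X j k := D.adj_symm hk hj ⟨e, hek, hje⟩
  refine D.not_eq_on hf hj h4 hef hek hje fun x hx => ?_
  rw [D.eq_on hf hj jf jh h3 hx, D.eq_on hh hj jh jk h5' hx]

/-- (f): adjacency is transitive (up to equality). -/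
theorem adj_trans [Finite M] {f g h : M →+ ZMod 2} (hf : f ∈ Φ) (hg : g ∈ Φ) (hh : h ∈ Φ)
    (h1 : Adj X f g) (h2 : Adj X g h) (hne : f ≠ h) : Adj X f h := by
  by_contra h3
  have h3' : ¬ Adj X h f := fun h => h3 (D.adj_symm hh hf h)
  have h4 : f + h = 0 := by
    refine D.eq_zero_of fun k hk x hx => ?_
    rw [AddMonoidHom.add_apply]
    by_cases h5 : Adj X k f
    · by_cases h6 : Adj X k h
      · rw [D.eq_on hf hk h5 h6 h3 hx, CharTwo.add_self_eq_zero]
      · exact (D.no_mixed hf hg hh hk h1 h2 h3 h5 h6).elim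
    · by_cases h6 : Adj X k h
      · exact (D.no_mixed hh hg hf hk (D.adj_symm hg hh h2) (D.adj_symm hf hg h1) h3' h6 h5).elim
      · rw [not_adj h5 hx, not_adj h6 hx, add_zero]
  apply hne
  ext m
  have h5 := DFunLike.congr_fun h4 m
  rw [AddMonoidHom.add_apply, AddMonoidHom.zero_apply] at h5
  have h6 : f m = - h m := eq_neg_of_add_eq_zero_left h5
  rw [h6]
  rcases z2 (h m) with h | h <;> rw [h] <;> decide

/-! ### The summands -/

/-- `g` is in the component of `f`. -/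
def Comp (X : Type*) [Group X] {M : Type*} [AddCommGroup M] [Module (ZMod 2) M] [DistribMulAction X M]
    (Φ : Set (M →+ ZMod 2)) (f g : M →+ ZMod 2) : Prop := g ∈ Φ ∧ (g = f ∨ Adj X g f)

omit D in
theorem Comp.mem {f g : M →+ ZMod 2} (h : Comp X Φ f g) : g ∈ Φ := h.1

omit D in
theorem Comp.refl {f : M →+ ZMod 2} (hf : f ∈ Φ) : Comp X Φ f f := ⟨hf, Or.inl rfl⟩

theorem comp_symm [Finite M] {f g : M →+ ZMod 2} (hf : f ∈ Φ) (h : Comp X Φ f g) : Comp X Φ g f := by
  refine ⟨hf, ?_⟩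
  rcases h.2 with h1 | h1
  · exact Or.inl h1.symm
  · exact Or.inr (D.adj_symm h.1 hf h1)

theorem comp_trans [Finite M] {f g h : M →+ ZMod 2} (hf : f ∈ Φ) (h1 : Comp X Φ f g) (h2 : Comp X Φ g h) :
    Comp X Φ f h := by
  refine ⟨h2.1, ?_⟩
  rcases h1.2 with rfl | h3
  · exact h2.2
  · rcases h2.2 with rfl | h4
    · exact Or.inr h3
    · by_cases h5 : h = f
      · exact Or.inl h5
      · exact Or.inr (D.adj_trans h2.1 h1.1 hf h4 h3 h5)

omit D in
theorem comp_add {f g : M →+ ZMod 2} (D : Data (X := X) Φ) [Finite M] (hf : f ∈ Φ) (h1 : Comp X Φ f g)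
    (h : f ≠ g) : Comp X Φ f (g + f) := by
  have h2 : Adj X g f := by
    rcases h1.2 with h3 | h3
    · exact absurd h3.symm h
    · exact h3
  have h3 : Adj X f g := D.adj_symm h1.1 hf h2
  have h4 : g + f ∈ Φ := D.add_mem h1.1 h3
  refine ⟨h4, Or.inr (D.adj_symm hf h4 ?_)⟩
  obtain ⟨e, he, hge⟩ := h3
  exact ⟨e, he, by rw [AddMonoidHom.add_apply, hge, apply_eq_zero he, add_zero]⟩

/-- a sum of two different members of a component is in the component -/
theorem comp_add' [Finite M] {f g h : M →+ ZMod 2} (hf : f ∈ Φ) (h1 : Comp X Φ f g) (h2 : Comp X Φ f h)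
    (hne : g ≠ h) : Comp X Φ f (g + h) := by
  have h3 : Comp X Φ h g := D.comp_trans h2.1 (D.comp_symm hf h2) h1
  exact D.comp_trans hf h2 (comp_add D h2.1 h3 hne.symm)

variable (X Φ) in
/-- The summand of `f`. -/
def MM (f : M →+ ZMod 2) : AddSubgroup M := AddSubgroup.closure {m | ∃ k, Comp X Φ f k ∧ m ∈ Y X k}

variable (X Φ) in
/-- The complement of the summand of `f`. -/
def CC (f : M →+ ZMod 2) : AddSubgroup M :=
  AddSubgroup.closure {m | ∃ k ∈ Φ, ¬ Comp X Φ f k ∧ m ∈ Y X k}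

omit D in
theorem Y_le_MM {f k : M →+ ZMod 2} (h : Comp X Φ f k) : Y X k ≤ MM X Φ f :=
  fun _ hm => AddSubgroup.subset_closure ⟨k, h, hm⟩

theorem apply_CC [Finite M] {f g : M →+ ZMod 2} (hf : f ∈ Φ) (h : Comp X Φ f g) {m : M} (hm : m ∈ CC X Φ f) :
    g m = 0 := by
  have h1 : CC X Φ f ≤ g.ker := by
    unfold CC
    rw [AddSubgroup.closure_le]
    rintro m ⟨k, hk, hn, hm⟩
    refine not_adj (fun h2 => hn ?_) hm
    exact D.comp_trans hf h ⟨hk, Or.inr h2⟩
  exact h1 hm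

theorem apply_MM [Finite M] {f g : M →+ ZMod 2} (hf : f ∈ Φ) (hg : g ∈ Φ) (h : ¬ Comp X Φ f g) {m : M}
    (hm : m ∈ MM X Φ f) : g m = 0 := by
  have h1 : MM X Φ f ≤ g.ker := by
    unfold MM
    rw [AddSubgroup.closure_le]
    rintro m ⟨k, hk, hm⟩
    refine not_adj (fun h2 => h ?_) hm
    have h3 : Comp X Φ g k := ⟨hk.1, Or.inr h2⟩
    exact D.comp_trans hf hk (D.comp_symm hg h3)
  exact h1 hm

theorem exists_add (m : M) (f : M →+ ZMod 2) : ∃ a ∈ MM X Φ f, ∃ b ∈ CC X Φ f, m = a + b := by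
  let N : AddSubgroup M := AddSubgroup.closure {m | ∃ k ∈ Φ, m ∈ Y X k}
  have hN : N ≤ MM X Φ f ⊔ CC X Φ f := by
    rw [AddSubgroup.closure_le]
    rintro m ⟨k, hk, hm⟩
    by_cases h : Comp X Φ f k
    · exact (le_sup_left : MM X Φ f ≤ _) (AddSubgroup.subset_closure ⟨k, h, hm⟩)
    · exact (le_sup_right : CC X Φ f ≤ _) (AddSubgroup.subset_closure ⟨k, hk, h, hm⟩)
  have hN' : N = ⊤ := by
    rcases D.irr N (fun x n hn => by
      induction hn using AddSubgroup.closure_induction with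
      | mem m hm =>
        obtain ⟨k, hk, hm⟩ := hm
        exact AddSubgroup.subset_closure ⟨act x k, D.inv x k hk, smul_mem_Y hm x⟩
      | zero => rw [smul_zero]; exact N.zero_mem
      | add a b _ _ ha hb => rw [smul_add]; exact N.add_mem ha hb
      | neg a _ ha => rw [smul_neg]; exact N.neg_mem ha) with h1 | h1
    · obtain ⟨f, hf⟩ := D.nonempty
      obtain ⟨a, ha, -, -, ha0, -⟩ := D.four f hf
      have : a ∈ N := AddSubgroup.subset_closure ⟨f, hf, ha⟩
      rw [h1] at this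
      exact absurd ((AddSubgroup.mem_bot).mp this) ha0
    · exact h1
  have hm : m ∈ MM X Φ f ⊔ CC X Φ f := hN (by rw [hN']; trivial)
  obtain ⟨a, ha, b, hb, hab⟩ := AddSubgroup.mem_sup.mp hm
  exact ⟨a, ha, b, hb, hab.symm⟩

/-- an element of the summand of `f` killed by the component of `f` is zero -/
theorem eq_zero_of_MM [Finite M] {f : M →+ ZMod 2} (hf : f ∈ Φ) {m : M} (hm : m ∈ MM X Φ f)
    (h : ∀ g, Comp X Φ f g → g m = 0) : m = 0 := by
  by_contra hne
  obtain ⟨j, hj, hj1⟩ := D.exists_one hne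
  by_cases hc : Comp X Φ f j
  · rw [h j hc] at hj1; exact absurd hj1 (by decide)
  · rw [D.apply_MM hf hj hc hm] at hj1; exact absurd hj1 (by decide)

/-- every nonzero functional of the summand of `f` is in the component of `f` -/
theorem comp_of_CC [Finite M] {f φ : M →+ ZMod 2} (hf : f ∈ Φ) (hφ : φ ≠ 0)
    (h : ∀ m ∈ CC X Φ f, φ m = 0) : Comp X Φ f φ := by
  classical
  by_contra hcon
  -- the component together with `0` is a subspace of the dual
  let W : Submodule (ZMod 2) (Module.Dual (ZMod 2) M) :=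
    { carrier := {g | g.toAddMonoidHom = 0 ∨ Comp X Φ f g.toAddMonoidHom}
      zero_mem' := Or.inl rfl
      add_mem' := by
        rintro a b ha hb
        have hab : (a + b).toAddMonoidHom = a.toAddMonoidHom + b.toAddMonoidHom := rfl
        show (a + b).toAddMonoidHom = 0 ∨ _
        rcases ha with ha | ha
        · rw [hab, ha, zero_add]; exact hb
        · rcases hb with hb | hb
          · rw [hab, hb, add_zero]; exact Or.inr ha
          · by_cases hne : a.toAddMonoidHom = b.toAddMonoidHom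
            · left
              rw [hab, hne]
              ext m
              rw [AddMonoidHom.add_apply, CharTwo.add_self_eq_zero]
              rfl
            · right
              rw [hab]
              exact D.comp_add' hf ha hb hne
      smul_mem' := by
        intro c g hg
        rcases z2 c with rfl | rfl
        · left
          rw [zero_smul]
          rfl
        · rw [one_smul]; exact hg }
  have hW : W.dualCoannihilator.dualAnnihilator = W := Subspace.dualCoannihilator_dualAnnihilator_eq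
  have hφW : (φ.toZModLinearMap 2 : Module.Dual (ZMod 2) M) ∉ W := by
    intro h1
    rcases h1 with h1 | h1
    · apply hφ
      ext m
      exact DFunLike.congr_fun h1 m
    · exact hcon h1
  rw [← hW] at hφW
  apply hφW
  rw [Submodule.mem_dualAnnihilator]
  intro m hm
  rw [Submodule.mem_dualCoannihilator] at hm
  obtain ⟨a, ha, b, hb, rfl⟩ := D.exists_add m f
  have h1 : a = 0 := by
    refine D.eq_zero_of_MM hf ha fun g hg => ?_
    have h2 := hm (g.toZModLinearMap 2) (Or.inr hg)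
    have h3 : g (a + b) = 0 := h2
    rw [map_add, D.apply_CC hf hg hb, add_zero] at h3
    exact h3
  rw [h1, zero_add]
  exact h b hb

/-- **THEOREM L**: all transvections of the summand of `f` with axis `ker f` are induced by `X`. -/
theorem mem_Y_of_MM [Finite M] {f : M →+ ZMod 2} (hf : f ∈ Φ) {e : M} (he : e ∈ MM X Φ f) (h0 : f e = 0) :
    e ∈ Y X f := by
  by_contra hcon
  let p : Submodule (ZMod 2) M := AddSubgroup.toZModSubmodule 2 (Y X f ⊔ CC X Φ f)
  have hp : e ∉ p := by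
    intro h1
    rw [AddSubgroup.mem_toZModSubmodule] at h1
    obtain ⟨y, hy, b, hb, hyb⟩ := AddSubgroup.mem_sup.mp h1
    have h2 : y - e ∈ MM X Φ f := (MM X Φ f).sub_mem (Y_le_MM (Comp.refl hf) hy) he
    have h3 : y - e = 0 := by
      refine D.eq_zero_of_MM hf h2 fun g hg => ?_
      have h4 : g (y + b) = g e := by rw [hyb]
      rw [map_add, D.apply_CC hf hg hb, add_zero] at h4
      rw [map_sub, h4, sub_self]
    rw [sub_eq_zero] at h3
    exact hcon (h3 ▸ hy)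
  obtain ⟨φ, hφe, hφp⟩ := Submodule.exists_dual_map_eq_bot_of_notMem hp inferInstance
  have hker : ∀ m ∈ p, φ m = 0 := by
    intro m hm
    have : φ m ∈ p.map φ := ⟨m, hm, rfl⟩
    rw [hφp] at this
    exact (Submodule.mem_bot _).mp this
  have h1 : Comp X Φ f φ.toAddMonoidHom := by
    refine D.comp_of_CC hf (fun h2 => hφe (DFunLike.congr_fun h2 e)) fun m hm => ?_
    exact hker m ((AddSubgroup.mem_toZModSubmodule _).mpr ((le_sup_right : CC X Φ f ≤ _) hm))
  rcases h1.2 with h2 | h2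
  · apply hφe
    have h3 := DFunLike.congr_fun h2 e
    exact h3.trans h0
  · obtain ⟨y, hy, hy1⟩ := D.adj_symm h1.1 hf h2
    have h3 : φ y = 0 := hker y ((AddSubgroup.mem_toZModSubmodule _).mpr ((le_sup_left : Y X f ≤ _) hy))
    have h4 : φ y = 1 := hy1
    rw [h3] at h4
    exact absurd h4 (by decide)

omit D [Module (ZMod 2) M] in
theorem act_inv_act (x : X) (f : M →+ ZMod 2) : act x⁻¹ (act x f) = f := by ext u; simp

omit D [Module (ZMod 2) M] in
theorem act_act_inv (x : X) (f : M →+ ZMod 2) : act x (act x⁻¹ f) = f := by ext u; simp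

omit D in
theorem adj_act {f g : M →+ ZMod 2} (h : Adj X f g) (x : X) : Adj X (act x f) (act x g) := by
  obtain ⟨e, he, hge⟩ := h
  exact ⟨x • e, smul_mem_Y he x, by rw [act_smul, hge]⟩

theorem comp_act {f g : M →+ ZMod 2} (h : Comp X Φ f g) (x : X) : Comp X Φ (act x f) (act x g) := by
  refine ⟨D.inv x g h.1, ?_⟩
  rcases h.2 with h1 | h1
  · exact Or.inl (by rw [h1])
  · exact Or.inr (adj_act h1 x)

end Data

/-! ### The end of A2 -/

/-- `z = ∑ c i`, the transvections `u ↦ u + f i u • c i` are "in `O₂` of the stabiliser of `z`", `W` is normalised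
by the stabiliser of `z` and contained in all `ker (f i)`. -/
structure EndData (Φ : Set (M →+ ZMod 2)) {ι : Type*} [Fintype ι] (f : ι → (M →+ ZMod 2)) (c : ι → M) (z : M)
    (W : AddSubgroup M) (S : Subgroup X) : Prop where
  data : Data (X := X) Φ
  hf : ∀ i, f i ∈ Φ
  hc : ∀ i, c i ∈ Y X (f i)
  hc0 : ∀ i, c i ≠ 0
  hz : z = ∑ i, c i
  hS : ∀ s ∈ S, ∀ i, ∃ j, act s (f i) = f j
  hfix : ∀ N : AddSubgroup M, (∀ s ∈ S, ∀ n ∈ N, s • n ∈ N) → N ≠ ⊥ → z ∈ N
  htwo : ∀ i, ∀ s : X, s • z = z → ∀ t : X, (∀ u : M, t • u = u + f i u • c i) →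
    ∃ n : ℕ, ∀ u : M, ((s * t * s⁻¹ * t⁻¹) ^ (2 ^ n)) • u = u
  hW : ∀ s : X, s • z = z → ∀ w ∈ W, s • w ∈ W
  hWf : ∀ i, ∀ w ∈ W, f i w = 0

namespace EndData

variable {Φ : Set (M →+ ZMod 2)} {ι : Type*} [Fintype ι] {f : ι → (M →+ ZMod 2)} {c : ι → M} {z : M}
  {W : AddSubgroup M} {S : Subgroup X}

/-- two transvections generating `S₃` -/
theorem S3 {a b : M →+ ZMod 2} {e d : M} {s t : X} (hs : ∀ u : M, s • u = u + a u • e)
    (ht : ∀ u : M, t • u = u + b u • d) (hae : a e = 0) (hbd : b d = 0) (had : a d = 1) (hbe : b e = 1)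
    {n : ℕ} (h : ((s * t * s⁻¹ * t⁻¹) ^ (2 ^ n)) • e = e) : False := by
  have se : s • e = e := by rw [hs, hae, zero_smul, add_zero]
  have sd : s • d = d + e := by rw [hs, had, one_smul]
  have te : t • e = e + d := by rw [ht, hbe, one_smul]
  have td : t • d = d := by rw [ht, hbd, zero_smul, add_zero]
  have hd0 : d ≠ 0 := by
    rintro rfl
    rw [map_zero] at had
    exact absurd had (by decide)
  have ss : ∀ u : M, s⁻¹ • u = s • u := by
    intro u
    rw [inv_smul_eq_iff, hs (s • u), hs u, map_add]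
    have h1 : a (a u • e) = 0 := by rcases z2 (a u) with h | h <;> simp [h, hae]
    rw [h1, add_zero, add_assoc, add_self, add_zero]
  have tt : ∀ u : M, t⁻¹ • u = t • u := by
    intro u
    rw [inv_smul_eq_iff, ht (t • u), ht u, map_add]
    have h1 : b (b u • d) = 0 := by rcases z2 (b u) with h | h <;> simp [h, hbd]
    rw [h1, add_zero, add_assoc, add_self, add_zero]
  set k : X := s * t * s⁻¹ * t⁻¹ with hk
  have hke : k • e = e + d := by
    rw [hk, mul_smul, mul_smul, mul_smul, tt, te, ss]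
    have h1 : s • (e + d) = d := by
      rw [hs, map_add, hae, had, zero_add, one_smul, add_comm e d, add_assoc, add_self, add_zero]
    rw [h1, td, sd, add_comm]
  have hkd : k • d = e := by
    rw [hk, mul_smul, mul_smul, mul_smul, tt, td, ss, sd]
    have h1 : t • (d + e) = e := by
      rw [ht, map_add, hbd, hbe, zero_add, one_smul, add_comm d e, add_assoc, add_self, add_zero]
    rw [h1, se]
  have hked : k • (e + d) = d := by
    rw [hk, mul_smul, mul_smul, mul_smul, tt]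
    have h1 : t • (e + d) = e := by
      rw [ht, map_add, hbd, hbe, add_zero, one_smul, add_assoc, add_self, add_zero]
    rw [h1, ss, se, te]
    rw [hs, map_add, hae, had, zero_add, one_smul, add_comm e d, add_assoc, add_self, add_zero]
  have h3 : (k ^ 3) • e = e := by
    rw [pow_succ, pow_succ, pow_one, mul_smul, mul_smul, hke, hked, hkd]
  have h4 : MulAction.period k e ∣ 3 := MulAction.pow_smul_eq_iff_period_dvd.mp h3
  have h5 : MulAction.period k e ∣ 2 ^ n := MulAction.pow_smul_eq_iff_period_dvd.mp h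
  have h6 : MulAction.period k e ∣ 1 := by
    have h7 : Nat.Coprime 3 (2 ^ n) := Nat.Coprime.pow_right n (by decide)
    have h8 := Nat.dvd_gcd h4 h5
    rwa [h7] at h8
  have h7 : (k ^ 1) • e = e := MulAction.pow_smul_eq_iff_period_dvd.mpr h6
  rw [pow_one, hke] at h7
  exact hd0 (by simpa using h7)

variable (E : EndData Φ f c z W S)
include E

theorem claimA [Finite M] {i : ι} {g : M →+ ZMod 2} (hg : Data.Comp X Φ (f i) g) (h1 : g (c i) = 1)
    (h0 : g z = 0) : False := by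
  have D := E.data
  rcases hg.2 with h2 | ⟨e, ⟨hge, s, hs⟩, he⟩
  · rw [h2, apply_eq_zero (E.hc i)] at h1
    exact absurd h1 (by decide)
  · obtain ⟨hfc, t, ht⟩ := E.hc i
    have hsz : s • z = z := by rw [hs, h0, zero_smul, add_zero]
    obtain ⟨n, hn⟩ := E.htwo i s hsz t ht
    exact S3 hs ht hge hfc h1 he (hn e)

theorem claimA' [Finite M] {i : ι} {g : M →+ ZMod 2} (hg : Data.Comp X Φ (f i) g) : g (c i) = g z := by
  have D := E.data
  rcases z2 (g (c i)) with h1 | h1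
  · rcases z2 (g z) with h2 | h2
    · rw [h1, h2]
    · exfalso
      obtain ⟨k, hk, hk1⟩ := D.exists_one (E.hc0 i)
      have hkc : Data.Comp X Φ (f i) k := by
        by_contra hcon
        rw [D.apply_MM (E.hf i) hk hcon (Data.Y_le_MM (Data.Comp.refl (E.hf i)) (E.hc i))] at hk1
        exact absurd hk1 (by decide)
      rcases z2 (k z) with h3 | h3
      · exact E.claimA hkc hk1 h3
      · have hne : g ≠ k := by
          rintro rfl
          rw [h1] at hk1
          exact absurd hk1 (by decide)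
        refine E.claimA (D.comp_add' (E.hf i) hg hkc hne) ?_ ?_
        · rw [AddMonoidHom.add_apply, h1, hk1]; decide
        · rw [AddMonoidHom.add_apply, h2, h3]; decide
  · rcases z2 (g z) with h2 | h2
    · exact (E.claimA hg h1 h2).elim
    · rw [h1, h2]

theorem claimB [Finite M] {i : ι} {g : M →+ ZMod 2} (hg : Data.Comp X Φ (f i) g) (h1 : g (c i) = 0) {w : M}
    (hw : w ∈ W) : g w = 0 := by
  by_contra h0
  have h0' : g w = 1 := (z2 (g w)).resolve_left h0
  rcases hg.2 with h2 | ⟨e, ⟨hge, s, hs⟩, he⟩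
  · rw [h2] at h0
    exact h0 (E.hWf i w hw)
  · have hgz : g z = 0 := by rw [← E.claimA' hg, h1]
    have hsz : s • z = z := by rw [hs, hgz, zero_smul, add_zero]
    have h3 := E.hWf i _ (E.hW s hsz w hw)
    rw [hs, h0', one_smul, map_add, E.hWf i w hw, he] at h3
    exact absurd h3 (by decide)

theorem claimC [Finite M] [Nonempty ι] {h : M →+ ZMod 2} (hh : h ∈ Φ) : ∃ i, Data.Comp X Φ (f i) h := by
  have D := E.data
  by_contra hcon
  push Not at hcon
  let N : AddSubgroup M :=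
    { carrier := {m | ∀ i, ∀ g, Data.Comp X Φ (f i) g → g m = 0}
      zero_mem' := fun i g _ => map_zero g
      add_mem' := fun {a b} ha hb i g hg => by rw [map_add, ha i g hg, hb i g hg, add_zero]
      neg_mem' := fun {a} ha i g hg => by rw [map_neg, ha i g hg, neg_zero] }
  have hN : N = ⊥ := by
    by_contra hne
    have hz : z ∈ N := by
      refine E.hfix N (fun s hs n hn i g hg => ?_) hne
      obtain ⟨j, hj⟩ := E.hS s⁻¹ (S.inv_mem hs) i
      have h1 := D.comp_act hg s⁻¹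
      rw [hj] at h1
      have h2 := hn j _ h1
      simpa using h2
    obtain ⟨i⟩ := ‹Nonempty ι›
    obtain ⟨k, hk, hk1⟩ := D.exists_one (E.hc0 i)
    have hkc : Data.Comp X Φ (f i) k := by
      by_contra hcon
      rw [D.apply_MM (E.hf i) hk hcon (Data.Y_le_MM (Data.Comp.refl (E.hf i)) (E.hc i))] at hk1
      exact absurd hk1 (by decide)
    rw [E.claimA' hkc, hz i k hkc] at hk1
    exact absurd hk1 (by decide)
  obtain ⟨a, ha, -, -, ha0, -⟩ := D.four h hh
  have h1 : a ∈ N := by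
    intro i g hg
    refine D.apply_MM hh hg.1 (fun h2 => hcon i ?_) (Data.Y_le_MM (Data.Comp.refl hh) ha)
    exact D.comp_trans (E.hf i) hg (D.comp_symm hh h2)
  rw [hN] at h1
  exact ha0 (AddSubgroup.mem_bot.mp h1)

/-- **The end of A2**: a conjugate of `z` in `W` is `z`. -/
theorem fixed [Finite M] [Nonempty ι] (x : X) (hx : x • z ∈ W) : x • z = z := by
  have D := E.data
  by_contra hne
  obtain ⟨j, hj, hj1⟩ := D.exists_one (sub_ne_zero.mpr hne)
  obtain ⟨i, hi⟩ := E.claimC hj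
  -- a member of the component which does not vanish on `x • z`
  obtain ⟨i', hi'⟩ := E.claimC (D.inv x⁻¹ j hj)
  obtain ⟨h, hh, hh1⟩ := D.exists_one (E.hc0 i')
  have hhc : Data.Comp X Φ (f i') h := by
    by_contra hcon
    rw [D.apply_MM (E.hf i') hh hcon (Data.Y_le_MM (Data.Comp.refl (E.hf i')) (E.hc i'))] at hh1
    exact absurd hh1 (by decide)
  have h1 : h z = 1 := by rw [← E.claimA' hhc, hh1]
  have h2 : Data.Comp X Φ (act x⁻¹ j) h := D.comp_trans (D.inv x⁻¹ j hj) (D.comp_symm (E.hf i') hi') hhc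
  have h3 : Data.Comp X Φ j (act x h) := by
    have := D.comp_act h2 x
    rwa [Data.act_act_inv] at this
  have hg : Data.Comp X Φ (f i) (act x h) := D.comp_trans (E.hf i) hi h3
  have hg1 : act x h (x • z) = 1 := by rw [act_smul, h1]
  have hgc : act x h (c i) = 1 := by
    rcases z2 (act x h (c i)) with h4 | h4
    · rw [E.claimB hg h4 hx] at hg1
      exact absurd hg1 (by decide)
    · exact h4
  have key : j (x • z) = j (c i) := by
    rcases z2 (j (c i)) with h4 | h4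
    · rw [h4, E.claimB hi h4 hx]
    · by_cases h5 : j = act x h
      · rw [h4, h5, hg1]
      · have h6 := E.claimB (D.comp_add' (E.hf i) hi hg h5)
          (by rw [AddMonoidHom.add_apply, h4, hgc]; decide) hx
        rw [AddMonoidHom.add_apply, hg1] at h6
        rw [h4]
        rcases z2 (j (x • z)) with h7 | h7
        · rw [h7] at h6; exact absurd h6 (by decide)
        · exact h7
  rw [map_sub, key, E.claimA' hi, sub_self] at hj1
  exact absurd hj1 (by decide)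

end EndData

end Cfsg.Agent.Omega.NOThreeL.ThmL

end

section


/-!
# LEMMA LN (NO-3L, B2-T): a transvection in the radical of a point stabiliser

`X` acts on the finite `F_2`-space `M`, `c ∈ M` is the only nonzero vector fixed by the stabiliser `X_c`, `O` is a
normal 2-subgroup of `X_c` and contains the transvection `u ↦ u + f(u) e`; the orbit `Φ` of `f` has no common
zero.  If `|X_e| ≤ |X_c|`, then `e = c`.

No list of groups generated by transvections is used.
-/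

set_option autoImplicit false

namespace Cfsg.Agent.Omega.NOThreeL.LN

open Cfsg.Agent.Omega.NOThreeL.ThmL Cfsg.Agent.Omega.NOThreeL.ThmL.Data MulAction

variable {X M : Type*} [Group X] [AddCommGroup M] [Module (ZMod 2) M] [DistribMulAction X M]

/-- `Φ` is an orbit of functionals without common zero. -/
structure Orb (X : Type*) {M : Type*} [Group X] [AddCommGroup M] [Module (ZMod 2) M] [DistribMulAction X M]
    (Φ : Set (M →+ ZMod 2)) : Prop where
  inv : ∀ (x : X), ∀ f ∈ Φ, act x f ∈ Φ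
  trans : ∀ f ∈ Φ, ∀ g ∈ Φ, ∃ x : X, act x f = g
  zero : ∀ u : M, (∀ g ∈ Φ, g u = 0) → u = 0

namespace Orb

variable {Φ : Set (M →+ ZMod 2)} (D : Orb X Φ)
include D

theorem exists_one {u : M} (hu : u ≠ 0) : ∃ g ∈ Φ, g u = 1 := by
  by_contra hcon
  push Not at hcon
  exact hu (D.zero u fun g hg => (z2 (g u)).resolve_right (hcon g hg))

theorem card_eq {f g : M →+ ZMod 2} (hf : f ∈ Φ) (hg : g ∈ Φ) : Nat.card (Y X f) = Nat.card (Y X g) := by
  obtain ⟨x, rfl⟩ := D.trans f hf g hg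
  refine Nat.card_congr ⟨fun e => ⟨x • (e : M), smul_mem_Y e.2 x⟩,
    fun e => ⟨x⁻¹ • (e : M), ?_⟩, fun e => ?_, fun e => ?_⟩
  · have := smul_mem_Y e.2 x⁻¹
    have h1 : act x⁻¹ (act x f) = f := by ext u; simp
    rwa [h1] at this
  · ext; simp
  · ext; simp

theorem eq_of_le [Finite M] {f g : M →+ ZMod 2} (hf : f ∈ Φ) (hg : g ∈ Φ) (h : Y X f ≤ Y X g) :
    Y X f = Y X g := by
  apply SetLike.coe_injective
  apply Set.eq_of_subset_of_ncard_le h
  exact (D.card_eq hg hf).le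

/-- (a) -/
theorem adj_symm [Finite M] {f g : M →+ ZMod 2} (hf : f ∈ Φ) (hg : g ∈ Φ) (h : Adj X f g) : Adj X g f := by
  by_contra hcon
  obtain ⟨e, he, hge⟩ := h
  have key : Y X g ≤ Y X f := by
    intro e' he'
    obtain ⟨h0, x, hx⟩ := he'
    have h1 := not_adj hcon ⟨h0, x, hx⟩
    have h2 := smul_mem_Y he x
    have h3 : act x f = f := by
      ext u
      have h4 : act x f (x • (x⁻¹ • u)) = f (x⁻¹ • u) := act_smul x f _
      have h5 : f u = f (x • (x⁻¹ • u)) := by rw [smul_inv_smul]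
      rw [smul_inv_smul] at h4
      rw [h4, h5, hx (x⁻¹ • u), map_add]
      have h6 : f (g (x⁻¹ • u) • e') = 0 := by
        rcases z2 (g (x⁻¹ • u)) with h | h <;> simp [h, h1]
      rw [h6, add_zero]
    rw [h3, hx e, hge, one_smul] at h2
    have h7 := (Y X f).sub_mem h2 he
    rwa [add_sub_cancel_left] at h7
  have h8 := D.eq_of_le hg hf key
  rw [← h8] at he
  rw [apply_eq_zero he] at hge
  exact absurd hge (by decide)

/-- (b) -/
theorem add_mem {f g : M →+ ZMod 2} (hf : f ∈ Φ) (h : Adj X g f) : f + g ∈ Φ := by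
  obtain ⟨e, ⟨h0, x, hx⟩, hfe⟩ := h
  rw [← smul_functional h0 hx hfe]
  exact D.inv x f hf

end Orb

/-- The component of `f`. -/
def Cn (X : Type*) {M : Type*} [Group X] [AddCommGroup M] [Module (ZMod 2) M] [DistribMulAction X M]
    (Φ : Set (M →+ ZMod 2)) : (M →+ ZMod 2) → (M →+ ZMod 2) → Prop :=
  Relation.ReflTransGen fun g h => g ∈ Φ ∧ h ∈ Φ ∧ Adj X g h

theorem Orb.cn_symm [Finite M] {Φ : Set (M →+ ZMod 2)} (D : Orb X Φ) {f g : M →+ ZMod 2} (h : Cn X Φ f g) :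
    Cn X Φ g f := by
  induction h with
  | refl => exact Relation.ReflTransGen.refl
  | tail _ hs ih => exact Relation.ReflTransGen.head ⟨hs.2.1, hs.1, D.adj_symm hs.1 hs.2.1 hs.2.2⟩ ih

theorem cn_mem {Φ : Set (M →+ ZMod 2)} {f g : M →+ ZMod 2} (h : Cn X Φ f g) (hf : f ∈ Φ) : g ∈ Φ := by
  induction h with
  | refl => exact hf
  | tail _ h2 _ => exact h2.2.1

/-- `O` is a normal 2-subgroup of the stabiliser of `c`, which fixes no nonzero vector but `c`. -/
structure Hyp (Φ : Set (M →+ ZMod 2)) (c : M) (O : Subgroup X) : Prop extends Orb X Φ where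
  two : ∀ o ∈ O, ∃ n : ℕ, ∀ u : M, (o ^ (2 ^ n)) • u = u
  fixc : ∀ o ∈ O, o • c = c
  norm : ∀ s : X, s • c = c → ∀ o ∈ O, s * o * s⁻¹ ∈ O
  fix : ∀ u : M, (∀ s : X, s • c = c → s • u = u) → u = 0 ∨ u = c

/-- `O` contains the transvection `u ↦ u + g(u) v`, `g ∈ Φ`. -/
structure Tv (Φ : Set (M →+ ZMod 2)) (O : Subgroup X) (v : M) (g : M →+ ZMod 2) : Prop where
  mem : g ∈ Φ
  ne : v ≠ 0
  zero : g v = 0
  ex : ∃ t ∈ O, ∀ u : M, t • u = u + g u • v

theorem Tv.mem_Y {Φ : Set (M →+ ZMod 2)} {O : Subgroup X} {v : M} {g : M →+ ZMod 2} (h : Tv Φ O v g) :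
    v ∈ Y X g := by
  obtain ⟨t, -, ht⟩ := h.ex
  exact ⟨h.zero, t, ht⟩

namespace Hyp

variable {Φ : Set (M →+ ZMod 2)} {c : M} {O : Subgroup X}

theorem Tv.apply_c (D : Hyp Φ c O) {v : M} {g : M →+ ZMod 2} (h : Tv Φ O v g) : g c = 0 := by
  obtain ⟨t, ht, htv⟩ := h.ex
  rcases z2 (g c) with h1 | h1
  · exact h1
  · have h2 := D.fixc t ht
    rw [htv, h1, one_smul] at h2
    exact absurd (by simpa using h2) h.ne

/-- conjugates of transvections in `O` -/
theorem Tv.conj (D : Hyp Φ c O) {v : M} {g : M →+ ZMod 2} (h : Tv Φ O v g) {s : X} (hs : s • c = c) :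
    Tv Φ O (s • v) (act s g) := by
  obtain ⟨t, ht, htv⟩ := h.ex
  refine ⟨D.inv s g h.mem, fun h0 => h.ne ((smul_eq_zero_iff_eq s).1 h0), ?_, s * t * s⁻¹, D.norm s hs t ht, fun u => ?_⟩
  · rw [act_smul, h.zero]
  · rw [mul_smul, mul_smul, htv, smul_add, smul_inv_smul, smul_zmod]
    rfl

section

variable [Finite M] (D : Hyp Φ c O)
include D

/-- (A) -/
theorem A {v : M} {f g : M →+ ZMod 2} (h : Tv Φ O v f) (hg : g ∈ Φ) (hgv : g v = 1) : g c = 1 := by
  have h1 : Adj X f g := ⟨v, h.mem_Y, hgv⟩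
  obtain ⟨a, ⟨hga, r, hr⟩, hfa⟩ := D.adj_symm h.mem hg h1
  rcases z2 (g c) with h0 | h0
  · exfalso
    have hrc : r • c = c := by rw [hr, h0, zero_smul, add_zero]
    obtain ⟨t, ht, htv⟩ := h.ex
    have h2 : t * r * t⁻¹ * r⁻¹ ∈ O := by
      have h3 := D.norm r hrc t⁻¹ (O.inv_mem ht)
      have h4 := O.mul_mem ht h3
      simpa [mul_assoc] using h4
    obtain ⟨n, hn⟩ := D.two _ h2
    exact EndData.S3 htv hr h.zero hga hfa hgv (hn v)
  · exact h0

/-- (B) -/
theorem B {v : M} {f h : M →+ ZMod 2} (hv : Tv Φ O v f) (hh : Cn X Φ f h) : h c = h v := by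
  have key : h ∈ Φ ∧ (h v = 1 ∨ ∃ u ∈ Φ, u v = 1 ∧ Adj X u h) := by
    induction hh with
    | refl =>
      refine ⟨hv.mem, Or.inr ?_⟩
      obtain ⟨u, hu, huv⟩ := D.exists_one hv.ne
      exact ⟨u, hu, huv, D.adj_symm hv.mem hu ⟨v, hv.mem_Y, huv⟩⟩
    | @tail h h' _ hstep ih =>
      obtain ⟨hh, hh', hadj⟩ := hstep
      refine ⟨hh', Or.inr ?_⟩
      rcases z2 (h v) with h1 | h1
      · obtain ⟨-, h2 | ⟨u, hu, huv, hadj'⟩⟩ := ih
        · rw [h1] at h2
          exact absurd h2 (by decide)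
        · by_cases h3 : Adj X u h'
          · exact ⟨u, hu, huv, h3⟩
          · have h4 : h + u ∈ Φ := D.add_mem hh hadj'
            refine ⟨h + u, h4, by rw [AddMonoidHom.add_apply, h1, huv, zero_add], ?_⟩
            obtain ⟨a, ha, hha⟩ := D.adj_symm hh hh' hadj
            have h5 : u a = 0 := by
              rcases z2 (u a) with h6 | h6
              · exact h6
              · exact absurd (D.adj_symm hh' hu ⟨a, ha, h6⟩) h3
            exact D.adj_symm hh' h4 ⟨a, ha, by rw [AddMonoidHom.add_apply, hha, h5, add_zero]⟩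
      · exact ⟨h, hh, h1, hadj⟩
  obtain ⟨hmem, hR⟩ := key
  rcases z2 (h v) with h1 | h1
  · rw [h1]
    rcases z2 (h c) with h2 | h2
    · exact h2
    · exfalso
      rcases hR with h3 | ⟨u, hu, huv, hadj⟩
      · rw [h1] at h3
        exact absurd h3 (by decide)
      · have h4 : h + u ∈ Φ := D.add_mem hmem hadj
        have h5 := D.A hv h4 (by rw [AddMonoidHom.add_apply, h1, huv, zero_add])
        rw [AddMonoidHom.add_apply, h2, D.A hv hu huv] at h5
        exact absurd h5 (by decide)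
  · rw [h1]
    exact D.A hv hmem h1

/-- (C) -/
theorem C {v v' : M} {f f' : M →+ ZMod 2} (hv : Tv Φ O v f) (hv' : Tv Φ O v' f') (hh : Cn X Φ f f') :
    v = v' := by
  have key : v + v' = 0 := by
    refine D.zero _ fun g hg => ?_
    rw [map_add]
    by_cases h1 : Cn X Φ f g
    · have h2 := D.B hv h1
      have h3 := D.B hv' ((D.cn_symm hh).trans h1)
      rw [← h2, ← h3, CharTwo.add_self_eq_zero]
    · have h2 : g v = 0 := by
        rcases z2 (g v) with h | h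
        · exact h
        · exact absurd (Relation.ReflTransGen.single ⟨hv.mem, hg, v, hv.mem_Y, h⟩) h1
      have h3 : g v' = 0 := by
        rcases z2 (g v') with h | h
        · exact h
        · exact absurd (hh.tail ⟨hv'.mem, hg, v', hv'.mem_Y, h⟩) h1
      rw [h2, h3, add_zero]
  have h1 : v = -v' := eq_neg_of_add_eq_zero_left key
  rw [h1, neg_eq_of_add_eq_zero_left (add_self v')]

/-- (D), one transvection -/
theorem D1 {e v : M} {f f' : M →+ ZMod 2} (he : Tv Φ O e f) (hv : Tv Φ O v f') (hne : v ≠ e) :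
    ∃ a : M, f' a = 1 ∧ (∃ h ∈ Φ, h v = 1 ∧ a ∈ Y X h) ∧ (∃ h ∈ Φ, h v = 1 ∧ a + v ∈ Y X h) ∧
      (∃ x : X, x • e = e ∧ x • c = c + a) ∧ (∃ x : X, x • e = e ∧ x • c = c + (a + v)) := by
  have step : ∀ h ∈ Φ, h v = 1 → ∀ a ∈ Y X h, ∃ x : X, x • e = e ∧ x • c = c + a := by
    rintro h hh hhv a ⟨h0, x, hx⟩
    refine ⟨x, ?_, ?_⟩
    · have h1 : h e = 0 := by
        rcases z2 (h e) with h2 | h2
        · exact h2
        · exfalso
          apply hne
          refine (D.C he hv ?_).symm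
          refine Relation.ReflTransGen.trans (Relation.ReflTransGen.single ⟨he.mem, hh, e, he.mem_Y, h2⟩)
            (Relation.ReflTransGen.single ⟨hh, hv.mem, ?_⟩)
          exact D.adj_symm hv.mem hh ⟨v, hv.mem_Y, hhv⟩
      rw [hx, h1, zero_smul, add_zero]
    · rw [hx, D.A hv hh hhv, one_smul]
  obtain ⟨h, hh, hhv⟩ := D.exists_one hv.ne
  obtain ⟨a, ha, hfa⟩ := D.adj_symm hv.mem hh ⟨v, hv.mem_Y, hhv⟩
  obtain ⟨t, -, htv⟩ := hv.ex
  -- conjugation by `t`
  have h2 : act t h = h + f' := smul_functional hv.zero htv hhv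
  have h3 : h + f' ∈ Φ := by rw [← h2]; exact D.inv t h hh
  have h4 : a + v ∈ Y X (h + f') := by
    have := smul_mem_Y ha t
    rwa [h2, htv, hfa, one_smul] at this
  have h5 : (h + f') v = 1 := by rw [AddMonoidHom.add_apply, hhv, hv.zero, add_zero]
  exact ⟨a, hfa, ⟨h, hh, hhv, ha⟩, ⟨_, h3, h5, h4⟩, step h hh hhv a ha, step _ h3 h5 _ h4⟩

/-- (D), distinctness -/
theorem D2 {v v' b : M} {f f' h h' : M →+ ZMod 2} (hv : Tv Φ O v f) (hv' : Tv Φ O v' f') (hh : h ∈ Φ)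
    (hh' : h' ∈ Φ) (hhv : h v = 1) (hhv' : h' v' = 1) (hb : b ∈ Y X h) (hb' : b ∈ Y X h') (hb0 : b ≠ 0) :
    v = v' := by
  obtain ⟨g, hg, hgb⟩ := D.exists_one hb0
  refine D.C hv hv' ?_
  refine Relation.ReflTransGen.trans (Relation.ReflTransGen.single ⟨hv.mem, hh, v, hv.mem_Y, hhv⟩) ?_
  refine Relation.ReflTransGen.trans (Relation.ReflTransGen.single ⟨hh, hg, b, hb, hgb⟩) ?_
  refine Relation.ReflTransGen.trans (Relation.ReflTransGen.single ⟨hg, hh', ?_⟩)
    (Relation.ReflTransGen.single ⟨hh', hv'.mem, ?_⟩)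
  · exact D.adj_symm hh' hg ⟨b, hb', hgb⟩
  · exact D.adj_symm hv'.mem hh' ⟨v', hv'.mem_Y, hhv'⟩

/-- **LEMMA LN.** -/
theorem eq_of_card [Finite X] {e : M} {f : M →+ ZMod 2} (he : Tv Φ O e f)
    (hcard : Nat.card (stabilizer X e) ≤ Nat.card (stabilizer X c)) : e = c := by
  classical
  set Xc := stabilizer X c with hXc
  set Xe := stabilizer X e with hXe
  -- the two orbits
  set A : Set M := orbit Xc e with hA
  set B : Set M := orbit Xe c with hB
  have hfinA : A.Finite := Set.toFinite _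
  have hfinB : B.Finite := Set.toFinite _
  -- every member of `A` is the centre of a transvection in `O`
  have hTv : ∀ v ∈ A, ∃ g, Tv Φ O v g := by
    rintro _ ⟨s, rfl⟩
    exact ⟨_, Tv.conj D he (mem_stabilizer_iff.1 s.2)⟩
  have hcB : c ∈ B := mem_orbit_self c
  have heA : e ∈ A := mem_orbit_self e
  have hBm : ∀ u, (∃ x : X, x • e = e ∧ x • c = u) → u ∈ B := by
    rintro u ⟨x, hx, rfl⟩
    exact ⟨⟨x, mem_stabilizer_iff.2 hx⟩, rfl⟩
  -- the numbers
  have key : 2 * (A \ {e}).ncard ≤ (B \ {c}).ncard := by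
    have hex : ∀ v : ↥(A \ {e}), ∃ (a : M) (f' : M →+ ZMod 2), Tv Φ O (v : M) f' ∧ f' a = 1 ∧
        (∃ h ∈ Φ, h v = 1 ∧ a ∈ Y X h) ∧ (∃ h ∈ Φ, h v = 1 ∧ a + v ∈ Y X h) ∧
        (∃ x : X, x • e = e ∧ x • c = c + a) ∧ (∃ x : X, x • e = e ∧ x • c = c + (a + v)) := by
      intro v
      obtain ⟨f', hf'⟩ := hTv v v.2.1
      obtain ⟨a, h1, h2, h3, h4, h5⟩ := D.D1 he hf' v.2.2
      exact ⟨a, f', hf', h1, h2, h3, h4, h5⟩
    choose a f' hT hfa h0 h1 k0 k1 using hex
    let φ : ↥(A \ {e}) × Bool → ↥(B \ {c}) := fun p =>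
      ⟨c + (if p.2 then a p.1 + p.1 else a p.1), by
        constructor
        · rcases p with ⟨v, _ | _⟩
          · exact hBm _ (k0 v)
          · exact hBm _ (k1 v)
        · intro h
          have h2 : (if p.2 then a p.1 + (p.1 : M) else a p.1) = 0 := by simpa using h
          have h3 : f' p.1 (if p.2 then a p.1 + (p.1 : M) else a p.1) = 1 := by
            split_ifs
            · rw [map_add, hfa, (hT p.1).zero, add_zero]
            · exact hfa p.1
          rw [h2, map_zero] at h3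
          exact absurd h3 (by decide)⟩
    have hφ : Function.Injective φ := by
      rintro ⟨v, i⟩ ⟨v', j⟩ h
      have h2 : (if i then a v + (v : M) else a v) = (if j then a v' + (v' : M) else a v') := by
        have := congrArg Subtype.val h
        exact add_left_cancel this
      have hne : (if i then a v + (v : M) else a v) ≠ 0 := by
        intro h2
        have h3 : f' v (if i then a v + (v : M) else a v) = 1 := by
          split_ifs
          · rw [map_add, hfa, (hT v).zero, add_zero]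
          · exact hfa v
        rw [h2, map_zero] at h3
        exact absurd h3 (by decide)
      have e1 : ∃ g ∈ Φ, g v = 1 ∧ (if i then a v + (v : M) else a v) ∈ Y X g := by
        split_ifs
        · exact h1 v
        · exact h0 v
      have e2 : ∃ g ∈ Φ, g v' = 1 ∧ (if j then a v' + (v' : M) else a v') ∈ Y X g := by
        split_ifs
        · exact h1 v'
        · exact h0 v'
      obtain ⟨g, hg, hgv, hgY⟩ := e1
      obtain ⟨g', hg', hgv', hgY'⟩ := e2
      rw [← h2] at hgY'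
      have h3 : (v : M) = v' := D.D2 (hT v) (hT v') hg hg' hgv hgv' hgY hgY' hne
      have h4 : v = v' := Subtype.ext h3
      subst h4
      have h5 : i = j := by
        rcases i <;> rcases j
        · rfl
        · exfalso
          apply (hT v).ne
          simpa using h2
        · exfalso
          apply (hT v).ne
          simpa using h2
        · rfl
      rw [h5]
    have h2 := Nat.card_le_card_of_injective φ hφ
    rw [Nat.card_prod, Nat.card_eq_fintype_card (α := Bool), Fintype.card_bool, mul_comm] at h2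
    rwa [← Nat.card_coe_set_eq, ← Nat.card_coe_set_eq]
  have hA1 : (A \ {e}).ncard + 1 = A.ncard := Set.ncard_sdiff_singleton_add_one heA hfinA
  have hB1 : (B \ {c}).ncard + 1 = B.ncard := Set.ncard_sdiff_singleton_add_one hcB hfinB
  -- orbits and stabilisers
  have hsA : A.ncard * Nat.card (stabilizer Xc e) = Nat.card Xc := by
    rw [← Nat.card_coe_set_eq]
    have := Nat.card_congr (orbitProdStabilizerEquivGroup Xc e)
    rwa [Nat.card_prod] at this
  have hsB : B.ncard * Nat.card (stabilizer Xe c) = Nat.card Xe := by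
    rw [← Nat.card_coe_set_eq]
    have := Nat.card_congr (orbitProdStabilizerEquivGroup Xe c)
    rwa [Nat.card_prod] at this
  have hs : Nat.card (stabilizer Xc e) = Nat.card (stabilizer Xe c) := by
    refine Nat.card_congr ⟨fun x => ⟨⟨x.1.1, mem_stabilizer_iff.1 x.2⟩, x.1.2⟩,
      fun x => ⟨⟨x.1.1, mem_stabilizer_iff.1 x.2⟩, x.1.2⟩, fun x => rfl, fun x => rfl⟩
  have hpos : 0 < Nat.card (stabilizer Xe c) := Nat.card_pos
  rw [← hsA, ← hsB, hs] at hcard
  have h1 : B.ncard ≤ A.ncard := Nat.le_of_mul_le_mul_right hcard hpos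
  have h2 : (A \ {e}).ncard = 0 := by omega
  have h3 : A \ {e} = ∅ := (Set.ncard_eq_zero (hfinA.subset Set.sdiff_subset)).1 h2
  have hfix : ∀ s : X, s • c = c → s • e = e := by
    intro s hs
    have h5 : s • e ∈ A := ⟨⟨s, mem_stabilizer_iff.2 hs⟩, rfl⟩
    by_contra h6
    have h7 : s • e ∈ A \ {e} := ⟨h5, h6⟩
    rw [h3] at h7
    exact h7
  exact (D.fix e hfix).resolve_left he.ne

end

end Hyp

end Cfsg.Agent.Omega.NOThreeL.LN

end

section


/-!
# NO-3L, B2-T, `|Z| = 2`: LEMMA LN for groups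

`Sit z y v U H S Q` : `U = ⟨z^H⟩` is elementary abelian, `C_G(z) ≤ H`, `S ≤ C_G(z)` is a 2-group which fixes only
`1`, `z` in `U`, `Q` is a normal 2-subgroup of `C_G(z)`, `v ∈ Q` acts on `U` as a transvection with centre
`y ∈ U`, and `|C_G(y)| ≤ |C_G(z)|`.  Then `y = z` (`Sit.eq`).
-/

set_option autoImplicit false

namespace Cfsg.Agent.Omega.NOThreeL.LineNull

open Subgroup Cfsg.Agent.Omega.NOThreeL.ThmL Cfsg.Agent.Omega.NOThreeL.LN MulAction

variable {G : Type*} [Group G]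

/-- `v ∈ Q` acts on `U` as a transvection with centre `y`. -/
structure Sit (z y v : G) (U H S Q : Subgroup G) : Prop where
  zU : z ∈ U
  sq : ∀ u ∈ U, u * u = 1
  nU : ∀ h ∈ H, ∀ u ∈ U, h * u * h⁻¹ ∈ U
  cH : ∀ g, g * z = z * g → g ∈ H
  gen : ∀ N : Subgroup G, z ∈ N → N ≤ U → (∀ h ∈ H, ∀ n ∈ N, h * n * h⁻¹ ∈ N) → U ≤ N
  S2 : IsPGroup 2 S
  cS : ∀ s ∈ S, s * z = z * s
  fix : ∀ u ∈ U, (∀ s ∈ S, s * u * s⁻¹ = u) → u = 1 ∨ u = z
  QC : ∀ q ∈ Q, q * z = z * q
  Qn : ∀ g, g * z = z * g → ∀ q ∈ Q, g * q * g⁻¹ ∈ Q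
  Q2 : IsPGroup 2 Q
  vQ : v ∈ Q
  yU : y ∈ U
  vy : v * y * v⁻¹ = y
  hv : ∀ u ∈ U, v * u * v⁻¹ = u ∨ v * u * v⁻¹ = u * y
  ne : ∃ u ∈ U, v * u * v⁻¹ ≠ u
  card : Nat.card (centralizer ({y} : Set G)) ≤ Nat.card (centralizer ({z} : Set G))

namespace Sit

variable {z y v : G} {U H S Q : Subgroup G}

/-- **LEMMA LN, group form.** -/
theorem eq [Finite G] (D : Sit z y v U H S Q) : y = z := by
  classical
  have comm : ∀ {u w : G}, u ∈ U → w ∈ U → u * w = w * u := fun hu hw =>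
    AdjTransv.eq_of_sq (D.sq _ hu) (D.sq _ hw) (D.sq _ (mul_mem hu hw))
  have hy1 : y ≠ 1 := by
    rintro rfl
    obtain ⟨u, hu, hne⟩ := D.ne
    rcases D.hv u hu with h | h
    · exact hne h
    · rw [mul_one] at h
      exact hne h
  have hvH : v ∈ H := D.cH v (D.QC v D.vQ)
  -- the module
  let i0 : CommGroup U :=
    { (inferInstance : Group U) with
      mul_comm := fun a b => Subtype.ext (comm a.2 b.2) }
  let M := Additive U
  let i1 : AddCommGroup M := inferInstanceAs (AddCommGroup (Additive U))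
  let i2 : Module (ZMod 2) M := AddCommGroup.zmodModule (n := 2) fun a => by
    rw [two_nsmul]
    exact Subtype.ext (D.sq _ (Additive.toMul a).2)
  let i3 : DistribMulAction H M :=
    { smul := fun x a => Additive.ofMul ⟨(x : G) * (Additive.toMul a : U) * (x : G)⁻¹,
        D.nU x x.2 _ (Additive.toMul a : U).2⟩
      one_smul := fun a => Subtype.ext (by
        change (1 : G) * ((Additive.toMul a : U) : G) * (1 : G)⁻¹ = ((Additive.toMul a : U) : G)
        rw [one_mul, inv_one, mul_one])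
      mul_smul := fun a b c => Subtype.ext (by
        change ((a : G) * b) * ((Additive.toMul c : U) : G) * ((a : G) * b)⁻¹ =
          (a : G) * ((b : G) * ((Additive.toMul c : U) : G) * (b : G)⁻¹) * (a : G)⁻¹
        rw [mul_inv_rev]; simp only [mul_assoc])
      smul_zero := fun a => Subtype.ext (by
        change (a : G) * 1 * (a : G)⁻¹ = 1
        rw [mul_one, mul_inv_cancel])
      smul_add := fun a b c => Subtype.ext (by
        change (a : G) * (((Additive.toMul b : U) : G) * ((Additive.toMul c : U) : G)) * (a : G)⁻¹ =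
          ((a : G) * ((Additive.toMul b : U) : G) * (a : G)⁻¹) * ((a : G) * ((Additive.toMul c : U) : G) * (a : G)⁻¹)
        group) }
  have hfinM : Finite M := inferInstanceAs (Finite U)
  -- coercion to `G`
  let co : M → G := fun a => ((Additive.toMul a : U) : G)
  have co_inj : ∀ {a b : M}, co a = co b → a = b := fun h => Subtype.ext h
  have co_mem : ∀ a : M, co a ∈ U := fun a => (Additive.toMul a : U).2
  have co_add : ∀ a b : M, co (a + b) = co a * co b := fun a b => rfl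
  have co_zero : co 0 = 1 := rfl
  have co_smul : ∀ (x : H) (a : M), co (x • a) = (x : G) * co a * (x : G)⁻¹ := fun x a => rfl
  let mk : ∀ u : G, u ∈ U → M := fun u hu => Additive.ofMul ⟨u, hu⟩
  have co_mk : ∀ (u : G) (hu : u ∈ U), co (mk u hu) = u := fun u hu => rfl
  let c : M := mk z D.zU
  let e : M := mk y D.yU
  -- the functional
  have hyy : y * y = 1 := D.sq y D.yU
  let f : M →+ ZMod 2 :=
    { toFun := fun a => if v * co a * v⁻¹ = co a then 0 else 1
      map_zero' := by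
        rw [if_pos]
        rw [co_zero, mul_one, mul_inv_cancel]
      map_add' := fun a b => by
        have e1 : v * co (a + b) * v⁻¹ = (v * co a * v⁻¹) * (v * co b * v⁻¹) := by rw [co_add]; group
        have hne : ∀ w : G, w * y ≠ w := fun w h => hy1 (by simpa using h)
        rcases D.hv _ (co_mem a) with ha | ha <;> rcases D.hv _ (co_mem b) with hb | hb
        · have h3 : v * co (a + b) * v⁻¹ = co (a + b) := by rw [e1, ha, hb, co_add]
          rw [if_pos h3, if_pos ha, if_pos hb, add_zero]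
        · have h3 : ¬ v * co (a + b) * v⁻¹ = co (a + b) := by
            rw [e1, ha, hb, ← mul_assoc, ← co_add]
            exact hne _
          have hb' : ¬ v * co b * v⁻¹ = co b := by rw [hb]; exact hne _
          rw [if_neg h3, if_pos ha, if_neg hb', zero_add]
        · have h3 : ¬ v * co (a + b) * v⁻¹ = co (a + b) := by
            rw [e1, ha, hb, mul_assoc, comm D.yU (co_mem b), ← mul_assoc, ← co_add]
            exact hne _
          have ha' : ¬ v * co a * v⁻¹ = co a := by rw [ha]; exact hne _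
          rw [if_neg h3, if_neg ha', if_pos hb, add_zero]
        · have h3 : v * co (a + b) * v⁻¹ = co (a + b) := by
            rw [e1, ha, hb, mul_assoc, ← mul_assoc y, comm D.yU (co_mem b), mul_assoc, hyy, mul_one, co_add]
          have ha' : ¬ v * co a * v⁻¹ = co a := by rw [ha]; exact hne _
          have hb' : ¬ v * co b * v⁻¹ = co b := by rw [hb]; exact hne _
          rw [if_pos h3, if_neg ha', if_neg hb']
          decide }
  have hf0 : ∀ a : M, f a = 0 ↔ v * co a * v⁻¹ = co a := by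
    intro a
    change (if v * co a * v⁻¹ = co a then (0 : ZMod 2) else 1) = 0 ↔ _
    constructor
    · intro h
      by_contra h1
      rw [if_neg h1] at h
      exact absurd h (by decide)
    · intro h
      rw [if_pos h]
  let Φ : Set (M →+ ZMod 2) := Set.range fun x : H => act x f
  have act_mul : ∀ (x x' : H) (g : M →+ ZMod 2), act x (act x' g) = act (x * x') g := by
    intro x x' g
    ext u
    simp [mul_smul]
  have act_one : act (1 : H) f = f := by ext u; simp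
  have hfΦ : f ∈ Φ := ⟨1, act_one⟩
  let O : Subgroup H := Q.subgroupOf H
  have hsz : ∀ s : H, s • c = c ↔ (s : G) * z = z * s := by
    intro s
    constructor
    · intro h
      have h1 := congrArg co h
      rw [co_smul] at h1
      change (s : G) * z * (s : G)⁻¹ = z at h1
      rw [mul_inv_eq_iff_eq_mul] at h1
      exact h1
    · intro h
      apply co_inj
      rw [co_smul]
      change (s : G) * z * (s : G)⁻¹ = z
      rw [mul_inv_eq_iff_eq_mul]
      exact h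
  have hsy : ∀ s : H, s • e = e ↔ (s : G) * y = y * s := by
    intro s
    constructor
    · intro h
      have h1 := congrArg co h
      rw [co_smul] at h1
      change (s : G) * y * (s : G)⁻¹ = y at h1
      rw [mul_inv_eq_iff_eq_mul] at h1
      exact h1
    · intro h
      apply co_inj
      rw [co_smul]
      change (s : G) * y * (s : G)⁻¹ = y
      rw [mul_inv_eq_iff_eq_mul]
      exact h
  have hHyp : Hyp Φ c O := by
    refine ⟨⟨?_, ?_, ?_⟩, ?_, ?_, ?_, ?_⟩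
    · rintro x _ ⟨x', rfl⟩
      exact ⟨x * x', (act_mul x x' f).symm⟩
    · rintro _ ⟨x, rfl⟩ _ ⟨x', rfl⟩
      exact ⟨x' * x⁻¹, by change act (x' * x⁻¹) (act x f) = act x' f; rw [act_mul, inv_mul_cancel_right]⟩
    · -- no common zero
      intro a ha
      have ha' : ∀ h ∈ H, v * (h * co a * h⁻¹) * v⁻¹ = h * co a * h⁻¹ := by
        intro h hh
        have h1 := ha (act (⟨h, hh⟩ : H)⁻¹ f) ⟨_, rfl⟩
        rw [act_apply, inv_inv, hf0, co_smul] at h1
        exact h1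
      let N : Subgroup G :=
        { carrier := {u | u ∈ U ∧ ∀ h ∈ H, v * (h * u * h⁻¹) * v⁻¹ = h * u * h⁻¹}
          mul_mem' := by
            rintro u w ⟨hu, hu'⟩ ⟨hw, hw'⟩
            refine ⟨mul_mem hu hw, fun h hh => ?_⟩
            have e1 : v * (h * (u * w) * h⁻¹) * v⁻¹ =
              (v * (h * u * h⁻¹) * v⁻¹) * (v * (h * w * h⁻¹) * v⁻¹) := by group
            rw [e1, hu' h hh, hw' h hh]
            group
          one_mem' := ⟨U.one_mem, fun h _ => by group⟩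
          inv_mem' := by
            rintro u ⟨hu, hu'⟩
            refine ⟨inv_mem hu, fun h hh => ?_⟩
            have e1 : v * (h * u⁻¹ * h⁻¹) * v⁻¹ = (v * (h * u * h⁻¹) * v⁻¹)⁻¹ := by group
            rw [e1, hu' h hh]
            group }
      have hNU : N ≤ U := fun u hu => hu.1
      have hNH : ∀ h ∈ H, ∀ n ∈ N, h * n * h⁻¹ ∈ N := by
        rintro h hh n ⟨hn, hn'⟩
        refine ⟨D.nU h hh n hn, fun k hk => ?_⟩
        have := hn' (k * h) (mul_mem hk hh)
        have e1 : k * (h * n * h⁻¹) * k⁻¹ = k * h * n * (k * h)⁻¹ := by group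
        rw [e1]
        exact this
      have hNbot : N = ⊥ := by
        by_contra hN
        obtain ⟨n, hn, hn1, hnS⟩ := AdjTransv.exists_fixed D.S2 hN (fun n hn => D.sq n (hNU hn))
          (fun s hs n hn => hNH s (D.cH s (D.cS s hs)) n hn)
        have hnz : n = z := (D.fix n (hNU hn) hnS).resolve_left hn1
        rw [hnz] at hn
        have h1 := D.gen N hn hNU hNH
        obtain ⟨u, hu, hne⟩ := D.ne
        have h2 := (h1 hu).2 1 H.one_mem
        rw [one_mul, inv_one, mul_one] at h2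
        exact hne h2
      have haN : co a ∈ N := ⟨co_mem a, ha'⟩
      rw [hNbot, mem_bot] at haN
      exact co_inj haN
    · -- 2-group
      intro o ho
      obtain ⟨n, hn⟩ := D.Q2 ⟨(o : G), ho⟩
      refine ⟨n, fun u => ?_⟩
      have h1 : o ^ (2 ^ n) = 1 := by
        apply Subtype.ext
        have := congrArg Subtype.val hn
        exact this
      rw [h1, one_smul]
    · intro o ho
      exact (hsz o).2 (D.QC o ho)
    · intro s hs o ho
      exact D.Qn s ((hsz s).1 hs) o ho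
    · intro u hu
      have hfix : ∀ s ∈ S, s * co u * s⁻¹ = co u := by
        intro s hs
        have hsH : s ∈ H := D.cH s (D.cS s hs)
        have h1 := hu ⟨s, hsH⟩ ((hsz _).2 (D.cS s hs))
        have h2 := congrArg co h1
        rw [co_smul] at h2
        exact h2
      rcases D.fix (co u) (co_mem u) hfix with h | h
      · exact Or.inl (co_inj h)
      · exact Or.inr (co_inj h)
  have hTv : Tv Φ O e f := by
    refine ⟨hfΦ, ?_, ?_, ⟨v, hvH⟩, D.vQ, fun u => ?_⟩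
    · intro h
      exact hy1 (congrArg co h)
    · rw [hf0]
      exact D.vy
    · apply co_inj
      rw [co_smul]
      change v * co u * v⁻¹ = _
      rcases z2 (f u) with h | h
      · rw [h, zero_smul, add_zero, (hf0 u).1 h]
      · rw [h, one_smul, co_add]
        rcases D.hv _ (co_mem u) with h1 | h1
        · rw [(hf0 u).2 h1] at h
          exact absurd h (by decide)
        · exact h1
  have hcard : Nat.card (stabilizer H e) ≤ Nat.card (stabilizer H c) := by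
    have h1 : Nat.card (stabilizer H e) ≤ Nat.card (centralizer ({y} : Set G)) := by
      refine Nat.card_le_card_of_injective (fun s => ⟨((s : H) : G), ?_⟩) ?_
      · rw [mem_centralizer_singleton_iff]
        exact (hsy s).1 s.2
      · intro s t h
        have h3 := congrArg Subtype.val h
        exact Subtype.ext (Subtype.ext h3)
    have h2 : Nat.card (centralizer ({z} : Set G)) ≤ Nat.card (stabilizer H c) := by
      refine Nat.card_le_card_of_injective
        (fun s => ⟨⟨(s : G), D.cH s (mem_centralizer_singleton_iff.1 s.2)⟩, ?_⟩) ?_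
      · exact (hsz _).2 (mem_centralizer_singleton_iff.1 s.2)
      · intro s t h
        have h3 := congrArg Subtype.val h
        have h4 := congrArg Subtype.val h3
        exact Subtype.ext h4
    exact (h1.trans D.card).trans h2
  have := Hyp.eq_of_card hHyp hTv hcard
  exact congrArg co this

end Sit

end Cfsg.Agent.Omega.NOThreeL.LineNull

end

section


/-!
# NO-3L, piece B1, `|Z| = 2`: the plug of THEOREM TV (helper905)

`S` a Sylow 2-subgroup, `Z = zc S` of order 2, `H`, `K` long.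

* `exists_par` : a long `K` with `U_K ≠ Z` contains some `P ∈ P*(S)`;
* `adj` : the abstract pair `Adj z U_H U_K H K S`;
* `false_of_index` : not (A), `[U_H, U_K] ≠ 1` and `|U_H : C_{U_H}(U_K)| = 2` is impossible;
* `false_of_index'` : the same with the index of the centraliser.
-/

set_option autoImplicit false

namespace Cfsg.Agent.Omega.NOThreeL.AdjTransv

open Subgroup Cfsg Cfsg.Agent.ZN Cfsg.Agent.Omega.MinPar Cfsg.Agent.Omega.Frame Cfsg.Agent.Omega.FrameNOFF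
open Cfsg.Agent.Omega.Node.NO3L Cfsg.Agent.Omega.NOThreeL.Basic
open Cfsg.Agent.MinSimple.VModule (zl_le le_normalizer_zl zc_le_zl zc_le mem_zc normalizer_le_normalizer_zc
  le_centralizer_zc)

universe u

variable {G : Type u} [Group G] [Finite G] {S : Sylow 2 G}

omit [Finite G] in
/-- a group of order 2 is `{1, z}` -/
theorem exists_z (h2 : Nat.card (zc (S : Subgroup G)) = 2) :
    ∃ z ∈ zc (S : Subgroup G), z ≠ 1 ∧ ∀ x ∈ zc (S : Subgroup G), x = 1 ∨ x = z := by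
  obtain ⟨y, hy, hu⟩ := (Nat.card_eq_two_iff' (1 : zc (S : Subgroup G))).mp h2
  refine ⟨y, y.2, fun h => hy (Subtype.ext h), fun x hx => ?_⟩
  by_cases h1 : x = 1
  · exact Or.inl h1
  · exact Or.inr (congrArg Subtype.val (hu ⟨x, hx⟩ fun h => h1 (congrArg Subtype.val h)))

omit [Finite G] in
/-- `N_G(Z) ≤ C_G(Z)` -/
theorem norm_le_cent (h2 : Nat.card (zc (S : Subgroup G)) = 2) :
    normalizer (zc (S : Subgroup G) : Set G) ≤ CZ (S : Subgroup G) := by
  obtain ⟨z, hz, hz1, hu⟩ := exists_z h2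
  intro g hg
  rw [mem_centralizer_iff]
  intro x hx
  rcases hu x hx with rfl | rfl
  · rw [one_mul, mul_one]
  · rcases hu _ ((mem_normalizer_iff.1 hg x).1 hx) with h | h
    · exact absurd (conj_eq_one_iff.1 h) hz1
    · exact (mul_inv_eq_iff_eq_mul.1 h).symm

/-- A long group `K` with `K ≰ C_G(Z)` contains some `P ∈ P*(S)`. -/
theorem exists_par (h2 : Nat.card (zc (S : Subgroup G)) = 2) {K : Subgroup G}
    (hK : IsLong (S : Subgroup G) K) (hne : ¬ K ≤ CZ (S : Subgroup G)) :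
    ∃ P, IsParS (S : Subgroup G) P ∧ P ≤ K := by
  by_contra hcon
  push Not at hcon
  apply hne
  refine hK.loc.le_of_forall S ?_ fun P hP hPK => par_le_CZ S hP fun h => hcon P h hPK
  exact inf_le_right.trans ((normalizer_le_normalizer_zc _).trans (norm_le_cent h2))

/-- The abstract pair. -/
theorem adj (hc : IsCharacteristicTwoType G) {H K : Subgroup G} (hH : IsLong (S : Subgroup G) H)
    (hK : IsLong (S : Subgroup G) K) {z : G} (hz : z ∈ zc (S : Subgroup G)) (hz1 : z ≠ 1)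
    (hu : ∀ x ∈ zc (S : Subgroup G), x = 1 ∨ x = z) :
    Adj z (zl (S : Subgroup G) H) (zl (S : Subgroup G) K) H K (S : Subgroup G) := by
  have hcz : ∀ g, g * z = z * g → g ∈ CZ (S : Subgroup G) := by
    intro g hg
    rw [mem_centralizer_iff]
    intro x hx
    rcases hu x hx with rfl | rfl
    · rw [one_mul, mul_one]
    · exact hg.symm
  have hn : ∀ {L : Subgroup G}, ∀ h ∈ L, ∀ u ∈ zl (S : Subgroup G) L, h * u * h⁻¹ ∈ zl (S : Subgroup G) L :=
    fun {L} h hh u hu => (mem_normalizer_iff.1 (le_normalizer_zl (S : Subgroup G) L hh) u).1 hu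
  have hgen : ∀ {L : Subgroup G}, IsLong (S : Subgroup G) L →
      zl (S : Subgroup G) L ≤ Subgroup.closure {x | ∃ h ∈ L, x = h * z * h⁻¹} := by
    intro L hL
    refine zl_le ?_ ?_
    · intro x hx
      rcases hu x hx with rfl | rfl
      · exact one_mem _
      · exact subset_closure ⟨1, L.one_mem, by simp⟩
    · have key : ∀ l ∈ L, ∀ x ∈ Subgroup.closure {x | ∃ h ∈ L, x = h * z * h⁻¹},
          l * x * l⁻¹ ∈ Subgroup.closure {x | ∃ h ∈ L, x = h * z * h⁻¹} := by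
        intro l hl x hx
        have h1 : Subgroup.closure {x | ∃ h ∈ L, x = h * z * h⁻¹} ≤
            (Subgroup.closure {x | ∃ h ∈ L, x = h * z * h⁻¹}).comap (MulAut.conj l).toMonoidHom := by
          refine (closure_le _).2 ?_
          rintro y ⟨h, hh, rfl⟩
          change l * (h * z * h⁻¹) * l⁻¹ ∈ Subgroup.closure _
          exact subset_closure ⟨l * h, L.mul_mem hl hh, by group⟩
        exact h1 hx
      intro l hl
      rw [mem_normalizer_iff]
      intro x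
      refine ⟨key l hl x, fun h => ?_⟩
      have := key l⁻¹ (L.inv_mem hl) _ h
      simpa [mul_assoc] using this
  have hsq : ∀ {L : Subgroup G}, IsLong (S : Subgroup G) L → ∀ u ∈ zl (S : Subgroup G) L, u * u = 1 :=
    fun hL u hu => by rw [← pow_two]; exact (FFThm.elem_zl hc S hL.loc).2 u hu
  have hfix : ∀ {L : Subgroup G}, IsLong (S : Subgroup G) L → ∀ u ∈ zl (S : Subgroup G) L,
      (∀ s ∈ (S : Subgroup G), s * u * s⁻¹ = u) → u = 1 ∨ u = z := by
    intro L hL u huL h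
    refine hu u (mem_zc.2 ⟨IsLong.zl_le_S hc hL huL, fun b hb => mul_inv_eq_iff_eq_mul.1 (h b hb), ?_⟩)
    exact (FFThm.elem_zl hc S hL.loc).2 u huL
  exact
    { z1 := hz1
      zU := zc_le_zl _ _ hz
      zW := zc_le_zl _ _ hz
      sqU := hsq hH
      sqW := hsq hK
      nU := hn
      nW := hn
      cH := fun g hg => hH.cz (hcz g hg)
      cK := fun g hg => hK.cz (hcz g hg)
      genU := hgen hH
      genW := hgen hK
      pS := S.isPGroup'
      cS := fun s hs => ((mem_zc.1 hz).2.1 s hs)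
      fixU := hfix hH
      fixW := hfix hK }

/-- **THEOREM TV, plugged**: not (A), `|Z| = 2`, `[U_H, U_K] ≠ 1`, `|U_H : C_{U_H}(U_K)| = 2` is impossible. -/
theorem false_of_index (hc : IsCharacteristicTwoType G) (hA : ¬ CaseA (S : Subgroup G))
    (h2 : Nat.card (zc (S : Subgroup G)) = 2) {H K : Subgroup G} (hH : IsLong (S : Subgroup G) H)
    (hK : IsLong (S : Subgroup G) K)
    (hne : ¬ zl (S : Subgroup G) H ≤ centralizer (zl (S : Subgroup G) K : Set G))
    (hidx : ∀ u ∈ zl (S : Subgroup G) H, ∀ v ∈ zl (S : Subgroup G) H,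
      u ∉ centralizer (zl (S : Subgroup G) K : Set G) → v ∉ centralizer (zl (S : Subgroup G) K : Set G) →
      u * v ∈ centralizer (zl (S : Subgroup G) K : Set G)) : False := by
  obtain ⟨z, hz, hz1, hu⟩ := exists_z h2
  have hadj := adj hc hH hK hz hz1 hu
  have t : Tv z (zl (S : Subgroup G) H) (zl (S : Subgroup G) K) H K (S : Subgroup G) :=
    { hadj with
      ne := by
        by_contra hcon
        push Not at hcon
        exact hne hcon
      idx := hidx }
  have hKC : ¬ K ≤ CZ (S : Subgroup G) := by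
    intro h
    apply hne
    have h1 : zl (S : Subgroup G) K ≤ zc (S : Subgroup G) :=
      zl_le le_rfl (h.trans (centralizer_le_normalizer _))
    refine le_trans ?_ (centralizer_le h1)
    exact (IsLong.zl_le_S hc hH).trans (le_centralizer_zc _)
  obtain ⟨P, hP, hPK⟩ := exists_par h2 hK hKC
  refine t.false_of (P := P) hP.le hPK (fun p hp => ?_) ?_
  · have h1 : zl (S : Subgroup G) P ≤ centralizer (zl (S : Subgroup G) H : Set G) := by
      by_contra h
      exact hA ⟨P, H, hP, hH, h⟩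
    exact h1 ((mem_normalizer_iff.1 (le_normalizer_zl (S : Subgroup G) P hp) z).1 (zc_le_zl _ _ hz))
  · by_contra hcon
    push Not at hcon
    refine hP.not_zc (le_trans (fun p hp => ?_) (centralizer_le_normalizer _))
    rw [mem_centralizer_iff]
    intro x hx
    rcases hu x hx with rfl | rfl
    · rw [one_mul, mul_one]
    · exact (hcon p hp).symm

/-- The same with the index. -/
theorem false_of_index' (hc : IsCharacteristicTwoType G) (hA : ¬ CaseA (S : Subgroup G))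
    (h2 : Nat.card (zc (S : Subgroup G)) = 2) {H K : Subgroup G} (hH : IsLong (S : Subgroup G) H)
    (hK : IsLong (S : Subgroup G) K)
    (hidx : (centralizer (zl (S : Subgroup G) K : Set G)).relIndex (zl (S : Subgroup G) H) = 2) : False := by
  have h3 : ((centralizer (zl (S : Subgroup G) K : Set G)).subgroupOf (zl (S : Subgroup G) H)).index = 2 := hidx
  refine false_of_index hc hA h2 hH hK (fun h => ?_) fun u hu v hv h4 h5 => ?_
  · rw [relIndex_eq_one.2 h] at hidx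
    omega
  · have h6 := (mul_mem_iff_of_index_two h3 (a := ⟨u, hu⟩) (b := ⟨v, hv⟩))
    rw [mem_subgroupOf, mem_subgroupOf, mem_subgroupOf] at h6
    exact h6.2 (iff_of_false h4 h5)

end Cfsg.Agent.Omega.NOThreeL.AdjTransv

end

section


/-!
# THEOREM NF (#17343): the interface to the FF theorem

`W = zl S P`, `P ∈ P*(S)`, `C_Z(P) = 1`.

* `MinOffM W S A` : `A ≤ S` is an offender on `W` (image sense), no offender `B ≤ A` has a smaller image;
* `pts W S A` : the `S`-conjugates of `[W, A]` (the *points*);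
* `RP S P` : what the FF theorem gives (`W` is natural^k or even-subset^k, `A` acts as one full root group or as
  one transposition): `|[W,A]| = |A : C_A(W)|`, `[v,A] = [W,A]` for `v ∈ W - C(A)`, the points commute with all
  `B`, they are conjugate, `|W| = |[W,A]|^{2n}` with `n` the number of points, every vector of `W` is
  `P`-conjugate into `R = ⟨points⟩`, `z ∈ Z#` is a full vector of `R`, all full vectors of `R` are `P`-conjugate
  to `z`, `W` is irreducible, finitely many conjugates of `A` generate `⟨A^P⟩` modulo `C_P(W)`.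
-/

set_option autoImplicit false

namespace Cfsg.Agent.Omega.NOThreeL.NF

open Subgroup Cfsg Cfsg.Agent.ZN Cfsg.Agent.ZN.ChoiceBase
open Cfsg.Agent.Omega.FFThm (ElemM OffM NoOverM ConclM)
open scoped commutatorElement

universe u

variable {G : Type u} [Group G]

/-- A minimal offender in `S` on `W` (image sense). -/
structure MinOffM (W S A : Subgroup G) : Prop where
  le : A ≤ S
  off : OffM W A
  min : ∀ B : Subgroup G, B ≤ A → OffM W B →
    (centralizer (W : Set G)).relIndex A ≤ (centralizer (W : Set G)).relIndex B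

/-- The points: the `S`-conjugates of `[W, A]`. -/
def pts (W S A : Subgroup G) : Set (Subgroup G) := {R | ∃ s ∈ S, R = cj s ⁅W, A⁆}

/-- The interface to the FF theorem, `W = zl S P`. -/
structure RP (S P : Subgroup G) : Prop where
  card : ∀ A : Subgroup G, MinOffM (zl S P) S A →
    Nat.card ↥(⁅zl S P, A⁆ : Subgroup G) = (centralizer (zl S P : Set G)).relIndex A
  /-- `[v, A] = [W, A]` for `v ∈ W - C(A)` -/
  surj : ∀ A : Subgroup G, MinOffM (zl S P) S A → ∀ v ∈ zl S P, v ∉ centralizer (A : Set G) →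
    ∀ c ∈ ⁅zl S P, A⁆, ∃ a ∈ A, a * v * a⁻¹ * v⁻¹ = c
  cent : ∀ A B : Subgroup G, MinOffM (zl S P) S A → MinOffM (zl S P) S B → ∀ s ∈ S,
    cj s ⁅zl S P, A⁆ ≤ centralizer (B : Set G)
  conj : ∀ A B : Subgroup G, MinOffM (zl S P) S A → MinOffM (zl S P) S B → ∃ s ∈ S,
    ⁅zl S P, B⁆ = cj s ⁅zl S P, A⁆
  cardV : ∀ A : Subgroup G, MinOffM (zl S P) S A →
    Nat.card (zl S P) = Nat.card ↥(⁅zl S P, A⁆ : Subgroup G) ^ (2 * (pts (zl S P) S A).ncard)
  toR : ∀ A : Subgroup G, MinOffM (zl S P) S A → ∀ v ∈ zl S P, ∃ p ∈ P,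
    p * v * p⁻¹ ∈ sSup (pts (zl S P) S A)
  zfull : ∀ A : Subgroup G, MinOffM (zl S P) S A → ∀ z ∈ zc S, z ≠ 1 →
    z ∈ sSup (pts (zl S P) S A) ∧ ∀ r ∈ pts (zl S P) S A, z ∉ sSup (pts (zl S P) S A \ {r})
  /-- the full vectors of `R` are conjugate to `z` -/
  full : ∀ A : Subgroup G, MinOffM (zl S P) S A → ∀ z ∈ zc S, z ≠ 1 → ∀ v ∈ sSup (pts (zl S P) S A),
    (∀ r ∈ pts (zl S P) S A, v ∉ sSup (pts (zl S P) S A \ {r})) → ∃ p ∈ P, v = p * z * p⁻¹
  irr : ∀ z ∈ zc S, z ≠ 1 → ∀ D : Subgroup G, P ≤ normalizer (D : Set G) → z ∈ D → zl S P ≤ D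
  /-- `⟨A^P⟩` modulo `C_P(W)` is generated by few conjugates without common fixed vector -/
  gen : ∀ A : Subgroup G, MinOffM (zl S P) S A → ∃ X : Finset G, (∀ x ∈ X, x ∈ P) ∧
    (centralizer (zl S P : Set G)).relIndex A ^ X.card ≤ Nat.card (zl S P) ∧
    zl S P ⊓ (⨅ x ∈ X, centralizer ((cj x A : Subgroup G) : Set G)) = ⊥ ∧
    ∀ p ∈ P, cj p A ≤ (⨆ x ∈ X, cj x A) ⊔ (P ⊓ centralizer (zl S P : Set G))

end Cfsg.Agent.Omega.NOThreeL.NF

end

section


/-!
# NO-3L, box R: the `z`-cut (#16868, helper761)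

`S` a Sylow 2-subgroup, no mutual pair, `z ∈ Ω₁(Z(S))#`, `F_z = {P ∈ P*(S) : P moves z}`, `Y^z = ⟨F_z⟩`,
`V^z = ⟨z^(Y^z)⟩`.

* `eq_bot_of_le` : (0), no nontrivial 2-group is normalised by `F_z` and by `C_G(z)`; `FZ_nonempty`;
* `cent_le_o2` : `C_S(⟨z^P⟩) ≤ O₂(P)` for `P ∈ F_z`; `le_norm_cs`, `cs_le_o2`, `isLoc` : (1);
* `le_normalizer_bang` : (2), `V^z ∈ NN(S)` implies `Y^z ≤ N_G(V^!(S))`; `VZ_le_bang`;
* `nonLoc` : (2), then `N_G(V^!(S))` and `C_G(z)` do not normalise a common nontrivial 2-group;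
* `exists_exact` : (3), `V^z ∉ NN(S)` implies: some optimal offender `A ≤ S` on `V^z` and `P ∈ F_z` with `A ≰ O₂(P)`,
  `V^z = ⟨z^P⟩ C_(V^z)(A)`, `|V^z : C(A)| = |A : C_A(V^z)|`, and the FF theorem holds for `P` on `⟨z^P⟩`;
* `cut` : the alternative.
-/

set_option autoImplicit false

namespace Cfsg.Agent.Omega.NOThreeL.ZCut

open Subgroup Cfsg Cfsg.Agent.ZN Cfsg.Agent.ZN.ChoiceBase
open Cfsg.Agent.Omega.MinPar Cfsg.Agent.Omega.Frame Cfsg.Agent.Omega.FrameNOFF
open Cfsg.Agent.Omega.NO3b.EZero (NotFF cent_symm cj_cent cj_norm cj_eq_cj_iff)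
open Cfsg.Agent.Omega.FFThm (ElemM OffM NoOverM ConclM relIndex_le_iff)
open Cfsg.Agent.Omega.NOThreeL.Star (YS le_YS Opt Ok exists_opt)
open Cfsg.Agent.Omega.NO3b.Bang (NN bang)
open Cfsg.Agent.Omega.NOThreeL.SubFF (Sub)
open Cfsg.Agent.Omega.FFBr (AStmt AConcl XX pr)
open Cfsg.Agent.MinSimple.VModule (zc_le_zl le_normalizer_zl zl_le zc_le mem_zc le_centralizer_zc zc_sq
  le_normalizer_o2 o2_isPGroup o2_le le_o2)

universe u

variable {G : Type u} [Group G]

/-- `F_z` -/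
def FZ (S : Subgroup G) (z : G) : Set (Subgroup G) := {P | IsParS S P ∧ ¬ P ≤ centralizer ({z} : Set G)}

/-- `Y^z = ⟨F_z⟩` -/
def YZ (S : Subgroup G) (z : G) : Subgroup G := sSup (FZ S z)

/-- `⟨z^P⟩` -/
def XZ (z : G) (P : Subgroup G) : Subgroup G := closure {x | ∃ p ∈ P, x = p * z * p⁻¹}

/-- `V^z = ⟨z^(Y^z)⟩` -/
def VZ (S : Subgroup G) (z : G) : Subgroup G := XZ z (YZ S z)

theorem le_YZ {S P : Subgroup G} {z : G} (hP : P ∈ FZ S z) : P ≤ YZ S z := le_sSup hP

theorem conj_mem_XZ {z p : G} {P : Subgroup G} (hp : p ∈ P) : p * z * p⁻¹ ∈ XZ z P :=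
  subset_closure ⟨p, hp, rfl⟩

theorem mem_XZ {z : G} {P : Subgroup G} : z ∈ XZ z P := by
  have := conj_mem_XZ (z := z) (one_mem P)
  simpa using this

theorem XZ_le {z : G} {P K : Subgroup G} (h : ∀ p ∈ P, p * z * p⁻¹ ∈ K) : XZ z P ≤ K := by
  rw [XZ, closure_le]
  rintro _ ⟨p, hp, rfl⟩
  exact h p hp

theorem XZ_mono {z : G} {P Q : Subgroup G} (h : P ≤ Q) : XZ z P ≤ XZ z Q :=
  XZ_le fun _ hp => conj_mem_XZ (h hp)

theorem le_normalizer_XZ (z : G) (P : Subgroup G) : P ≤ normalizer (XZ z P : Set G) := by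
  have key : ∀ p ∈ P, cj p (XZ z P) ≤ XZ z P := by
    intro p hp
    rw [cj, map_le_iff_le_comap]
    refine XZ_le fun q hq => ?_
    have : (p * q) * z * (p * q)⁻¹ ∈ XZ z P := conj_mem_XZ (mul_mem hp hq)
    have e : (p * q) * z * (p * q)⁻¹ = p * (q * z * q⁻¹) * p⁻¹ := by group
    rw [e] at this
    exact this
  intro p hp
  rw [mem_normalizer_iff_cj]
  refine le_antisymm (key p hp) ?_
  have h1 := cj_mono p (key p⁻¹ (inv_mem hp))
  rwa [cj_cj_inv] at h1

theorem VZ_le_zl {S : Subgroup G} {z : G} (hz : z ∈ zc S) : VZ S z ≤ zl S (YS S) := by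
  refine XZ_le fun p hp => ?_
  have h1 : YZ S z ≤ YS S := sSup_le fun P hP => le_YS hP.1
  exact (mem_normalizer_iff.1 (le_normalizer_zl S (YS S) (h1 hp)) z).1 (zc_le_zl S (YS S) hz)

section fin

variable [Finite G] {S : Sylow 2 G} {z : G}

theorem le_cent (hz : z ∈ zc (S : Subgroup G)) : (S : Subgroup G) ≤ centralizer ({z} : Set G) := by
  intro s hs
  rw [mem_centralizer_iff]
  rintro _ rfl
  exact ((MinSimple.VModule.mem_zc.1 hz).2.1 s hs).symm

/-- `C_S(⟨z^P⟩) ≤ O₂(P)` -/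
theorem cent_le_o2 (hz : z ∈ zc (S : Subgroup G)) {P : Subgroup G} (hP : P ∈ FZ (S : Subgroup G) z) :
    (S : Subgroup G) ⊓ centralizer (XZ z P : Set G) ≤ o2 P := by
  have hSP : (S : Subgroup G) ≤ P := hP.1.le
  have hn : P ≤ normalizer ((P ⊓ centralizer (XZ z P : Set G) : Subgroup G) : Set G) := by
    intro p hp
    rw [mem_normalizer_iff_cj, cj_inf, cj_centralizer, cj_eq_of_mem_normalizer (le_normalizer hp),
      cj_eq_of_mem_normalizer (le_normalizer_XZ z P hp)]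
  rcases hP.1.toIsPar.sup_eq_or_inf_le S inf_le_left hn with h1 | h1
  · exfalso
    apply hP.2
    rw [← h1]
    refine sup_le ?_ (le_cent hz)
    exact inf_le_right.trans (centralizer_le (Set.singleton_subset_iff.2 mem_XZ))
  · refine le_trans ?_ h1
    exact le_inf inf_le_left (le_inf (inf_le_left.trans hSP) inf_le_right)

/-- **(0)** -/
theorem eq_bot_of_le (hM : ¬ OneMax (S : Subgroup G)) (hz : z ∈ zc (S : Subgroup G)) {U : Subgroup G}
    (hU : IsPGroup 2 U) (h1 : ∀ P ∈ FZ (S : Subgroup G) z, P ≤ normalizer (U : Set G))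
    (h2 : centralizer ({z} : Set G) ≤ normalizer (U : Set G)) : U = ⊥ := by
  refine NoFF.LinesPlug.eq_bot_of_le S hM U hU (fun P hP => ?_) ?_
  · by_cases h : P ≤ centralizer ({z} : Set G)
    · exact h.trans h2
    · exact h1 P ⟨hP, h⟩
  · refine le_trans (centralizer_le (Set.singleton_subset_iff.2 hz)) h2

theorem FZ_nonempty (hM : ¬ OneMax (S : Subgroup G)) (hz : z ∈ zc (S : Subgroup G)) (hz1 : z ≠ 1) :
    (FZ (S : Subgroup G) z).Nonempty := by
  by_contra hcon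
  rw [Set.not_nonempty_iff_eq_empty] at hcon
  have h1 : zpowers z = ⊥ := by
    refine eq_bot_of_le hM hz (S.isPGroup'.to_le ?_) (fun P hP => ?_) ?_
    · rw [zpowers_le]; exact zc_le _ hz
    · rw [hcon] at hP; exact absurd hP (Set.notMem_empty P)
    · refine le_trans ?_ (centralizer_le_normalizer _)
      intro g hg
      rw [mem_centralizer_iff] at hg ⊢
      intro x hx
      obtain ⟨k, rfl⟩ := mem_zpowers_iff.1 hx
      have e : Commute z g := hg z rfl
      exact (e.zpow_left k).eq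
  exact hz1 (zpowers_eq_bot.1 h1)

theorem S_le_YZ (hM : ¬ OneMax (S : Subgroup G)) (hz : z ∈ zc (S : Subgroup G)) (hz1 : z ≠ 1) :
    (S : Subgroup G) ≤ YZ (S : Subgroup G) z := by
  obtain ⟨P, hP⟩ := FZ_nonempty hM hz hz1
  exact hP.1.le.trans (le_YZ hP)

section cs

variable (hz : z ∈ zc (S : Subgroup G))
include hz

/-- `C_S(V^z)` is normalised by `Y^z`. -/
theorem le_norm_cs : YZ (S : Subgroup G) z ≤
    normalizer (((S : Subgroup G) ⊓ centralizer (VZ (S : Subgroup G) z : Set G) : Subgroup G) : Set G) := by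
  refine sSup_le fun P hP => ?_
  have hVP : XZ z P ≤ VZ (S : Subgroup G) z := XZ_mono (le_YZ hP)
  have key : ∀ p ∈ P, ∀ x ∈ (S : Subgroup G) ⊓ centralizer (VZ (S : Subgroup G) z : Set G),
      p * x * p⁻¹ ∈ (S : Subgroup G) ⊓ centralizer (VZ (S : Subgroup G) z : Set G) := by
    intro p hp x hx
    refine ⟨?_, ?_⟩
    · have h1 : x ∈ o2 P := cent_le_o2 hz hP ⟨hx.1, centralizer_le hVP hx.2⟩
      exact hP.1.isLoc.o2_le S ((mem_normalizer_iff.1 (le_normalizer_o2 P hp) x).1 h1)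
    · refine mem_centralizer_iff.2 fun v hv => ?_
      have h2 := (mem_normalizer_iff''.1 (le_normalizer_XZ z (YZ (S : Subgroup G) z) (le_YZ hP hp)) v).1 hv
      have h3 := mem_centralizer_iff.1 hx.2 _ h2
      have e1 : v * (p * x * p⁻¹) = p * ((p⁻¹ * v * p) * x) * p⁻¹ := by group
      have e2 : p * x * p⁻¹ * v = p * (x * (p⁻¹ * v * p)) * p⁻¹ := by group
      rw [e1, e2, h3]
  intro p hp
  rw [mem_normalizer_iff]
  intro x
  refine ⟨key p hp x, fun hx => ?_⟩
  have h1 := key p⁻¹ (P.inv_mem hp) _ hx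
  have e : p⁻¹ * (p * x * p⁻¹) * p⁻¹⁻¹ = x := by group
  rwa [e] at h1

theorem cs_le_o2 (hSY : (S : Subgroup G) ≤ YZ (S : Subgroup G) z) :
    (S : Subgroup G) ⊓ centralizer (VZ (S : Subgroup G) z : Set G) ≤ o2 (YZ (S : Subgroup G) z) :=
  le_o2 (inf_le_left.trans hSY) (S.isPGroup'.to_le inf_le_left) (le_norm_cs hz)

/-- **(2)**: `Y^z ≤ N_G(V^!(S))` -/
theorem le_normalizer_bang (hN : NN (S : Subgroup G) (VZ (S : Subgroup G) z)) :
    YZ (S : Subgroup G) z ≤ normalizer (bang (S : Subgroup G) : Set G) :=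
  NO3b.Bang.le_normalizer_bang_of_cent hN (le_norm_cs hz)

/-- **(2)**: `⟨N_G(V^!(S)), C_G(z)⟩` is nonlocal. -/
theorem nonLoc (hM : ¬ OneMax (S : Subgroup G)) (hN : NN (S : Subgroup G) (VZ (S : Subgroup G) z)) {U : Subgroup G}
    (hU : IsPGroup 2 U) (h1 : normalizer (bang (S : Subgroup G) : Set G) ≤ normalizer (U : Set G))
    (h2 : centralizer ({z} : Set G) ≤ normalizer (U : Set G)) : U = ⊥ :=
  eq_bot_of_le hM hz hU (fun _ hP => (le_YZ hP).trans ((le_normalizer_bang hz hN).trans h1)) h2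

end cs

section comm

variable (hc : IsCharacteristicTwoType G) (hm : ¬ FF (S : Subgroup G)) (hz : z ∈ zc (S : Subgroup G))
include hc hm hz

theorem VZ_comm : VZ (S : Subgroup G) z ≤ centralizer (VZ (S : Subgroup G) z : Set G) :=
  (VZ_le_zl hz).trans ((Star.zl_comm hc hm).trans (centralizer_le (VZ_le_zl hz)))

theorem VZ_sq : ∀ v ∈ VZ (S : Subgroup G) z, v ^ 2 = 1 := fun v hv => Star.zl_sq hc hm v (VZ_le_zl hz hv)

theorem VZ_isPGroup : IsPGroup 2 (VZ (S : Subgroup G) z) := fun x =>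
  ⟨1, Subtype.ext (by simpa using VZ_sq hc hm hz x x.2)⟩

theorem VZ_le (hSY : (S : Subgroup G) ≤ YZ (S : Subgroup G) z) : VZ (S : Subgroup G) z ≤ S :=
  le_of_le_normalizer S (VZ_isPGroup hc hm hz) (hSY.trans (le_normalizer_XZ z _))

/-- `Y^z` is 2-local -/
theorem isLoc (hSY : (S : Subgroup G) ≤ YZ (S : Subgroup G) z) (hz1 : z ≠ 1) :
    IsLoc (S : Subgroup G) (YZ (S : Subgroup G) z) := by
  refine ⟨hSY, fun h0 => hz1 ?_⟩
  have h1 : z ∈ (S : Subgroup G) ⊓ centralizer (VZ (S : Subgroup G) z : Set G) :=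
    ⟨zc_le _ hz, VZ_comm hc hm hz mem_XZ⟩
  have h2 := cs_le_o2 hz hSY h1
  rw [h0] at h2
  exact h2

/-- not FF implies `V^z ∈ NN(S)` -/
theorem nn_of_notFF (hSY : (S : Subgroup G) ≤ YZ (S : Subgroup G) z) (hn : NotFF (VZ (S : Subgroup G) z)) :
    NN (S : Subgroup G) (VZ (S : Subgroup G) z) where
  le := VZ_le hc hm hz hSY
  norm := hSY.trans (le_normalizer_XZ z _)
  comm := VZ_comm hc hm hz
  sq := VZ_sq hc hm hz
  nff := fun A hA ho => by
    have h1 := hn A (S.isPGroup'.to_le hA) (hA.trans (hSY.trans (le_normalizer_XZ z _))) ho.sq ho.comm ho.ne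
    have h2 := relIndex_le_iff.1 ho.le
    omega

/-- the FF theorem applies to `⟨z^P⟩`, `P ∈ F_z` -/
theorem sub {P : Subgroup G} (hP : P ∈ FZ (S : Subgroup G) z) : Sub (S : Subgroup G) P (XZ z P) where
  syl := MinSimple.EmptyTI.syl_of_le hP.1.le
  min := hP.1.toIsMinPar
  norm := le_normalizer_XZ z P
  comm := (XZ_mono (le_YZ hP)).trans ((VZ_comm hc hm hz).trans (centralizer_le (XZ_mono (le_YZ hP))))
  sq := fun v hv => VZ_sq hc hm hz v (XZ_mono (le_YZ hP) hv)
  o2 := by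
    refine cent_symm (XZ_le fun p hp => ?_)
    rw [mem_centralizer_iff]
    intro x hx
    have h1 : p⁻¹ * x * p ∈ (S : Subgroup G) := by
      have h2 := (mem_normalizer_iff''.1 (le_normalizer_o2 P hp) x).1 hx
      exact hP.1.isLoc.o2_le S h2
    have h3 := (MinSimple.VModule.mem_zc.1 hz).2.1 _ h1
    have e1 : x * (p * z * p⁻¹) = p * ((p⁻¹ * x * p) * z) * p⁻¹ := by group
    have e2 : p * z * p⁻¹ * x = p * (z * (p⁻¹ * x * p)) * p⁻¹ := by group
    rw [e1, e2, h3]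
  gen := fun K hK => XZ_le fun p hp => hK p hp z mem_XZ fun t ht => (MinSimple.VModule.mem_zc.1 hz).2.1 t ht
  ne := fun h => hP.2 (h.trans (centralizer_le (Set.singleton_subset_iff.2 mem_XZ)))

/-- If an offender in `S` centralises all `⟨z^P⟩`, `P ∈ F_z`, it is in all `S^y`, `y ∈ Y^z`. -/
theorem conj_le_of_all {V : Subgroup G} (hV : V = VZ (S : Subgroup G) z)
    (hall : ∀ A : Subgroup G, Opt V A → A ≤ (S : Subgroup G) → ∀ P ∈ FZ (S : Subgroup G) z,
      A ≤ centralizer (XZ z P : Set G)) {y : G} (hy : y ∈ YZ (S : Subgroup G) z) :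
    y ∈ normalizer (V : Set G) ∧ ∀ A : Subgroup G, Opt V A → A ≤ (S : Subgroup G) →
      cj y A ≤ (S : Subgroup G) := by
  have hy' : y ∈ ⨆ P : {P : Subgroup G // P ∈ FZ (S : Subgroup G) z}, (P : Subgroup G) := by
    unfold YZ at hy
    rwa [sSup_eq_iSup'] at hy
  refine Subgroup.iSup_induction (S := fun P : {P : Subgroup G // P ∈ FZ (S : Subgroup G) z} => (P : Subgroup G))
    (C := fun y => y ∈ normalizer (V : Set G) ∧ ∀ A : Subgroup G, Opt V A → A ≤ (S : Subgroup G) →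
      cj y A ≤ (S : Subgroup G)) hy' ?_ ?_ ?_
  · rintro ⟨P, hP⟩ p hp
    refine ⟨?_, fun A hA hAS => ?_⟩
    · rw [hV]; exact le_normalizer_XZ _ _ (le_YZ hP hp)
    · rintro _ ⟨a, ha, rfl⟩
      have h1 : a ∈ o2 P := cent_le_o2 hz hP ⟨hAS ha, hall A hA hAS P hP ha⟩
      exact hP.1.isLoc.o2_le S ((mem_normalizer_iff.1 (le_normalizer_o2 P hp) a).1 h1)
  · exact ⟨one_mem _, fun A _ hAS => by rwa [cj_one]⟩
  · rintro x y ⟨hx1, hx2⟩ ⟨hy1, hy2⟩
    refine ⟨mul_mem hx1 hy1, fun A hA hAS => ?_⟩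
    rw [← cj_cj]
    exact hx2 _ (hA.cj hy1) (hy2 A hA hAS)

/-- **(3)** -/
theorem exists_exact (hFF : AStmt.{u}) (hSY : (S : Subgroup G) ≤ YZ (S : Subgroup G) z)
    (hn : ¬ NN (S : Subgroup G) (VZ (S : Subgroup G) z)) :
    ∃ P ∈ FZ (S : Subgroup G) z, ∃ A : Subgroup G, A ≤ (S : Subgroup G) ∧ Opt (VZ (S : Subgroup G) z) A ∧
      ¬ A ≤ o2 P ∧ OffM (XZ z P) A ∧ NoOverM (XZ z P) P ∧
      (∃ (h : P ≤ normalizer (XZ z P : Set G)) (T : Subgroup (XX h)),
        (∀ x : XX h, x ∈ T ↔ ∃ t : P, (t : G) ∈ (S : Subgroup G) ∧ pr h t = x) ∧ AConcl T (XZ z P)) ∧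
      A ⊓ centralizer (XZ z P : Set G) ≤ centralizer (VZ (S : Subgroup G) z : Set G) ∧
      VZ (S : Subgroup G) z = XZ z P ⊔ (VZ (S : Subgroup G) z ⊓ centralizer (A : Set G)) ∧
      (centralizer (A : Set G)).relIndex (VZ (S : Subgroup G) z) =
        (centralizer (VZ (S : Subgroup G) z : Set G)).relIndex A := by
  set V := VZ (S : Subgroup G) z with hV
  have hYV : YZ (S : Subgroup G) z ≤ normalizer (V : Set G) := le_normalizer_XZ _ _
  have hVc : V ≤ centralizer (V : Set G) := VZ_comm hc hm hz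
  obtain ⟨A0, hA0⟩ := exists_opt fun h => hn (nn_of_notFF hc hm hz hSY h)
  obtain ⟨n, hnV, hnS⟩ := FFThm.exists_conj_le S (hSY.trans hYV) hA0.pg hA0.norm
  have hA1 := hA0.cj hnV
  by_contra hcon
  have hall : ∀ A : Subgroup G, Opt V A → A ≤ (S : Subgroup G) → ∀ P ∈ FZ (S : Subgroup G) z,
      A ≤ centralizer (XZ z P : Set G) := by
    intro A hA hAS P hP
    by_contra hne
    apply hcon
    have s := sub hc hm hz hP
    have hAP : A ≤ P := hAS.trans hP.1.le
    have hW : XZ z P ≤ V := XZ_mono (le_YZ hP)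
    obtain ⟨h1, h2, h3, h4⟩ := hA.exact (P := P) hVc hW hne hAP fun hoff => (s.noOverM hFF hAP hoff).1
    obtain ⟨h5, T, h6, h7⟩ := s.noOverM hFF hAP h1
    refine ⟨P, hP, A, hAS, hA, fun h8 => hne (h8.trans s.o2), h1, h5, ⟨s.norm, T, h6, h7⟩, h2, h3, h4⟩
  refine hA1.ne (cent_symm ?_)
  refine XZ_le fun y hy => ?_
  have h1 := (conj_le_of_all hc hm hz hV hall (inv_mem hy)).2 _ hA1 hnS
  rw [mem_centralizer_iff]
  intro a ha
  have h2 : y⁻¹ * a * y ∈ (S : Subgroup G) := h1 ⟨a, ha, by simp⟩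
  have h3 := (MinSimple.VModule.mem_zc.1 hz).2.1 _ h2
  have e1 : a * (y * z * y⁻¹) = y * ((y⁻¹ * a * y) * z) * y⁻¹ := by group
  have e2 : y * z * y⁻¹ * a = y * (z * (y⁻¹ * a * y)) * y⁻¹ := by group
  rw [e1, e2, h3]

/-- **The `z`-cut.** -/
theorem cut (hFF : AStmt.{u}) (hM : ¬ OneMax (S : Subgroup G)) (hz1 : z ≠ 1) :
    (VZ (S : Subgroup G) z ≤ bang (S : Subgroup G) ∧
      YZ (S : Subgroup G) z ≤ normalizer (bang (S : Subgroup G) : Set G) ∧
      ∀ U : Subgroup G, IsPGroup 2 U → normalizer (bang (S : Subgroup G) : Set G) ≤ normalizer (U : Set G) →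
        centralizer ({z} : Set G) ≤ normalizer (U : Set G) → U = ⊥) ∨
    ∃ P ∈ FZ (S : Subgroup G) z, ∃ A : Subgroup G, A ≤ (S : Subgroup G) ∧ Opt (VZ (S : Subgroup G) z) A ∧
      ¬ A ≤ o2 P ∧ OffM (XZ z P) A ∧ NoOverM (XZ z P) P ∧
      (∃ (h : P ≤ normalizer (XZ z P : Set G)) (T : Subgroup (XX h)),
        (∀ x : XX h, x ∈ T ↔ ∃ t : P, (t : G) ∈ (S : Subgroup G) ∧ pr h t = x) ∧ AConcl T (XZ z P)) ∧
      A ⊓ centralizer (XZ z P : Set G) ≤ centralizer (VZ (S : Subgroup G) z : Set G) ∧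
      VZ (S : Subgroup G) z = XZ z P ⊔ (VZ (S : Subgroup G) z ⊓ centralizer (A : Set G)) ∧
      (centralizer (A : Set G)).relIndex (VZ (S : Subgroup G) z) =
        (centralizer (VZ (S : Subgroup G) z : Set G)).relIndex A := by
  by_cases hN : NN (S : Subgroup G) (VZ (S : Subgroup G) z)
  · exact Or.inl ⟨hN.le_bang, le_normalizer_bang hz hN, fun U hU h1 h2 => nonLoc hz hM hN hU h1 h2⟩
  · exact Or.inr (exists_exact hc hm hz hFF (S_le_YZ hM hz hz1) hN)

end comm

end fin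

end Cfsg.Agent.Omega.NOThreeL.ZCut

end

section


/-!
# NO-3L : `Basic.geo` from `DataLow`
-/

set_option autoImplicit false

namespace Cfsg.Agent.Omega.NOThreeL.GeoLow

open Subgroup Cfsg Cfsg.Agent.ZN Cfsg.Agent.Omega.MinPar Cfsg.Agent.Omega.Frame Cfsg.Agent.Omega.FrameNOFF
open Cfsg.Agent.Omega.Node.NO3L Cfsg.Agent.Omega.NOThreeL.Basic

universe u

variable {G : Type u} [Group G] [Finite G] {S : Sylow 2 G}

/-- The geometry of lines, from `noff` and `low`. -/
theorem geo (hc : IsCharacteristicTwoType G) (D : DataLow (S : Subgroup G)) :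
    NoFF.Lines.Geo (S : Subgroup G) (zc (S : Subgroup G)) (CZ (S : Subgroup G)) (PS (S : Subgroup G)) := by
  have hG : (S : Subgroup G) ≠ ⊥ := by
    intro h0
    have h2 : Fact (Nat.Prime 2) := ⟨Nat.prime_two⟩
    have h1 := S.not_dvd_index
    rw [h0, index_bot] at h1
    exact h1 hc.1.two_dvd
  exact FrameNOFF.geo hc S D.noff hG D.low

/-- `⟨P, C_G(Z)⟩` is local if `C_Z(P) ≠ 1`. -/
theorem isLong_sup {P : Subgroup G} (hE : zc (S : Subgroup G) ⊓ centralizer (P : Set G) ≠ ⊥) :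
    IsLong (S : Subgroup G) (P ⊔ CZ (S : Subgroup G)) := by
  have hPE : P ⊔ CZ (S : Subgroup G) ≤ centralizer ((zc (S : Subgroup G) ⊓ centralizer (P : Set G) : Subgroup G) : Set G) :=
    sup_le (NoFF.Basic.comm_symm inf_le_right) (centralizer_le inf_le_left)
  exact ⟨isLoc_of_le_normalizer S ((le_CZ S).trans le_sup_right)
    (S.isPGroup'.to_le (inf_le_left.trans (MinSimple.VModule.zc_le _))) hE (hPE.trans (centralizer_le_normalizer _)),
    le_sup_right⟩

end Cfsg.Agent.Omega.NOThreeL.GeoLow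

end
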