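import Cfsg.Agent.Mrg.Omega.NOThreeL.Merge
import Cfsg.Agent.Mrg.Omega.NO3b.Union.Line


/-!
# NO-3L merges with the NotFF frame (#16235, helper999; w.c. frame #16346, helper672)

`S` a Sylow 2-subgroup, `Y = ⟨P*(S)⟩ = YS S`, `V* = zl S Y`.

* `NFRoot S L` : `L ∈ L(S)`, `C_S(V_L) ≤ O₂(L)`, `V_L ≤ O₂(C_G(Z))`, `V_L` not FF, `⟨L, C_G(Z)⟩` nonlocal;
* `nonLoc_YS` : `⟨P*(S), C_G(Z)⟩` is nonlocal (`Full S`);
* `YS_low` : `V* ≤ O₂(C_G(Z))` in NO-3L with (L) (`NullF`, helper528's (M));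
* `nfRoot` : `NFRoot S Y` in NO-3L with (L), `V*` not FF;
* `NFRoot.root`, `NFRoot.alpha`, `NFRoot.lines`, `NFRoot.nonloc_M`, `NFRoot.exists_sit` : the w.c. frame for
  `L`: `M = N_G(W^) ≥ L`, `V = ⟨Z^M⟩`, `V ≤ O₂(C_G(F))` for `1 ≠ F ≤ V`, `⟨M, C_G(Z)⟩` nonlocal.
-/

set_option autoImplicit false

namespace Cfsg.Agent.Omega.NOThreeL.MergeNF

open Subgroup Cfsg
open Cfsg.Agent.ZN hiding mem_zc le_normalizer_zl le_normalizer_o2
open Cfsg.Agent.ZN.ChoiceBase hiding mem_zc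
open Cfsg.Agent.Omega.MinPar Cfsg.Agent.Omega.Frame Cfsg.Agent.Omega.FrameNOFF
open Cfsg.Agent.Omega.Node.NO3L
open Cfsg.Agent.Omega.NO3b.EZero (NotFF)
open Cfsg.Agent.Omega.NO3b (Wc.Root Wc.VL Wc.ML Wc.WH Wc.StmtOff)
open Cfsg.Agent.Omega.NOThreeL.Star (YS le_YS S_le_YS)
open Cfsg.Agent.Omega.NOThreeL.MutLine (NullF)
open Cfsg.Agent.MinSimple.VModule (mem_zc zc_le zc_sq zc_comm le_centralizer_zc zc_le_zl zl_le
  le_normalizer_zl normalizer_le_normalizer_zc le_normalizer_o2 o2_isPGroup)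

universe u

variable {G : Type u} [Group G]

/-- The root of the NotFF frame for an arbitrary `L ∈ L(S)`. -/
structure NFRoot (S L : Subgroup G) : Prop where
  loc : IsLoc S L
  cs : S ⊓ centralizer (zl S L : Set G) ≤ o2 L
  low : zl S L ≤ o2 (CZ S)
  nff : NotFF (zl S L)
  nonloc : NonLoc L (CZ S)

variable [Finite G] {S : Sylow 2 G}

/-- `⟨P*(S), C_G(Z)⟩` is nonlocal. -/
theorem nonLoc_YS (h : Ctx G) (hF : Full (S : Subgroup G)) :
    NonLoc (YS (S : Subgroup G)) (CZ (S : Subgroup G)) := fun _ hU h1 h2 =>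
  eq_bot_of_norm h S hF hU (fun _ hP => (le_YS hP).trans h1) h2

omit [Finite G] in
theorem inv_bot (S Z : Subgroup G) (F : Set (Subgroup G)) : NoFF.Main.Inv S Z ⊥ F := by
  refine ⟨fun n hn => ?_, fun n hn => ?_, fun n hn P hP => ?_⟩ <;> rw [mem_bot.1 hn, map_one, one_smul]
  exact hP

omit [Finite G] in
theorem X_bot (S : Subgroup G) : NoFF.Main.X ⊥ (PS S) = YS S := by
  rw [NoFF.Main.X, bot_sup_eq]
  rfl

/-- `V* ≤ O₂(C_G(Z))` -/
theorem YS_low (hc : IsCharacteristicTwoType G) (D : Data (S : Subgroup G))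
    (hL : NullF (S : Subgroup G) (PS (S : Subgroup G))) (hne : (PS (S : Subgroup G)).Nonempty) :
    zl (S : Subgroup G) (YS (S : Subgroup G)) ≤ o2 (CZ (S : Subgroup G)) := by
  have h1 := MutLine.A_le hc D le_rfl hL (inv_bot (S : Subgroup G) (zc (S : Subgroup G)) _) hne
  rw [← X_bot]
  exact h1

/-- **The merge.** -/
theorem nfRoot (h : Ctx G) (hF : Full (S : Subgroup G)) (D : Data (S : Subgroup G))
    (hL : NullF (S : Subgroup G) (PS (S : Subgroup G)))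
    (hnff : NotFF (zl (S : Subgroup G) (YS (S : Subgroup G)))) :
    NFRoot (S : Subgroup G) (YS (S : Subgroup G)) where
  loc := Star.isLoc h.char2 D.noff (S_le_YS h hF) (h.sylow_ne_bot S)
  cs := Star.cs_le_o2 h.char2 (S_le_YS h hF)
  low := YS_low h.char2 D hL (h.exists_isParS hF)
  nff := hnff
  nonloc := nonLoc_YS h hF

/-! ### The w.c. frame for `L` -/

theorem root_of_isLoc (hc : IsCharacteristicTwoType G) {L : Subgroup G} (hL : IsLoc (S : Subgroup G) L)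
    (hcs : (S : Subgroup G) ⊓ centralizer (zl (S : Subgroup G) L : Set G) ≤ o2 L)
    (hnff : NotFF (zl (S : Subgroup G) L)) : Wc.Root S L where
  le := hL.le
  comm := by
    have h1 := hL.zl_le S hc
    intro x hx
    rw [mem_centralizer_iff]
    intro y hy
    exact zc_comm _ _ (h1 hy) _ (h1 hx)
  sq := fun v hv => zc_sq _ _ (hL.zl_le S hc hv)
  nff := hnff
  cs := by
    have e : (S : Subgroup G) ⊓ centralizer (zl (S : Subgroup G) L : Set G) =
        o2 L ⊓ centralizer (zl (S : Subgroup G) L : Set G) :=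
      le_antisymm (le_inf hcs inf_le_right) (inf_le_inf_right _ (hL.o2_le S))
    rw [e]
    intro l hl
    rw [mem_normalizer_iff_cj, cj_inf, cj_centralizer, cj_eq_of_mem_normalizer (le_normalizer_o2 L hl),
      cj_eq_of_mem_normalizer (le_normalizer_zl (S : Subgroup G) L hl)]

namespace NFRoot

variable {L : Subgroup G} (r : NFRoot (S : Subgroup G) L)
include r

theorem root (hc : IsCharacteristicTwoType G) : Wc.Root S L := root_of_isLoc hc r.loc r.cs r.nff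

/-- `⟨M, C_G(Z)⟩` is nonlocal. -/
theorem nonloc_M (hc : IsCharacteristicTwoType G) :
    NonLoc (Wc.ML (S : Subgroup G) L) (CZ (S : Subgroup G)) := fun _ hU h1 h2 =>
  r.nonloc _ hU ((r.root hc).L_le.trans h1) h2

theorem alpha (hc : IsCharacteristicTwoType G) (hoff : Wc.StmtOff G) :
    NO3b.Union.Alpha S L (Wc.ML (S : Subgroup G) L) :=
  (r.root hc).alpha hc hoff r.low

/-- `V ≤ O₂(C_G(F))` for `1 ≠ F ≤ V` -/
theorem good (hc : IsCharacteristicTwoType G) (hoff : Wc.StmtOff G) {F : Subgroup G}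
    (hF : F ≤ Wc.VL (S : Subgroup G) L) (hF1 : F ≠ ⊥) :
    Wc.VL (S : Subgroup G) L ≤ o2 (centralizer (F : Set G)) :=
  (r.root hc).good hc hoff r.low hF hF1

theorem low_V (hc : IsCharacteristicTwoType G) (hoff : Wc.StmtOff G) (hne : zc (S : Subgroup G) ≠ ⊥) :
    Wc.VL (S : Subgroup G) L ≤ o2 (CZ (S : Subgroup G)) :=
  (r.root hc).low hc hoff r.low hne

/-- The frame of helper25's `NoEmp.lean`. -/
theorem lines (hc : IsCharacteristicTwoType G) (hoff : Wc.StmtOff G) (hne : zc (S : Subgroup G) ≠ ⊥) :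
    NO3b.NoEmp.Lines S (Wc.WH (S : Subgroup G) L) (Wc.VL (S : Subgroup G) L) :=
  (r.root hc).lines' hc hoff r.low hne

/-- `C_G(Z) ≰ N_G(V)` -/
theorem CZ_nle (hc : IsCharacteristicTwoType G) (hne : zc (S : Subgroup G) ≠ ⊥) :
    ¬ CZ (S : Subgroup G) ≤ normalizer (Wc.VL (S : Subgroup G) L : Set G) := by
  intro h1
  have h2 := r.nonloc_M hc _ (r.root hc).V_two (le_normalizer_zl _ _) h1
  exact hne (le_bot_iff.1 (h2 ▸ NO3b.Wc.Root.zc_le_V))

/-- A situation `F ≥ Z`, `X`, `V ∩ V^x = F` up to an element of `M`. -/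
theorem exists_sit (hc : IsCharacteristicTwoType G) (hoff : Wc.StmtOff G) (hne : zc (S : Subgroup G) ≠ ⊥) :
    ∃ m ∈ Wc.ML (S : Subgroup G) L, ∃ F X : Subgroup G, cj m (zc (S : Subgroup G)) ≤ F ∧
      NO3b.Union.Sit S L (Wc.ML (S : Subgroup G) L) F X :=
  (r.alpha hc hoff).exists_sit NO3b.Wc.Root.zc_le_V hne (r.CZ_nle hc hne)

end NFRoot

end Cfsg.Agent.Omega.NOThreeL.MergeNF
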