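import Cfsg.Agent.Mrg.Omega.NOThreeL.Star
import Cfsg.Agent.Mrg.Omega.NOThreeL.Merge
import Cfsg.Agent.Mrg.Omega.FFBr.Final
import Cfsg.Agent.Mrg.Omega.FFBr.Main

section


/-!
# NO-3L with `|Z| = 2` and FF lines of order four: `V*` is not FF (#16235 (2), helper999)

`S` a Sylow 2-subgroup, `Z = Ω₁(Z(S))` of order 2, `Y = YS S = ⟨P*(S)⟩`, `V* = zl S Y`.

* `le_sup_CZ` : `N_G(V_P) ≤ ⟨P, C_G(Z)⟩` if `|V_P| = 4`;
* `exists_ne` : some `V_{P'}` differs from `V_P` (NO-3L);
* `notFF` : if `|V_P| = 4` for every `P ∈ P*(S)` with an offender on `V_P`, then `V*` is not FF.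
-/

set_option autoImplicit false

namespace Cfsg.Agent.Omega.NOThreeL.StarEnd

open Subgroup Cfsg
open Cfsg.Agent.ZN hiding mem_zc le_normalizer_zl le_normalizer_o2
open Cfsg.Agent.ZN.ChoiceBase hiding mem_zc
open Cfsg.Agent.Omega.MinPar Cfsg.Agent.Omega.Frame Cfsg.Agent.Omega.FrameNOFF
open Cfsg.Agent.Omega.Node.NO3L
open Cfsg.Agent.Omega.NO3b.EZero (NotFF cent_symm)
open Cfsg.Agent.Omega.FFThm (ElemM OffM NoOverM ConclM)
open Cfsg.Agent.Omega.NOThreeL.Star
open Cfsg.Agent.MinSimple.VModule (mem_zc zc_le zc_sq zc_comm le_centralizer_zc zc_le_zl zl_le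
  le_normalizer_zl normalizer_le_normalizer_zc le_normalizer_o2 o2_isPGroup)
open Cfsg.Agent.Omega.NOThreeL.FourLine (mem_zpowers_iff)
open Cfsg.Agent.Omega.NOThreeL.TRPlug (mem_of_card exists_swap)

universe u

theorem stmtM : FFThm.StmtM.{u} := FFBr.stmtM_of FFBr.aStmt

variable {G : Type u} [Group G] [Finite G] {S : Sylow 2 G}

omit [Finite G] in
theorem exists_gen (hZ : Nat.card (zc (S : Subgroup G)) = 2) :
    ∃ z : G, zc (S : Subgroup G) = zpowers z ∧ z ≠ 1 := by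
  have hf : Finite (zc (S : Subgroup G)) := Nat.finite_of_card_ne_zero (by omega)
  have hn : Nontrivial (zc (S : Subgroup G)) := by
    rw [← Finite.one_lt_card_iff_nontrivial, hZ]
    norm_num
  obtain ⟨z, hz⟩ := exists_ne (1 : zc (S : Subgroup G))
  have hz1 : (z : G) ≠ 1 := fun h => hz (Subtype.ext h)
  refine ⟨z, ?_, hz1⟩
  have h1 : zpowers (z : G) ≤ zc (S : Subgroup G) := zpowers_le.2 z.2
  refine (eq_of_le_of_card_ge h1 ?_).symm
  rw [hZ, Nat.card_zpowers]
  have h2 : orderOf (z : G) ≠ 1 := fun h => hz1 (orderOf_eq_one_iff.1 h)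
  have h3 : 0 < orderOf (z : G) := by
    have := Subgroup.card_le_of_le h1
    rw [Nat.card_zpowers, hZ] at this
    by_contra h0
    have h4 : orderOf (z : G) = 0 := by omega
    have h5 := zc_sq _ (z : G) z.2
    exact absurd (orderOf_dvd_of_pow_eq_one h5) (by rw [h4]; norm_num)
  omega

/-- `N_G(V_P) ≤ ⟨P, C_G(Z)⟩` for `|V_P| = 4`. -/
theorem normalizer_le (hG : IsCharacteristicTwoType G) {z : G} (hz : zc (S : Subgroup G) = zpowers z)
    (hz1 : z ≠ 1) {P : Subgroup G} (hP : IsParS (S : Subgroup G) P)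
    (hc : Nat.card (zl (S : Subgroup G) P) = 4) (hsq : ∀ x ∈ zl (S : Subgroup G) P, x * x = 1) :
    normalizer (zl (S : Subgroup G) P : Set G) ≤ P ⊔ CZ (S : Subgroup G) := by
  intro g hg
  have hzc : z ∈ zc (S : Subgroup G) := by rw [hz]; exact mem_zpowers z
  have hzF : z ∈ zl (S : Subgroup G) P := zc_le_zl _ _ hzc
  have hcz : ∀ c : G, c * z * c⁻¹ = z → c ∈ CZ (S : Subgroup G) := by
    intro c hcz
    change c ∈ centralizer ((zc (S : Subgroup G) : Subgroup G) : Set G)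
    rw [hz]
    rw [mul_inv_eq_iff_eq_mul] at hcz
    rw [mem_centralizer_iff]
    intro x hx
    rcases (mem_zpowers_iff (hsq z hzF)).1 hx with rfl | rfl
    · rw [one_mul, mul_one]
    · exact hcz.symm
  by_cases h1 : g * z * g⁻¹ = z
  · exact (le_sup_right : CZ (S : Subgroup G) ≤ _) (hcz g h1)
  have h2 : g * z * g⁻¹ ∈ zl (S : Subgroup G) P := (mem_normalizer_iff.1 hg z).1 hzF
  have h3 : g * z * g⁻¹ ≠ 1 := fun h => hz1 (conj_eq_one_iff.1 h)
  obtain ⟨p, hp, hp1, -, -⟩ := exists_swap hG hz hz1 hP hc hsq h2 h3 h1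
  have h4 : p⁻¹ * g ∈ CZ (S : Subgroup G) := by
    apply hcz
    calc p⁻¹ * g * z * (p⁻¹ * g)⁻¹ = p⁻¹ * (g * z * g⁻¹) * p := by group
      _ = z := by rw [← hp1]; group
  have h5 : g = p * (p⁻¹ * g) := by group
  rw [h5]
  exact mul_mem ((le_sup_left : P ≤ _) hp) ((le_sup_right : CZ (S : Subgroup G) ≤ _) h4)

/-- In NO-3L with `|Z| = 2`, `|V_P| = 4`: some `V_{P'}` is different from `V_P`. -/
theorem exists_ne_zl (h : Ctx G) (hF : Full (S : Subgroup G)) (D : Data (S : Subgroup G)) {z : G}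
    (hz : zc (S : Subgroup G) = zpowers z) (hz1 : z ≠ 1) {P : Subgroup G} (hP : IsParS (S : Subgroup G) P)
    (hc : Nat.card (zl (S : Subgroup G) P) = 4) (hsq : ∀ x ∈ zl (S : Subgroup G) P, x * x = 1) :
    ∃ P' : Subgroup G, IsParS (S : Subgroup G) P' ∧ zl (S : Subgroup G) P' ≠ zl (S : Subgroup G) P := by
  by_contra hcon
  push Not at hcon
  refine (D.loc P hP).loc.o2_ne (eq_bot_of_norm h S hF (o2_isPGroup _) (fun P' hP' => ?_) ?_)
  · refine le_trans ?_ (le_normalizer_o2 _)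
    have h1 := le_normalizer_zl (S : Subgroup G) P'
    rw [hcon P' hP'] at h1
    exact h1.trans (normalizer_le h.char2 hz hz1 hP hc hsq)
  · exact (le_sup_right : CZ (S : Subgroup G) ≤ P ⊔ CZ (S : Subgroup G)).trans (le_normalizer_o2 _)

/-- **`V*` is not FF** (#16235 (2)). -/
theorem notFF (h : Ctx G) (hF : Full (S : Subgroup G)) (D : Data (S : Subgroup G))
    (hZ : Nat.card (zc (S : Subgroup G)) = 2)
    (h4 : ∀ P : Subgroup G, IsParS (S : Subgroup G) P → (∃ A : Subgroup G, A ≤ P ∧ OffM (zl (S : Subgroup G) P) A) →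
      Nat.card (zl (S : Subgroup G) P) = 4) :
    NotFF (zl (S : Subgroup G) (YS (S : Subgroup G))) := by
  by_contra hn
  have hG := h.char2
  set V := zl (S : Subgroup G) (YS (S : Subgroup G)) with hV
  have hSY : (S : Subgroup G) ≤ YS (S : Subgroup G) := S_le_YS h hF
  have hVc : V ≤ centralizer (V : Set G) := zl_comm hG D.noff
  have hYV : YS (S : Subgroup G) ≤ normalizer (V : Set G) := le_normalizer_zl _ _
  have hVsq : ∀ u ∈ V, u * u = 1 := fun u hu => by
    have := zl_sq hG D.noff u hu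
    rwa [pow_two] at this
  obtain ⟨z, hz, hz1⟩ := exists_gen hZ
  obtain ⟨P, A, hP, hAS, hopt, hoff, hcen, hsup, -⟩ := exists_exact stmtM hG D.noff hV hSY hn
  have hcard := h4 P hP ⟨A, hAS.trans hP.le, hoff⟩
  have hPV : zl (S : Subgroup G) P ≤ V := zl_mono _ (le_YS hP)
  have hzc : z ∈ zc (S : Subgroup G) := by rw [hz]; exact mem_zpowers z
  have hzF : z ∈ zl (S : Subgroup G) P := zc_le_zl _ _ hzc
  have hsq : ∀ x ∈ zl (S : Subgroup G) P, x * x = 1 := fun x hx => hVsq x (hPV hx)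
  have hSz : ∀ s ∈ (S : Subgroup G), s * z = z * s := fun s hs => (mem_zc.1 hzc).2.1 s hs
  -- a transvection
  obtain ⟨t, htA, ht⟩ : ∃ t ∈ A, ¬ ∀ u ∈ zl (S : Subgroup G) P, t * u = u * t := by
    by_contra hcon
    push Not at hcon
    exact hoff.ne fun a ha => mem_centralizer_iff.2 fun u hu => (hcon a ha u hu).symm
  have htS : t ∈ (S : Subgroup G) := hAS htA
  have htP : ∀ w ∈ zl (S : Subgroup G) P, t * w * t⁻¹ = w ∨ t * w * t⁻¹ = w * z := by
    intro w hw
    by_cases w1 : w = 1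
    · left; rw [w1, mul_one, mul_inv_cancel]
    by_cases wz : w = z
    · left; rw [wz, hSz t htS, mul_inv_cancel_right]
    have h5 : t * w * t⁻¹ ∈ zl (S : Subgroup G) P :=
      (mem_normalizer_iff.1 (le_normalizer_zl _ _ (hP.le htS)) w).1 hw
    rcases mem_of_card hcard hzF hw hsq hz1 w1 wz h5 with h6 | h6 | h6 | h6
    · exact absurd (conj_eq_one_iff.1 h6) w1
    · exfalso
      apply wz
      have h7 : t * w * t⁻¹ = t * z * t⁻¹ := by rw [h6, hSz t htS, mul_inv_cancel_right]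
      exact mul_left_cancel (mul_right_cancel h7)
    · exact Or.inl h6
    · exact Or.inr h6
  have hcm : ∀ {x y : G}, x ∈ V → y ∈ V → x * y = y * x := fun hx hy =>
    (mem_centralizer_iff.1 (hVc hx) _ hy).symm
  have htV : ∀ u ∈ V, t * u * t⁻¹ = u ∨ t * u * t⁻¹ = u * z := by
    intro u hu
    rw [hsup] at hu
    have hnorm : zl (S : Subgroup G) P ≤ normalizer ((V ⊓ centralizer (A : Set G) : Subgroup G) : Set G) :=
      ((hPV.trans hVc).trans (centralizer_le inf_le_left)).trans (centralizer_le_normalizer _)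
    have hu' := hu
    rw [← SetLike.mem_coe, Subgroup.coe_mul_of_left_le_normalizer_right _ _ hnorm] at hu'
    obtain ⟨w, hw, c, hc, rfl⟩ := hu'
    have hc' : c ∈ V ∧ c ∈ centralizer (A : Set G) := hc
    have hct : t * c * t⁻¹ = c := by
      rw [mem_centralizer_iff.1 hc'.2 t htA, mul_inv_cancel_right]
    have e : t * (w * c) * t⁻¹ = (t * w * t⁻¹) * (t * c * t⁻¹) := by group
    change t * (w * c) * t⁻¹ = w * c ∨ t * (w * c) * t⁻¹ = w * c * z
    rw [e, hct]
    rcases htP w hw with h5 | h5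
    · left; rw [h5]
    · right
      rw [h5, mul_assoc, hcm (hPV hzF) hc'.1, ← mul_assoc]
  have dat : TRPlug.Dat S z P V (YS (S : Subgroup G)) :=
    ⟨hz, hz1, hP, hcard, hSY, le_YS hP, hYV, hVsq, hPV hzF, t, hSY htS, ht, htV⟩
  obtain ⟨P', hP', hne⟩ := exists_ne_zl h hF D hz hz1 hP hcard hsq
  have hle : zl (S : Subgroup G) P ≤ zl (S : Subgroup G) P' := dat.zl_le_zl hG hP' (le_YS hP')
  have hne' : ¬ A ≤ centralizer (zl (S : Subgroup G) P' : Set G) := fun h0 =>
    hoff.ne (h0.trans (centralizer_le hle))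
  have hoff' : OffM (zl (S : Subgroup G) P') A :=
    (hopt.exact (P := P') hVc (zl_mono _ (le_YS hP')) hne' (hAS.trans hP'.le) fun hoff =>
      (stmtM G (S : Subgroup G) P' (MinSimple.EmptyTI.syl_of_le hP'.le) hP'.toIsMinPar
        (hP'.isLoc.char2 S hG) ⟨A, hAS.trans hP'.le, hoff⟩).1).1
  have hcard' := h4 P' hP' ⟨A, hAS.trans hP'.le, hoff'⟩
  exact hne (eq_of_le_of_card_ge hle (by rw [hcard, hcard'])).symm

end Cfsg.Agent.Omega.NOThreeL.StarEnd

end

section


/-!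
# THEOREM NF (#17343): `RP S P` from the FF theorem

* `NatRP`, `SymRP` : the two cases of the FF theorem (`NF/Nat.lean`, `NF/Sym.lean`), as named Props;
* `rp_of` : `RP S P` for every `P ∈ P*(S)` with an offender on `V_P`, if `C_Z(P) = 1`.
-/

set_option autoImplicit false

namespace Cfsg.Agent.Omega.NOThreeL.NF

open Subgroup Cfsg
open Cfsg.Agent.ZN
open Cfsg.Agent.Omega.MinPar Cfsg.Agent.Omega.Frame Cfsg.Agent.Omega.FrameNOFF
open Cfsg.Agent.Omega.FFThm (ElemM OffM NoOverM ConclM NatKM SymKM)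
open Cfsg.Agent.Omega.FrameFF (cv)
open Cfsg.Agent.Omega.NOThreeL.Basic (DataZ)

universe u

/-- The natural case. -/
def NatRP : Prop :=
  ∀ (G : Type u) [Group G] [Finite G], IsCharacteristicTwoType G → ∀ (S : Sylow 2 G) (P : Subgroup G),
    IsParS (S : Subgroup G) P → cv (S : Subgroup G) P = ⊥ → NoOverM (zl (S : Subgroup G) P) P →
      ∀ (F : Type) [Field F] [Finite F] [CharP F 2] (k : ℕ), 0 < k →
        NatKM F (S : Subgroup G) P (zl (S : Subgroup G) P) (cv (S : Subgroup G) P) k → RP (S : Subgroup G) P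

/-- The symmetric case. -/
def SymRP : Prop :=
  ∀ (G : Type u) [Group G] [Finite G], IsCharacteristicTwoType G → ∀ (S : Sylow 2 G) (P : Subgroup G),
    IsParS (S : Subgroup G) P → cv (S : Subgroup G) P = ⊥ → NoOverM (zl (S : Subgroup G) P) P →
      ∀ k m : ℕ, 0 < k → 2 ≤ m →
        SymKM (S : Subgroup G) P (zl (S : Subgroup G) P) (cv (S : Subgroup G) P) k m → RP (S : Subgroup G) P

/-- **`RP` from the two cases.** -/
theorem rp_of (hN : NatRP.{u}) (hS : SymRP.{u}) {G : Type u} [Group G] [Finite G] (h : Ctx G)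
    {S : Sylow 2 G} (D : DataZ (S : Subgroup G)) {P : Subgroup G} (hP : IsParS (S : Subgroup G) P)
    (hoff : ∃ A : Subgroup G, A ≤ P ∧ OffM (zl (S : Subgroup G) P) A) : RP (S : Subgroup G) P := by
  have hc := h.char2
  have hcv : cv (S : Subgroup G) P = ⊥ := D.cv_eq hc hP
  obtain ⟨hno, hcon⟩ := StarEnd.stmtM G (S : Subgroup G) P (MinSimple.EmptyTI.syl_of_le hP.le)
    hP.toIsMinPar (hP.isLoc.char2 S hc) hoff
  rcases hcon with ⟨F, _, _, _, k, hk, ⟨M⟩⟩ | ⟨k, m, hk, hm, ⟨M⟩⟩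
  · exact hN G hc S P hP hcv hno F k hk M
  · exact hS G hc S P hP hcv hno k m hk hm M

end Cfsg.Agent.Omega.NOThreeL.NF

end
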