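import Cfsg.Agent.Mrg.Omega.VP
import Cfsg.Agent.Omega.NOThreeL.Two
import Cfsg.Agent.Omega.NOThreeL.Closure

section


/-!
# NO-3L: the points `Z^g` and the two modules `U_i = ⟨Z^(H_i)⟩`, `|Z| = 2`

`C` is `C_G(Z)` or `N_G(Z)`, `C ≤ N_G(U_i)`, `U_i` abelian, `Z ≤ U_i`. The points are the elements of
`G / C`.

* `geo` : the hypotheses `Geo` of `Omega/NOThreeL/Geo.lean` (all `|Z|`);
* `not_comm` : `|Z| = 2`, `N_G(U_i)` transitive on `U_i^#`; a mutual noncommuting pair of conjugates of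
  `U_i`, `U_j` gives `i ≠ j` and `[U_1, U_2] ≠ 1` (the adjacent case);
* `sp_false` : `[U_1, U_2] ≤ Z`, `≠ 1`, `|U_2 : C_{U_2}(U_1)| = 2`, `C_{U_1}(U_2) > Z` or
  `C_{U_2}(U_1) > Z` is impossible (#12384 (4)).
-/

set_option autoImplicit false

namespace Cfsg.Agent.Omega.NOThreeL

open Subgroup MulAction Pointwise
open Cfsg.Agent.Omega.NoFF.Basic (conj_conj mem_conj conj_le_iff conj_le_centralizer comm_symm
  comm_mono)
open scoped commutatorElement

universe u v

section coset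

variable {G : Type u} [Group G]

/-- the conjugate of `A` belonging to `x ∈ G / C`. -/
noncomputable def orb (C A : Subgroup G) (x : G ⧸ C) : Subgroup G := MulAut.conj x.out • A

theorem orb_mk {C A : Subgroup G} (h : C ≤ normalizer (A : Set G)) (g : G) :
    orb C A (g : G ⧸ C) = MulAut.conj g • A := by
  obtain ⟨c, hc⟩ := QuotientGroup.mk_out_eq_mul C g
  rw [orb, hc, ← conj_conj, Pair.conj_eq_of_mem (h c.2)]

theorem orb_one {C A : Subgroup G} (h : C ≤ normalizer (A : Set G)) :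
    orb C A ((1 : G) : G ⧸ C) = A := by
  rw [orb_mk h, map_one, one_smul]

theorem orb_smul {C A : Subgroup G} (h : C ≤ normalizer (A : Set G)) (g : G) (x : G ⧸ C) :
    orb C A (g • x) = MulAut.conj g • orb C A x := by
  obtain ⟨a, rfl⟩ := QuotientGroup.mk_surjective x
  have h1 : g • (QuotientGroup.mk a : G ⧸ C) = QuotientGroup.mk (g * a) := rfl
  rw [h1]
  rw [orb_mk h (g * a)]
  rw [orb_mk h a, conj_conj]

theorem orb_mono {C A B : Subgroup G} (h : A ≤ B) (x : G ⧸ C) : orb C A x ≤ orb C B x :=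
  (conj_le_iff (g := x.out)).2 h

theorem orb_inf {C A B : Subgroup G} (x : G ⧸ C) : orb C (A ⊓ B) x = orb C A x ⊓ orb C B x :=
  Subgroup.smul_inf _ _ _

theorem orb_le_iff {C A B : Subgroup G} (x : G ⧸ C) : orb C A x ≤ orb C B x ↔ A ≤ B :=
  conj_le_iff (g := x.out)

theorem orb_comm {C A B : Subgroup G} (h : A ≤ centralizer (B : Set G)) (x : G ⧸ C) :
    orb C A x ≤ centralizer (orb C B x : Set G) :=
  conj_le_centralizer (g := x.out) h

theorem conj_centralizer (g : G) (A : Subgroup G) :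
    centralizer ((MulAut.conj g • A : Subgroup G) : Set G) = MulAut.conj g • centralizer (A : Set G) := by
  apply le_antisymm
  · intro y hy
    rw [mem_conj, mem_centralizer_iff]
    intro u hu
    have h1 := mem_centralizer_iff.mp hy (g * u * g⁻¹) (by
      change _ ∈ MulAut.conj g • A
      rw [mem_conj]
      simpa [mul_assoc] using hu)
    have h2 := congrArg (fun t => g⁻¹ * t * g) h1
    simpa [mul_assoc] using h2
  · exact conj_le_centralizer le_rfl

theorem orb_centralizer {C A : Subgroup G} (x : G ⧸ C) :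
    orb C (centralizer (A : Set G)) x = centralizer (orb C A x : Set G) :=
  (conj_centralizer x.out A).symm

theorem mem_orb {C A : Subgroup G} (x : G ⧸ C) {g : G} :
    g ∈ orb C A x ↔ x.out⁻¹ * g * x.out ∈ A := mem_conj

theorem orb_commutator {C A B : Subgroup G} (x : G ⧸ C) :
    orb C ⁅A, B⁆ x = ⁅orb C A x, orb C B x⁆ := Subgroup.map_commutator _ _ _

theorem card_orb {C A : Subgroup G} (x : G ⧸ C) : Nat.card (orb C A x) = Nat.card A :=
  Nat.card_congr (Subgroup.equivSMul (MulAut.conj x.out) A).toEquiv.symm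

/-- A group of order 2 is centralised by its normaliser. -/
theorem normalizer_le_centralizer {Z : Subgroup G} (hc : Nat.card Z = 2) :
    normalizer (Z : Set G) ≤ centralizer (Z : Set G) := by
  intro g hg
  rw [mem_centralizer_iff]
  intro a ha
  by_cases ha1 : a = 1
  · rw [ha1, one_mul, mul_one]
  obtain ⟨y, -, hy⟩ := (Nat.card_eq_two_iff' (1 : Z)).mp hc
  have h1 : g * a * g⁻¹ ∈ Z := (mem_normalizer_iff.mp hg a).mp ha
  have h2 : g * a * g⁻¹ ≠ 1 := fun h3 => ha1 (by
    have h4 := congrArg (fun t => g⁻¹ * t * g) h3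
    simpa [mul_assoc] using h4)
  have h3 := hy ⟨a, ha⟩ fun h => ha1 (congrArg Subtype.val h)
  have h4 := hy ⟨g * a * g⁻¹, h1⟩ fun h => h2 (congrArg Subtype.val h)
  have h5 : g * a * g⁻¹ = a := congrArg Subtype.val (h4.trans h3.symm)
  calc a * g = g * a * g⁻¹ * g := by rw [h5]
    _ = g * a := by group

theorem mk_smul_eq {C : Subgroup G} {g a : G} (h : a⁻¹ * g * a ∈ C) :
    g • (QuotientGroup.mk a : G ⧸ C) = QuotientGroup.mk a := by
  have h1 : g • (QuotientGroup.mk a : G ⧸ C) = QuotientGroup.mk (g * a) := rfl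
  rw [h1, eq_comm, QuotientGroup.eq]
  rwa [← mul_assoc]

variable {Z C : Subgroup G} {U : Bool → Subgroup G}

/-- The geometry of the points `Z^g`. -/
theorem geo (hC : centralizer (Z : Set G) ≤ C) (hCZ : C ≤ normalizer (Z : Set G))
    (hZ : ∀ i, Z ≤ U i) (hU : ∀ i, U i ≤ centralizer (U i : Set G))
    (hN : ∀ i, C ≤ normalizer (U i : Set G)) :
    Geo (orb C Z) (fun i => orb C (U i)) where
  eqv_z g x := orb_smul hCZ g x
  eqv_U i g x := orb_smul (hN i) g x
  le i x := orb_mono (hZ i) x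
  abel i x := orb_comm (hU i) x
  cent := by
    intro x g hg
    obtain ⟨a, rfl⟩ := QuotientGroup.mk_surjective x
    rw [orb_mk hCZ, conj_centralizer, mem_conj] at hg
    exact mk_smul_eq (hC hg)

/-- The geometry for `|Z| = 2`, `N_G(U_i)` transitive on `U_i^#`. -/
theorem twoData (hC : centralizer (Z : Set G) ≤ C) (hCZ : C ≤ normalizer (Z : Set G))
    (hZ : ∀ i, Z ≤ U i) (hU : ∀ i, U i ≤ centralizer (U i : Set G))
    (hN : ∀ i, C ≤ normalizer (U i : Set G)) (hc : Nat.card Z = 2)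
    (ht : ∀ i, ∀ v ∈ U i, v ≠ 1 → ∃ g ∈ normalizer (U i : Set G), v ∈ MulAut.conj g • Z) :
    TwoData (orb C Z) (fun i => orb C (U i)) where
  toGeo := geo hC hCZ hZ hU hN
  card x := (card_orb x).trans hc
  inj := by
    intro x y hxy
    obtain ⟨a, rfl⟩ := QuotientGroup.mk_surjective x
    obtain ⟨b, rfl⟩ := QuotientGroup.mk_surjective y
    rw [orb_mk hCZ, orb_mk hCZ] at hxy
    rw [QuotientGroup.eq]
    apply hC
    apply normalizer_le_centralizer hc
    apply mem_normalizer_of_conj_eq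
    rw [← conj_conj, ← hxy, conj_conj, inv_mul_cancel, map_one, one_smul]
  pt := by
    intro i x v hv hv1
    obtain ⟨a, rfl⟩ := QuotientGroup.mk_surjective x
    rw [orb_mk (hN i), mem_conj] at hv
    obtain ⟨g, hg, hgv⟩ := ht i _ hv fun h => hv1 (by
      have h4 := congrArg (fun t => a * t * a⁻¹) h
      simpa [mul_assoc] using h4)
    refine ⟨QuotientGroup.mk (a * g), ?_, ?_⟩
    · rw [orb_mk hCZ, mem_conj]
      rw [mem_conj] at hgv
      simpa [mul_assoc] using hgv
    · rw [orb_mk (hN i), orb_mk (hN i), ← conj_conj, Pair.conj_eq_of_mem hg]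

/-- (2): the adjacent case. -/
theorem not_comm (hC : centralizer (Z : Set G) ≤ C) (hCZ : C ≤ normalizer (Z : Set G))
    (hZ : ∀ i, Z ≤ U i) (hU : ∀ i, U i ≤ centralizer (U i : Set G))
    (hN : ∀ i, C ≤ normalizer (U i : Set G)) (hc : Nat.card Z = 2)
    (ht : ∀ i, ∀ v ∈ U i, v ≠ 1 → ∃ g ∈ normalizer (U i : Set G), v ∈ MulAut.conj g • Z)
    {i j : Bool} {x : G}
    (h1 : U i ≤ normalizer ((MulAut.conj x • U j : Subgroup G) : Set G))
    (h2 : MulAut.conj x • U j ≤ normalizer (U i : Set G))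
    (h3 : ¬ U i ≤ centralizer ((MulAut.conj x • U j : Subgroup G) : Set G)) :
    i ≠ j ∧ ¬ U i ≤ centralizer (U j : Set G) := by
  have D := twoData hC hCZ hZ hU hN hc ht
  have e1 : orb C (U i) (QuotientGroup.mk 1) = U i := orb_one (hN i)
  have e2 : orb C (U j) (QuotientGroup.mk x) = MulAut.conj x • U j := orb_mk (hN j) x
  obtain ⟨hij, p, -, -, hp⟩ := D.exists_point (i := i) (j := j) (x := QuotientGroup.mk 1)
    (y := QuotientGroup.mk x) (by rw [e1, e2]; exact h1) (by rw [e1, e2]; exact h2)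
    (by rw [e1, e2]; exact h3)
  exact ⟨hij, fun h4 => hp (orb_comm h4 p)⟩

/-- **(4), `q = 2`**: `(Sp_2n(2), Sp_2m(2))` with `(n, m) ≠ (1, 1)` is impossible. -/
theorem sp_false (hC : centralizer (Z : Set G) ≤ C) (hCZ : C ≤ normalizer (Z : Set G))
    (hZ : ∀ i, Z ≤ U i) (hU : ∀ i, U i ≤ centralizer (U i : Set G))
    (hN : ∀ i, C ≤ normalizer (U i : Set G)) (hc : Nat.card Z = 2)
    (ht : ∀ i, ∀ v ∈ U i, v ≠ 1 → ∃ g ∈ normalizer (U i : Set G), v ∈ MulAut.conj g • Z)
    (hcom : ⁅U false, U true⁆ ≤ Z) (hne : ¬ U false ≤ centralizer (U true : Set G))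
    (hone : ∀ w ∈ U true, ∀ w' ∈ U true, w ∉ centralizer (U false : Set G) →
      w' ∉ centralizer (U false : Set G) → w⁻¹ * w' ∈ centralizer (U false : Set G))
    (hbig : ¬ U false ⊓ centralizer (U true : Set G) ≤ Z ∨
      ¬ U true ⊓ centralizer (U false : Set G) ≤ Z) : False := by
  have D := twoData hC hCZ hZ hU hN hc ht
  have R : Rank1 (orb C Z) (fun i => orb C (U i)) :=
    { toTwoData := D
      com := fun x => by
        rw [← orb_commutator]
        exact orb_mono hcom x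
      nonc := fun x h => hne (by
        rw [← orb_centralizer] at h
        exact (orb_le_iff x).mp h)
      one := fun x w hw w' hw' h1 h2 => by
        rw [← orb_centralizer] at h1 h2 ⊢
        rw [mem_orb] at hw hw' h1 h2 ⊢
        have h3 := hone _ hw _ hw' h1 h2
        have h4 : (x.out⁻¹ * w * x.out)⁻¹ * (x.out⁻¹ * w' * x.out) =
            x.out⁻¹ * (w⁻¹ * w') * x.out := by group
        rwa [h4] at h3 }
  refine R.false_of ?_ (QuotientGroup.mk 1)
  rcases hbig with h | h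
  · left
    intro x h1
    rw [← orb_centralizer, ← orb_inf, orb_le_iff] at h1
    exact h h1
  · right
    intro x h1
    rw [← orb_centralizer, ← orb_inf, orb_le_iff] at h1
    exact h h1

end coset

end Cfsg.Agent.Omega.NOThreeL

end

section


/-!
# NO-3L, the adjacent case in the frame (#12384 (2), (3), (4))

`S` a Sylow 2-subgroup, `Z = Ω₁(Z(S))`, `C = C_G(Z)`, `H ∈ L(S)` with `C ≤ H`, `U_H = zl S H`.

* `W S H = ⟨V_P^c : P ∈ P*(S), P ≤ H, c ∈ C⟩ ≤ U_H`;
* `comm_W` : in NOFF, `[U_H, U_K] ≤ Z` implies `[W_H, W_K] = 1`;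
* `irr_false` : if moreover `C` acts irreducibly on `U_H / Z` and on `U_K / Z` then `[U_H, U_K] = 1`;
* `adjacent` : `|Z| = 2`, `⟨H, K⟩` nonlocal, `H` (resp. `K`) transitive on `U_H^#` (resp. `U_K^#`):
  `[U_H, U_K] ≠ 1`;
* `sp_false_frame` : (4) in the frame.
-/

set_option autoImplicit false

namespace Cfsg.Agent.Omega.NOThreeL

open Subgroup MulAction Pointwise Cfsg Cfsg.Agent.ZN Cfsg.Agent.MinSimple
open Cfsg.Agent.Omega.NoFF.Basic (conj_conj mem_conj conj_le_iff conj_le_centralizer comm_symm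
  comm_mono)
open Cfsg.Agent.Omega.MinPar (IsPar IsParS IsLoc NonLoc)
open Cfsg.Agent.Omega.FrameNOFF (CZ)
open Cfsg.Agent.MinSimple.VModule (le_o2 mem_zc zc_le zc_le_zl zl_le_zc zl_comm zl_sq
  le_normalizer_zl zl_le inf_centralizer_zl o2_le_centralizer_zl normalizer_le_normalizer_zc)
open scoped commutatorElement

universe u v

variable {G : Type u} [Group G]

theorem le_normalizer_of_commutator {A B : Subgroup G} (h : ⁅A, B⁆ ≤ B) :
    A ≤ normalizer (B : Set G) := by
  refine le_normalizer_of fun u hu w hw => ?_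
  have h1 : ⁅u, w⁆ * w ∈ B := mul_mem (h (commutator_mem_commutator hu hw)) hw
  have h2 : u * w * u⁻¹ = ⁅u, w⁆ * w := by
    rw [commutatorElement_def]
    group
  rwa [h2]

/-- In the case NOFF, conjugates `V_P^a`, `V_{P'}^b` (`a, b ∈ N_G(Z)`) with `[V_P^a, V_{P'}^b] ≤ Z`
commute. -/
theorem comm_of_not_FF {S : Subgroup G} (hF : ¬ FF S) {P P' : Subgroup G} (hP : IsParS S P)
    (hP' : IsParS S P') {a b : G} (ha : a ∈ normalizer (zc S : Set G))
    (hb : b ∈ normalizer (zc S : Set G))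
    (h : ⁅MulAut.conj a • zl S P, MulAut.conj b • zl S P'⁆ ≤ zc S) :
    ⁅MulAut.conj a • zl S P, MulAut.conj b • zl S P'⁆ = ⊥ := by
  have h1 : ⁅zl S P, MulAut.conj (a⁻¹ * b) • zl S P'⁆ ≤ zc S := by
    have h2 := (conj_le_iff (g := a⁻¹)).2 h
    rw [conj_smul_commutator, conj_conj, conj_conj, inv_mul_cancel, map_one, one_smul,
      Pair.conj_eq_of_mem (inv_mem ha)] at h2
    exact h2
  have h3 : ⁅zl S P, MulAut.conj (a⁻¹ * b) • zl S P'⁆ = ⊥ := by
    by_contra h4
    refine hF ⟨P, P', a⁻¹ * b, hP, hP', ?_, ?_, h4⟩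
    · refine le_normalizer_of_commutator (h1.trans ?_)
      rw [← Pair.conj_eq_of_mem (mul_mem (inv_mem ha) hb)]
      exact conj_le_iff.2 (zc_le_zl _ _)
    · rw [commutator_comm] at h1
      exact le_normalizer_of_commutator (h1.trans (zc_le_zl _ _))
  have h5 : MulAut.conj a • ⁅zl S P, MulAut.conj (a⁻¹ * b) • zl S P'⁆ =
      ⁅MulAut.conj a • zl S P, MulAut.conj b • zl S P'⁆ := by
    rw [conj_smul_commutator, conj_conj, mul_inv_cancel_left]
  rw [← h5, h3, Subgroup.smul_bot]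

/-- `W_H = ⟨V_P^c : P ∈ P*(S), P ≤ H, c ∈ C_G(Z)⟩`. -/
def W (S H : Subgroup G) : Subgroup G :=
  ⨆ (P : {P : Subgroup G // IsParS S P ∧ P ≤ H}) (c : CZ S), MulAut.conj (c : G) • zl S (P : Subgroup G)

theorem le_W {S H P : Subgroup G} (hP : IsParS S P) (hPH : P ≤ H) {c : G} (hc : c ∈ CZ S) :
    MulAut.conj c • zl S P ≤ W S H :=
  (le_iSup (fun c : CZ S => MulAut.conj (c : G) • zl S P) ⟨c, hc⟩).trans
    (le_iSup (fun P : {P : Subgroup G // IsParS S P ∧ P ≤ H} =>
      ⨆ c : CZ S, MulAut.conj (c : G) • zl S (P : Subgroup G)) ⟨P, hP, hPH⟩)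

theorem zl_le_W {S H P : Subgroup G} (hP : IsParS S P) (hPH : P ≤ H) : zl S P ≤ W S H := by
  have h := le_W hP hPH (one_mem (CZ S))
  rwa [map_one, one_smul] at h

theorem W_le {S H A : Subgroup G}
    (h : ∀ P, IsParS S P → P ≤ H → ∀ c ∈ CZ S, MulAut.conj c • zl S P ≤ A) : W S H ≤ A :=
  iSup_le fun P => iSup_le fun c => h P P.2.1 P.2.2 c c.2

theorem zl_mono {S H K : Subgroup G} (h : H ≤ K) : zl S H ≤ zl S K :=
  zl_le (zc_le_zl S K) (h.trans (le_normalizer_zl S K))

theorem W_le_zl {S H : Subgroup G} (hC : CZ S ≤ H) : W S H ≤ zl S H :=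
  W_le fun P _ hPH c hc => by
    have h1 : MulAut.conj c • zl S P ≤ MulAut.conj c • zl S H := conj_le_iff.2 (zl_mono hPH)
    rwa [Pair.conj_eq_of_mem (le_normalizer_zl S H (hC hc))] at h1

theorem CZ_le_normalizer_W (S H : Subgroup G) : CZ S ≤ normalizer (W S H : Set G) := by
  refine le_normalizer_of fun u hu w hw => ?_
  have h1 : W S H ≤ MulAut.conj u⁻¹ • W S H := by
    refine W_le fun P hP hPH c hc => ?_
    have h2 := le_W hP hPH (mul_mem hu hc)
    have h3 := (conj_le_iff (g := u⁻¹)).2 h2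
    rwa [conj_conj, inv_mul_cancel_left] at h3
  have h2 := h1 hw
  rw [mem_conj, inv_inv] at h2
  exact h2

/-- In the case NOFF, `[U_H, U_K] ≤ Z` implies `[W_H, W_K] = 1`. -/
theorem comm_W {S H K : Subgroup G} (hF : ¬ FF S) (hCH : CZ S ≤ H) (hCK : CZ S ≤ K)
    (h : ⁅zl S H, zl S K⁆ ≤ zc S) : W S H ≤ centralizer (W S K : Set G) := by
  refine W_le fun P hP hPH a ha => ?_
  rw [Subgroup.le_centralizer_iff]
  refine W_le fun P' hP' hPK b hb => ?_
  rw [Subgroup.le_centralizer_iff, ← commutator_eq_bot_iff_le_centralizer]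
  refine comm_of_not_FF hF hP hP' (centralizer_le_normalizer _ ha)
    (centralizer_le_normalizer _ hb) (le_trans ?_ h)
  refine commutator_mono ?_ ?_
  · exact (le_W hP hPH ha).trans (W_le_zl hCH)
  · exact (le_W hP' hPK hb).trans (W_le_zl hCK)

variable [Finite G]

/-- `W_H > Z` for `H ∈ L(S)` not normalising `Z`. -/
theorem W_not_le (S : Sylow 2 G) {H : Subgroup G} (hH : IsLoc (S : Subgroup G) H)
    (hn : ¬ H ≤ normalizer (zc (S : Subgroup G) : Set G)) :
    zc (S : Subgroup G) ≤ W (S : Subgroup G) H ∧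
      ¬ W (S : Subgroup G) H ≤ zc (S : Subgroup G) := by
  obtain ⟨P, hP, hPH, hPn⟩ := hH.exists_not_le S
    (inf_le_right.trans (normalizer_le_normalizer_zc _)) hn
  have hPs : IsParS (S : Subgroup G) P := ⟨hP, hPn⟩
  refine ⟨(zc_le_zl _ _).trans (zl_le_W hPs hPH), fun h => hPn ?_⟩
  have h1 : zl (S : Subgroup G) P = zc (S : Subgroup G) :=
    le_antisymm ((zl_le_W hPs hPH).trans h) (zc_le_zl _ _)
  rw [← h1]
  exact le_normalizer_zl _ _

/-- `C_G(Z)` acts irreducibly on `U_H / Z`. -/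
def Irr (S H : Subgroup G) : Prop :=
  ∀ A : Subgroup G, zc S ≤ A → A ≤ zl S H → CZ S ≤ normalizer (A : Set G) →
    A = zc S ∨ A = zl S H

theorem W_eq (S : Sylow 2 G) {H : Subgroup G} (hH : IsLoc (S : Subgroup G) H)
    (hC : CZ (S : Subgroup G) ≤ H) (hn : ¬ H ≤ normalizer (zc (S : Subgroup G) : Set G))
    (hi : Irr (S : Subgroup G) H) : W (S : Subgroup G) H = zl (S : Subgroup G) H := by
  obtain ⟨h1, h2⟩ := W_not_le S hH hn
  rcases hi _ h1 (W_le_zl hC) (CZ_le_normalizer_W _ _) with h3 | h3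
  · exact absurd h3.le h2
  · exact h3

/-- NOFF, `[U_H, U_K] ≤ Z`, `C_G(Z)` irreducible on `U_H / Z` and `U_K / Z`: `[U_H, U_K] = 1`. -/
theorem irr_comm (S : Sylow 2 G) (hF : ¬ FF (S : Subgroup G)) {H K : Subgroup G}
    (hH : IsLoc (S : Subgroup G) H) (hK : IsLoc (S : Subgroup G) K)
    (hCH : CZ (S : Subgroup G) ≤ H) (hCK : CZ (S : Subgroup G) ≤ K)
    (hnH : ¬ H ≤ normalizer (zc (S : Subgroup G) : Set G))
    (hnK : ¬ K ≤ normalizer (zc (S : Subgroup G) : Set G))
    (hiH : Irr (S : Subgroup G) H) (hiK : Irr (S : Subgroup G) K)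
    (h : ⁅zl (S : Subgroup G) H, zl (S : Subgroup G) K⁆ ≤ zc (S : Subgroup G)) :
    ⁅zl (S : Subgroup G) H, zl (S : Subgroup G) K⁆ = ⊥ := by
  have h1 := comm_W hF hCH hCK h
  rw [W_eq S hH hCH hnH hiH, W_eq S hK hCK hnK hiK] at h1
  exact commutator_eq_bot_iff_le_centralizer.mpr h1

/-- `H` is transitive on `U_H^#` (`|Z| = 2`). -/
def Trans (S H : Subgroup G) : Prop :=
  ∀ v ∈ zl S H, v ≠ 1 → ∃ g ∈ normalizer (zl S H : Set G), v ∈ MulAut.conj g • zc S

section bool

variable {S : Sylow 2 G} {H : Bool → Subgroup G}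

/-- The geometry of two overgroups of `C_G(Z)`. -/
theorem geo_frame (hG : IsCharacteristicTwoType G) (hH : ∀ i, IsLoc (S : Subgroup G) (H i))
    (hC : ∀ i, CZ (S : Subgroup G) ≤ H i) :
    Geo (orb (CZ (S : Subgroup G)) (zc (S : Subgroup G)))
      (fun i => orb (CZ (S : Subgroup G)) (zl (S : Subgroup G) (H i))) :=
  geo le_rfl (centralizer_le_normalizer _) (fun _ => zc_le_zl _ _)
    (fun i => (Pair.zl_abel hG S (hH i)).1) (fun i => (hC i).trans (le_normalizer_zl _ _))

/-- `|Z| = 2`, `H_i` transitive on `U_i^#`. -/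
theorem twoData_frame (hG : IsCharacteristicTwoType G) (hH : ∀ i, IsLoc (S : Subgroup G) (H i))
    (hC : ∀ i, CZ (S : Subgroup G) ≤ H i) (hc : Nat.card (zc (S : Subgroup G)) = 2)
    (ht : ∀ i, Trans (S : Subgroup G) (H i)) :
    TwoData (orb (CZ (S : Subgroup G)) (zc (S : Subgroup G)))
      (fun i => orb (CZ (S : Subgroup G)) (zl (S : Subgroup G) (H i))) :=
  twoData le_rfl (centralizer_le_normalizer _) (fun _ => zc_le_zl _ _)
    (fun i => (Pair.zl_abel hG S (hH i)).1) (fun i => (hC i).trans (le_normalizer_zl _ _)) hc ht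

/-- **The adjacent case** (#12384 (1), (2)): `|Z| = 2`, `H_i` transitive on `U_i^#`, `⟨H_1, H_2⟩`
nonlocal: `[U_1, U_2] ≠ 1`. -/
theorem adjacent (hG : IsCharacteristicTwoType G) (hH : ∀ i, IsLoc (S : Subgroup G) (H i))
    (hC : ∀ i, CZ (S : Subgroup G) ≤ H i) (hc : Nat.card (zc (S : Subgroup G)) = 2)
    (ht : ∀ i, Trans (S : Subgroup G) (H i)) (core : o2 (⨆ i, H i) = ⊥) :
    ⁅zl (S : Subgroup G) (H false), zl (S : Subgroup G) (H true)⁆ ≠ ⊥ := by
  obtain ⟨i, j, x, -, h1, h2, h3⟩ := Pair.exists_mutual_loc hG S hH hC core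
  obtain ⟨hij, h4⟩ := not_comm (Z := zc (S : Subgroup G)) (C := CZ (S : Subgroup G))
    (U := fun i => zl (S : Subgroup G) (H i)) le_rfl (centralizer_le_normalizer _)
    (fun _ => zc_le_zl _ _) (fun i => (Pair.zl_abel hG S (hH i)).1)
    (fun i => (hC i).trans (le_normalizer_zl _ _)) hc ht h1 h2
    (fun h => h3 (commutator_eq_bot_iff_le_centralizer.mpr h))
  intro h5
  rw [commutator_eq_bot_iff_le_centralizer] at h5
  rcases i with _ | _ <;> rcases j with _ | _
  · exact hij rfl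
  · exact h4 h5
  · exact h4 (comm_symm h5)
  · exact hij rfl

/-- **(4) in the frame**: `|Z| = 2`, `H_i` transitive on `U_i^#`, `⟨H_1, H_2⟩` nonlocal,
`[U_1, U_2] ≤ Z`, `|U_2 : C_{U_2}(U_1)| ≤ 2`, `C_{U_1}(U_2) > Z` or `C_{U_2}(U_1) > Z`:
contradiction. -/
theorem sp_false_frame (hG : IsCharacteristicTwoType G) (hH : ∀ i, IsLoc (S : Subgroup G) (H i))
    (hC : ∀ i, CZ (S : Subgroup G) ≤ H i) (hc : Nat.card (zc (S : Subgroup G)) = 2)
    (ht : ∀ i, Trans (S : Subgroup G) (H i)) (core : o2 (⨆ i, H i) = ⊥)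
    (hcom : ⁅zl (S : Subgroup G) (H false), zl (S : Subgroup G) (H true)⁆ ≤ zc (S : Subgroup G))
    (hone : ∀ w ∈ zl (S : Subgroup G) (H true), ∀ w' ∈ zl (S : Subgroup G) (H true),
      w ∉ centralizer (zl (S : Subgroup G) (H false) : Set G) →
      w' ∉ centralizer (zl (S : Subgroup G) (H false) : Set G) →
      w⁻¹ * w' ∈ centralizer (zl (S : Subgroup G) (H false) : Set G))
    (hbig : ¬ zl (S : Subgroup G) (H false) ⊓
        centralizer (zl (S : Subgroup G) (H true) : Set G) ≤ zc (S : Subgroup G) ∨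
      ¬ zl (S : Subgroup G) (H true) ⊓
        centralizer (zl (S : Subgroup G) (H false) : Set G) ≤ zc (S : Subgroup G)) : False := by
  have h1 := adjacent hG hH hC hc ht core
  exact sp_false (Z := zc (S : Subgroup G)) (C := CZ (S : Subgroup G))
    (U := fun i => zl (S : Subgroup G) (H i)) le_rfl (centralizer_le_normalizer _)
    (fun _ => zc_le_zl _ _) (fun i => (Pair.zl_abel hG S (hH i)).1)
    (fun i => (hC i).trans (le_normalizer_zl _ _)) hc ht hcom
    (fun h => h1 (commutator_eq_bot_iff_le_centralizer.mpr h)) hone hbig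

/-- **(3), irreducible case, in the frame**: NOFF, `|Z| = 2`, `H_i` transitive on `U_i^#`,
`⟨H_1, H_2⟩` nonlocal, `[U_1, U_2] ≤ Z`, `C_G(Z)` irreducible on `U_i / Z` (`SL_n(2)`):
contradiction. -/
theorem irr_false_frame (hG : IsCharacteristicTwoType G) (hF : ¬ FF (S : Subgroup G))
    (hH : ∀ i, IsLoc (S : Subgroup G) (H i))
    (hC : ∀ i, CZ (S : Subgroup G) ≤ H i) (hc : Nat.card (zc (S : Subgroup G)) = 2)
    (ht : ∀ i, Trans (S : Subgroup G) (H i)) (core : o2 (⨆ i, H i) = ⊥)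
    (hcom : ⁅zl (S : Subgroup G) (H false), zl (S : Subgroup G) (H true)⁆ ≤ zc (S : Subgroup G))
    (hi : ∀ i, Irr (S : Subgroup G) (H i)) : False := by
  have h1 := adjacent hG hH hC hc ht core
  have hn : ∀ i, ¬ H i ≤ normalizer (zc (S : Subgroup G) : Set G) := by
    intro i h2
    have h3 : zl (S : Subgroup G) (H i) = zc (S : Subgroup G) :=
      le_antisymm (zl_le le_rfl h2) (zc_le_zl _ _)
    apply h1
    rw [commutator_eq_bot_iff_le_centralizer]
    rcases i with _ | _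
    · rw [h3]
      exact comm_symm (((Pair.zl_abel hG S (hH true)).1).trans (centralizer_le (zc_le_zl _ _)))
    · rw [h3]
      exact ((Pair.zl_abel hG S (hH false)).1).trans (centralizer_le (zc_le_zl _ _))
  exact h1 (irr_comm S hF (hH false) (hH true) (hC false) (hC true) (hn false) (hn true)
    (hi false) (hi true) hcom)

end bool

end Cfsg.Agent.Omega.NOThreeL

end

section


/-!
# NO-3L: the points of `U_H` are connected by lines

`conn` : `S ≤ H ∈ L(S)`; a subgroup `A` with `Z ≤ A` and `W_H^h ≤ A` whenever `Z^h ≤ A`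
(`h ∈ N_G(U_H)`) contains `U_H = ⟨Z^H⟩`; `W_H = ⟨V_P^c : P ∈ P*(S), P ≤ H, c ∈ C_G(Z)⟩` (or any subgroup
containing all `V_P`, `P ∈ P*(S)`, `P ≤ H`).
-/

set_option autoImplicit false

namespace Cfsg.Agent.Omega.NOThreeL

open Subgroup MulAction Pointwise Cfsg Cfsg.Agent.ZN Cfsg.Agent.MinSimple
open Cfsg.Agent.Omega.NoFF.Basic (conj_conj mem_conj conj_le_iff)
open Cfsg.Agent.Omega.MinPar (IsPar IsParS IsLoc NonLoc)

universe u

variable {G : Type u} [Group G]

/-- the elements which stabilise the set `{h ∈ N : Z^h ≤ A}` from the right -/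
def rstab (N Z A : Subgroup G) : Subgroup G where
  carrier := {y | y ∈ N ∧ ∀ h ∈ N, MulAut.conj h • Z ≤ A ↔ MulAut.conj (h * y) • Z ≤ A}
  mul_mem' := by
    rintro a b ⟨ha, ha2⟩ ⟨hb, hb2⟩
    refine ⟨mul_mem ha hb, fun h hh => ?_⟩
    rw [← mul_assoc, ha2 h hh]
    exact hb2 (h * a) (mul_mem hh ha)
  one_mem' := ⟨one_mem _, fun h _ => by rw [mul_one]⟩
  inv_mem' := by
    rintro a ⟨ha, ha2⟩
    refine ⟨inv_mem ha, fun h hh => ?_⟩
    have h1 := ha2 (h * a⁻¹) (mul_mem hh (inv_mem ha))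
    rw [inv_mul_cancel_right] at h1
    exact h1.symm

theorem mem_rstab {N Z A : Subgroup G} {y : G} : y ∈ rstab N Z A ↔
    y ∈ N ∧ ∀ h ∈ N, MulAut.conj h • Z ≤ A ↔ MulAut.conj (h * y) • Z ≤ A := Iff.rfl

/-- it is enough to check one direction, for all elements of a subgroup -/
theorem le_rstab {N Z A P : Subgroup G} (hPN : P ≤ N)
    (h : ∀ y ∈ P, ∀ h ∈ N, MulAut.conj h • Z ≤ A → MulAut.conj (h * y) • Z ≤ A) :
    P ≤ rstab N Z A := by
  intro y hy
  refine mem_rstab.mpr ⟨hPN hy, fun g hg => ⟨h y hy g hg, fun h1 => ?_⟩⟩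
  have h2 := h y⁻¹ (inv_mem hy) (g * y) (mul_mem hg (hPN hy)) h1
  rwa [mul_inv_cancel_right] at h2

/-- **The points of `U_H` are connected.** -/
theorem conn [Finite G] (S : Sylow 2 G) {H W : Subgroup G} (hH : IsLoc (S : Subgroup G) H)
    (hW : ∀ P, IsParS (S : Subgroup G) P → P ≤ H → zl (S : Subgroup G) P ≤ W) (A : Subgroup G)
    (hZ : zc (S : Subgroup G) ≤ A)
    (h : ∀ g ∈ normalizer (zl (S : Subgroup G) H : Set G),
      MulAut.conj g • zc (S : Subgroup G) ≤ A → MulAut.conj g • W ≤ A) :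
    zl (S : Subgroup G) H ≤ A := by
  have hHN : H ≤ normalizer (zl (S : Subgroup G) H : Set G) := VModule.le_normalizer_zl _ _
  have hfix : ∀ P : Subgroup G, P ≤ H → P ≤ normalizer (zc (S : Subgroup G) : Set G) →
      P ≤ rstab (normalizer (zl (S : Subgroup G) H : Set G)) (zc (S : Subgroup G)) A := by
    intro P hPH hPn
    refine le_rstab (hPH.trans hHN) fun y hy g _ h1 => ?_
    rwa [← conj_conj, Pair.conj_eq_of_mem (hPn hy)]
  have key : H ≤ rstab (normalizer (zl (S : Subgroup G) H : Set G)) (zc (S : Subgroup G)) A := by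
    refine hH.le_of_forall S ?_ fun P hP hPH => ?_
    · exact hfix _ inf_le_left (inf_le_right.trans (VModule.normalizer_le_normalizer_zc _))
    · by_cases hPs : P ≤ normalizer (zc (S : Subgroup G) : Set G)
      · exact hfix P hPH hPs
      · refine le_rstab (hPH.trans hHN) fun y hy g hg h1 => ?_
        refine le_trans ?_ (h g hg h1)
        rw [← conj_conj]
        refine conj_le_iff.2 (le_trans ?_ (hW P ⟨hP, hPs⟩ hPH))
        have h2 : MulAut.conj y • zc (S : Subgroup G) ≤ MulAut.conj y • zl (S : Subgroup G) P :=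
          conj_le_iff.2 (VModule.zc_le_zl _ _)
        rwa [Pair.conj_eq_of_mem (VModule.le_normalizer_zl _ _ hy)] at h2
  refine iSup_le fun g => ?_
  have h1 := ((mem_rstab.mp (key g.2)).2 1 (one_mem _)).mp (by rwa [map_one, one_smul])
  rw [one_mul] at h1
  exact h1

/-- the same for `W S H`. -/
theorem conn_W [Finite G] (S : Sylow 2 G) {H : Subgroup G} (hH : IsLoc (S : Subgroup G) H)
    (A : Subgroup G) (hZ : zc (S : Subgroup G) ≤ A)
    (h : ∀ g ∈ normalizer (zl (S : Subgroup G) H : Set G),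
      MulAut.conj g • zc (S : Subgroup G) ≤ A → MulAut.conj g • W (S : Subgroup G) H ≤ A) :
    zl (S : Subgroup G) H ≤ A :=
  conn S hH (fun _ hP hPH => zl_le_W hP hPH) A hZ h

end Cfsg.Agent.Omega.NOThreeL

end

section


/-!
# NO-3L: the closure argument in the frame

`clo_frame` : `S` a Sylow 2-subgroup of `G`, `Z = Ω₁Z(S)`, `C = C_G(Z) ≤ H ∈ L(S)`, `U = ⟨Z^H⟩`,
`Z ≤ W ≤ U` normalised by `C` and containing all `V_P`, `P ∈ P*(S)`, `P ≤ H`; `M` a subgroup with
`Z ≤ M`, normalised by `U` and centralised by `W`. If every `u ∈ U`, `u ∉ C(M)` has a `g` with `Z^g ≤ M`,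
`U^g ∩ U^(ug) ∩ C(M) = 1`, `U ∩ U^g ∩ C(M) = 1`, `|C_U(M)| ≤ |C_{U^g}(M)|`, then `[U, M] = 1`.
-/

set_option autoImplicit false

namespace Cfsg.Agent.Omega.NOThreeL

open Subgroup MulAction Pointwise Cfsg Cfsg.Agent.ZN Cfsg.Agent.MinSimple
open Cfsg.Agent.Omega.NoFF.Basic (conj_conj mem_conj conj_le_iff)
open Cfsg.Agent.Omega.MinPar (IsPar IsParS IsLoc NonLoc)
open Cfsg.Agent.Omega.FrameNOFF (CZ)

universe u

variable {G : Type u} [Group G] [Finite G]

/-- **The closure argument in the frame.** -/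
theorem clo_frame (hG : IsCharacteristicTwoType G) (S : Sylow 2 G) {H W M : Subgroup G}
    (hH : IsLoc (S : Subgroup G) H) (hC : CZ (S : Subgroup G) ≤ H)
    (hZW : zc (S : Subgroup G) ≤ W) (hWU : W ≤ zl (S : Subgroup G) H)
    (hCW : CZ (S : Subgroup G) ≤ normalizer (W : Set G))
    (hPW : ∀ P, IsParS (S : Subgroup G) P → P ≤ H → zl (S : Subgroup G) P ≤ W)
    (hZM : zc (S : Subgroup G) ≤ M) (hUM : zl (S : Subgroup G) H ≤ normalizer (M : Set G))
    (hWM : W ≤ centralizer (M : Set G))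
    (opp : ∀ u ∈ zl (S : Subgroup G) H, u ∉ centralizer (M : Set G) → ∃ g : G,
      MulAut.conj g • zc (S : Subgroup G) ≤ M ∧
      MulAut.conj g • zl (S : Subgroup G) H ⊓ MulAut.conj (u * g) • zl (S : Subgroup G) H ⊓
        centralizer (M : Set G) = ⊥ ∧
      zl (S : Subgroup G) H ⊓ MulAut.conj g • zl (S : Subgroup G) H ⊓
        centralizer (M : Set G) = ⊥ ∧
      Nat.card (zl (S : Subgroup G) H ⊓ centralizer (M : Set G) : Subgroup G) ≤
        Nat.card (MulAut.conj g • zl (S : Subgroup G) H ⊓ centralizer (M : Set G) : Subgroup G)) :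
    zl (S : Subgroup G) H ≤ centralizer (M : Set G) := by
  have hCU : CZ (S : Subgroup G) ≤ normalizer (zl (S : Subgroup G) H : Set G) :=
    hC.trans (VModule.le_normalizer_zl _ _)
  have hCZ : CZ (S : Subgroup G) ≤ normalizer (zc (S : Subgroup G) : Set G) :=
    centralizer_le_normalizer _
  have hgeo := geo (Z := zc (S : Subgroup G)) (C := CZ (S : Subgroup G))
    (U := fun _ => zl (S : Subgroup G) H) le_rfl hCZ (fun _ => VModule.zc_le_zl _ _)
    (fun _ => (Pair.zl_abel hG S hH).1) (fun _ => hCU)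
  have e1 : ∀ {A : Subgroup G}, CZ (S : Subgroup G) ≤ normalizer (A : Set G) →
      orb (CZ (S : Subgroup G)) A (QuotientGroup.mk 1) = A := fun h => orb_one h
  have D : Closure.Clo (orb (CZ (S : Subgroup G)) (zc (S : Subgroup G)))
      (orb (CZ (S : Subgroup G)) (zl (S : Subgroup G) H)) (orb (CZ (S : Subgroup G)) W) M
      (QuotientGroup.mk 1) :=
    { eqv_U := fun g x => orb_smul hCU g x
      eqv_W := fun g x => orb_smul hCW g x
      abel := hgeo.abel false _
      cent := hgeo.cent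
      zM := by rw [e1 hCZ]; exact hZM
      UM := by rw [e1 hCU]; exact hUM
      opp := by
        rw [e1 hCU]
        intro u hu huM
        obtain ⟨g, h1, h2, h3, h4⟩ := opp u hu huM
        refine ⟨QuotientGroup.mk g, ?_, ?_, ?_, ?_⟩
        · rw [orb_mk hCZ]
          exact h1
        · have h5 : u • (QuotientGroup.mk g : G ⧸ CZ (S : Subgroup G)) =
            QuotientGroup.mk (u * g) := rfl
          rw [h5, orb_mk hCU, orb_mk hCU]
          exact h2
        · rw [orb_mk hCU]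
          exact h3
        · rw [orb_mk hCU]
          exact h4
      WU := orb_mono hWU _
      WM := by rw [e1 hCW]; exact hWM
      zW := orb_mono hZW _
      conn := by
        rw [e1 hCU]
        intro A hZA hA
        rw [e1 hCZ] at hZA
        refine conn S hH hPW A hZA fun g hg h1 => ?_
        have h5 : g • (QuotientGroup.mk 1 : G ⧸ CZ (S : Subgroup G)) = QuotientGroup.mk g := by
          change (QuotientGroup.mk (g * 1) : G ⧸ CZ (S : Subgroup G)) = _
          rw [mul_one]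
        have h2 := hA g hg
        rw [h5, orb_mk hCZ, orb_mk hCW] at h2
        exact h2 h1 }
  have h1 := D.le
  rwa [e1 hCU] at h1

end Cfsg.Agent.Omega.NOThreeL

end
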