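import Cfsg.Agent.Mrg.Omega.NOThreeL.Star
import Cfsg.Agent.Mrg.Omega.NOThreeL.Plug
import Cfsg.Agent.Mrg.Omega.NOThreeL.RTools.Two

section


/-!
# NO-3L, case (A), one natural factor (socket A1): THEOREM T for all `q` and all `|Z|`, K-free

`V = V_P` is a natural `SL₂(F)`-module for `P ∈ P*(S)` (field automorphisms in `S` allowed, so `|Z| ≤ |F|`),
`U = U_H` induces the full root group. `inf_eq_bot`: `U ∩ U^h = 1` for all `h ∈ P` which act as a matrix
with nonzero lower left entry [`U ∩ U^h` is centralised by `⟨U, U^h⟩`, which induces `SL₂(F)`, so it is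
contained in `T₀ = ⋂ U^g`, `g ∈ P` acting as an element of `SL₂(F)`; `T₀` is normalised by `S`, so meets
`Z`, but `C_V(⟨U, U^h⟩) = 1`]. The closure argument (`clo_frame`, helper83) gives `[V, U] = 1`.
-/

set_option autoImplicit false

namespace Cfsg.Agent.Omega.NOThreeL.AOne

open Subgroup Cfsg Cfsg.Agent.ZN Cfsg.Agent.Omega.MinPar Cfsg.Agent.Omega.Frame Cfsg.Agent.Omega.FrameNOFF
open Cfsg.Agent.Omega.Node.NO3L Cfsg.Agent.Omega.NOThreeL.Basic Cfsg.Agent.Omega.NOThreeL.Main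
open Cfsg.Agent.Omega.NoFF.Basic (conj_conj mem_conj conj_le_iff conj_le_centralizer)
open Cfsg.Agent.Omega.NOThreeL.Pair (conj_eq_of_mem zl_abel)
open Cfsg.Agent.Omega.FFThm (Off NoOver Concl NatK SymK)
open Cfsg.Agent.Omega.FrameFF (cv)
open Cfsg.Agent.Omega.NatPair (ap ap_mul ap_one ap_inv_ap)
open Cfsg.Agent.Lib.SL2Mat
open Cfsg.Agent.MinSimple.VModule (zl_le le_normalizer_zl zc_le_zl zc_le zl_le_zc o2_isPGroup le_normalizer_o2
  mem_zc)
open scoped Pointwise

open Cfsg.Agent.Omega.NOThreeL (mem_normalizer_of_conj_eq clo_frame)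

universe u

/-! ### Matrices -/

section mat

variable {F : Type} [Field F]

/-- a subgroup with all `up` and all conjugates of `up` by an element moving the line is everything -/
theorem mem_of_up {K : Subgroup (Matrix.SpecialLinearGroup (Fin 2) F)} (hu : ∀ b, up b ∈ K)
    {A : Matrix.SpecialLinearGroup (Fin 2) F} (hA : ent A 1 0 ≠ 0) (hc : ∀ b, A * up b * A⁻¹ ∈ K) :
    ∀ x, x ∈ K := by
  have hlo : ∀ b, lo b ∈ K := by
    intro b
    by_cases hb : b = 0
    · rw [hb, lo_zero]; exact K.one_mem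
    -- `A = up a * lo c * up d`
    have h1 := eq_up_lo_up A hA
    set a := (ent A 0 0 - 1) / ent A 1 0
    set c := ent A 1 0
    set d := (ent A 1 1 - 1) / ent A 1 0
    have h2 : ∀ t, lo c * up t * lo (-c) ∈ K := by
      intro t
      have h3 := hc t
      have e : A * up t * A⁻¹ = up a * (lo c * up t * lo (-c)) * up (-a) := by
        rw [h1, mul_inv_rev, mul_inv_rev, up_inv, up_inv, lo_inv]
        have e1 : up d * up t * up (-d) = up t := by rw [up_mul, up_mul]; congr 1; ring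
        calc up a * lo c * up d * up t * (up (-d) * (lo (-c) * up (-a)))
            = up a * (lo c * (up d * up t * up (-d)) * lo (-c)) * up (-a) := by group
          _ = _ := by rw [e1]
      rw [e] at h3
      have h4 := K.mul_mem (K.mul_mem (hu (-a)) h3) (hu a)
      have e2 : up (-a) * (up a * (lo c * up t * lo (-c)) * up (-a)) * up a =
          lo c * up t * lo (-c) := by
        have e3 : up (-a) * up a = 1 := by rw [up_mul, neg_add_cancel, up_zero]
        calc up (-a) * (up a * (lo c * up t * lo (-c)) * up (-a)) * up a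
            = (up (-a) * up a) * (lo c * up t * lo (-c)) * (up (-a) * up a) := by group
          _ = _ := by rw [e3, one_mul, mul_one]
      rwa [e2] at h4
    -- `lo c * up t * lo (-c) = up * lo (-c² t) * up`
    have h3 : ∀ t, t ≠ 0 → lo (-(c ^ 2 * t)) ∈ K := by
      intro t ht
      have hent : ent (lo c * up t * lo (-c)) 1 0 = -(c ^ 2 * t) := by
        simp only [ent_mul, up_00, up_01, up_10, up_11, lo_00, lo_01, lo_10, lo_11]
        ring
      have hne : ent (lo c * up t * lo (-c)) 1 0 ≠ 0 := by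
        rw [hent]
        exact neg_ne_zero.2 (mul_ne_zero (pow_ne_zero 2 hA) ht)
      have h4 := eq_up_lo_up _ hne
      have h5 := h2 t
      rw [h4] at h5
      have h6 := (K.mul_mem_cancel_left (hu _)).1 ((K.mul_mem_cancel_right (hu _)).1 h5)
      rwa [hent] at h6
    have h4 := h3 (-(b / c ^ 2)) (neg_ne_zero.2 (div_ne_zero hb (pow_ne_zero 2 hA)))
    have e : -(c ^ 2 * -(b / c ^ 2)) = b := by
      have : c ^ 2 ≠ 0 := pow_ne_zero 2 hA
      field_simp
    rwa [e] at h4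
  intro x
  obtain ⟨a, b, c, d, rfl⟩ := exists_up_lo x
  exact K.mul_mem (K.mul_mem (K.mul_mem (hu _) (hlo _)) (hu _)) (hlo _)

theorem ap_up_0 (b : F) (x : Fin 2 → F) : ap (up b) x 0 = x 0 + b * x 1 := by
  rw [NatPair.ap_eq_mulVec, Matrix.mulVec, dotProduct, Fin.sum_univ_two]
  change ent (up b) 0 0 * x 0 + ent (up b) 0 1 * x 1 = _
  rw [up_00, up_01, one_mul]

theorem ap_lo_1 (b : F) (x : Fin 2 → F) : ap (lo b) x 1 = b * x 0 + x 1 := by
  rw [NatPair.ap_eq_mulVec, Matrix.mulVec, dotProduct, Fin.sum_univ_two]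
  change ent (lo b) 1 0 * x 0 + ent (lo b) 1 1 * x 1 = _
  rw [lo_10, lo_11, one_mul]

end mat

/-! ### The action on `V` -/

section act

variable {G : Type u} [Group G] {F : Type} [Field F]

/-- `g` acts as `A` on the coordinates of `V`. -/
def Act (e : G → Fin 2 → F) (V : Subgroup G) (g : G) (A : Matrix.SpecialLinearGroup (Fin 2) F) : Prop :=
  ∀ v ∈ V, e (g * v * g⁻¹) = ap A (e v)

variable {e : G → Fin 2 → F} {V : Subgroup G}

theorem Act.mul {g h : G} {A B : Matrix.SpecialLinearGroup (Fin 2) F} (hg : Act e V g A)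
    (hh : Act e V h B) (hn : h ∈ normalizer (V : Set G)) : Act e V (g * h) (A * B) := by
  intro v hv
  have h1 := (mem_normalizer_iff.mp hn v).mp hv
  have h2 : g * h * v * (g * h)⁻¹ = g * (h * v * h⁻¹) * g⁻¹ := by group
  rw [h2, hg _ h1, hh v hv, ap_mul]

theorem Act.one : Act e V 1 (1 : Matrix.SpecialLinearGroup (Fin 2) F) := by
  intro v _
  rw [one_mul, inv_one, mul_one, ap_one]

theorem Act.inv {g : G} {A : Matrix.SpecialLinearGroup (Fin 2) F} (hg : Act e V g A)
    (hn : g ∈ normalizer (V : Set G)) : Act e V g⁻¹ A⁻¹ := by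
  intro v hv
  have h1 := (mem_normalizer_iff.mp (inv_mem hn) v).mp hv
  have h2 := hg _ h1
  have h3 : g * (g⁻¹ * v * g⁻¹⁻¹) * g⁻¹ = v := by group
  rw [h3] at h2
  rw [h2, ap_inv_ap]

end act

/-! ### `U ∩ U^h = 1` -/

section key

variable {G : Type u} [Group G] [Finite G] {F : Type} [Field F]
variable {e : G → Fin 2 → F} {S P U V : Subgroup G}

/-- The hypotheses on `(S, P, U, V)`. -/
structure Hyp (e : G → Fin 2 → F) (S P U V : Subgroup G) : Prop where
  pS : IsPGroup 2 S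
  PV : P ≤ normalizer (V : Set G)
  SP : S ≤ P
  US : U ≤ S
  SU : S ≤ normalizer (U : Set G)
  DU : P ⊓ centralizer (V : Set G) ≤ normalizer (U : Set G)
  ab : U ≤ centralizer (U : Set G)
  one : e 1 = 0
  mul : ∀ v ∈ V, ∀ w ∈ V, e (v * w) = e v + e w
  inj : ∀ v ∈ V, e v = 0 → v = 1
  norm : ∀ g ∈ P, ∀ h ∈ P, ∀ A, Act e V h A → ∃ B, Act e V (g * h * g⁻¹) B
  up1 : ∀ u ∈ U, ∃ b, Act e V u (up b)
  up2 : ∀ b, ∃ u ∈ U, Act e V u (up b)
  fix : ∀ x ∈ U, (∀ s ∈ S, s * x = x * s) → x ∈ V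

namespace Hyp

variable (D : Hyp e S P U V)
include D

omit [Finite G] in
theorem mem_centralizer {g : G} (hg : g ∈ P) (h : Act e V g 1) : g ∈ centralizer (V : Set G) := by
  rw [mem_centralizer_iff]
  intro v hv
  have h1 : g * v * g⁻¹ ∈ V := (mem_normalizer_iff.mp (D.PV hg) v).mp hv
  have h2 : e (g * v * g⁻¹ * v⁻¹) = 0 := by
    have h3 := D.mul _ h1 _ (V.inv_mem hv)
    have h4 := D.mul v hv v⁻¹ (V.inv_mem hv)
    rw [mul_inv_cancel, D.one] at h4
    rw [h3, h v hv, ap_one, ← h4]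
  have h3 := D.inj _ (V.mul_mem h1 (V.inv_mem hv)) h2
  have h4 : g * v * g⁻¹ = v := mul_inv_eq_one.mp h3
  calc v * g = g * v * g⁻¹ * g := by rw [h4]
    _ = g * v := by group

omit [Finite G] in
theorem conj_le {g : G} (hg : g ∈ P) : MulAut.conj g • U ≤ P := by
  intro x hx
  rw [mem_conj] at hx
  have h1 := P.mul_mem (P.mul_mem hg (D.SP (D.US hx))) (P.inv_mem hg)
  have e1 : g * (g⁻¹ * x * g) * g⁻¹ = x := by group
  rwa [e1] at h1

omit [Finite G] in
theorem sup_le' {h : G} (hh : h ∈ P) : U ⊔ MulAut.conj h • U ≤ P :=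
  sup_le (D.US.trans D.SP) (D.conj_le hh)

omit [Finite G] in
/-- `⟨U, U^h⟩` induces `SL₂(F)` -/
theorem exists_act {h : G} (hh : h ∈ P) {A : Matrix.SpecialLinearGroup (Fin 2) F} (hA : Act e V h A)
    (hne : ent A 1 0 ≠ 0) (B : Matrix.SpecialLinearGroup (Fin 2) F) :
    ∃ k ∈ U ⊔ MulAut.conj h • U, Act e V k B := by
  have hV : ∀ k ∈ U ⊔ MulAut.conj h • U, k ∈ normalizer (V : Set G) := fun k hk => D.PV (D.sup_le' hh hk)
  let K : Subgroup (Matrix.SpecialLinearGroup (Fin 2) F) :=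
    { carrier := {x | ∃ k ∈ U ⊔ MulAut.conj h • U, Act e V k x}
      mul_mem' := by
        rintro x y ⟨k, hk, h1⟩ ⟨l, hl, h2⟩
        exact ⟨k * l, mul_mem hk hl, h1.mul h2 (hV l hl)⟩
      one_mem' := ⟨1, one_mem _, Act.one⟩
      inv_mem' := by
        rintro x ⟨k, hk, h1⟩
        exact ⟨k⁻¹, inv_mem hk, h1.inv (hV k hk)⟩ }
  have hu : ∀ b, up b ∈ K := fun b => by
    obtain ⟨u, hu, h1⟩ := D.up2 b
    exact ⟨u, le_sup_left (a := U) hu, h1⟩
  have hc : ∀ b, A * up b * A⁻¹ ∈ K := fun b => by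
    obtain ⟨u, hu, h1⟩ := D.up2 b
    have h2 : h * u * h⁻¹ ∈ MulAut.conj h • U := by
      rw [mem_conj]
      have e1 : h⁻¹ * (h * u * h⁻¹) * h = u := by group
      rwa [e1]
    refine ⟨h * u * h⁻¹, le_sup_right (a := U) h2, ?_⟩
    exact (hA.mul h1 (D.PV (D.SP (D.US hu)))).mul (hA.inv (D.PV hh)) (inv_mem (D.PV hh))
  exact mem_of_up hu hne hc B

omit [Finite G] in
theorem conj_eq {g k : G} (hg : g ∈ P) (hk : k ∈ P) {B : Matrix.SpecialLinearGroup (Fin 2) F}
    (h1 : Act e V g B) (h2 : Act e V k B) : MulAut.conj g • U = MulAut.conj k • U := by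
  have h3 : Act e V (k⁻¹ * g) 1 := by
    have := (h2.inv (D.PV hk)).mul h1 (D.PV hg)
    rwa [inv_mul_cancel] at this
  have h4 : k⁻¹ * g ∈ P := P.mul_mem (P.inv_mem hk) hg
  have h5 := conj_eq_of_mem (D.DU ⟨h4, D.mem_centralizer h4 h3⟩)
  calc MulAut.conj g • U = MulAut.conj (k * (k⁻¹ * g)) • U := by rw [mul_inv_cancel_left]
    _ = MulAut.conj k • U := by rw [← conj_conj, h5]

theorem inf_eq_bot {h : G} (hh : h ∈ P) {A : Matrix.SpecialLinearGroup (Fin 2) F}
    (hA : Act e V h A) (hne : ent A 1 0 ≠ 0) : U ⊓ MulAut.conj h • U = ⊥ := by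
  set T := U ⊓ MulAut.conj h • U with hT
  have hcen : ∀ t ∈ T, ∀ k ∈ U ⊔ MulAut.conj h • U, k * t = t * k := by
    intro t ht k hk
    have h1 : U ⊔ MulAut.conj h • U ≤ centralizer ({t} : Set G) := by
      refine sup_le (fun x hx => ?_) (fun x hx => ?_)
      · rw [mem_centralizer_iff]
        rintro _ rfl
        exact (mem_centralizer_iff.mp (D.ab (mem_inf.mp ht).1) x hx).symm
      · rw [mem_centralizer_iff]
        rintro _ rfl
        exact (mem_centralizer_iff.mp (conj_le_centralizer (g := h) D.ab (mem_inf.mp ht).2) x hx).symm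
    exact (mem_centralizer_iff.mp (h1 hk) t rfl).symm
  let I : Set G := {g | g ∈ P ∧ ∃ B, Act e V g B}
  let T0 : Subgroup G := ⨅ g : I, MulAut.conj (g : G) • U
  have hTT0 : T ≤ T0 := by
    refine le_iInf fun g => ?_
    obtain ⟨g, hg, B, hB⟩ := g
    obtain ⟨k, hk, hkB⟩ := D.exists_act hh hA hne B
    change T ≤ MulAut.conj g • U
    rw [D.conj_eq hg (D.sup_le' hh hk) hB hkB]
    intro t ht
    rw [mem_conj]
    have e1 : k⁻¹ * t * k = t := by rw [mul_assoc, ← hcen t ht k hk, inv_mul_cancel_left]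
    rw [e1]
    exact (mem_inf.mp ht).1
  have hT0 : ∀ g ∈ P, ∀ B, Act e V g B → T0 ≤ MulAut.conj g • U := fun g hg B hB =>
    iInf_le (fun g : I => MulAut.conj (g : G) • U) ⟨g, hg, B, hB⟩
  have hT0U : T0 ≤ U := by
    have := hT0 1 P.one_mem 1 Act.one
    rwa [map_one, one_smul] at this
  have hST0 : ∀ s ∈ S, MulAut.conj s • T0 ≤ T0 := by
    intro s hs
    refine le_iInf fun g => ?_
    obtain ⟨g, hg, B, hB⟩ := g
    change MulAut.conj s • T0 ≤ MulAut.conj g • U
    obtain ⟨B', hB'⟩ := D.norm s⁻¹ (P.inv_mem (D.SP hs)) g hg B hB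
    have h1 : s⁻¹ * g * s⁻¹⁻¹ ∈ P :=
      P.mul_mem (P.mul_mem (P.inv_mem (D.SP hs)) hg) (P.inv_mem (P.inv_mem (D.SP hs)))
    have h2 := (conj_le_iff (g := s)).2 (hT0 _ h1 _ hB')
    refine h2.trans ?_
    rw [conj_conj]
    have e1 : s * (s⁻¹ * g * s⁻¹⁻¹) = g * s := by group
    rw [e1, ← conj_conj, conj_eq_of_mem (D.SU hs)]
  have hSN : S ≤ normalizer (T0 : Set G) := by
    intro s hs
    rw [mem_normalizer_iff]
    intro x
    constructor
    · intro hx
      apply hST0 s hs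
      rw [mem_conj]
      have e1 : s⁻¹ * (s * x * s⁻¹) * s = x := by group
      rwa [e1]
    · intro hx
      have h1 := hST0 s⁻¹ (S.inv_mem hs)
      apply h1
      rw [mem_conj, inv_inv]
      exact hx
  by_contra hne'
  have hT0ne : T0 ≠ ⊥ := fun h0 => hne' (le_bot_iff.1 (h0 ▸ hTT0))
  obtain ⟨x, hx, hx1, hxS⟩ := NoFF.LinesPlug.exists_fixed D.pS (hT0U.trans D.US) hSN hT0ne
  have hxU := hT0U hx
  have hxV := D.fix x hxU hxS
  have hxT : x ∈ T := mem_inf.mpr ⟨hxU, hT0 h hh A hA hx⟩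
  -- `x` is fixed by `SL₂(F)`
  have hfix : ∀ B : Matrix.SpecialLinearGroup (Fin 2) F, ap B (e x) = e x := by
    intro B
    obtain ⟨k, hk, hkB⟩ := D.exists_act hh hA hne B
    rw [← hkB x hxV, hcen x hxT k hk, mul_inv_cancel_right]
  have h1 : e x 1 = 0 := by
    have h2 := congrFun (hfix (up 1)) 0
    rw [ap_up_0, one_mul] at h2
    exact left_eq_add.mp h2.symm
  have h0 : e x 0 = 0 := by
    have h2 := congrFun (hfix (lo 1)) 1
    rw [ap_lo_1, one_mul] at h2
    exact right_eq_add.mp h2.symm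
  refine hx1 (D.inj x hxV ?_)
  funext i
  fin_cases i
  · exact h0
  · exact h1

end Hyp

end key

/-! ### The socket -/

section main

variable {G : Type u} [Group G] [Finite G] {F : Type} [Field F]

theorem false_of (hc : IsCharacteristicTwoType G) (S : Sylow 2 G) (D : DataZ (S : Subgroup G))
    {P H : Subgroup G} (E : Exact (S : Subgroup G) P H)
    (M : NatK F (S : Subgroup G) P (zl (S : Subgroup G) P) (cv (S : Subgroup G) P) 1) : False := by
  set U := zl (S : Subgroup G) H with hU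
  set V := zl (S : Subgroup G) P with hV
  have hcv : cv (S : Subgroup G) P = ⊥ := D.cv_eq hc E.par
  have hUS : U ≤ (S : Subgroup G) := by
    intro x hx
    exact E.long.loc.o2_le S (mem_zc.mp (E.long.loc.zl_le S hc hx)).1
  have hVa : ∀ x ∈ V, ∀ y ∈ V, x * y = y * x := by
    intro x hx y hy
    have h1 := E.par.isLoc.zl_le S hc
    exact (mem_zc.mp (h1 hy)).2.1 x (mem_zc.mp (h1 hx)).1
  have he1 : M.e 1 0 = 0 := by
    have h1 := (M.ker 1 V.one_mem).2 (Subgroup.one_mem _)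
    rw [h1]; rfl
  -- `U` induces the full root group
  obtain ⟨I, h1, h2⟩ := M.off U hUS E.off
  have hI : ∀ i, i ∈ I := by
    intro i
    by_contra hi
    apply E.off.ne
    intro u hu
    obtain ⟨b, hb, hub⟩ := h1 u hu
    have hb0 : ∀ j, b j = 0 := fun j => hb j (by rwa [Subsingleton.elim j i])
    rw [mem_centralizer_iff]
    intro v hv
    have hn : u * v * u⁻¹ ∈ V :=
      (mem_normalizer_iff.mp (le_normalizer_zl _ _ (E.par.le (hUS hu))) v).mp hv
    have h3 : M.e (u * v * u⁻¹ * v⁻¹) = 0 := by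
      have h4 := M.mul _ hn _ (V.inv_mem hv)
      have h5 := M.mul v hv v⁻¹ (V.inv_mem hv)
      rw [mul_inv_cancel, (M.ker 1 V.one_mem).2 (Subgroup.one_mem _)] at h5
      have h6 : M.e (u * v * u⁻¹) = M.e v := by
        funext j
        rw [hub.1 v hv j]
        change ap (up (b j)) _ = _
        rw [hb0 j, up_zero, ap_one]
      rw [h4, h6, ← h5]
    have h4 := (M.ker _ (V.mul_mem hn (V.inv_mem hv))).1 h3
    rw [hcv, mem_bot] at h4
    have h5 : u * v * u⁻¹ = v := mul_inv_eq_one.mp h4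
    calc v * u = u * v * u⁻¹ * u := by rw [h5]
      _ = u * v := by group
  have hyp : Hyp (fun g => M.e g 0) (S : Subgroup G) P U V :=
    { pS := S.isPGroup'
      PV := le_normalizer_zl _ _
      SP := E.par.le
      US := hUS
      SU := E.long.loc.le.trans (le_normalizer_zl _ _)
      DU := by
        refine inf_le_right.trans ((centralizer_le ?_).trans (E.long.cz.trans (le_normalizer_zl _ _)))
        exact zc_le_zl _ _
      ab := (zl_abel hc S E.long.loc).1
      one := he1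
      mul := fun v hv w hw => by
        rw [M.mul v hv w hw]; rfl
      inj := fun v hv h0 => by
        have h3 := (M.ker v hv).1 (by
          funext i
          rw [Subsingleton.elim i 0]
          exact h0)
        rwa [hcv, mem_bot] at h3
      norm := fun g hg h hh A hA => by
        obtain ⟨B, hB⟩ := M.norm g hg h hh (fun _ => A) fun v hv i => by
          rw [Subsingleton.elim i 0]
          exact hA v hv
        exact ⟨B 0, fun v hv => hB v hv 0⟩
      up1 := fun u hu => by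
        obtain ⟨b, _, hb⟩ := h1 u hu
        exact ⟨b 0, fun v hv => hb.1 v hv 0⟩
      up2 := fun b => by
        obtain ⟨u, hu, hb⟩ := h2 (fun _ => b) fun i hi => absurd (hI i) hi
        exact ⟨u, hu, fun v hv => hb.1 v hv 0⟩
      fix := fun x hx hxS => by
        refine zc_le_zl _ _ (mem_zc.mpr ⟨hUS hx, hxS, ?_⟩)
        exact (zl_abel hc S E.long.loc).2 x hx }
  -- the product of the lines on `Z` in `H`
  set W := zc (S : Subgroup G) ⊔
    NoFF.Lines.W (zc (S : Subgroup G)) (CZ (S : Subgroup G)) {P | IsParS (S : Subgroup G) P ∧ P ≤ H} with hW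
  have hZV : zc (S : Subgroup G) ≤ V := zc_le_zl _ _
  have hCH := E.long.cz
  have hWP : W ≤ centralizer (V : Set G) := by
    refine sup_le (fun x hx => ?_) ?_
    · rw [mem_centralizer_iff]
      exact fun y hy => hVa y hy x (hZV hx)
    · have h3 : NoFF.Lines.W (zc (S : Subgroup G)) (CZ (S : Subgroup G))
          {P | IsParS (S : Subgroup G) P ∧ P ≤ H} ≤ WP (S : Subgroup G) :=
        NoFF.Lines.W_le fun P' hP' c hcc => line_le_WP hP'.1 hcc
      have h4 : WP (S : Subgroup G) ≤ centralizer (WP (S : Subgroup G) : Set G) :=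
        (Basic.geo hc D.toData).W_comm
      exact (h3.trans h4).trans (centralizer_le (zl_le_WP E.par))
  apply E.ne
  rw [le_centralizer_iff]
  refine clo_frame hc S E.long.loc hCH (W := W) le_sup_left (sup_le (zc_le_zl _ _) ?_) ?_ ?_ hZV
    (hUS.trans (E.par.le.trans (le_normalizer_zl _ _))) hWP ?_
  · refine NoFF.Lines.W_le fun P' hP' c hcc => ?_
    have h3 : zl (S : Subgroup G) P' ≤ zl (S : Subgroup G) H :=
      zl_le (zc_le_zl _ _) (hP'.2.trans (le_normalizer_zl _ _))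
    have h4 := (conj_le_iff (g := c)).2 h3
    rwa [conj_eq_of_mem (le_normalizer_zl _ _ (hCH hcc))] at h4
  · intro c hcc
    apply mem_normalizer_of_conj_eq
    rw [hW, Subgroup.smul_sup, NoFF.Lines.W_conj hcc, conj_eq_of_mem (centralizer_le_normalizer _ hcc)]
  · intro P' hP' hP'H
    have h3 := NoFF.Lines.line_le (Z := zc (S : Subgroup G)) (C := CZ (S : Subgroup G))
      (F := {P | IsParS (S : Subgroup G) P ∧ P ≤ H}) ⟨hP', hP'H⟩ (one_mem _)
    rw [map_one, one_smul] at h3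
    exact h3.trans le_sup_right
  · intro u hu huV
    obtain ⟨w, hw, hwA⟩ := M.lift fun _ => wm 1 one_ne_zero
    have hwA' : Act (fun g => M.e g 0) V w (wm 1 one_ne_zero) := fun v hv => hwA.1 v hv 0
    have hwV : MulAut.conj w • V = V := conj_eq_of_mem (le_normalizer_zl _ _ hw)
    obtain ⟨b, hb⟩ := hyp.up1 u hu
    have hb0 : b ≠ 0 := by
      rintro rfl
      rw [up_zero] at hb
      exact huV (hyp.mem_centralizer (hyp.SP (hUS hu)) hb)
    have huP : u ∈ P := hyp.SP (hUS hu)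
    refine ⟨w, ?_, ?_, ?_, ?_⟩
    · have h3 := (conj_le_iff (g := w)).2 hZV
      rwa [hwV] at h3
    · have hx : w⁻¹ * u * w ∈ P := P.mul_mem (P.mul_mem (P.inv_mem hw) huP) hw
      have hxA := ((hwA'.inv (hyp.PV hw)).mul hb (hyp.PV huP)).mul hwA' (hyp.PV hw)
      have hne : ent ((wm (1 : F) one_ne_zero)⁻¹ * up b * wm 1 one_ne_zero) 1 0 ≠ 0 := by
        rw [ent_mul, ent_mul, ent_mul]
        simp only [ent_inv, up_00, up_01, up_10, up_11, wm_00, wm_01, wm_10, wm_11]
        simpa using hb0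
      have h3 := hyp.inf_eq_bot hx hxA hne
      have h4 : MulAut.conj w • U ⊓ MulAut.conj (u * w) • U = ⊥ := by
        have e1 : MulAut.conj (u * w) • U = MulAut.conj w • MulAut.conj (w⁻¹ * u * w) • U := by
          rw [conj_conj]
          congr 2
          group
        rw [e1, ← Subgroup.smul_inf, h3, Subgroup.smul_bot]
      rw [h4, bot_inf_eq]
    · rw [hyp.inf_eq_bot hw hwA' (by rw [wm_10, inv_one]; exact neg_ne_zero.2 one_ne_zero), bot_inf_eq]
    · refine le_of_eq ?_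
      have h3 : MulAut.conj w • (U ⊓ centralizer (V : Set G)) =
          MulAut.conj w • U ⊓ centralizer (V : Set G) := by
        rw [Subgroup.smul_inf, NOThreeL.ThmT.conj_centralizer_eq (hyp.PV hw)]
      rw [← h3, NOThreeL.ThmT.card_conj]

/-- **A1** (`F` arbitrary). -/
theorem a1 (K : Cls.{u}) : Main.A1 K := by
  intro G _ _ hG _ S _ D P H E F _ _ _ M
  exact (false_of hG.char2 S D E M).elim

end main

end Cfsg.Agent.Omega.NOThreeL.AOne

end

section


/-!
# NO-3L, leaf A3: `V_P` of type `S_{2^m+1}^k`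

`M : SymK S P V ⊥ k m`.

* `exists_perm`, `odd_pow` : a `2^m`-cycle of the nonzero points, odd powers;
* `const` : `Z = Ω₁(Z(S))` is constant on the nonzero points of every component;
* `false_of` : a transposition induced by an abelian group normalised by `C_P(Z)` is impossible;
* `a3` : the leaf A3.
-/

set_option autoImplicit false

namespace Cfsg.Agent.Omega.NOThreeL.AThree

open Subgroup Cfsg Cfsg.Agent.ZN Cfsg.Agent.Omega.MinPar Cfsg.Agent.Omega.Frame Cfsg.Agent.Omega.FrameNOFF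
open Cfsg.Agent.ZN.ChoiceBase Cfsg.Agent.ZN.ChoiceSit
open Cfsg.Agent.Omega.Node.NO3L Cfsg.Agent.Omega.NOThreeL.Basic
open Cfsg.Agent.Omega.FFThm (Off SymK ActsSym)
open Cfsg.Agent.MinSimple.VModule (le_normalizer_zl)

universe u

/-! ### Permutations -/

theorem exists_perm {n : ℕ} (hn : 0 < n) : ∃ π : Equiv.Perm (Fin (n + 1)),
    π 0 = 0 ∧ π ^ n = 1 ∧ ∀ x y, x ≠ 0 → y ≠ 0 → ∃ j : ℕ, (π ^ j) x = y := by
  obtain ⟨N, rfl⟩ : ∃ N, n = N + 1 := ⟨n - 1, by omega⟩
  let π : Equiv.Perm (Fin (N + 1 + 1)) := Equiv.Perm.decomposeFin.symm (0, finRotate (N + 1))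
  have h0 : π 0 = 0 := Equiv.Perm.decomposeFin_symm_apply_zero 0 _
  have h1 : ∀ x : Fin (N + 1), π x.succ = (x + 1).succ := by
    intro x
    have := Equiv.Perm.decomposeFin_symm_apply_succ (finRotate (N + 1)) 0 x
    rw [Equiv.swap_self, Equiv.refl_apply, finRotate_apply] at this
    exact this
  have h3 : ∀ j : ℕ, Fin.ofNat (N + 1) (j + 1) = Fin.ofNat (N + 1) j + 1 := by
    intro j
    ext
    simp [Fin.ofNat, Fin.val_add, Nat.add_mod]
  have h2 : ∀ (j : ℕ) (x : Fin (N + 1)), (π ^ j) x.succ = (x + Fin.ofNat (N + 1) j).succ := by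
    intro j
    induction j with
    | zero => intro x; simp
    | succ j ih =>
      intro x
      rw [pow_succ', Equiv.Perm.mul_apply, ih, h1, h3]
      exact congrArg Fin.succ (add_assoc x _ 1)
  refine ⟨π, h0, ?_, ?_⟩
  · ext x : 1
    induction x using Fin.cases with
    | zero =>
      have : ∀ j : ℕ, (π ^ j) 0 = 0 := by
        intro j
        induction j with
        | zero => rfl
        | succ j ih => rw [pow_succ', Equiv.Perm.mul_apply, ih, h0]
      rw [this]; rfl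
    | succ x =>
      rw [h2]
      have : Fin.ofNat (N + 1) (N + 1) = 0 := by ext; simp [Fin.ofNat]
      rw [this, add_zero]; rfl
  · intro x y hx hy
    obtain ⟨x, rfl⟩ := Fin.exists_succ_eq.2 hx
    obtain ⟨y, rfl⟩ := Fin.exists_succ_eq.2 hy
    refine ⟨(y - x : Fin (N + 1)).val, ?_⟩
    have h4 : Fin.ofNat (N + 1) (y - x : Fin (N + 1)).val = y - x := by
      ext
      simp [Fin.ofNat, Nat.mod_eq_of_lt (y - x).2]
    rw [h2, h4]
    congr 1
    abel

/-- A function invariant under an odd power of a 2-element is invariant. -/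
theorem odd_pow {α β : Type*} {π : Equiv.Perm α} {a r : ℕ} (ha : π ^ 2 ^ a = 1) (hr : Odd r) {f : α → β}
    (hf : ∀ x, f ((π ^ r) x) = f x) (x : α) : f (π x) = f x := by
  have h1 : r.Coprime (orderOf π) :=
    (Nat.Coprime.pow_right a (Nat.coprime_two_right.2 hr)).coprime_dvd_right (orderOf_dvd_of_pow_eq_one ha)
  obtain ⟨s, hs⟩ := exists_pow_eq_self_of_coprime h1
  have h2 : ∀ (s : ℕ) (x : α), f (((π ^ r) ^ s) x) = f x := by
    intro s
    induction s with
    | zero => intro x; rfl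
    | succ s ih => intro x; rw [pow_succ', Equiv.Perm.mul_apply, hf, ih]
  have h3 := h2 s x
  rwa [hs] at h3

theorem ai {α : Type*} (f : Equiv.Perm α) (x : α) : f (f⁻¹ x) = x := f.apply_symm_apply x

theorem ia {α : Type*} (f : Equiv.Perm α) (x : α) : f⁻¹ (f x) = x := f.symm_apply_apply x

variable {G : Type u} [Group G]

/-! ### Actions -/

theorem acts_mul {k n : ℕ} {e : G → Fin k → Fin n → ZMod 2} {V : Subgroup G} {g h : G}
    {τ τ' : Fin k → Equiv.Perm (Fin n)} (hh : h ∈ normalizer (V : Set G)) (h1 : ActsSym e V g 1 τ)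
    (h2 : ActsSym e V h 1 τ') : ActsSym e V (g * h) 1 (τ * τ') := by
  intro v hv i x
  have e1 : g * h * v * (g * h)⁻¹ = g * (h * v * h⁻¹) * g⁻¹ := by group
  rw [e1, ← h2 v hv i x]
  exact h1 _ ((mem_normalizer_iff.1 hh v).1 hv) i (τ' i x)

theorem acts_inv {k n : ℕ} {e : G → Fin k → Fin n → ZMod 2} {V : Subgroup G} {g : G}
    {τ : Fin k → Equiv.Perm (Fin n)} (hg : g ∈ normalizer (V : Set G)) (h1 : ActsSym e V g 1 τ) :
    ActsSym e V g⁻¹ 1 τ⁻¹ := by
  intro v hv i x
  have h2 : g⁻¹ * v * g⁻¹⁻¹ ∈ V := (mem_normalizer_iff.1 (inv_mem hg) v).1 hv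
  have h3 := h1 _ h2 i (τ⁻¹ i x)
  have e1 : g * (g⁻¹ * v * g⁻¹⁻¹) * g⁻¹ = v := by group
  rw [e1] at h3
  have e2 : τ i (τ⁻¹ i x) = x := ai (τ i) x
  rw [e2] at h3
  exact h3.symm

theorem acts_pow {k n : ℕ} {e : G → Fin k → Fin n → ZMod 2} {V : Subgroup G} {g : G}
    {τ : Fin k → Equiv.Perm (Fin n)} (hg : g ∈ normalizer (V : Set G)) (h : ActsSym e V g 1 τ) (r : ℕ) :
    ActsSym e V (g ^ r) 1 (τ ^ r) := by
  induction r with
  | zero =>
    intro v _ i x
    have e1 : g ^ 0 * v * (g ^ 0)⁻¹ = v := by simp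
    rw [e1]; rfl
  | succ r ih =>
    rw [pow_succ' g, pow_succ' τ]
    exact acts_mul (pow_mem hg r) h ih

theorem e_one {T P V : Subgroup G} {k m : ℕ} (M : SymK T P V ⊥ k m) : M.e 1 = 0 :=
  (M.ker 1 V.one_mem).2 (one_mem _)

theorem e_inj {T P V : Subgroup G} {k m : ℕ} (M : SymK T P V ⊥ k m) {v w : G} (hv : v ∈ V) (hw : w ∈ V)
    (he : M.e v = M.e w) : v = w := by
  have h1 : M.e (v * w⁻¹) = 0 := by
    have h2 := M.mul (v * w⁻¹) (mul_mem hv (inv_mem hw)) w hw
    rw [inv_mul_cancel_right, he] at h2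
    exact right_eq_add.mp h2
  have h4 := (M.ker _ (mul_mem hv (inv_mem hw))).1 h1
  rw [mem_bot, mul_inv_eq_one] at h4
  exact h4

theorem exists_ne {m : ℕ} (hm : 2 ≤ m) (x y : Fin (2 ^ m + 1)) : ∃ w, w ≠ 0 ∧ w ≠ x ∧ w ≠ y := by
  have h1 : ({0, x, y} : Finset (Fin (2 ^ m + 1))).card < Fintype.card (Fin (2 ^ m + 1)) := by
    have h2 : ({0, x, y} : Finset (Fin (2 ^ m + 1))).card ≤ 3 := Finset.card_le_three
    have h3 : 2 ^ 2 ≤ 2 ^ m := Nat.pow_le_pow_right (by norm_num) hm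
    rw [Fintype.card_fin]
    omega
  obtain ⟨w, hw⟩ := Finset.exists_mem_notMem_of_card_lt_card (s := {0, x, y}) (t := Finset.univ) (by
    rwa [Finset.card_univ])
  have h2 := hw.2
  simp only [Finset.mem_insert, Finset.mem_singleton, not_or] at h2
  exact ⟨w, h2⟩

section fin

variable [Finite G]

/-- **`Z` is constant on the nonzero points.** -/
theorem const (S : Sylow 2 G) {P V : Subgroup G} {k m : ℕ} (hm : 1 ≤ m) (hSP : (S : Subgroup G) ≤ P)
    (hPV : P ≤ normalizer (V : Set G)) (M : SymK (S : Subgroup G) P V ⊥ k m) {z : G} (hzV : z ∈ V)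
    (hz : ∀ s ∈ (S : Subgroup G), s * z = z * s) (i : Fin k) {x y : Fin (2 ^ m + 1)} (hx : x ≠ 0)
    (hy : y ≠ 0) : M.e z i x = M.e z i y := by
  classical
  have hN : ∀ {g : G}, g ∈ P → ∀ v ∈ V, g * v * g⁻¹ ∈ V := fun hg v hv =>
    (mem_normalizer_iff.1 (hPV hg) v).1 hv
  have h2m : 0 < 2 ^ m := by positivity
  obtain ⟨π, hπ0, hπn, hπ⟩ := exists_perm h2m
  obtain ⟨g, hg, hact, -⟩ := M.lift (Function.update 1 i π)
  -- the 2-part
  obtain ⟨a, r, hr, ho⟩ := Nat.exists_eq_two_pow_mul_odd (n := orderOf g) (orderOf_pos g).ne'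
  have hp : IsPGroup 2 (zpowers (g ^ r)) := by
    rintro ⟨u, hu⟩
    obtain ⟨j, rfl⟩ := mem_zpowers_iff.1 hu
    refine ⟨a, Subtype.ext ?_⟩
    have h1 : (g ^ r) ^ 2 ^ a = 1 := by
      rw [← pow_mul, mul_comm, ← ho, pow_orderOf_eq_one]
    change ((g ^ r) ^ j) ^ 2 ^ a = 1
    rw [← zpow_natCast, ← zpow_mul, mul_comm, zpow_mul, zpow_natCast, h1, one_zpow]
  obtain ⟨n, hn, hnS⟩ := FFThm.exists_conj_le S hSP hp (zpowers_le.2 (pow_mem hg r))
  have hS : n * g ^ r * n⁻¹ ∈ (S : Subgroup G) := hnS (by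
    rw [mem_cj]
    have : n⁻¹ * (n * g ^ r * n⁻¹) * n = g ^ r := by group
    rw [this]
    exact mem_zpowers _)
  have hgr := acts_pow (hPV hg) hact r
  obtain ⟨σ, τ, hστ⟩ := M.perm n hn
  -- the action of `n g^r n⁻¹`
  have hconj : ActsSym M.e V (n * g ^ r * n⁻¹) 1
      (fun l => τ (σ⁻¹ l) * ((Function.update 1 i π : Fin k → Equiv.Perm (Fin (2 ^ m + 1))) ^ r) (σ⁻¹ l) *
        (τ (σ⁻¹ l))⁻¹) := by
    intro v hv l u
    obtain ⟨j, rfl⟩ := σ.surjective l
    obtain ⟨u, rfl⟩ := (τ j).surjective u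
    have hw : n⁻¹ * v * n ∈ V := by
      have := (mem_normalizer_iff.1 (inv_mem (hPV hn)) v).1 hv
      rwa [inv_inv] at this
    have e1 : n * g ^ r * n⁻¹ * v * (n * g ^ r * n⁻¹)⁻¹ = n * (g ^ r * (n⁻¹ * v * n) * (g ^ r)⁻¹) * n⁻¹ := by
      group
    have e2 : n * (n⁻¹ * v * n) * n⁻¹ = v := by group
    have h3 := hστ _ (hN (pow_mem hg r) _ hw) j
      (((Function.update 1 i π : Fin k → Equiv.Perm (Fin (2 ^ m + 1))) ^ r) j u)
    have h4 := hgr _ hw j u
    have h5 := hστ _ hw j u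
    rw [e2] at h5
    rw [e1]
    simp only [Equiv.Perm.one_apply, ia, Equiv.Perm.mul_apply] at h3 h4 h5 ⊢
    rw [h3, h4, h5]
  have hfix := M.fix0 _ hS _ _ hconj (σ i)
  simp only [ia, Equiv.Perm.mul_apply, Pi.pow_apply, Function.update_self] at hfix
  -- `τ i` fixes `0`
  have hπr : (π ^ r) ((τ i)⁻¹ 0) = (τ i)⁻¹ 0 := by
    have := congrArg (⇑(τ i)⁻¹) hfix
    rwa [ia] at this
  have hτ0 : (τ i)⁻¹ 0 = 0 := by
    by_contra hne
    have h1 : π ((τ i)⁻¹ 0) = (τ i)⁻¹ 0 := by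
      have := odd_pow hπn hr (f := fun x => x = (τ i)⁻¹ 0) (fun x => by
        apply propext
        constructor
        · intro h
          rw [← hπr] at h
          exact (π ^ r).injective h
        · rintro rfl
          exact hπr) ((τ i)⁻¹ 0)
      simpa using this
    have h2 : ∀ j : ℕ, (π ^ j) ((τ i)⁻¹ 0) = (τ i)⁻¹ 0 := by
      intro j
      induction j with
      | zero => rfl
      | succ j ih => rw [pow_succ', Equiv.Perm.mul_apply, ih, h1]
    have h3 : ∀ y : Fin (2 ^ m + 1), y ≠ 0 → y = (τ i)⁻¹ 0 := by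
      intro y hy
      obtain ⟨j, hj⟩ := hπ _ y hne hy
      rw [← hj, h2]
    have h4 : 2 ^ 1 ≤ 2 ^ m := Nat.pow_le_pow_right (by norm_num) hm
    have h5 : (⟨1, by omega⟩ : Fin (2 ^ m + 1)) = ⟨2, by omega⟩ := by
      rw [h3 ⟨1, by omega⟩ (by simp [Fin.ext_iff]), ← h3 ⟨2, by omega⟩ (by simp [Fin.ext_iff])]
    simp [Fin.ext_iff] at h5
  -- `w = n⁻¹ z n`
  have hw : n⁻¹ * z * n ∈ V := by
    have := (mem_normalizer_iff.1 (inv_mem (hPV hn)) z).1 hzV
    rwa [inv_inv] at this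
  have hwfix : g ^ r * (n⁻¹ * z * n) * (g ^ r)⁻¹ = n⁻¹ * z * n := by
    have h1 := hz _ hS
    have e1 : g ^ r * (n⁻¹ * z * n) * (g ^ r)⁻¹ =
        n⁻¹ * ((n * g ^ r * n⁻¹) * z) * (n * g ^ r * n⁻¹)⁻¹ * n := by group
    rw [e1, h1]
    group
  have hwc : ∀ x y : Fin (2 ^ m + 1), x ≠ 0 → y ≠ 0 →
      M.e (n⁻¹ * z * n) i x = M.e (n⁻¹ * z * n) i y := by
    have h1 : ∀ x, M.e (n⁻¹ * z * n) i ((π ^ r) x) = M.e (n⁻¹ * z * n) i x := by
      intro x
      have h2 := hgr _ hw i x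
      rw [hwfix] at h2
      simpa using h2
    have h2 : ∀ x, M.e (n⁻¹ * z * n) i (π x) = M.e (n⁻¹ * z * n) i x := odd_pow hπn hr h1
    intro x y hx hy
    obtain ⟨j, rfl⟩ := hπ x y hx hy
    clear hy
    induction j with
    | zero => rfl
    | succ j ih => rw [pow_succ', Equiv.Perm.mul_apply, h2, ih]
  have hzc : ∀ x y : Fin (2 ^ m + 1), x ≠ 0 → y ≠ 0 → M.e z (σ i) x = M.e z (σ i) y := by
    have h1 : ∀ x, M.e z (σ i) (τ i x) = M.e (n⁻¹ * z * n) i x := by
      intro x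
      have h2 := hστ _ hw i x
      have e2 : n * (n⁻¹ * z * n) * n⁻¹ = z := by group
      rwa [e2] at h2
    have h0 : τ i 0 = 0 := by
      have := congrArg (τ i) hτ0
      rw [ai] at this
      exact this.symm
    intro x y hx hy
    obtain ⟨x, rfl⟩ := (τ i).surjective x
    obtain ⟨y, rfl⟩ := (τ i).surjective y
    rw [h1, h1]
    exact hwc x y (fun h => hx (by rw [h, h0])) fun h => hy (by rw [h, h0])
  obtain ⟨t, ht, σ', τ', hact', hσ'⟩ := M.trans i (σ i)
  have h1 : ∀ x, M.e z (σ i) (τ' i x) = M.e z i x := by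
    intro x
    have h2 := hact' z hzV i x
    have e2 : t * z * t⁻¹ = z := by rw [hz t ht]; group
    rwa [e2, hσ'] at h2
  have h0 : τ' i 0 = 0 := M.fix0 t ht σ' τ' hact' i
  rw [← h1, ← h1]
  exact hzc _ _ (fun h => hx ((τ' i).injective (h.trans h0.symm))) fun h =>
    hy ((τ' i).injective (h.trans h0.symm))

/-- **No transposition is induced by an abelian group normalised by `C_P(Z)`.** -/
theorem false_of (S : Sylow 2 G) {P V Z A : Subgroup G} {k m : ℕ} (hm : 2 ≤ m)
    (hSP : (S : Subgroup G) ≤ P) (hPV : P ≤ normalizer (V : Set G)) (M : SymK (S : Subgroup G) P V ⊥ k m)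
    (hZV : Z ≤ V) (hZ : ∀ s ∈ (S : Subgroup G), ∀ z ∈ Z, s * z = z * s) (hAS : A ≤ (S : Subgroup G))
    (hA : ∀ a ∈ A, ∀ b ∈ A, a * b = b * a) (hn : ∀ g ∈ P, (∀ z ∈ Z, g * z = z * g) → g ∈ normalizer (A : Set G))
    {i : Fin k} {x y : Fin (2 ^ m + 1)} (hxy : x ≠ y) {b : G} (hb : b ∈ A)
    (hact : ActsSym M.e V b 1 (Function.update 1 i (Equiv.swap x y))) : False := by
  classical
  have hN : ∀ {g : G}, g ∈ P → ∀ v ∈ V, g * v * g⁻¹ ∈ V := fun hg v hv =>
    (mem_normalizer_iff.1 (hPV hg) v).1 hv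
  have hf := M.fix0 b (hAS hb) _ _ hact i
  rw [Function.update_self] at hf
  have hx : x ≠ 0 := by
    rintro rfl
    rw [Equiv.swap_apply_left] at hf
    exact hxy hf.symm
  have hy : y ≠ 0 := by
    rintro rfl
    rw [Equiv.swap_apply_right] at hf
    exact hxy hf
  obtain ⟨w, hw0, hwx, hwy⟩ := exists_ne hm x y
  obtain ⟨g, hg, hgact, -⟩ := M.lift (Function.update 1 i (Equiv.swap y w))
  -- `g` centralises `Z`
  have hgZ : ∀ z ∈ Z, g * z = z * g := by
    intro z hz
    have hzV := hZV hz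
    have hc := fun (j : Fin k) {x y : Fin (2 ^ m + 1)} => const S (by omega) hSP hPV M hzV
      (fun s hs => hZ s hs z hz) j (x := x) (y := y)
    have h1 : g * z * g⁻¹ = z := by
      refine e_inj M (hN hg z hzV) hzV ?_
      funext j u
      by_cases hj : j = i
      · subst hj
        have h2 := hgact z hzV j (Equiv.swap y w u)
        rw [Function.update_self, Equiv.swap_apply_self] at h2
        simp only [Equiv.Perm.one_apply] at h2
        rw [h2]
        by_cases h3 : u = y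
        · rw [h3, Equiv.swap_apply_left]
          exact hc j hw0 hy
        · by_cases h4 : u = w
          · rw [h4, Equiv.swap_apply_right]
            exact hc j hy hw0
          · rw [Equiv.swap_apply_of_ne_of_ne h3 h4]
      · have h2 := hgact z hzV j u
        rw [Function.update_of_ne hj] at h2
        simpa using h2
    calc g * z = g * z * g⁻¹ * g := by group
      _ = z * g := by rw [h1]
  have hb' : g * b * g⁻¹ ∈ A := (mem_normalizer_iff.1 (hn g hg hgZ) b).1 hb
  have hbP : b ∈ P := hSP (hAS hb)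
  have hact' := acts_mul (inv_mem (hPV hg)) (acts_mul (hPV hbP) hgact hact) (acts_inv (hPV hg) hgact)
  set b' := g * b * g⁻¹ with hbdef
  have hb'P : b' ∈ P := mul_mem (mul_mem hg hbP) (inv_mem hg)
  have hτ : ∀ u, (((Function.update 1 i (Equiv.swap y w) : Fin k → Equiv.Perm (Fin (2 ^ m + 1))) *
      (Function.update 1 i (Equiv.swap x y) : Fin k → Equiv.Perm (Fin (2 ^ m + 1))) *
      (Function.update 1 i (Equiv.swap y w) : Fin k → Equiv.Perm (Fin (2 ^ m + 1)))⁻¹) i) u =
      Equiv.swap y w (Equiv.swap x y (Equiv.swap y w u)) := by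
    intro u
    simp [Pi.mul_apply, Pi.inv_apply, Equiv.Perm.mul_apply]
  -- a vector
  obtain ⟨v, hv, hve⟩ := M.surj (Function.update 0 i (fun u => if u = x ∨ u = 0 then 1 else 0)) (by
    intro j
    by_cases hj : j = i
    · subst hj
      rw [Function.update_self]
      have h1 : ∀ u : Fin (2 ^ m + 1), (if u = x ∨ u = 0 then (1 : ZMod 2) else 0) =
          (if u = x then 1 else 0) + if u = 0 then 1 else 0 := by
        intro u
        by_cases h2 : u = x
        · have : u ≠ 0 := h2 ▸ hx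
          simp [h2, hx]
        · simp [h2]
      rw [Finset.sum_congr rfl fun u _ => h1 u, Finset.sum_add_distrib]
      simp only [Finset.sum_ite_eq', Finset.mem_univ, if_true]
      exact CharTwo.add_self_eq_zero _
    · rw [Function.update_of_ne hj]
      simp)
  have hvi : ∀ u, M.e v i u = if u = x ∨ u = 0 then 1 else 0 := fun u => by rw [hve, Function.update_self]
  -- `b`
  have kb : ∀ v ∈ V, ∀ u, M.e (b * v * b⁻¹) i (Equiv.swap x y u) = M.e v i u := by
    intro v hv u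
    have := hact v hv i u
    rwa [Function.update_self] at this
  have kb' : ∀ v ∈ V, ∀ u, M.e (b' * v * b'⁻¹) i (Equiv.swap y w (Equiv.swap x y (Equiv.swap y w u))) =
      M.e v i u := by
    intro v hv u
    have := hact' v hv i u
    rwa [hτ] at this
  have e1 : M.e (b' * (b * v * b⁻¹) * b'⁻¹) i y = 1 := by
    have h1 := kb' _ (hN hbP v hv) y
    rw [Equiv.swap_apply_left, Equiv.swap_apply_of_ne_of_ne hwx hwy, Equiv.swap_apply_right] at h1
    rw [h1]
    have h2 := kb v hv x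
    rw [Equiv.swap_apply_left] at h2
    rw [h2, hvi]
    simp
  have e2 : M.e (b * (b' * v * b'⁻¹) * b⁻¹) i y = 0 := by
    have h1 := kb _ (hN hb'P v hv) x
    rw [Equiv.swap_apply_left] at h1
    rw [h1]
    have h2 := kb' v hv w
    rw [Equiv.swap_apply_right, Equiv.swap_apply_right, Equiv.swap_apply_of_ne_of_ne hxy hwx.symm] at h2
    rw [h2, hvi]
    simp [hwx, hw0]
  have e3 : b' * (b * v * b⁻¹) * b'⁻¹ = b * (b' * v * b'⁻¹) * b⁻¹ := by
    have h1 := hA b' hb' b hb
    calc b' * (b * v * b⁻¹) * b'⁻¹ = (b' * b) * v * (b' * b)⁻¹ := by group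
      _ = (b * b') * v * (b * b')⁻¹ := by rw [h1]
      _ = b * (b' * v * b'⁻¹) * b⁻¹ := by group
  rw [e3, e2] at e1
  exact zero_ne_one e1

end fin

/-- **The leaf A3.** -/
theorem a3 (K : Cls.{u}) : Main.A3 K := by
  intro G _ _ hG _ S hF D P H hE k m _ hm M
  exfalso
  have hcv : FrameFF.cv (S : Subgroup G) P = ⊥ := D.cv_eq hG.char2 hE.par
  rw [hcv] at M
  have hAS : zl (S : Subgroup G) H ≤ (S : Subgroup G) := IsLong.zl_le_S hG.char2 hE.long
  have hPV : P ≤ normalizer (zl (S : Subgroup G) P : Set G) := le_normalizer_zl _ _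
  obtain ⟨-, h1⟩ := M.off _ hAS hE.off
  have h2 := hE.off.ne
  rw [SetLike.not_le_iff_exists] at h2
  obtain ⟨a, ha, hac⟩ := h2
  obtain ⟨τ, hact, hτ⟩ := h1 a ha
  have h3 : ∃ i x, τ i x ≠ x := by
    by_contra hcon
    push Not at hcon
    apply hac
    rw [mem_centralizer_iff]
    intro v hv
    have hav : a * v * a⁻¹ ∈ zl (S : Subgroup G) P :=
      (mem_normalizer_iff.1 (hPV (hE.par.le (hAS ha))) v).1 hv
    have h4 : a * v * a⁻¹ = v := by
      refine e_inj M hav hv ?_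
      funext i x
      have h5 := hact v hv i x
      rw [hcon] at h5
      exact h5
    calc v * a = a * v * a⁻¹ * a := by rw [h4]
      _ = a * v := by group
  obtain ⟨i, x, hx⟩ := h3
  obtain ⟨-, b, hb, hbact⟩ := hτ i x hx
  refine false_of S hm hE.par.le hPV M (MinSimple.VModule.zc_le_zl _ _)
    (fun s hs z hz => (MinSimple.VModule.mem_zc.1 hz).2.1 s hs) hAS
    (fun a ha b hb => ?_) (fun g hg hgz => ?_) hx.symm hb hbact
  · exact congrArg Subtype.val (hE.off.elem.1.is_comm.comm ⟨a, ha⟩ ⟨b, hb⟩)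
  · refine le_normalizer_zl _ _ (hE.long.cz ?_)
    rw [mem_centralizer_iff]
    intro z hz
    exact (hgz z hz).symm

end Cfsg.Agent.Omega.NOThreeL.AThree

end

section


/-!
# NO-3L, case (A): `V_P` of type `S_{2^m+1}^k` is impossible (#14566 (2), helper775; #16668, helper477)

`AThree.a3` is the case where `U_H` offends on `V_P` (socket A3); here nothing is assumed about offenders, so the
result also covers the part `SymK` of the socket A4.

* `false_of` : `A ≤ S`, abelian, quadratic on `V` and normalised by `C_P(Z)`, acts trivially on `V` of type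
  `S_{2^m+1}^k`, `m ≥ 2`;
* `no_sym` : there is no pair of type (A) with `V_P` of type `S_{2^m+1}^k`.
-/

set_option autoImplicit false

namespace Cfsg.Agent.Omega.NOThreeL.AFourSym

open Subgroup Cfsg Cfsg.Agent.ZN Cfsg.Agent.Omega.MinPar Cfsg.Agent.Omega.Frame Cfsg.Agent.Omega.FrameNOFF
open Cfsg.Agent.ZN.ChoiceBase Cfsg.Agent.ZN.ChoiceSit
open Cfsg.Agent.Omega.Node.NO3L Cfsg.Agent.Omega.NOThreeL.Basic
open Cfsg.Agent.Omega.FFThm (Off SymK ActsSym)
open Cfsg.Agent.MinSimple.VModule (le_normalizer_zl)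
open Cfsg.Agent.Omega.NOThreeL.AThree (const e_inj exists_ne ai ia)

universe u

variable {G : Type u} [Group G] [Finite G]

/-- **A quadratic abelian subgroup of `S` normalised by `C_P(Z)` centralises `V`** (`V` of type `S_{2^m+1}^k`). -/
theorem false_of (S : Sylow 2 G) {P V Z A : Subgroup G} {k m : ℕ} (hm : 2 ≤ m)
    (hSP : (S : Subgroup G) ≤ P) (hPV : P ≤ normalizer (V : Set G)) (M : SymK (S : Subgroup G) P V ⊥ k m)
    (hZV : Z ≤ V) (hZ : ∀ s ∈ (S : Subgroup G), ∀ z ∈ Z, s * z = z * s) (hAS : A ≤ (S : Subgroup G))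
    (hA : ∀ a ∈ A, ∀ b ∈ A, a * b = b * a) (hVA : V ≤ normalizer (A : Set G))
    (hn : ∀ g ∈ P, (∀ z ∈ Z, g * z = z * g) → g ∈ normalizer (A : Set G))
    {a : G} (ha : a ∈ A) {v₀ : G} (hv₀ : v₀ ∈ V) (hne : a * v₀ * a⁻¹ ≠ v₀) : False := by
  classical
  have hN : ∀ {g : G}, g ∈ P → ∀ v ∈ V, g * v * g⁻¹ ∈ V := fun hg v hv =>
    (mem_normalizer_iff.1 (hPV hg) v).1 hv
  have hN' : ∀ {g : G}, g ∈ P → ∀ v ∈ V, g⁻¹ * v * g ∈ V := fun {g} hg v hv => by
    have := hN (inv_mem hg) v hv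
    rwa [inv_inv] at this
  have haP : a ∈ P := hSP (hAS ha)
  obtain ⟨σ, τ, hact⟩ := M.perm a haP
  have h0 : ∀ i, τ i 0 = 0 := M.fix0 a (hAS ha) σ τ hact
  -- a moved nonzero point
  obtain ⟨i, x, hx0, hmv⟩ : ∃ (i : Fin k) (x : Fin (2 ^ m + 1)), x ≠ 0 ∧ ¬ (σ i = i ∧ τ i x = x) := by
    by_contra hcon
    push Not at hcon
    apply hne
    refine e_inj M (hN haP _ hv₀) hv₀ ?_
    funext i x
    obtain ⟨w, hw0, -, -⟩ := exists_ne hm x x
    have h1 := hcon i w hw0
    by_cases hx : x = 0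
    · subst hx
      have h2 := hact v₀ hv₀ i 0
      rwa [h1.1, h0] at h2
    · have h3 := hcon i x hx
      have h2 := hact v₀ hv₀ i x
      rwa [h3.1, h3.2] at h2
  set j := σ i with hj
  set y := τ i x with hy
  have hy0 : y ≠ 0 := fun h => hx0 ((τ i).injective (by rw [← hy, h, h0]))
  obtain ⟨w, hw0, hwx, hwy⟩ := exists_ne hm x y
  obtain ⟨g, hg, hgact, -⟩ := M.lift (Function.update 1 j (Equiv.swap y w))
  -- `g` centralises `Z`
  have hgZ : ∀ z ∈ Z, g * z = z * g := by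
    intro z hz
    have hzV := hZV hz
    have hc := fun (l : Fin k) {x y : Fin (2 ^ m + 1)} => const S (by omega) hSP hPV M hzV
      (fun s hs => hZ s hs z hz) l (x := x) (y := y)
    have h1 : g * z * g⁻¹ = z := by
      refine e_inj M (hN hg z hzV) hzV ?_
      funext l u
      by_cases hl : l = j
      · subst hl
        have h2 := hgact z hzV (σ i) (Equiv.swap y w u)
        rw [Function.update_self, Equiv.swap_apply_self] at h2
        simp only [Equiv.Perm.one_apply] at h2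
        rw [h2]
        by_cases h3 : u = y
        · rw [h3, Equiv.swap_apply_left]
          exact hc _ hw0 hy0
        · by_cases h4 : u = w
          · rw [h4, Equiv.swap_apply_right]
            exact hc _ hy0 hw0
          · rw [Equiv.swap_apply_of_ne_of_ne h3 h4]
      · have h2 := hgact z hzV l u
        rw [Function.update_of_ne hl] at h2
        simpa using h2
    calc g * z = g * z * g⁻¹ * g := by group
      _ = z * g := by rw [h1]
  have hb : g * a * g⁻¹ ∈ A := (mem_normalizer_iff.1 (hn g hg hgZ) a).1 ha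
  -- the vector
  obtain ⟨v, hv, hve⟩ := M.surj (Function.update 0 i (fun u => if u = x ∨ u = 0 then 1 else 0)) (by
    intro l
    by_cases hl : l = i
    · subst hl
      rw [Function.update_self]
      have h1 : ∀ u : Fin (2 ^ m + 1), (if u = x ∨ u = 0 then (1 : ZMod 2) else 0) =
          (if u = x then 1 else 0) + if u = 0 then 1 else 0 := by
        intro u
        by_cases h2 : u = x
        · have : u ≠ 0 := h2 ▸ hx0
          simp [h2, hx0]
        · simp [h2]
      rw [Finset.sum_congr rfl fun u _ => h1 u, Finset.sum_add_distrib]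
      simp only [Finset.sum_ite_eq', Finset.mem_univ, if_true]
      exact CharTwo.add_self_eq_zero _
    · rw [Function.update_of_ne hl]
      simp)
  have hvi : ∀ u, M.e v i u = if u = x ∨ u = 0 then 1 else 0 := fun u => by rw [hve, Function.update_self]
  have hvl : ∀ l, l ≠ i → ∀ u, M.e v l u = 0 := fun l hl u => by
    rw [hve, Function.update_of_ne hl]; rfl
  have hav : a * v * a⁻¹ ∈ V := hN haP v hv
  -- values of `a v a⁻¹`
  have k1 : ∀ u, u ≠ y → u ≠ 0 → M.e (a * v * a⁻¹) j u = 0 := by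
    intro u hu hu0
    obtain ⟨u, rfl⟩ := (τ i).surjective u
    have h1 := hact v hv i u
    rw [← hj] at h1
    rw [h1, hvi, if_neg]
    rintro (h | h)
    · exact hu (by rw [h])
    · exact hu0 (by rw [h, h0])
  have k2 : ∀ l, l ≠ j → ∀ u, M.e (a * v * a⁻¹) l u = 0 := by
    intro l hl u
    obtain ⟨l, rfl⟩ := σ.surjective l
    obtain ⟨u, rfl⟩ := (τ l).surjective u
    rw [hact v hv l u]
    exact hvl l (fun h => hl (by rw [h])) _
  -- the commutator
  set c := a * v * a⁻¹ * v⁻¹ with hcdef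
  have hcV : c ∈ V := mul_mem hav (inv_mem hv)
  have hcA : c ∈ A := by
    have h1 : v * a⁻¹ * v⁻¹ ∈ A := (mem_normalizer_iff.1 (hVA hv) _).1 (inv_mem ha)
    have e1 : c = a * (v * a⁻¹ * v⁻¹) := by rw [hcdef]; group
    rw [e1]
    exact mul_mem ha h1
  have hce : M.e c = M.e (a * v * a⁻¹) + M.e v := by
    have h1 := M.mul c hcV v hv
    have e1 : c * v = a * v * a⁻¹ := by rw [hcdef]; group
    rw [e1] at h1
    rw [h1]
    funext l u
    simp only [Pi.add_apply]
    rw [add_assoc, CharTwo.add_self_eq_zero, add_zero]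
  -- the two values of `c`
  have k3 : M.e c j w = 0 := by
    rw [hce]
    simp only [Pi.add_apply]
    rw [k1 w hwy hw0, zero_add]
    by_cases hji : j = i
    · rw [hji, hvi, if_neg]
      rintro (h | h)
      · exact hwx h
      · exact hw0 h
    · exact hvl j hji w
  have hxy : j = i → x ≠ y := fun h h' => hmv ⟨h, h'.symm⟩
  have k4 : M.e c i x = 1 := by
    rw [hce]
    simp only [Pi.add_apply]
    rw [hvi, if_pos (Or.inl rfl)]
    by_cases hji : j = i
    · have h1 := k1 x (hxy hji) hx0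
      rw [hji] at h1
      rw [h1, zero_add]
    · rw [k2 i (fun h => hji h.symm), zero_add]
  -- `b = g a g⁻¹` centralises `c`
  have hbc : g * a * g⁻¹ * c * (g * a * g⁻¹)⁻¹ = c := by
    rw [hA _ hb _ hcA]; group
  have hc' : g⁻¹ * c * g ∈ V := hN' hg c hcV
  have k5 : M.e (g⁻¹ * c * g) i x = M.e c i x := by
    have h1 := hgact _ hc' i x
    have e1 : g * (g⁻¹ * c * g) * g⁻¹ = c := by group
    rw [e1] at h1
    rw [← h1]
    simp only [Equiv.Perm.one_apply]
    by_cases hji : j = i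
    · rw [hji, Function.update_self, Equiv.swap_apply_of_ne_of_ne (hxy hji) hwx.symm]
    · rw [Function.update_of_ne (fun h => hji h.symm)]; rfl
  have k6 : M.e (a * (g⁻¹ * c * g) * a⁻¹) j y = M.e (g⁻¹ * c * g) i x := hact _ hc' i x
  have k7 : M.e c j w = M.e (a * (g⁻¹ * c * g) * a⁻¹) j y := by
    have h1 := hgact _ (hN haP _ hc') j y
    rw [Function.update_self, Equiv.swap_apply_left] at h1
    simp only [Equiv.Perm.one_apply] at h1
    have e1 : g * (a * (g⁻¹ * c * g) * a⁻¹) * g⁻¹ = g * a * g⁻¹ * c * (g * a * g⁻¹)⁻¹ := by group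
    rwa [e1, hbc] at h1
  rw [k3, k6, k5, k4] at k7
  exact zero_ne_one k7

/-- **There is no pair of type (A) with `V_P` of type `S_{2^m+1}^k`.** -/
theorem no_sym {S : Sylow 2 G} (hc : IsCharacteristicTwoType G) (D : DataZ (S : Subgroup G)) {P H : Subgroup G}
    (h : PairA (S : Subgroup G) P H) {k m : ℕ} (hm : 2 ≤ m)
    (M : SymK (S : Subgroup G) P (zl (S : Subgroup G) P) (FrameFF.cv (S : Subgroup G) P) k m) : False := by
  have hcv : FrameFF.cv (S : Subgroup G) P = ⊥ := D.cv_eq hc h.par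
  rw [hcv] at M
  have hAS : zl (S : Subgroup G) H ≤ (S : Subgroup G) := IsLong.zl_le_S hc h.long
  have hPV : P ≤ normalizer (zl (S : Subgroup G) P : Set G) := le_normalizer_zl _ _
  have hel := FFThm.elem_zl hc S h.long.loc
  have h2 := h.ne
  rw [SetLike.not_le_iff_exists] at h2
  obtain ⟨v, hv, hvc⟩ := h2
  have h3 : ∃ a ∈ zl (S : Subgroup G) H, a * v * a⁻¹ ≠ v := by
    by_contra hcon
    push Not at hcon
    apply hvc
    rw [mem_centralizer_iff]
    intro a ha
    calc a * v = a * v * a⁻¹ * a := by group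
      _ = v * a := by rw [hcon a ha]
  obtain ⟨a, ha, hav⟩ := h3
  refine false_of S hm h.par.le hPV M (MinSimple.VModule.zc_le_zl _ _)
    (fun s hs z hz => (MinSimple.VModule.mem_zc.1 hz).2.1 s hs) hAS
    (fun a ha b hb => ?_) (PairA.le_normalizer' hc h) (fun g hg hgz => ?_) ha hv hav
  · exact congrArg Subtype.val (hel.1.is_comm.comm ⟨a, ha⟩ ⟨b, hb⟩)
  · refine le_normalizer_zl _ _ (h.long.cz ?_)
    rw [mem_centralizer_iff]
    intro z hz
    exact (hgz z hz).symm

end Cfsg.Agent.Omega.NOThreeL.AFourSym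

end

section


/-!
# NO-3L, R ∩ (A), `q = 2`, `k = 1`: the plug of `RTransv` (#16559, helper797)

* `exists_gen` : a long `H` contains a long `H₁` with `U_{H₁} = U_H` generated by `C` and members of `P*(S)`;
* `inf_eq_bot` : (A) implies `C_Z(⟨P, H⟩) = 1`;
* `exists_two` : `V_P` natural for `SL₂(2)`, `U_H` an offender on `V_P`: `Two S P H t p` for some `t`, `p`;
* `exists_Tt` : **R ∩ (A), `q = 2`, `k = 1`**: `T^t = U^t ∩ (U^t)^p` is moved by `⟨V^H⟩`.
-/

set_option autoImplicit false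

namespace Cfsg.Agent.Omega.NOThreeL.RTransv

open Subgroup Cfsg Cfsg.Agent.ZN Cfsg.Agent.Omega.MinPar Cfsg.Agent.Omega.Frame Cfsg.Agent.Omega.FrameNOFF
open Cfsg.Agent.Omega.Node.NO3L Cfsg.Agent.Omega.NOThreeL.Basic
open Cfsg.Agent.Omega.NoFF.Basic (V conj_conj mem_conj conj_le_iff conj_le_centralizer comm_symm comm_mono
  Z_le_V V_le conj_V_mul)
open Cfsg.Agent.Omega.NOThreeL.Pair (conj_eq_of_mem conj_le_normalizer zl_abel)
open Cfsg.Agent.Omega.NOThreeL.AOne (Act)
open Cfsg.Agent.Omega.FFThm (Off NoOver Concl NatK SymK ActsSL)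
open Cfsg.Agent.Omega.NatPair (ap ap_mul ap_one ap_inv_ap)
open Cfsg.Agent.Lib.SL2Mat
open Cfsg.Agent.MinSimple.VModule (zl_le le_normalizer_zl zc_le_zl zc_le mem_zc
  normalizer_le_normalizer_zc)
open scoped Pointwise

universe u

variable {G : Type u} [Group G] [Finite G] {S : Sylow 2 G}

/-! ### Generation -/

/-- `H` is generated by `C` and the members of `P*(S)` in `H`. -/
def Gen (S H : Subgroup G) : Prop :=
  ∀ X : Subgroup G, CZ S ≤ X → (∀ P', IsParS S P' → P' ≤ H → P' ≤ X) → H ≤ X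

omit [Finite G] in
theorem conj_CZ {n : G} (hn : n ∈ normalizer ((S : Subgroup G) : Set G)) :
    MulAut.conj n • CZ (S : Subgroup G) = CZ (S : Subgroup G) :=
  conj_eq_of_mem (conj_cent (normalizer_le_normalizer_zc _ hn))

omit [Finite G] in
theorem isParS_conj {P : Subgroup G} (hP : IsParS (S : Subgroup G) P) {n : G}
    (hn : n ∈ normalizer ((S : Subgroup G) : Set G)) : IsParS (S : Subgroup G) (MulAut.conj n • P) := by
  have h5 := IsParS.map (MulAut.conj n) hP
  have h6 : (S : Subgroup G).map (MulAut.conj n).toMonoidHom = S := conj_eq_of_mem hn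
  rw [h6] at h5
  exact h5

/-- **WLOG** `H` is generated by `C` and members of `P*(S)`. -/
theorem exists_gen {H : Subgroup G} (hH : IsLong (S : Subgroup G) H) :
    ∃ H₁ ≤ H, IsLong (S : Subgroup G) H₁ ∧ zl (S : Subgroup G) H₁ = zl (S : Subgroup G) H ∧
      Gen (S : Subgroup G) H₁ := by
  set F : Set (Subgroup G) := {P' | IsParS (S : Subgroup G) P' ∧ P' ≤ H} with hF
  set H₁ := CZ (S : Subgroup G) ⊔ sSup F with hH₁
  have hle : H₁ ≤ H := sup_le hH.cz (sSup_le fun P' h => h.2)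
  have hC : CZ (S : Subgroup G) ≤ H₁ := le_sup_left
  have hS : (S : Subgroup G) ≤ H₁ := (le_CZ S).trans hC
  have hL : IsLong (S : Subgroup G) H₁ := ⟨hH.loc.of_le S hS hle, hC⟩
  have hmem : ∀ P', IsParS (S : Subgroup G) P' → P' ≤ H → P' ≤ H₁ := by
    intro P' h1 h2
    have h3 : P' ∈ F := ⟨h1, h2⟩
    exact (le_sSup h3).trans le_sup_right
  -- `N_H(S)` normalises `H₁`
  have hconj : ∀ n ∈ H ⊓ normalizer ((S : Subgroup G) : Set G), MulAut.conj n • H₁ ≤ H₁ := by
    rintro n ⟨hnH, hn⟩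
    rw [← conj_le_iff (g := n⁻¹), conj_conj, inv_mul_cancel, map_one, one_smul]
    refine sup_le ?_ (sSup_le fun P' h => ?_)
    · rw [← conj_le_iff (g := n), conj_conj, mul_inv_cancel, map_one, one_smul, conj_CZ hn]
      exact hC
    · rw [← conj_le_iff (g := n), conj_conj, mul_inv_cancel, map_one, one_smul]
      refine hmem _ (isParS_conj h.1 hn) ?_
      have h2 := conj_le_iff (g := n).2 h.2
      rwa [conj_eq_of_mem (le_normalizer hnH)] at h2
  refine ⟨H₁, hle, hL, le_antisymm ?_ ?_, fun X h1 h2 => sup_le h1 (sSup_le fun P' h => ?_)⟩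
  · exact zl_le (zc_le_zl _ _) (hle.trans (le_normalizer_zl _ _))
  · refine zl_le (zc_le_zl _ _) (hH.loc.le_of_forall S ?_ fun P hP hPH => ?_)
    · have key : ∀ n ∈ H ⊓ normalizer ((S : Subgroup G) : Set G),
          MulAut.conj n • zl (S : Subgroup G) H₁ ≤ zl (S : Subgroup G) H₁ := by
        intro n hn
        rw [← conj_le_iff (g := n⁻¹), conj_conj, inv_mul_cancel, map_one, one_smul]
        change V (zc (S : Subgroup G)) H₁ ≤ _
        refine V_le fun h hh => ?_
        rw [← conj_le_iff (g := n), conj_conj, conj_conj, mul_inv_cancel, map_one, one_smul]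
        have e : n * h = (n * h * n⁻¹) * n := by group
        rw [e, ← conj_conj, conj_eq_of_mem (normalizer_le_normalizer_zc _ hn.2)]
        refine Z_le_V (hconj n hn ?_)
        rw [mem_conj]
        have e2 : n⁻¹ * (n * h * n⁻¹) * n = h := by group
        rwa [e2]
      intro n hn
      refine mem_normalizer_of_conj (le_antisymm (key n hn) ?_)
      have h1 := conj_le_iff (g := n).2 (key n⁻¹ (inv_mem hn))
      rwa [conj_conj, mul_inv_cancel, map_one, one_smul] at h1
    · by_cases hs : IsParS (S : Subgroup G) P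
      · exact (hmem P hs hPH).trans (le_normalizer_zl _ _)
      · exact ((par_le_CZ S hP hs).trans hC).trans (le_normalizer_zl _ _)
  · exact h2 P' h.1 (hmem P' h.1 h.2)

/-! ### `C_Z(⟨P, H⟩) = 1` -/

/-- **(A)** implies `C_Z(⟨P, H⟩) = 1`. -/
theorem inf_eq_bot (hc : IsCharacteristicTwoType G) {P H : Subgroup G}
    (hPH : PairA (S : Subgroup G) P H) :
    zc (S : Subgroup G) ⊓ centralizer (P : Set G) ⊓ centralizer (H : Set G) = ⊥ := by
  by_contra hne
  obtain ⟨⟨z, hz⟩, hz0⟩ := Subgroup.ne_bot_iff_exists_ne_one.1 hne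
  have hz1 : z ≠ 1 := fun h0 => hz0 (Subtype.ext h0)
  have hK := RTools.isLong S hz.1.1 hz1
  have hPK : P ≤ centralizer ({z} : Set G) := fun p hp => by
    rw [mem_centralizer_singleton_iff]
    exact mem_centralizer_iff.1 hz.1.2 p hp
  have hHK : H ≤ centralizer ({z} : Set G) := fun p hp => by
    rw [mem_centralizer_singleton_iff]
    exact mem_centralizer_iff.1 hz.2 p hp
  have h1 : ∀ {L : Subgroup G}, L ≤ centralizer ({z} : Set G) →
      zl (S : Subgroup G) L ≤ zl (S : Subgroup G) (centralizer ({z} : Set G)) := fun hL =>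
    zl_le (zc_le_zl _ _) (hL.trans (le_normalizer_zl _ _))
  refine hPH.ne fun v hv => ?_
  rw [mem_centralizer_iff]
  intro u hu
  have h2 := (FFThm.elem_zl hc S hK.loc).1.1.1 ⟨u, h1 hHK hu⟩ ⟨v, h1 hPK hv⟩
  exact congrArg Subtype.val h2

/-! ### The natural module of `SL₂(2)` -/

section nat

variable {F : Type} [Field F] [CharP F 2]

omit [CharP F 2] in
theorem eq_one_of_ne (hF : ∀ x : F, x = 0 ∨ x = 1) {x : F} (hx : x ≠ 0) : x = 1 := (hF x).resolve_left hx

theorem word_eq : (up 1 * lo 1) * (up (1 : F))⁻¹ * (up 1 * lo 1)⁻¹ * up 1 * (up 1 * lo 1) = 1 := by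
  have h2 : (1 : F) + 1 = 0 := CharTwo.add_self_eq_zero 1
  have hu : (up (1 : F))⁻¹ = up 1 := by
    rw [inv_eq_iff_mul_eq_one, up_mul, h2, up_zero]
  have hl : (lo (1 : F))⁻¹ = lo 1 := by
    rw [inv_eq_iff_mul_eq_one, lo_mul, h2, lo_zero]
  have huu : up (1 : F) * up 1 = 1 := by rw [up_mul, h2, up_zero]
  rw [mul_inv_rev, hu, hl]
  have e : up (1 : F) * lo 1 * up 1 * (lo 1 * up 1) * up 1 * (up 1 * lo 1) =
      up 1 * lo 1 * up 1 * lo 1 * (up 1 * up 1) * up 1 * lo 1 := by group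
  rw [e, huu, mul_one]
  apply ext_ent <;> simp only [ent_mul, up_00, up_01, up_10, up_11, lo_00, lo_01, lo_10, lo_11, ent_one_00,
    ent_one_01, ent_one_10, ent_one_11, mul_one, mul_zero, add_zero, zero_add, h2]

variable {P H D : Subgroup G}

/-- `V_P / D` natural for `SL₂(2)`, `U_H` an offender on `V_P`. -/
theorem exists_two (hc : IsCharacteristicTwoType G) (hPH : PairA (S : Subgroup G) P H)
    (hoff : Off (zl (S : Subgroup G) P) (zl (S : Subgroup G) H)) (hF : ∀ x : F, x = 0 ∨ x = 1)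
    (M : NatK F (S : Subgroup G) P (zl (S : Subgroup G) P) D 1) (hDV : D ≤ zl (S : Subgroup G) P)
    (hgen : Gen (S : Subgroup G) H) : ∃ t p, Two (S : Subgroup G) P H t p := by
  set W := zl (S : Subgroup G) P with hW
  set U := zl (S : Subgroup G) H with hU
  set e : G → Fin 2 → F := fun g => M.e g 0 with he
  have hS := hPH.par.le
  have h2 : (1 : F) + 1 = 0 := CharTwo.add_self_eq_zero 1
  have mul : ∀ v ∈ W, ∀ w ∈ W, e (v * w) = e v + e w := fun v hv w hw => by
    rw [he]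
    simp only
    rw [M.mul v hv w hw]
    rfl
  have ker : ∀ v ∈ W, e v = 0 ↔ v ∈ D := fun v hv => by
    rw [← M.ker v hv]
    constructor
    · intro h
      funext i
      rw [Subsingleton.elim i 0]
      exact h
    · intro h
      rw [he]
      simp only
      rw [h]
      rfl
  have hnW : ∀ {g : G}, g ∈ P → g ∈ normalizer (W : Set G) := fun hg => le_normalizer_zl _ _ hg
  have hcon : ∀ {g v : G}, g ∈ P → v ∈ W → g * v * g⁻¹ ∈ W := fun hg hv =>
    (mem_normalizer_iff.1 (hnW hg) _).1 hv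
  have ker' : ∀ g ∈ P, ∀ v ∈ W, e (g * v * g⁻¹) = 0 ↔ e v = 0 := by
    intro g hg v hv
    obtain ⟨σ, hσ⟩ := M.perm g hg
    have h1 := hσ v hv 0
    rwa [Subsingleton.elim (σ 0) 0] at h1
  have hPD : P ≤ normalizer (D : Set G) := by
    intro g hg
    rw [mem_normalizer_iff]
    intro x
    constructor
    · intro hx
      have hxW := hDV hx
      rw [← ker _ (hcon hg hxW), ker' g hg x hxW]
      exact (ker x hxW).2 hx
    · intro hx
      have hxW : x ∈ W := (mem_normalizer_iff.1 (hnW hg) _).2 (hDV hx)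
      rw [← ker x hxW, ← ker' g hg x hxW]
      exact (ker _ (hcon hg hxW)).2 hx
  have hsqW : ∀ v ∈ W, v * v = 1 := fun v hv => by
    rw [← pow_two]; exact (FFThm.elem_zl hc S hPH.par.isLoc).2 v hv
  have habW : ∀ v ∈ W, ∀ w ∈ W, v * w = w * v := fun v hv w hw =>
    congrArg Subtype.val ((FFThm.elem_zl hc S hPH.par.isLoc).1.1.1 ⟨v, hv⟩ ⟨w, hw⟩)
  have one : e 1 = 0 := by
    have := mul 1 W.one_mem 1 W.one_mem
    rw [mul_one] at this
    exact (left_eq_add.1 this)
  have inv : ∀ v ∈ W, e v⁻¹ = - e v := fun v hv => by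
    have := mul v⁻¹ (W.inv_mem hv) v hv
    rw [inv_mul_cancel, one] at this
    exact (neg_eq_of_add_eq_zero_left this.symm).symm
  -- elements acting trivially on `W / D` and `D`
  have cent : ∀ x ∈ P, (∀ v ∈ W, e (x * v * x⁻¹) = e v) → x ∈ centralizer (D : Set G) →
      x ∈ centralizer (W : Set G) := by
    intro x hx h1 h3
    refine le_centralizer S hS hDV hPD hsqW ⟨hnW hx, fun v hv => ?_⟩ h3
    rw [← ker _ (W.mul_mem (hcon hx hv) (W.inv_mem hv)), mul _ (hcon hx hv) _ (W.inv_mem hv), h1 v hv,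
      inv v hv, add_neg_cancel]
  have hUS : U ≤ (S : Subgroup G) := IsLong.zl_le_S hc hPH.long
  have hVS : W ≤ (S : Subgroup G) := IsParS.zl_le_S hc hPH.par
  have hSU : (S : Subgroup G) ≤ normalizer (U : Set G) := hPH.long.loc.le.trans (le_normalizer_zl _ _)
  -- the action of `U`
  have acts : ∀ u ∈ U, ∃ b : F, Act e W u (up b) ∧ u ∈ centralizer (D : Set G) := by
    intro u hu
    obtain ⟨I, h1, -⟩ := M.off U hUS hoff
    obtain ⟨b, -, h3, h4⟩ := h1 u hu
    refine ⟨b 0, fun v hv => h3 v hv 0, mem_centralizer_iff.2 fun d hd => (h4 d hd).symm⟩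
  have acts1 : ∀ u ∈ U, u ∉ centralizer (W : Set G) → Act e W u (up 1) ∧ u ∈ centralizer (D : Set G) := by
    intro u hu huV
    obtain ⟨b, h1, h3⟩ := acts u hu
    by_cases hb : b = 0
    · exfalso
      refine huV (cent u (hS (hUS hu)) (fun v hv => ?_) h3)
      rw [h1 v hv, hb, up_zero, ap_one]
    · rw [eq_one_of_ne hF hb] at h1
      exact ⟨h1, h3⟩
  obtain ⟨u₀, hu₀, hu₀V⟩ := SetLike.not_le_iff_exists.1 hPH.ne'
  obtain ⟨a₀, d₀⟩ := acts1 u₀ hu₀ hu₀V
  obtain ⟨w, hw, hew⟩ := M.surj fun _ => ![0, 1]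
  have hew0 : e w = ![0, 1] := congrFun hew 0
  -- a point of `Z`
  have hz : ∃ z ∈ zc (S : Subgroup G), e z = ![1, 0] := by
    by_contra hcon'
    push Not at hcon'
    have hZD : zc (S : Subgroup G) ≤ D := by
      intro z hz
      have hzW : z ∈ W := zc_le_zl _ _ hz
      by_contra hzD
      refine hcon' z hz ?_
      have h1 : e z ≠ 0 := fun h => hzD ((ker z hzW).1 h)
      have h3 := a₀ z hzW
      have h4 : u₀ * z * u₀⁻¹ = z := by
        rw [(mem_zc.1 hz).2.1 u₀ (hUS hu₀)]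
        group
      rw [h4] at h3
      have h5 : e z 0 = e z 0 + 1 * e z 1 := by
        have := congrFun h3 0
        rwa [AOne.ap_up_0] at this
      have h6 : e z 1 = 0 := by
        rw [one_mul] at h5
        exact (left_eq_add.1 h5)
      have h7 : e z 0 = 1 := by
        refine eq_one_of_ne hF fun h => h1 ?_
        funext i
        fin_cases i
        · exact h
        · exact h6
      funext i
      fin_cases i
      · exact h7
      · exact h6
    have h1 : W ≤ D := zl_le hZD hPD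
    have h3 := (ker w hw).2 (h1 hw)
    rw [hew0] at h3
    have := congrFun h3 1
    simp at this
  obtain ⟨z, hz, hez⟩ := hz
  have hzW : z ∈ W := zc_le_zl _ _ hz
  -- (c1)
  have c1 : ∀ u ∈ U, ∀ v ∈ W, e v 1 = 0 → u * v * u⁻¹ = v := by
    intro u hu v hv h1
    obtain ⟨b, -, hd⟩ := acts u hu
    have hzu : u * z = z * u := (mem_zc.1 hz).2.1 u (hUS hu)
    rcases hF (e v 0) with h0 | h0
    · have h3 : v ∈ D := (ker v hv).1 (by funext i; fin_cases i; exacts [h0, h1])
      rw [← mem_centralizer_iff.1 hd v h3]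
      group
    · have h3 : v * z⁻¹ ∈ D := by
        rw [← ker _ (W.mul_mem hv (W.inv_mem hzW)), mul v hv _ (W.inv_mem hzW), inv z hzW, hez]
        funext i
        fin_cases i
        · change e v 0 + -(1 : F) = 0
          rw [h0, add_neg_cancel]
        · change e v 1 + -(0 : F) = 0
          rw [h1, neg_zero, add_zero]
      have h4 := mem_centralizer_iff.1 hd _ h3
      have h5 : u * (v * z⁻¹) * z = v * z⁻¹ * z * u := by
        rw [← h4, mul_assoc, mul_assoc, hzu]
        group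
      have h6 : u * v = v * u := by
        calc u * v = u * (v * z⁻¹) * z := by group
          _ = v * z⁻¹ * z * u := h5
          _ = v * u := by group
      rw [h6]
      group
  set t := u₀ * w * u₀⁻¹ * w⁻¹ with ht
  -- (c2)
  have c2 : ∀ u ∈ U, u ∉ centralizer (W : Set G) → ∀ v ∈ W, e v 1 ≠ 0 → u * v * u⁻¹ * v⁻¹ = t := by
    intro u hu huV v hv h1
    obtain ⟨a, d⟩ := acts1 u hu huV
    -- `u₀⁻¹ u` centralises `W`
    have hnorm : ∀ {x}, x ∈ U → x ∈ normalizer (W : Set G) := fun hx => hnW (hS (hUS hx))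
    have h3 : u₀⁻¹ * u ∈ centralizer (W : Set G) := by
      refine cent _ (hS (hUS (mul_mem (inv_mem hu₀) hu))) ?_ (mul_mem (inv_mem d₀) d)
      have h4 := (a₀.inv (hnorm hu₀)).mul a (hnorm hu)
      rw [inv_mul_cancel] at h4
      intro x hx
      rw [h4 x hx, ap_one]
    have h4 : u * w * u⁻¹ = u₀ * w * u₀⁻¹ := by
      have h5 := mem_centralizer_iff.1 h3 w hw
      calc u * w * u⁻¹ = u₀ * (u₀⁻¹ * u * w) * u⁻¹ := by group
        _ = u₀ * (w * (u₀⁻¹ * u)) * u⁻¹ := by rw [h5]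
        _ = u₀ * w * u₀⁻¹ := by group
    have h5 : e (v * w⁻¹) 1 = 0 := by
      rw [mul v hv _ (W.inv_mem hw), inv w hw, hew0, Pi.add_apply, Pi.neg_apply, eq_one_of_ne hF h1]
      change (1 : F) + -1 = 0
      rw [add_neg_cancel]
    have h6 := c1 u hu _ (W.mul_mem hv (W.inv_mem hw)) h5
    have h7 : u * v * u⁻¹ * v⁻¹ = (u * (v * w⁻¹) * u⁻¹) * (u * w * u⁻¹ * w⁻¹) * (v * w⁻¹)⁻¹ := by group
    have htW : u * w * u⁻¹ * w⁻¹ ∈ W := W.mul_mem (hcon (hS (hUS hu)) hw) (W.inv_mem hw)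
    rw [h7, h6, habW _ (W.mul_mem hv (W.inv_mem hw)) _ htW, mul_inv_cancel_right, h4, ht]
  have htW : t ∈ W := W.mul_mem (hcon (hS (hUS hu₀)) hw) (W.inv_mem hw)
  have htz : t ∈ zc (S : Subgroup G) := by
    refine mem_zc.2 ⟨hVS htW, fun s hs => ?_, by rw [pow_two]; exact hsqW t htW⟩
    have hsU : s * u₀ * s⁻¹ ∈ U := (mem_normalizer_iff.1 (hSU hs) _).1 hu₀
    have hsV : s * u₀ * s⁻¹ ∉ centralizer (W : Set G) := fun h =>
      hu₀V ((mem_normalizer_iff.1 (conj_cent (hnW (hS hs))) _).2 h)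
    have h1 : e (s * w * s⁻¹) 1 ≠ 0 := by
      obtain ⟨σ, hσ⟩ := M.line s hs
      have h3 := hσ w hw 0
      rw [Subsingleton.elim (σ 0) 0] at h3
      intro h4
      have h5 : e w 1 = 0 := h3.1 h4
      rw [hew0] at h5
      exact one_ne_zero h5
    have h3 := c2 _ hsU hsV _ (hcon (hS hs) hw) h1
    have h4 : s * u₀ * s⁻¹ * (s * w * s⁻¹) * (s * u₀ * s⁻¹)⁻¹ * (s * w * s⁻¹)⁻¹ = s * t * s⁻¹ := by
      rw [ht]; group
    rw [h4] at h3
    calc s * t = s * t * s⁻¹ * s := by group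
      _ = t * s := by rw [h3]
  -- the element `p`
  obtain ⟨p, hp, hpA, hpD⟩ := M.lift fun _ => up 1 * lo 1
  have hpa : Act e W p (up 1 * lo 1) := fun v hv => hpA v hv 0
  have hpd : p ∈ centralizer (D : Set G) := mem_centralizer_iff.2 fun d hd => (hpD d hd).symm
  refine ⟨t, p, hPH.par, hPH.long, htz, fun v hv u hu => ?_, hPH.ne', hp, fun u hu huV => ?_, hgen⟩
  · by_cases huV : u ∈ centralizer (W : Set G)
    · left
      have h1 := mem_centralizer_iff.1 huV v hv
      rw [← h1]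
      group
    · by_cases h1 : e v 1 = 0
      · left
        rw [c1 u hu v hv h1, mul_inv_cancel]
      · exact Or.inr (c2 u hu huV v hv h1)
  · have huP : u ∈ P := hS (hUS hu)
    obtain ⟨a, d⟩ := acts1 u hu huV
    have h1 : p * u⁻¹ * p⁻¹ * u * p ∈ centralizer (W : Set G) := by
      refine cent _ (mul_mem (mul_mem (mul_mem (mul_mem hp (inv_mem huP)) (inv_mem hp)) huP) hp) ?_
        (mul_mem (mul_mem (mul_mem (mul_mem hpd (inv_mem d)) (inv_mem hpd)) d) hpd)
      have nu : u ∈ normalizer (W : Set G) := hnW huP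
      have np : p ∈ normalizer (W : Set G) := hnW hp
      have h3 := (((hpa.mul (a.inv nu) (inv_mem nu)).mul (hpa.inv np) (inv_mem np)).mul a nu).mul hpa np
      rw [word_eq] at h3
      intro x hx
      rw [h3 x hx, ap_one]
    exact ((centralizer_le (zc_le_zl _ _)).trans hPH.long.cz) h1

/-- **R ∩ (A), `q = 2`, `k = 1`** (#16559 (0)-(3)): there is a long `H₁ ≤ H` with `U_{H₁} = U_H` such that
`T^t = U^t ∩ (U^t)^p` is moved by `⟨V^{H₁}⟩`. -/
theorem exists_Tt (hc : IsCharacteristicTwoType G) (Da : Data (S : Subgroup G))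
    (hPH : PairA (S : Subgroup G) P H)
    (hoff : Off (zl (S : Subgroup G) P) (zl (S : Subgroup G) H)) (hF : ∀ x : F, x = 0 ∨ x = 1)
    (M : NatK F (S : Subgroup G) P (zl (S : Subgroup G) P) D 1) (hDV : D ≤ zl (S : Subgroup G) P) :
    ∃ H₁ ≤ H, ∃ t p, zl (S : Subgroup G) H₁ = zl (S : Subgroup G) H ∧ Two (S : Subgroup G) P H₁ t p ∧
      ¬ Tt t p H₁ ≤ centralizer (V (zl (S : Subgroup G) P) H₁ : Set G) := by
  obtain ⟨H₁, h1, h3, h4, h5⟩ := exists_gen hPH.long
  have hPH' : PairA (S : Subgroup G) P H₁ := ⟨hPH.par, h3, by rw [h4]; exact hPH.ne⟩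
  obtain ⟨t, p, T⟩ := exists_two hc hPH' (by rw [h4]; exact hoff) hF M hDV h5
  exact ⟨H₁, h1, t, p, h4, T, T.not_le_K hc Da⟩

end nat

end Cfsg.Agent.Omega.NOThreeL.RTransv

end

section


/-!
# NO-3L, R ∩ (A), `q = 2`, `k = 1` (#17122, helper858): the natural module

`V = V_P`, `V / D` natural for `SL₂(2)`, `U = U_H` acts on `V / D` by the root group and centralises `D`.

* `Crd` : the coordinates; `NatS S P H D t p` : the facts used in #17122: `[V, U] = ⟨t⟩`, `a = p t p⁻¹`,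
  `u a u⁻¹ = a t`, `V = ⟨a⟩ C_V(U)`, `Z ≤ ⟨t⟩ D`, `[U, D] = [p, D] = 1`, `S p ≤ p H ∪ u p H`, and
  `C_Z(p u p⁻¹) ≤ C_Z(P)`;
* `Crd.exists_nat`.
-/

set_option autoImplicit false
set_option linter.unusedSectionVars false

namespace Cfsg.Agent.Omega.NOThreeL.RAOne

open Subgroup Cfsg Cfsg.Agent.ZN Cfsg.Agent.Omega.MinPar Cfsg.Agent.Omega.Frame Cfsg.Agent.Omega.FrameNOFF
open Cfsg.Agent.Omega.Node.NO3L Cfsg.Agent.Omega.NOThreeL.Basic Cfsg.Agent.Omega.NOThreeL.RTransv
open Cfsg.Agent.Omega.NoFF.Basic (V conj_conj mem_conj conj_le_iff conj_le_centralizer comm_symm comm_mono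
  Z_le_V V_le conj_V_mul)
open Cfsg.Agent.Omega.NOThreeL.Pair (conj_eq_of_mem conj_le_normalizer zl_abel)
open Cfsg.Agent.Omega.NOThreeL.AOne (Act)
open Cfsg.Agent.Omega.FFThm (Off NoOver Concl NatK SymK ActsSL)
open Cfsg.Agent.Omega.NatPair (ap ap_mul ap_one ap_inv_ap)
open Cfsg.Agent.Lib.SL2Mat
open Cfsg.Agent.MinSimple.VModule (zl_le le_normalizer_zl zc_le_zl zc_le mem_zc
  normalizer_le_normalizer_zc)
open scoped Pointwise

universe u

variable {G : Type u} [Group G]

/-- The facts on `V_P` used in #17122; `a = p t p⁻¹`. -/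
structure NatS (S P H D : Subgroup G) (t p : G) : Prop extends Two S P H t p where
  t1 : t ≠ 1
  DV : D ≤ zl S P
  pD : p ∈ centralizer (D : Set G)
  UD : zl S H ≤ centralizer (D : Set G)
  /-- `[u, a] = t` -/
  ua : ∀ u ∈ zl S H, u ∉ centralizer (zl S P : Set G) → u * (p * t * p⁻¹) * u⁻¹ = p * t * p⁻¹ * t
  /-- `[p u p⁻¹, t] = a` -/
  ut' : ∀ u ∈ zl S H, u ∉ centralizer (zl S P : Set G) →
    (p * u * p⁻¹) * t * (p * u * p⁻¹)⁻¹ = p * t * p⁻¹ * t
  /-- `V = ⟨a⟩ C_V(U)` -/
  Va : ∀ v ∈ zl S P, v ∈ centralizer (zl S H : Set G) ∨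
    v * (p * t * p⁻¹)⁻¹ ∈ centralizer (zl S H : Set G)
  ZD : ∀ z ∈ zc S, z ∈ D ∨ z * t⁻¹ ∈ D
  Sp : ∀ s ∈ S, ∀ u ∈ zl S H, u ∉ centralizer (zl S P : Set G) →
    p⁻¹ * s * p ∈ H ∨ p⁻¹ * (u⁻¹ * s) * p ∈ H
  cen : ∀ z ∈ zc S, ∀ u ∈ zl S H, u ∉ centralizer (zl S P : Set G) →
    p * u * p⁻¹ * z = z * (p * u * p⁻¹) → P ≤ centralizer ({z} : Set G)

/-- Coordinates of `V / D` over a field `F` with two elements. -/
structure Crd (F : Type) [Field F] (S P H D : Subgroup G) (e : G → Fin 2 → F) : Prop where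
  two : ∀ x : F, x = 0 ∨ x = 1
  mul : ∀ v ∈ zl S P, ∀ w ∈ zl S P, e (v * w) = e v + e w
  surj : ∀ x : Fin 2 → F, ∃ v ∈ zl S P, e v = x
  ker : ∀ v ∈ zl S P, e v = 0 ↔ v ∈ D
  DV : D ≤ zl S P
  PD : P ≤ normalizer (D : Set G)
  lift : ∀ A, ∃ g ∈ P, Act e (zl S P) g A ∧ g ∈ centralizer (D : Set G)
  line : ∀ s ∈ S, ∀ v ∈ zl S P, e (s * v * s⁻¹) 1 = 0 ↔ e v 1 = 0
  gen : ∀ K : Subgroup G, S ≤ K →
    (∀ h ∈ P, h ∈ centralizer (D : Set G) → ∀ A, Act e (zl S P) h A → h ∈ K) → P ≤ K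
  act : ∀ u ∈ zl S H, ∃ b : F, Act e (zl S P) u (up b) ∧ u ∈ centralizer (D : Set G)

section mat

variable {F : Type} [Field F]

theorem ap_up' (b : F) (x : Fin 2 → F) : ap (up b) x = ![x 0 + b * x 1, x 1] := by
  funext i
  fin_cases i
  · exact AOne.ap_up_0 b x
  · change ap (up b) x 1 = x 1
    rw [NatPair.ap_eq_mulVec, Matrix.mulVec, dotProduct, Fin.sum_univ_two]
    change ent (up b) 1 0 * x 0 + ent (up b) 1 1 * x 1 = _
    rw [up_10, up_11, zero_mul, zero_add, one_mul]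

theorem ap_lo' (b : F) (x : Fin 2 → F) : ap (lo b) x = ![x 0, b * x 0 + x 1] := by
  funext i
  fin_cases i
  · change ap (lo b) x 0 = x 0
    rw [NatPair.ap_eq_mulVec, Matrix.mulVec, dotProduct, Fin.sum_univ_two]
    change ent (lo b) 0 0 * x 0 + ent (lo b) 0 1 * x 1 = _
    rw [lo_00, lo_01, zero_mul, add_zero, one_mul]
  · exact AOne.ap_lo_1 b x

theorem conj_word [CharP F 2] : up 1 * lo 1 * up (1 : F) * (up 1 * lo 1)⁻¹ = lo 1 := by
  have h2 : (1 : F) + 1 = 0 := CharTwo.add_self_eq_zero 1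
  have hu : (up (1 : F))⁻¹ = up 1 := by
    rw [inv_eq_iff_mul_eq_one, up_mul, h2, up_zero]
  have hl : (lo (1 : F))⁻¹ = lo 1 := by
    rw [inv_eq_iff_mul_eq_one, lo_mul, h2, lo_zero]
  rw [mul_inv_rev, hu, hl]
  apply ext_ent <;> simp only [ent_mul, up_00, up_01, up_10, up_11, lo_00, lo_01, lo_10, lo_11,
    mul_one, mul_zero, add_zero, zero_add, h2]

end mat

namespace Crd

variable [Finite G] {S : Sylow 2 G} {P H D : Subgroup G}
variable {F : Type} [Field F] {e : G → Fin 2 → F}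
variable (C : Crd F (S : Subgroup G) P H D e)

/-- `H₁ ≤ H` -/
theorem mono {H₁ : Subgroup G} (C : Crd F (S : Subgroup G) P H D e)
    (h : zl (S : Subgroup G) H₁ ≤ zl (S : Subgroup G) H) : Crd F (S : Subgroup G) P H₁ D e :=
  { C with act := fun u hu => C.act u (h hu) }

section basic

include C

omit [Finite G] in
theorem e_one : e 1 = 0 := by
  have := C.mul 1 (zl (S : Subgroup G) P).one_mem 1 (zl (S : Subgroup G) P).one_mem
  rw [mul_one] at this
  exact left_eq_add.1 this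

omit [Finite G] in
theorem e_inv {v : G} (hv : v ∈ zl (S : Subgroup G) P) : e v⁻¹ = - e v := by
  have := C.mul v⁻¹ ((zl (S : Subgroup G) P).inv_mem hv) v hv
  rw [inv_mul_cancel, C.e_one] at this
  exact (neg_eq_of_add_eq_zero_left this.symm).symm

omit [Finite G] in
theorem eq_one {x : F} (hx : x ≠ 0) : x = 1 := (C.two x).resolve_left hx

omit [Finite G] C in
theorem nP {g : G} (hg : g ∈ P) : g ∈ normalizer (zl (S : Subgroup G) P : Set G) :=
  le_normalizer_zl _ _ hg

omit [Finite G] C in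
theorem con {g v : G} (hg : g ∈ P) (hv : v ∈ zl (S : Subgroup G) P) :
    g * v * g⁻¹ ∈ zl (S : Subgroup G) P :=
  (mem_normalizer_iff.1 (nP hg) _).1 hv

end basic

section main

variable (hc : IsCharacteristicTwoType G) (hPH : PairA (S : Subgroup G) P H)
include hc hPH

theorem sqV : ∀ v ∈ zl (S : Subgroup G) P, v * v = 1 := fun v hv => by
  rw [← pow_two]; exact (FFThm.elem_zl hc S hPH.par.isLoc).2 v hv

theorem abV : ∀ v ∈ zl (S : Subgroup G) P, ∀ w ∈ zl (S : Subgroup G) P, v * w = w * v := fun v hv w hw =>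
  congrArg Subtype.val ((FFThm.elem_zl hc S hPH.par.isLoc).1.1.1 ⟨v, hv⟩ ⟨w, hw⟩)

theorem US : zl (S : Subgroup G) H ≤ (S : Subgroup G) := IsLong.zl_le_S hc hPH.long

theorem UP : zl (S : Subgroup G) H ≤ P := (US hc hPH).trans hPH.par.le

include C

/-- an element acting trivially on `V / D` and `D` centralises `V` -/
theorem cent {x : G} (hx : x ∈ P) (h1 : ∀ v ∈ zl (S : Subgroup G) P, e (x * v * x⁻¹) = e v)
    (h3 : x ∈ centralizer (D : Set G)) : x ∈ centralizer (zl (S : Subgroup G) P : Set G) := by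
  refine le_centralizer S hPH.par.le C.DV C.PD (sqV hc hPH) ⟨nP hx, fun v hv => ?_⟩ h3
  rw [← C.ker _ ((zl (S : Subgroup G) P).mul_mem (con hx hv) ((zl (S : Subgroup G) P).inv_mem hv)),
    C.mul _ (con hx hv) _ ((zl (S : Subgroup G) P).inv_mem hv), h1 v hv, C.e_inv hv, add_neg_cancel]

theorem act1 {u : G} (hu : u ∈ zl (S : Subgroup G) H) (huV : u ∉ centralizer (zl (S : Subgroup G) P : Set G)) :
    Act e (zl (S : Subgroup G) P) u (up 1) ∧ u ∈ centralizer (D : Set G) := by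
  obtain ⟨b, h1, h3⟩ := C.act u hu
  by_cases hb : b = 0
  · exfalso
    refine huV (C.cent hc hPH (UP hc hPH hu) (fun v hv => ?_) h3)
    rw [h1 v hv, hb, up_zero, ap_one]
  · rw [C.eq_one hb] at h1
    exact ⟨h1, h3⟩

/-- two elements with the same action -/
theorem same {x y : G} {A : Matrix.SpecialLinearGroup (Fin 2) F} (hx : x ∈ P) (hy : y ∈ P)
    (hxA : Act e (zl (S : Subgroup G) P) x A) (hyA : Act e (zl (S : Subgroup G) P) y A)
    (hxD : x ∈ centralizer (D : Set G)) (hyD : y ∈ centralizer (D : Set G)) {v : G}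
    (hv : v ∈ zl (S : Subgroup G) P) : x * v * x⁻¹ = y * v * y⁻¹ := by
  have h1 : y⁻¹ * x ∈ centralizer (zl (S : Subgroup G) P : Set G) := by
    refine C.cent hc hPH (mul_mem (inv_mem hy) hx) ?_ (mul_mem (inv_mem hyD) hxD)
    have h3 := (hyA.inv (nP hy)).mul hxA (nP hx)
    rw [inv_mul_cancel] at h3
    intro w hw
    rw [h3 w hw, ap_one]
  have h2 := mem_centralizer_iff.1 h1 v hv
  calc x * v * x⁻¹ = y * (y⁻¹ * x * v) * x⁻¹ := by group
    _ = y * (v * (y⁻¹ * x)) * x⁻¹ := by rw [h2]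
    _ = y * v * y⁻¹ := by group

/-- a point of `Z` -/
theorem exists_z : ∃ z ∈ zc (S : Subgroup G), e z = ![1, 0] := by
  by_contra hcon'
  push Not at hcon'
  obtain ⟨u₀, hu₀, hu₀V⟩ := SetLike.not_le_iff_exists.1 hPH.ne'
  obtain ⟨a₀, d₀⟩ := C.act1 hc hPH hu₀ hu₀V
  have hZD : zc (S : Subgroup G) ≤ D := by
    intro z hz
    have hzW : z ∈ zl (S : Subgroup G) P := zc_le_zl _ _ hz
    by_contra hzD
    refine hcon' z hz ?_
    have h1 : e z ≠ 0 := fun h => hzD ((C.ker z hzW).1 h)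
    have h3 := a₀ z hzW
    have h4 : u₀ * z * u₀⁻¹ = z := by
      rw [(mem_zc.1 hz).2.1 u₀ (US hc hPH hu₀)]
      group
    rw [h4, ap_up'] at h3
    have h5 : e z 0 = e z 0 + 1 * e z 1 := congrFun h3 0
    have h6 : e z 1 = 0 := by
      rw [one_mul] at h5
      exact (left_eq_add.1 h5)
    have h7 : e z 0 = 1 := by
      refine C.eq_one fun h => h1 ?_
      funext i
      fin_cases i
      · exact h
      · exact h6
    funext i
    fin_cases i
    · exact h7
    · exact h6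
  have h1 : zl (S : Subgroup G) P ≤ D := zl_le hZD C.PD
  obtain ⟨w, hw, hew⟩ := C.surj ![0, 1]
  have h3 := (C.ker w hw).2 (h1 hw)
  rw [hew] at h3
  have := congrFun h3 1
  simp at this

/-- (c1) -/
theorem c1 {u v : G} (hu : u ∈ zl (S : Subgroup G) H) (hv : v ∈ zl (S : Subgroup G) P) (h1 : e v 1 = 0) :
    u * v * u⁻¹ = v := by
  obtain ⟨z, hz, hez⟩ := C.exists_z hc hPH
  have hzW : z ∈ zl (S : Subgroup G) P := zc_le_zl _ _ hz
  obtain ⟨b, -, hd⟩ := C.act u hu
  have hzu : u * z = z * u := (mem_zc.1 hz).2.1 u (US hc hPH hu)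
  rcases C.two (e v 0) with h0 | h0
  · have h3 : v ∈ D := (C.ker v hv).1 (by funext i; fin_cases i; exacts [h0, h1])
    rw [← mem_centralizer_iff.1 hd v h3]
    group
  · have h3 : v * z⁻¹ ∈ D := by
      rw [← C.ker _ ((zl (S : Subgroup G) P).mul_mem hv ((zl (S : Subgroup G) P).inv_mem hzW)),
        C.mul v hv _ ((zl (S : Subgroup G) P).inv_mem hzW), C.e_inv hzW, hez]
      funext i
      fin_cases i
      · change e v 0 + -(1 : F) = 0
        rw [h0, add_neg_cancel]
      · change e v 1 + -(0 : F) = 0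
        rw [h1, neg_zero, add_zero]
    have h4 := mem_centralizer_iff.1 hd _ h3
    have h5 : u * (v * z⁻¹) * z = v * z⁻¹ * z * u := by
      rw [← h4, mul_assoc, mul_assoc, hzu]
      group
    have h6 : u * v = v * u := by
      calc u * v = u * (v * z⁻¹) * z := by group
        _ = v * z⁻¹ * z * u := h5
        _ = v * u := by group
    rw [h6]
    group

/-- (c2) -/
theorem exists_t : ∃ t ∈ zc (S : Subgroup G), e t = ![1, 0] ∧
    ∀ u ∈ zl (S : Subgroup G) H, u ∉ centralizer (zl (S : Subgroup G) P : Set G) →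
      ∀ v ∈ zl (S : Subgroup G) P, e v 1 ≠ 0 → u * v * u⁻¹ * v⁻¹ = t := by
  obtain ⟨u₀, hu₀, hu₀V⟩ := SetLike.not_le_iff_exists.1 hPH.ne'
  obtain ⟨a₀, d₀⟩ := C.act1 hc hPH hu₀ hu₀V
  obtain ⟨w, hw, hew0⟩ := C.surj ![0, 1]
  have hVS : zl (S : Subgroup G) P ≤ (S : Subgroup G) := IsParS.zl_le_S hc hPH.par
  have hSU : (S : Subgroup G) ≤ normalizer (zl (S : Subgroup G) H : Set G) :=
    hPH.long.loc.le.trans (le_normalizer_zl _ _)
  set t := u₀ * w * u₀⁻¹ * w⁻¹ with ht
  -- (c2)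
  have c2 : ∀ u ∈ zl (S : Subgroup G) H, u ∉ centralizer (zl (S : Subgroup G) P : Set G) →
      ∀ v ∈ zl (S : Subgroup G) P, e v 1 ≠ 0 → u * v * u⁻¹ * v⁻¹ = t := by
    intro u hu huV v hv h1
    obtain ⟨a, d⟩ := C.act1 hc hPH hu huV
    have h4 : u * w * u⁻¹ = u₀ * w * u₀⁻¹ :=
      C.same hc hPH (UP hc hPH hu) (UP hc hPH hu₀) a a₀ d d₀ hw
    have h5 : e (v * w⁻¹) 1 = 0 := by
      rw [C.mul v hv _ (inv_mem hw), C.e_inv hw, hew0, Pi.add_apply, Pi.neg_apply, C.eq_one h1]
      change (1 : F) + -1 = 0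
      rw [add_neg_cancel]
    have h6 := C.c1 hc hPH hu (mul_mem hv (inv_mem hw)) h5
    have h7 : u * v * u⁻¹ * v⁻¹ = (u * (v * w⁻¹) * u⁻¹) * (u * w * u⁻¹ * w⁻¹) * (v * w⁻¹)⁻¹ := by group
    have htW : u * w * u⁻¹ * w⁻¹ ∈ zl (S : Subgroup G) P := mul_mem (con (UP hc hPH hu) hw) (inv_mem hw)
    rw [h7, h6, abV hc hPH _ (mul_mem hv (inv_mem hw)) _ htW, mul_inv_cancel_right, h4, ht]
  have htW : t ∈ zl (S : Subgroup G) P := mul_mem (con (UP hc hPH hu₀) hw) (inv_mem hw)
  refine ⟨t, mem_zc.2 ⟨hVS htW, fun s hs => ?_, by rw [pow_two]; exact sqV hc hPH t htW⟩, ?_, c2⟩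
  · have hsU : s * u₀ * s⁻¹ ∈ zl (S : Subgroup G) H := (mem_normalizer_iff.1 (hSU hs) _).1 hu₀
    have hsV : s * u₀ * s⁻¹ ∉ centralizer (zl (S : Subgroup G) P : Set G) := fun h =>
      hu₀V ((mem_normalizer_iff.1 (conj_cent (nP (hPH.par.le hs))) _).2 h)
    have h1 : e (s * w * s⁻¹) 1 ≠ 0 := by
      intro h4
      have h5 : e w 1 = 0 := (C.line s hs w hw).1 h4
      rw [hew0] at h5
      exact one_ne_zero h5
    have h3 := c2 _ hsU hsV _ (con (hPH.par.le hs) hw) h1
    have h4 : s * u₀ * s⁻¹ * (s * w * s⁻¹) * (s * u₀ * s⁻¹)⁻¹ * (s * w * s⁻¹)⁻¹ = s * t * s⁻¹ := by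
      rw [ht]; group
    rw [h4] at h3
    calc s * t = s * t * s⁻¹ * s := by group
      _ = t * s := by rw [h3]
  · rw [ht, C.mul _ (con (UP hc hPH hu₀) hw) _ (inv_mem hw), a₀ w hw, C.e_inv hw, hew0, ap_up']
    funext i
    fin_cases i
    · simp
    · simp

end main

section nat

variable [CharP F 2] (hc : IsCharacteristicTwoType G) (hPH : PairA (S : Subgroup G) P H)
include hc hPH C

/-- an element of `C_S(V / D)` fixes `a` -/
theorem fix_a {t p : G} (htZ : t ∈ zc (S : Subgroup G)) (hp : p ∈ P)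
    (hpA : Act e (zl (S : Subgroup G) P) p (up 1 * lo 1)) (hpD : p ∈ centralizer (D : Set G))
    (het : e t = ![1, 0])
    (hat : ∀ u ∈ zl (S : Subgroup G) H, u ∉ centralizer (zl (S : Subgroup G) P : Set G) →
      (p * u * p⁻¹) * t * (p * u * p⁻¹)⁻¹ = p * t * p⁻¹ * t)
    {c : G} (hcS : c ∈ (S : Subgroup G)) (hca : e (c * (p * t * p⁻¹) * c⁻¹) = ![0, 1]) :
    c * (p * t * p⁻¹) = p * t * p⁻¹ * c := by
  have hcP : c ∈ P := hPH.par.le hcS
  have htV : t ∈ zl (S : Subgroup G) P := zc_le_zl _ _ htZ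
  set a := p * t * p⁻¹ with ha
  have haV : a ∈ zl (S : Subgroup G) P := con hp htV
  have hea : e a = ![0, 1] := by
    rw [ha, hpA t htV, ap_mul, het, ap_lo', ap_up']
    funext i
    fin_cases i
    · simp [CharTwo.add_self_eq_zero]
    · simp
  have hct : c * t * c⁻¹ = t := by
    rw [(mem_zc.1 htZ).2.1 c hcS]
    group
  obtain ⟨u, hu, huV⟩ := SetLike.not_le_iff_exists.1 hPH.ne'
  obtain ⟨aU, dU⟩ := C.act1 hc hPH hu huV
  -- `c` is trivial on `V / D`
  have hconj : ∀ {v}, v ∈ zl (S : Subgroup G) P → c * v * c⁻¹ ∈ zl (S : Subgroup G) P := fun hv => con hcP hv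
  have hadd : ∀ v ∈ zl (S : Subgroup G) P, ∀ w ∈ zl (S : Subgroup G) P,
      e (c * (v * w) * c⁻¹) = e (c * v * c⁻¹) + e (c * w * c⁻¹) := by
    intro v hv w hw
    rw [← C.mul _ (hconj hv) _ (hconj hw)]
    congr 1
    group
  have hDc : ∀ d ∈ D, e (c * d * c⁻¹) = 0 := fun d hd =>
    (C.ker _ (hconj (C.DV hd))).2 ((mem_normalizer_iff.1 (C.PD hcP) d).1 hd)
  have htriv : ∀ v ∈ zl (S : Subgroup G) P, e (c * v * c⁻¹) = e v := by
    -- `v = w d`
    have key : ∀ w ∈ zl (S : Subgroup G) P, e (c * w * c⁻¹) = e w → ∀ v ∈ zl (S : Subgroup G) P, e v = e w →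
        e (c * v * c⁻¹) = e v := by
      intro w hw hcw v hv hvw
      have h1 : v * w⁻¹ ∈ D := by
        rw [← C.ker _ (mul_mem hv (inv_mem hw)), C.mul v hv _ (inv_mem hw), C.e_inv hw, hvw, add_neg_cancel]
      have h2 := hadd (v * w⁻¹) (mul_mem hv (inv_mem hw)) w hw
      rw [inv_mul_cancel_right, hDc _ h1, hcw, zero_add] at h2
      rw [h2, hvw]
    intro v hv
    have htt : e (c * t * c⁻¹) = e t := by rw [hct]
    have haa : e (c * a * c⁻¹) = e a := by rw [hca, hea]
    rcases C.two (e v 0) with h0 | h0 <;> rcases C.two (e v 1) with h1 | h1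
    · refine key 1 (one_mem _) (by rw [mul_one, mul_inv_cancel]) v hv ?_
      rw [C.e_one]
      funext i; fin_cases i; exacts [h0, h1]
    · refine key a haV haa v hv ?_
      rw [hea]
      funext i; fin_cases i; exacts [h0, h1]
    · refine key t htV htt v hv ?_
      rw [het]
      funext i; fin_cases i; exacts [h0, h1]
    · refine key (t * a) (mul_mem htV haV) ?_ v hv ?_
      · rw [hadd t htV a haV, htt, haa, C.mul t htV a haV]
      · rw [C.mul t htV a haV, het, hea]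
        funext i
        fin_cases i
        · simpa using h0
        · simpa using h1
  -- `u' = p u p⁻¹` and `c⁻¹ u' c` act in the same way
  have hu'P : p * u * p⁻¹ ∈ P := mul_mem (mul_mem hp (UP hc hPH hu)) (inv_mem hp)
  have hu'D : p * u * p⁻¹ ∈ centralizer (D : Set G) := mul_mem (mul_mem hpD dU) (inv_mem hpD)
  have hu'A := (hpA.mul aU (nP (UP hc hPH hu))).mul (hpA.inv (nP hp)) (inv_mem (nP hp))
  have hcA : Act e (zl (S : Subgroup G) P) c 1 := fun v hv => by rw [ap_one]; exact htriv v hv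
  have h1A := ((hcA.inv (nP hcP)).mul hu'A (nP hu'P)).mul hcA (nP hcP)
  rw [inv_one, one_mul, mul_one] at h1A
  have hD1 : c⁻¹ * (p * u * p⁻¹) * c ∈ centralizer (D : Set G) := by
    have h1 := (mem_normalizer_iff.1 (conj_cent (inv_mem (C.PD hcP))) _).1 hu'D
    rwa [inv_inv] at h1
  have h1 := C.same hc hPH (mul_mem (mul_mem (inv_mem hcP) hu'P) hcP) hu'P h1A hu'A hD1 hu'D htV
  rw [hat u hu huV] at h1
  have hct' : c * t = t * c := by
    rw [(mem_zc.1 htZ).2.1 c hcS]
  have h2 : c⁻¹ * (p * u * p⁻¹) * c * t * (c⁻¹ * (p * u * p⁻¹) * c)⁻¹ =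
      c⁻¹ * ((p * u * p⁻¹) * (c * t * c⁻¹) * (p * u * p⁻¹)⁻¹) * c := by group
  rw [h2, hct, hat u hu huV] at h1
  have h3 : a * t * c = c * (a * t) := by
    calc a * t * c = c * (c⁻¹ * (a * t) * c) := by group
      _ = c * (a * t) := by rw [h1]
  have h4 : a * c * t = c * a * t := by
    calc a * c * t = a * (c * t) := by group
      _ = a * t * c := by rw [hct']; group
      _ = c * a * t := by rw [h3]; group
  exact (mul_right_cancel h4).symm

/-- **`NatS`.** -/
theorem exists_nat (hgen : Gen (S : Subgroup G) H) : ∃ t p, NatS (S : Subgroup G) P H D t p := by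
  obtain ⟨t, htZ, het, c2⟩ := C.exists_t hc hPH
  obtain ⟨p, hp, hpA, hpD⟩ := C.lift (up 1 * lo 1)
  have h2 : (1 : F) + 1 = 0 := CharTwo.add_self_eq_zero 1
  have hneg : (-1 : F) = 1 := by
    rw [neg_eq_iff_add_eq_zero, h2]
  have htV : t ∈ zl (S : Subgroup G) P := zc_le_zl _ _ htZ
  have ht1 : t ≠ 1 := by
    rintro rfl
    rw [C.e_one] at het
    exact one_ne_zero (congrFun het 0).symm
  have htt : t * t = 1 := sqV hc hPH t htV
  set a := p * t * p⁻¹ with ha
  have haV : a ∈ zl (S : Subgroup G) P := con hp htV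
  have hea : e a = ![0, 1] := by
    rw [ha, hpA t htV, ap_mul, het, ap_lo', ap_up']
    funext i
    fin_cases i
    · simp [CharTwo.add_self_eq_zero]
    · simp
  have hab := abV hc hPH
  have hUP := UP hc hPH
  have hUS := US hc hPH
  have hua : ∀ u ∈ zl (S : Subgroup G) H, u ∉ centralizer (zl (S : Subgroup G) P : Set G) →
      u * a * u⁻¹ = a * t := by
    intro u hu huV
    have h1 := c2 u hu huV a haV (by rw [hea]; exact one_ne_zero)
    rw [hab a haV t htV, ← h1]
    group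
  have hut : ∀ u ∈ zl (S : Subgroup G) H, u ∉ centralizer (zl (S : Subgroup G) P : Set G) →
      (p * u * p⁻¹) * t * (p * u * p⁻¹)⁻¹ = a * t := by
    intro u hu huV
    have hv : p⁻¹ * t * p ∈ zl (S : Subgroup G) P := by
      have := con (S := S) (inv_mem hp) htV
      rwa [inv_inv] at this
    have hev : e (p⁻¹ * t * p) 1 ≠ 0 := by
      have h1 := hpA.inv (nP hp) t htV
      rw [inv_inv] at h1
      intro h0
      have h3 : ap (up 1 * lo 1) (e (p⁻¹ * t * p)) = e t := by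
        rw [h1, ← ap_mul, mul_inv_cancel, ap_one]
      rw [ap_mul, ap_lo', ap_up', het] at h3
      have h4 := congrFun h3 0
      have h5 := congrFun h3 1
      simp only [Matrix.cons_val_zero, Matrix.cons_val_one, h0, add_zero, one_mul] at h4 h5
      rw [h5, add_zero] at h4
      exact zero_ne_one h4
    have h1 := c2 u hu huV _ hv hev
    have h3 : u * (p⁻¹ * t * p) * u⁻¹ = t * (p⁻¹ * t * p) := by
      calc u * (p⁻¹ * t * p) * u⁻¹ = (u * (p⁻¹ * t * p) * u⁻¹ * (p⁻¹ * t * p)⁻¹) * (p⁻¹ * t * p) := by group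
        _ = t * (p⁻¹ * t * p) := by rw [h1]
    calc (p * u * p⁻¹) * t * (p * u * p⁻¹)⁻¹ = p * (u * (p⁻¹ * t * p) * u⁻¹) * p⁻¹ := by group
      _ = p * (t * (p⁻¹ * t * p)) * p⁻¹ := by rw [h3]
      _ = a * t := by rw [ha]; group
  have hctZ : centralizer (zl (S : Subgroup G) P : Set G) ≤ H :=
    (centralizer_le (zc_le_zl _ _)).trans hPH.long.cz
  have ZD : ∀ z ∈ zc (S : Subgroup G), z ∈ D ∨ z * t⁻¹ ∈ D := by
    intro z hz
    have hzV : z ∈ zl (S : Subgroup G) P := zc_le_zl _ _ hz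
    obtain ⟨u₀, hu₀, hu₀V⟩ := SetLike.not_le_iff_exists.1 hPH.ne'
    have h1 : e z 1 = 0 := by
      by_contra h0
      apply ht1
      rw [← c2 u₀ hu₀ hu₀V z hzV h0, (mem_zc.1 hz).2.1 u₀ (hUS hu₀)]
      group
    rcases C.two (e z 0) with h0 | h0
    · left
      exact (C.ker z hzV).1 (by funext i; fin_cases i; exacts [h0, h1])
    · right
      rw [← C.ker _ (mul_mem hzV (inv_mem htV)), C.mul z hzV _ (inv_mem htV), C.e_inv htV, het]
      funext i
      fin_cases i
      · change e z 0 + -(1 : F) = 0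
        rw [h0, add_neg_cancel]
      · change e z 1 + -(0 : F) = 0
        rw [h1, neg_zero, add_zero]
  refine ⟨t, p, ⟨hPH.par, hPH.long, htZ, fun v hv u hu => ?_, hPH.ne', hp, fun u hu huV => ?_, hgen⟩, ht1,
    C.DV, hpD, fun u hu => (C.act u hu).choose_spec.2, hua, hut, fun v hv => ?_, ZD, ?_, ?_⟩
  · by_cases huV : u ∈ centralizer (zl (S : Subgroup G) P : Set G)
    · left
      have h1 := mem_centralizer_iff.1 huV v hv
      rw [← h1]
      group
    · by_cases h1 : e v 1 = 0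
      · left
        rw [C.c1 hc hPH hu hv h1, mul_inv_cancel]
      · exact Or.inr (c2 u hu huV v hv h1)
  · have huP : u ∈ P := hUP hu
    obtain ⟨b, d⟩ := C.act1 hc hPH hu huV
    have h1 : p * u⁻¹ * p⁻¹ * u * p ∈ centralizer (zl (S : Subgroup G) P : Set G) := by
      refine C.cent hc hPH (mul_mem (mul_mem (mul_mem (mul_mem hp (inv_mem huP)) (inv_mem hp)) huP) hp) ?_
        (mul_mem (mul_mem (mul_mem (mul_mem hpD (inv_mem d)) (inv_mem hpD)) d) hpD)
      have nu : u ∈ normalizer (zl (S : Subgroup G) P : Set G) := nP huP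
      have np : p ∈ normalizer (zl (S : Subgroup G) P : Set G) := nP hp
      have h3 := (((hpA.mul (b.inv nu) (inv_mem nu)).mul (hpA.inv np) (inv_mem np)).mul b nu).mul hpA np
      rw [word_eq] at h3
      intro x hx
      rw [h3 x hx, ap_one]
    exact hctZ h1
  · by_cases h1 : e v 1 = 0
    · left
      rw [mem_centralizer_iff]
      intro u hu
      exact mul_inv_eq_iff_eq_mul.1 (C.c1 hc hPH hu hv h1)
    · right
      have h3 : e (v * a⁻¹) 1 = 0 := by
        rw [C.mul v hv _ (inv_mem haV), C.e_inv haV, hea, Pi.add_apply, Pi.neg_apply, C.eq_one h1]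
        change (1 : F) + -1 = 0
        rw [add_neg_cancel]
      rw [mem_centralizer_iff]
      intro u hu
      exact mul_inv_eq_iff_eq_mul.1 (C.c1 hc hPH hu (mul_mem hv (inv_mem haV)) h3)
  · -- `p⁻¹ c p ∈ C(Z)` for `c ∈ S` trivial on `V / D`
    have key : ∀ c ∈ (S : Subgroup G), e (c * a * c⁻¹) = ![0, 1] → p⁻¹ * c * p ∈ H := by
      intro c hcS hca
      have h1 := C.fix_a hc hPH htZ hp hpA hpD het hut hcS hca
      rw [← ha] at h1
      refine hPH.long.cz (mem_centralizer_iff.2 fun z hz => ?_)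
      have hd : ∀ d ∈ D, d ∈ zc (S : Subgroup G) → d * (p⁻¹ * c * p) = p⁻¹ * c * p * d := by
        intro d hd hdZ
        have e1 := mem_centralizer_iff.1 hpD d hd
        have e2 := (mem_zc.1 hdZ).2.1 c hcS
        have e3 : d * p⁻¹ = p⁻¹ * d := by
          calc d * p⁻¹ = p⁻¹ * (p * d) * p⁻¹ := by group
            _ = p⁻¹ * d := by rw [← e1]; group
        calc d * (p⁻¹ * c * p) = (d * p⁻¹) * c * p := by group
          _ = p⁻¹ * (d * c) * p := by rw [e3]; group
          _ = p⁻¹ * c * (d * p) := by rw [← e2]; group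
          _ = p⁻¹ * c * p * d := by rw [e1]; group
      have ht : t * (p⁻¹ * c * p) = p⁻¹ * c * p * t := by
        calc t * (p⁻¹ * c * p) = p⁻¹ * (a * c) * p := by rw [ha]; group
          _ = p⁻¹ * (c * a) * p := by rw [h1]
          _ = p⁻¹ * c * p * t := by rw [ha]; group
      rcases ZD z hz with h3 | h3
      · exact hd z h3 hz
      · have h4 := hd _ h3 (mul_mem hz (inv_mem htZ))
        calc z * (p⁻¹ * c * p) = z * t⁻¹ * (t * (p⁻¹ * c * p)) := by group
          _ = z * t⁻¹ * (p⁻¹ * c * p) * t := by rw [ht]; group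
          _ = p⁻¹ * c * p * z := by rw [h4]; group
    intro s hs u hu huV
    have hsP : s ∈ P := hPH.par.le hs
    have h1 : e (s * a * s⁻¹) 1 = 1 := by
      refine C.eq_one fun h0 => ?_
      have h3 := (C.line s hs a haV).1 h0
      rw [hea] at h3
      exact one_ne_zero h3
    rcases C.two (e (s * a * s⁻¹) 0) with h0 | h0
    · left
      refine key s hs ?_
      funext i
      fin_cases i
      · exact h0
      · exact h1
    · right
      refine key (u⁻¹ * s) (mul_mem (inv_mem (hUS hu)) hs) ?_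
      have h3 : (u⁻¹ * s) * a * (u⁻¹ * s)⁻¹ = u⁻¹ * (s * a * s⁻¹) * u⁻¹⁻¹ := by group
      have h4 := ((C.act1 hc hPH hu huV).1.inv (nP (hUP hu))) _ (con hsP haV)
      rw [h3, h4, up_inv, ap_up', h0, h1, hneg]
      funext i
      fin_cases i
      · simp [h2]
      · simp
  · intro z hz u hu huV hzu
    have hzV : z ∈ zl (S : Subgroup G) P := zc_le_zl _ _ hz
    obtain ⟨bu, du⟩ := C.act1 hc hPH hu huV
    have huP := hUP hu
    have hu'A := (hpA.mul bu (nP huP)).mul (hpA.inv (nP hp)) (inv_mem (nP hp))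
    rw [conj_word] at hu'A
    have hu'P : p * u * p⁻¹ ∈ P := mul_mem (mul_mem hp huP) (inv_mem hp)
    have hu'D : p * u * p⁻¹ ∈ centralizer (D : Set G) := mul_mem (mul_mem hpD du) (inv_mem hpD)
    have hu'z : p * u * p⁻¹ ∈ centralizer ({z} : Set G) := by
      rw [mem_centralizer_singleton_iff]
      exact hzu
    have huz : u ∈ centralizer ({z} : Set G) := by
      rw [mem_centralizer_singleton_iff]
      exact (mem_zc.1 hz).2.1 u (hUS hu)
    -- the elements realised in `C(z)`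
    have hup : ∀ b : F, ∃ w ∈ centralizer ({z} : Set G), w ∈ P ∧ w ∈ centralizer (D : Set G) ∧
        Act e (zl (S : Subgroup G) P) w (up b) := by
      intro b
      rcases C.two b with rfl | rfl
      · exact ⟨1, one_mem _, one_mem _, one_mem _, by rw [up_zero]; exact AOne.Act.one⟩
      · exact ⟨u, huz, huP, du, bu⟩
    have hlo : ∀ b : F, ∃ w ∈ centralizer ({z} : Set G), w ∈ P ∧ w ∈ centralizer (D : Set G) ∧
        Act e (zl (S : Subgroup G) P) w (lo b) := by
      intro b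
      rcases C.two b with rfl | rfl
      · exact ⟨1, one_mem _, one_mem _, one_mem _, by rw [lo_zero]; exact AOne.Act.one⟩
      · exact ⟨_, hu'z, hu'P, hu'D, hu'A⟩
    refine C.gen _ (fun s hs => ?_) fun h hh hhD A hA => ?_
    · rw [mem_centralizer_singleton_iff]
      exact (mem_zc.1 hz).2.1 s hs
    · obtain ⟨b1, b2, b3, b4, rfl⟩ := exists_up_lo A
      obtain ⟨w1, z1, p1, d1, a1⟩ := hup b1
      obtain ⟨w2, z2, p2, d2, a2⟩ := hlo b2
      obtain ⟨w3, z3, p3, d3, a3⟩ := hup b3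
      obtain ⟨w4, z4, p4, d4, a4⟩ := hlo b4
      have h1 := ((a1.mul a2 (nP p2)).mul a3 (nP p3)).mul a4 (nP p4)
      have h3 := C.same hc hPH hh (mul_mem (mul_mem (mul_mem p1 p2) p3) p4) hA h1 hhD
        (mul_mem (mul_mem (mul_mem d1 d2) d3) d4) hzV
      have h4 : w1 * w2 * w3 * w4 ∈ centralizer ({z} : Set G) := mul_mem (mul_mem (mul_mem z1 z2) z3) z4
      rw [mem_centralizer_singleton_iff] at h4 ⊢
      rw [← mul_inv_eq_iff_eq_mul, h3, h4, mul_inv_cancel_right]

end nat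

end Crd

/-- **`Crd` from the FF theorem.** -/
theorem crd_of_natK [Finite G] {S : Sylow 2 G} {P H D : Subgroup G} {F : Type} [Field F]
    (hc : IsCharacteristicTwoType G) (hPH : PairA (S : Subgroup G) P H)
    (hoff : Off (zl (S : Subgroup G) P) (zl (S : Subgroup G) H)) (hF : ∀ x : F, x = 0 ∨ x = 1)
    (M : NatK F (S : Subgroup G) P (zl (S : Subgroup G) P) D 1) (hDV : D ≤ zl (S : Subgroup G) P) :
    Crd F (S : Subgroup G) P H D fun g => M.e g 0 := by
  have hS := hPH.par.le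
  have ker : ∀ v ∈ zl (S : Subgroup G) P, M.e v 0 = 0 ↔ v ∈ D := fun v hv => by
    rw [← M.ker v hv]
    constructor
    · intro h
      funext i
      rw [Subsingleton.elim i 0]
      exact h
    · intro h
      rw [h]
      rfl
  have hcon : ∀ {g v : G}, g ∈ P → v ∈ zl (S : Subgroup G) P → g * v * g⁻¹ ∈ zl (S : Subgroup G) P := fun hg hv =>
    (mem_normalizer_iff.1 (le_normalizer_zl _ _ hg) _).1 hv
  have ker' : ∀ g ∈ P, ∀ v ∈ zl (S : Subgroup G) P, M.e (g * v * g⁻¹) 0 = 0 ↔ M.e v 0 = 0 := by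
    intro g hg v hv
    obtain ⟨σ, hσ⟩ := M.perm g hg
    have h1 := hσ v hv 0
    rwa [Subsingleton.elim (σ 0) 0] at h1
  refine ⟨hF, fun v hv w hw => ?_, fun x => ?_, ker, hDV, ?_, fun A => ?_, fun s hs v hv => ?_, ?_, ?_⟩
  · rw [M.mul v hv w hw]
    rfl
  · obtain ⟨v, hv, h⟩ := M.surj fun _ => x
    exact ⟨v, hv, congrFun h 0⟩
  · intro g hg
    rw [mem_normalizer_iff]
    intro x
    constructor
    · intro hx
      have hxW := hDV hx
      rw [← ker _ (hcon hg hxW), ker' g hg x hxW]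
      exact (ker x hxW).2 hx
    · intro hx
      have hxW : x ∈ zl (S : Subgroup G) P := (mem_normalizer_iff.1 (le_normalizer_zl _ _ hg) _).2 (hDV hx)
      rw [← ker x hxW, ← ker' g hg x hxW]
      exact (ker _ (hcon hg hxW)).2 hx
  · obtain ⟨g, hg, h1, h2⟩ := M.lift fun _ => A
    exact ⟨g, hg, fun v hv => h1 v hv 0, mem_centralizer_iff.2 fun d hd => (h2 d hd).symm⟩
  · obtain ⟨σ, hσ⟩ := M.line s hs
    have h3 := hσ v hv 0
    rwa [Subsingleton.elim (σ 0) 0] at h3
  · intro K h1 h2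
    refine M.gen K h1 fun h hh A hA => h2 h hh (mem_centralizer_iff.2 fun d hd => (hA.2 d hd).symm) (A 0)
      fun v hv => hA.1 v hv 0
  · intro u hu
    obtain ⟨I, h1, -⟩ := M.off _ (IsLong.zl_le_S hc hPH.long) hoff
    obtain ⟨b, -, h3, h4⟩ := h1 u hu
    exact ⟨b 0, fun v hv => h3 v hv 0, mem_centralizer_iff.2 fun d hd => (h4 d hd).symm⟩

end Cfsg.Agent.Omega.NOThreeL.RAOne

end
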