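import Cfsg.Agent.Mrg.Omega.NOThreeL.AOne
import Cfsg.Agent.Mrg.Omega.All.HOneKer


/-!
# NO-3L, case (A), with radical: `V_P` of type `S_{2^m+1}^k` is impossible (helper797)

`AFourSym.no_sym` (#14566 (2), #16668, helper477) without the hypothesis `C_Z(P) = 1`.  `V = V_P`,
`D = C_V(O²(P))`, `M : SymK S P V D k m`, `m ≥ 2`.

* `const_r` : `Z` is constant on the nonzero points of every component (modulo `D`);
* `exists_moved` : an element of `S` acting nontrivially on `V / D` moves a nonzero point;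
* `false_of` : instead of a transposition, the square `g = x²` of a lift `x` of a 3-cycle `(y w u)` on nonzero
  points: `x` centralises `D` and `Z` modulo `D`, so `g` centralises `Z`;
* `no_sym` : **there is no pair of type (A) with `V_P` of type `S_{2^m+1}^k`** (`Data S`).
-/

set_option autoImplicit false

namespace Cfsg.Agent.Omega.NOThreeL.RSym

open Subgroup Cfsg Cfsg.Agent.ZN Cfsg.Agent.Omega.MinPar Cfsg.Agent.Omega.Frame Cfsg.Agent.Omega.FrameNOFF
open Cfsg.Agent.ZN.ChoiceBase Cfsg.Agent.ZN.ChoiceSit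
open Cfsg.Agent.Omega.Node.NO3L Cfsg.Agent.Omega.NOThreeL.Basic
open Cfsg.Agent.Omega.FFThm (Off SymK ActsSym)
open Cfsg.Agent.MinSimple.VModule (le_normalizer_zl)
open Cfsg.Agent.Omega.NOThreeL.AThree (exists_perm odd_pow acts_pow exists_ne ai ia)

universe u

variable {G : Type u} [Group G] [Finite G]

/-- **`Z` is constant on the nonzero points.** -/
theorem const_r (S : Sylow 2 G) {P V D : Subgroup G} {k m : ℕ} (hm : 1 ≤ m) (hSP : (S : Subgroup G) ≤ P)
    (hPV : P ≤ normalizer (V : Set G)) (M : SymK (S : Subgroup G) P V D k m) {z : G} (hzV : z ∈ V)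
    (hz : ∀ s ∈ (S : Subgroup G), s * z = z * s) (i : Fin k) {x y : Fin (2 ^ m + 1)} (hx : x ≠ 0)
    (hy : y ≠ 0) : M.e z i x = M.e z i y := by
  classical
  have hN : ∀ {g : G}, g ∈ P → ∀ v ∈ V, g * v * g⁻¹ ∈ V := fun hg v hv =>
    (mem_normalizer_iff.1 (hPV hg) v).1 hv
  have h2m : 0 < 2 ^ m := by positivity
  obtain ⟨π, hπ0, hπn, hπ⟩ := exists_perm h2m
  obtain ⟨g, hg, hact, -⟩ := M.lift (Function.update 1 i π)
  -- the 2-part
  obtain ⟨a, r, hr, ho⟩ := Nat.exists_eq_two_pow_mul_odd (n := orderOf g) (orderOf_pos g).ne'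
  have hp : IsPGroup 2 (zpowers (g ^ r)) := by
    rintro ⟨u, hu⟩
    obtain ⟨j, rfl⟩ := mem_zpowers_iff.1 hu
    refine ⟨a, Subtype.ext ?_⟩
    have h1 : (g ^ r) ^ 2 ^ a = 1 := by
      rw [← pow_mul, mul_comm, ← ho, pow_orderOf_eq_one]
    change ((g ^ r) ^ j) ^ 2 ^ a = 1
    rw [← zpow_natCast, ← zpow_mul, mul_comm, zpow_mul, zpow_natCast, h1, one_zpow]
  obtain ⟨n, hn, hnS⟩ := FFThm.exists_conj_le S hSP hp (zpowers_le.2 (pow_mem hg r))
  have hS : n * g ^ r * n⁻¹ ∈ (S : Subgroup G) := hnS (by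
    rw [mem_cj]
    have : n⁻¹ * (n * g ^ r * n⁻¹) * n = g ^ r := by group
    rw [this]
    exact mem_zpowers _)
  have hgr := acts_pow (hPV hg) hact r
  obtain ⟨σ, τ, hστ⟩ := M.perm n hn
  -- the action of `n g^r n⁻¹`
  have hconj : ActsSym M.e V (n * g ^ r * n⁻¹) 1
      (fun l => τ (σ⁻¹ l) * ((Function.update 1 i π : Fin k → Equiv.Perm (Fin (2 ^ m + 1))) ^ r) (σ⁻¹ l) *
        (τ (σ⁻¹ l))⁻¹) := by
    intro v hv l u
    obtain ⟨j, rfl⟩ := σ.surjective l
    obtain ⟨u, rfl⟩ := (τ j).surjective u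
    have hw : n⁻¹ * v * n ∈ V := by
      have := (mem_normalizer_iff.1 (inv_mem (hPV hn)) v).1 hv
      rwa [inv_inv] at this
    have e1 : n * g ^ r * n⁻¹ * v * (n * g ^ r * n⁻¹)⁻¹ = n * (g ^ r * (n⁻¹ * v * n) * (g ^ r)⁻¹) * n⁻¹ := by
      group
    have e2 : n * (n⁻¹ * v * n) * n⁻¹ = v := by group
    have h3 := hστ _ (hN (pow_mem hg r) _ hw) j
      (((Function.update 1 i π : Fin k → Equiv.Perm (Fin (2 ^ m + 1))) ^ r) j u)
    have h4 := hgr _ hw j u
    have h5 := hστ _ hw j u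
    rw [e2] at h5
    rw [e1]
    simp only [Equiv.Perm.one_apply, ia, Equiv.Perm.mul_apply] at h3 h4 h5 ⊢
    rw [h3, h4, h5]
  have hfix := M.fix0 _ hS _ _ hconj (σ i)
  simp only [ia, Equiv.Perm.mul_apply, Pi.pow_apply, Function.update_self] at hfix
  -- `τ i` fixes `0`
  have hπr : (π ^ r) ((τ i)⁻¹ 0) = (τ i)⁻¹ 0 := by
    have := congrArg (⇑(τ i)⁻¹) hfix
    rwa [ia] at this
  have hτ0 : (τ i)⁻¹ 0 = 0 := by
    by_contra hne
    have h1 : π ((τ i)⁻¹ 0) = (τ i)⁻¹ 0 := by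
      have := odd_pow hπn hr (f := fun x => x = (τ i)⁻¹ 0) (fun x => by
        apply propext
        constructor
        · intro h
          rw [← hπr] at h
          exact (π ^ r).injective h
        · rintro rfl
          exact hπr) ((τ i)⁻¹ 0)
      simpa using this
    have h2 : ∀ j : ℕ, (π ^ j) ((τ i)⁻¹ 0) = (τ i)⁻¹ 0 := by
      intro j
      induction j with
      | zero => rfl
      | succ j ih => rw [pow_succ', Equiv.Perm.mul_apply, ih, h1]
    have h3 : ∀ y : Fin (2 ^ m + 1), y ≠ 0 → y = (τ i)⁻¹ 0 := by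
      intro y hy
      obtain ⟨j, hj⟩ := hπ _ y hne hy
      rw [← hj, h2]
    have h4 : 2 ^ 1 ≤ 2 ^ m := Nat.pow_le_pow_right (by norm_num) hm
    have h5 : (⟨1, by omega⟩ : Fin (2 ^ m + 1)) = ⟨2, by omega⟩ := by
      rw [h3 ⟨1, by omega⟩ (by simp [Fin.ext_iff]), ← h3 ⟨2, by omega⟩ (by simp [Fin.ext_iff])]
    simp [Fin.ext_iff] at h5
  -- `w = n⁻¹ z n`
  have hw : n⁻¹ * z * n ∈ V := by
    have := (mem_normalizer_iff.1 (inv_mem (hPV hn)) z).1 hzV
    rwa [inv_inv] at this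
  have hwfix : g ^ r * (n⁻¹ * z * n) * (g ^ r)⁻¹ = n⁻¹ * z * n := by
    have h1 := hz _ hS
    have e1 : g ^ r * (n⁻¹ * z * n) * (g ^ r)⁻¹ =
        n⁻¹ * ((n * g ^ r * n⁻¹) * z) * (n * g ^ r * n⁻¹)⁻¹ * n := by group
    rw [e1, h1]
    group
  have hwc : ∀ x y : Fin (2 ^ m + 1), x ≠ 0 → y ≠ 0 →
      M.e (n⁻¹ * z * n) i x = M.e (n⁻¹ * z * n) i y := by
    have h1 : ∀ x, M.e (n⁻¹ * z * n) i ((π ^ r) x) = M.e (n⁻¹ * z * n) i x := by
      intro x
      have h2 := hgr _ hw i x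
      rw [hwfix] at h2
      simpa using h2
    have h2 : ∀ x, M.e (n⁻¹ * z * n) i (π x) = M.e (n⁻¹ * z * n) i x := odd_pow hπn hr h1
    intro x y hx hy
    obtain ⟨j, rfl⟩ := hπ x y hx hy
    clear hy
    induction j with
    | zero => rfl
    | succ j ih => rw [pow_succ', Equiv.Perm.mul_apply, h2, ih]
  have hzc : ∀ x y : Fin (2 ^ m + 1), x ≠ 0 → y ≠ 0 → M.e z (σ i) x = M.e z (σ i) y := by
    have h1 : ∀ x, M.e z (σ i) (τ i x) = M.e (n⁻¹ * z * n) i x := by
      intro x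
      have h2 := hστ _ hw i x
      have e2 : n * (n⁻¹ * z * n) * n⁻¹ = z := by group
      rwa [e2] at h2
    have h0 : τ i 0 = 0 := by
      have := congrArg (τ i) hτ0
      rw [ai] at this
      exact this.symm
    intro x y hx hy
    obtain ⟨x, rfl⟩ := (τ i).surjective x
    obtain ⟨y, rfl⟩ := (τ i).surjective y
    rw [h1, h1]
    exact hwc x y (fun h => hx (by rw [h, h0])) fun h => hy (by rw [h, h0])
  obtain ⟨t, ht, σ', τ', hact', hσ'⟩ := M.trans i (σ i)
  have h1 : ∀ x, M.e z (σ i) (τ' i x) = M.e z i x := by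
    intro x
    have h2 := hact' z hzV i x
    have e2 : t * z * t⁻¹ = z := by rw [hz t ht]; group
    rwa [e2, hσ'] at h2
  have h0 : τ' i 0 = 0 := M.fix0 t ht σ' τ' hact' i
  rw [← h1, ← h1]
  exact hzc _ _ (fun h => hx ((τ' i).injective (h.trans h0.symm))) fun h =>
    hy ((τ' i).injective (h.trans h0.symm))

/-- two further nonzero points -/
theorem exists_two {m : ℕ} (hm : 2 ≤ m) (x y : Fin (2 ^ m + 1)) :
    ∃ w u, w ≠ 0 ∧ w ≠ x ∧ w ≠ y ∧ u ≠ 0 ∧ u ≠ x ∧ u ≠ y ∧ u ≠ w := by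
  obtain ⟨w, hw0, hwx, hwy⟩ := exists_ne hm x y
  have h1 : ({0, x, y, w} : Finset (Fin (2 ^ m + 1))).card < Fintype.card (Fin (2 ^ m + 1)) := by
    have h2 : ({0, x, y, w} : Finset (Fin (2 ^ m + 1))).card ≤ 4 := Finset.card_le_four
    have h3 : 2 ^ 2 ≤ 2 ^ m := Nat.pow_le_pow_right (by norm_num) hm
    rw [Fintype.card_fin]
    omega
  obtain ⟨u, hu⟩ := Finset.exists_mem_notMem_of_card_lt_card (s := {0, x, y, w}) (t := Finset.univ) (by
    rwa [Finset.card_univ])
  have h2 := hu.2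
  simp only [Finset.mem_insert, Finset.mem_singleton, not_or] at h2
  exact ⟨w, u, hw0, hwx, hwy, h2.1, h2.2.1, h2.2.2.1, h2.2.2.2⟩

/-- the 3-cycle `y → u → w → y` -/
def cyc {n : ℕ} (y w u : Fin n) : Equiv.Perm (Fin n) := Equiv.swap y u * Equiv.swap u w

theorem cyc_y {n : ℕ} {y w u : Fin n} (h1 : w ≠ y) (h2 : u ≠ y) : cyc y w u y = u := by
  simp [cyc, Equiv.swap_apply_of_ne_of_ne h2.symm h1.symm]

theorem cyc_u {n : ℕ} {y w u : Fin n} (h1 : w ≠ y) (h3 : u ≠ w) : cyc y w u u = w := by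
  simp [cyc, Equiv.swap_apply_of_ne_of_ne h1 h3.symm]

theorem cyc_w {n : ℕ} {y w u : Fin n} : cyc y w u w = y := by
  simp [cyc]

theorem cyc_of_ne {n : ℕ} {y w u x : Fin n} (h1 : x ≠ y) (h2 : x ≠ w) (h3 : x ≠ u) : cyc y w u x = x := by
  simp [cyc, Equiv.swap_apply_of_ne_of_ne h3 h2, Equiv.swap_apply_of_ne_of_ne h1 h3]

/-- **A quadratic abelian subgroup of `S` normalised by `C_P(Z)` centralises `V / D`** (`V` of type
`S_{2^m+1}^k`). -/
theorem false_of (S : Sylow 2 G) {P V Z A D : Subgroup G} {k m : ℕ} (hm : 2 ≤ m)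
    (hSP : (S : Subgroup G) ≤ P) (hPV : P ≤ normalizer (V : Set G)) (hDV : D ≤ V)
    (hV2 : ∀ v ∈ V, v * v = 1) (M : SymK (S : Subgroup G) P V D k m)
    (hZV : Z ≤ V) (hZ : ∀ s ∈ (S : Subgroup G), ∀ z ∈ Z, s * z = z * s) (hAS : A ≤ (S : Subgroup G))
    (hA : ∀ a ∈ A, ∀ b ∈ A, a * b = b * a) (hVA : V ≤ normalizer (A : Set G))
    (hn : ∀ g ∈ P, (∀ z ∈ Z, g * z = z * g) → g ∈ normalizer (A : Set G))
    {a : G} (ha : a ∈ A) {v₀ : G} (hv₀ : v₀ ∈ V) (hne : a * v₀ * a⁻¹ * v₀⁻¹ ∉ D) : False := by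
  classical
  have hN : ∀ {g : G}, g ∈ P → ∀ v ∈ V, g * v * g⁻¹ ∈ V := fun hg v hv =>
    (mem_normalizer_iff.1 (hPV hg) v).1 hv
  have hN' : ∀ {g : G}, g ∈ P → ∀ v ∈ V, g⁻¹ * v * g ∈ V := fun {g} hg v hv => by
    have := hN (inv_mem hg) v hv
    rwa [inv_inv] at this
  -- equality of coordinates is equality modulo `D`
  have hmod : ∀ {v w : G}, v ∈ V → w ∈ V → M.e v = M.e w → v * w⁻¹ ∈ D := by
    intro v w hv hw he
    have h1 : M.e (v * w⁻¹) = 0 := by
      have h2 := M.mul (v * w⁻¹) (mul_mem hv (inv_mem hw)) w hw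
      rw [inv_mul_cancel_right, he] at h2
      exact right_eq_add.mp h2
    exact (M.ker _ (mul_mem hv (inv_mem hw))).1 h1
  have haP : a ∈ P := hSP (hAS ha)
  obtain ⟨σ, τ, hact⟩ := M.perm a haP
  have h0 : ∀ i, τ i 0 = 0 := M.fix0 a (hAS ha) σ τ hact
  -- a moved nonzero point
  obtain ⟨i, x, hx0, hmv⟩ : ∃ (i : Fin k) (x : Fin (2 ^ m + 1)), x ≠ 0 ∧ ¬ (σ i = i ∧ τ i x = x) := by
    by_contra hcon
    push Not at hcon
    apply hne
    refine hmod (hN haP _ hv₀) hv₀ ?_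
    funext i x
    obtain ⟨w, hw0, -, -⟩ := exists_ne hm x x
    have h1 := hcon i w hw0
    by_cases hx : x = 0
    · subst hx
      have h2 := hact v₀ hv₀ i 0
      rwa [h1.1, h0] at h2
    · have h3 := hcon i x hx
      have h2 := hact v₀ hv₀ i x
      rwa [h3.1, h3.2] at h2
  set j := σ i with hj
  set y := τ i x with hy
  have hy0 : y ≠ 0 := fun h => hx0 ((τ i).injective (by rw [← hy, h, h0]))
  obtain ⟨w, u, hw0, hwx, hwy, hu0, hux, huy, huw⟩ := exists_two hm x y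
  obtain ⟨x₁, hx₁, hx₁act, hx₁D⟩ := M.lift (Function.update 1 j (cyc y w u))
  set g : G := x₁ ^ 2 with hgdef
  have hg : g ∈ P := pow_mem hx₁ 2
  have hgact : ActsSym M.e V g 1 ((Function.update 1 j (cyc y w u) : Fin k → Equiv.Perm (Fin (2 ^ m + 1))) ^ 2) := acts_pow (hPV hx₁) hx₁act 2
  -- `g` centralises `Z`
  have hgZ : ∀ z ∈ Z, g * z = z * g := by
    intro z hz
    have hzV := hZV hz
    have hc := fun (l : Fin k) {x y : Fin (2 ^ m + 1)} => const_r S (by omega) hSP hPV M hzV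
      (fun s hs => hZ s hs z hz) l (x := x) (y := y)
    have h1 : M.e (x₁ * z * x₁⁻¹) = M.e z := by
      funext l t
      by_cases hl : l = j
      · have h2 : ∀ r, M.e (x₁ * z * x₁⁻¹) j (cyc y w u r) = M.e z j r := by
          intro r
          have h2 := hx₁act z hzV j r
          rw [Function.update_self] at h2
          simpa only [Equiv.Perm.one_apply] using h2
        rw [hl]
        by_cases h3 : t = y
        · have h4 := h2 w
          rw [cyc_w] at h4
          rw [h3, h4]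
          exact hc _ hw0 hy0
        · by_cases h5 : t = w
          · have h4 := h2 u
            rw [cyc_u hwy huw] at h4
            rw [h5, h4]
            exact hc _ hu0 hw0
          · by_cases h6 : t = u
            · have h4 := h2 y
              rw [cyc_y hwy huy] at h4
              rw [h6, h4]
              exact hc _ hy0 hu0
            · have h4 := h2 t
              rwa [cyc_of_ne h3 h5 h6] at h4
      · have h2 := hx₁act z hzV l t
        rw [Function.update_of_ne hl] at h2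
        simpa using h2
    have h2 := hmod (hN hx₁ z hzV) hzV h1
    set d := x₁ * z * x₁⁻¹ * z⁻¹ with hd
    have h3 : x₁ * d * x₁⁻¹ = d := by rw [hx₁D d h2]; group
    have h4 : g * z * g⁻¹ = x₁ * d * x₁⁻¹ * d * z := by
      rw [hgdef, hd, pow_two]; group
    rw [h3, hV2 d (hDV h2), one_mul] at h4
    calc g * z = g * z * g⁻¹ * g := by group
      _ = z * g := by rw [h4]
  have hb : g * a * g⁻¹ ∈ A := (mem_normalizer_iff.1 (hn g hg hgZ) a).1 ha
  -- the vector
  obtain ⟨v, hv, hve⟩ := M.surj (Function.update 0 i (fun u => if u = x ∨ u = 0 then 1 else 0)) (by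
    intro l
    by_cases hl : l = i
    · subst hl
      rw [Function.update_self]
      have h1 : ∀ u : Fin (2 ^ m + 1), (if u = x ∨ u = 0 then (1 : ZMod 2) else 0) =
          (if u = x then 1 else 0) + if u = 0 then 1 else 0 := by
        intro u
        by_cases h2 : u = x
        · have : u ≠ 0 := h2 ▸ hx0
          simp [h2, hx0]
        · simp [h2]
      rw [Finset.sum_congr rfl fun u _ => h1 u, Finset.sum_add_distrib]
      simp only [Finset.sum_ite_eq', Finset.mem_univ, if_true]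
      exact CharTwo.add_self_eq_zero _
    · rw [Function.update_of_ne hl]
      simp)
  have hvi : ∀ u, M.e v i u = if u = x ∨ u = 0 then 1 else 0 := fun u => by rw [hve, Function.update_self]
  have hvl : ∀ l, l ≠ i → ∀ u, M.e v l u = 0 := fun l hl u => by
    rw [hve, Function.update_of_ne hl]; rfl
  have hav : a * v * a⁻¹ ∈ V := hN haP v hv
  -- values of `a v a⁻¹`
  have k1 : ∀ u, u ≠ y → u ≠ 0 → M.e (a * v * a⁻¹) j u = 0 := by
    intro u hu hu0
    obtain ⟨u, rfl⟩ := (τ i).surjective u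
    have h1 := hact v hv i u
    rw [← hj] at h1
    rw [h1, hvi, if_neg]
    rintro (h | h)
    · exact hu (by rw [h])
    · exact hu0 (by rw [h, h0])
  have k2 : ∀ l, l ≠ j → ∀ u, M.e (a * v * a⁻¹) l u = 0 := by
    intro l hl u
    obtain ⟨l, rfl⟩ := σ.surjective l
    obtain ⟨u, rfl⟩ := (τ l).surjective u
    rw [hact v hv l u]
    exact hvl l (fun h => hl (by rw [h])) _
  -- the commutator
  set c := a * v * a⁻¹ * v⁻¹ with hcdef
  have hcV : c ∈ V := mul_mem hav (inv_mem hv)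
  have hcA : c ∈ A := by
    have h1 : v * a⁻¹ * v⁻¹ ∈ A := (mem_normalizer_iff.1 (hVA hv) _).1 (inv_mem ha)
    have e1 : c = a * (v * a⁻¹ * v⁻¹) := by rw [hcdef]; group
    rw [e1]
    exact mul_mem ha h1
  have hce : M.e c = M.e (a * v * a⁻¹) + M.e v := by
    have h1 := M.mul c hcV v hv
    have e1 : c * v = a * v * a⁻¹ := by rw [hcdef]; group
    rw [e1] at h1
    rw [h1]
    funext l u
    simp only [Pi.add_apply]
    rw [add_assoc, CharTwo.add_self_eq_zero, add_zero]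
  -- the two values of `c`
  have k3 : M.e c j w = 0 := by
    rw [hce]
    simp only [Pi.add_apply]
    rw [k1 w hwy hw0, zero_add]
    by_cases hji : j = i
    · rw [hji, hvi, if_neg]
      rintro (h | h)
      · exact hwx h
      · exact hw0 h
    · exact hvl j hji w
  have hxy : j = i → x ≠ y := fun h h' => hmv ⟨h, h'.symm⟩
  have k4 : M.e c i x = 1 := by
    rw [hce]
    simp only [Pi.add_apply]
    rw [hvi, if_pos (Or.inl rfl)]
    by_cases hji : j = i
    · have h1 := k1 x (hxy hji) hx0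
      rw [hji] at h1
      rw [h1, zero_add]
    · rw [k2 i (fun h => hji h.symm), zero_add]
  -- `b = g a g⁻¹` centralises `c`
  have hbc : g * a * g⁻¹ * c * (g * a * g⁻¹)⁻¹ = c := by
    rw [hA _ hb _ hcA]; group
  have hc' : g⁻¹ * c * g ∈ V := hN' hg c hcV
  have k5 : M.e (g⁻¹ * c * g) i x = M.e c i x := by
    have h1 := hgact _ hc' i x
    have e1 : g * (g⁻¹ * c * g) * g⁻¹ = c := by group
    rw [e1] at h1
    rw [← h1]
    simp only [Equiv.Perm.one_apply, Pi.pow_apply]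
    by_cases hji : j = i
    · rw [hji, Function.update_self, pow_two, Equiv.Perm.mul_apply,
        cyc_of_ne (hxy hji) hwx.symm hux.symm, cyc_of_ne (hxy hji) hwx.symm hux.symm]
    · rw [Function.update_of_ne (fun h => hji h.symm)]; simp
  have k6 : M.e (a * (g⁻¹ * c * g) * a⁻¹) j y = M.e (g⁻¹ * c * g) i x := hact _ hc' i x
  have k7 : M.e c j w = M.e (a * (g⁻¹ * c * g) * a⁻¹) j y := by
    have h1 := hgact _ (hN haP _ hc') j y
    rw [Pi.pow_apply, Function.update_self, pow_two, Equiv.Perm.mul_apply, cyc_y hwy huy, cyc_u hwy huw] at h1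
    simp only [Equiv.Perm.one_apply] at h1
    have e1 : g * (a * (g⁻¹ * c * g) * a⁻¹) * g⁻¹ = g * a * g⁻¹ * c * (g * a * g⁻¹)⁻¹ := by group
    rwa [e1, hbc] at h1
  rw [k3, k6, k5, k4] at k7
  exact zero_ne_one k7

/-- **There is no pair of type (A) with `V_P` of type `S_{2^m+1}^k`** (no hypothesis on `C_Z(P)`). -/
theorem no_sym {S : Sylow 2 G} (hc : IsCharacteristicTwoType G) {P H : Subgroup G}
    (h : PairA (S : Subgroup G) P H) {k m : ℕ} (hm : 2 ≤ m)
    (M : SymK (S : Subgroup G) P (zl (S : Subgroup G) P) (FrameFF.cv (S : Subgroup G) P) k m) : False := by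
  have hAS : zl (S : Subgroup G) H ≤ (S : Subgroup G) := IsLong.zl_le_S hc h.long
  have hPV : P ≤ normalizer (zl (S : Subgroup G) P : Set G) := le_normalizer_zl _ _
  have hel := FFThm.elem_zl hc S h.long.loc
  have h3 : ∃ a ∈ zl (S : Subgroup G) H, ∃ v ∈ zl (S : Subgroup G) P,
      a * v * a⁻¹ * v⁻¹ ∉ FrameFF.cv (S : Subgroup G) P := by
    by_contra hcon
    push Not at hcon
    refine h.ne fun v hv => ?_
    rw [mem_centralizer_iff]
    intro a ha
    exact All.HOne.comm_of_sec hc S h.par (hAS ha) (hcon a ha) v hv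
  obtain ⟨a, ha, v, hv, hav⟩ := h3
  refine false_of S hm h.par.le hPV (inf_le_left) (fun v hv => All.HOne.zl_sq' hc S h.par hv) M
    (MinSimple.VModule.zc_le_zl _ _)
    (fun s hs z hz => (MinSimple.VModule.mem_zc.1 hz).2.1 s hs) hAS
    (fun a ha b hb => ?_) (PairA.le_normalizer' hc h) (fun g hg hgz => ?_) ha hv hav
  · exact congrArg Subtype.val (hel.1.is_comm.comm ⟨a, ha⟩ ⟨b, hb⟩)
  · refine le_normalizer_zl _ _ (h.long.cz ?_)
    rw [mem_centralizer_iff]
    intro z hz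
    exact (hgz z hz).symm

end Cfsg.Agent.Omega.NOThreeL.RSym
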