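import Cfsg.Agent.Mrg.Omega.NOThreeL.Merge
import Cfsg.Agent.Mrg.Omega.NOThreeL.RTools.Many.Reduce
import Cfsg.Agent.Mrg.Omega.NOThreeL.Star


/-!
# NO-3L, box R: the tree below `Merge.RG K`

`Data S`, `C_Z(P) ≠ 1` for some `P ∈ P*(S)`, and `V* = ⟨Z^⟨P*(S)⟩⟩` is FF or `V* ≰ Q`.

* `RAbig K` : case (A), `V_P` of type natural `SL₂(F)^k` (modulo `cv S P`), `|F| > 2` (no hypothesis about offenders);
* `RBz K` : not (A), some `z ∈ Z#` is moved only by `P ∈ P*(S)` with `P ≤ N_G(V^!(S))` (the frame of NotFF for `z`);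
* `RBc K` : not (A), every `z ∈ Z#` is moved by some `P ∈ P*(S)`, `P ≰ N_G(V^!(S))` (#18145: two centres);
* `rg_of` : they imply `Merge.RG K`.

The rest of case (A) is closed by `RTools.Many.exists_nat_big` (helper571): `V_P` not FF, type `S_{2^m+1}^k`,
`|F| = 2`.
-/

set_option autoImplicit false

namespace Cfsg.Agent.Omega.NOThreeL.RTree

open Subgroup Cfsg Cfsg.Agent.ZN Cfsg.Agent.Omega.MinPar Cfsg.Agent.Omega.Frame Cfsg.Agent.Omega.FrameNOFF
open Cfsg.Agent.Omega.Node.NO3L Cfsg.Agent.Omega.NOThreeL.Basic Cfsg.Agent.Omega.NOThreeL.Main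
open Cfsg.Agent.Omega.FFThm (NatKM)
open Cfsg.Agent.Omega.FrameFF (cv)
open Cfsg.Agent.Omega.NO3S (FFMod)
open Cfsg.Agent.Omega.NOThreeL.Merge (MZ)
open Cfsg.Agent.Omega.NOThreeL.ZCut (FZ)
open Cfsg.Agent.Omega.NO3b.Bang (bang)

universe u

section sockets

variable (K : Cls.{u})

/-- (A), natural `SL₂(F)^k`, `|F| > 2`. -/
def RAbig : Prop :=
  ∀ (G : Type u) [Group G] [Finite G], Ctx G → K G → ∀ (S : Sylow 2 G), Full (S : Subgroup G) →
    Data (S : Subgroup G) → ∀ P H : Subgroup G, PairA (S : Subgroup G) P H →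
      ∀ (F : Type) [Field F] [Finite F] [CharP F 2] (k : ℕ), 0 < k → 2 < Nat.card F →
        NatKM F (S : Subgroup G) P (zl (S : Subgroup G) P) (cv (S : Subgroup G) P) k → IsKnownSimple' G

/-- The common hypotheses of the two cases of not (A). -/
structure RB {G : Type u} [Group G] [Finite G] (S : Sylow 2 G) : Prop where
  ctx : Ctx G
  full : Full (S : Subgroup G)
  data : Data (S : Subgroup G)
  notA : ¬ CaseA (S : Subgroup G)
  ff : FFMod (S : Subgroup G) (MZ (S : Subgroup G)) ∨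
    ¬ zl (S : Subgroup G) (MZ (S : Subgroup G)) ≤ o2 (CZ (S : Subgroup G))
  ex : ∃ P : Subgroup G, IsParS (S : Subgroup G) P ∧
    zc (S : Subgroup G) ⊓ centralizer (P : Set G) ≠ ⊥

/-- (RC') fails: some `z ∈ Z#` is moved only by `P ∈ P*(S)` with `P ≤ N_G(V^!(S))`. -/
def RBz : Prop :=
  ∀ (G : Type u) [Group G] [Finite G], K G → ∀ (S : Sylow 2 G), RB S →
    ∀ z ∈ zc (S : Subgroup G), z ≠ 1 →
      (∀ P ∈ FZ (S : Subgroup G) z, P ≤ normalizer (bang (S : Subgroup G) : Set G)) → IsKnownSimple' G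

/-- (RC'): every `z ∈ Z#` is moved by some `P ∈ P*(S)` with `P ≰ N_G(V^!(S))`. -/
def RBc : Prop :=
  ∀ (G : Type u) [Group G] [Finite G], K G → ∀ (S : Sylow 2 G), RB S →
    (∀ z ∈ zc (S : Subgroup G), z ≠ 1 →
      ∃ P ∈ FZ (S : Subgroup G) z, ¬ P ≤ normalizer (bang (S : Subgroup G) : Set G)) → IsKnownSimple' G

end sockets

/-- **Case (A) of box R.** -/
theorem caseA_of {K : Cls.{u}} (hq : RAbig K) {G : Type u} [Group G] [Finite G] (hG : Ctx G)
    (hK : K G) {S : Sylow 2 G} (hF : Full (S : Subgroup G)) (D : Data (S : Subgroup G))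
    (hA : CaseA (S : Subgroup G)) : IsKnownSimple' G := by
  obtain ⟨P, H, hPH⟩ := caseA_iff.1 hA
  obtain ⟨F, _, _, _, k, hk, h2, ⟨M⟩⟩ := RTools.Many.exists_nat_big hG D hPH
  exact hq G hG hK S hF D P H hPH F k hk h2 M

/-- **Box R from its leaves.** -/
theorem rg_of {K : Cls.{u}} (hq : RAbig K) (hz : RBz K) (hc : RBc K) : Merge.RG K := by
  intro G _ _ hG hK S hF D hff P hP hzP
  by_cases hA : CaseA (S : Subgroup G)
  · exact caseA_of hq hG hK hF D hA
  · have hB : RB S := ⟨hG, hF, D, hA, hff, P, hP, hzP⟩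
    by_cases h : ∀ z ∈ zc (S : Subgroup G), z ≠ 1 →
        ∃ P ∈ FZ (S : Subgroup G) z, ¬ P ≤ normalizer (bang (S : Subgroup G) : Set G)
    · exact hc G hK S hB h
    · push Not at h
      obtain ⟨z, hz1, hz2, hz3⟩ := h
      exact hz G hK S hB z hz1 hz2 hz3

end Cfsg.Agent.Omega.NOThreeL.RTree
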