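import Cfsg.Agent.Mrg.Omega.NO3b.Exit.LocalExit
import Cfsg.Agent.Mrg.Omega.NOThreeL.Merge


/-!
# END5: the end of NotFFG in NO-3L (#23013, helper442; second half of #22488 (A), helper812)

`S` a Sylow 2-subgroup of `G`, `B` weakly closed in `S`, `M = N_G(B)`, `RR` a normal subgroup of `M` containing `B`,
`V` an abelian normal subgroup of `M` containing `Z = Ω₁(Z(S))` and centralised by `B`, `Z₁ = C_V(S ∩ RR)`
(`Dat S B RR V`, `Zo S RR V`).

* `Dat.exists_norm` : if `C_G(Z) ≤ N_G(Z₁)` and some local `H ≥ C_G(Z)` contains `RR`, then a nontrivial 2-group is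
  normalised by `M` and by `C_G(Z)`;
* `Dat.eq_sup` : `P ∈ P(S)`, `P ≤ M`, `P ≰ N_G(Z₁)`: `P = (P ∩ RR)S`;
* `Dat.false_of` : **END5**: `⟨P, C_G(Z)⟩` local for all `P ∈ P*(S)`, `M₀ = ⟨P ∈ P*(S) : P ≤ M₀⟩ ≤ M`, `⟨M₀, C_G(Z)⟩`
  nonlocal, `C_G(Z) ≤ N_G(Z₁)`, and `RR ≤ ⟨P, C_G(Z)⟩` for all `P ∈ P*(S)` with `P ≤ M₀`, `P ≰ N_G(Z₁)`,
  `P = (P ∩ RR)S`: contradiction.
-/

set_option autoImplicit false

namespace Cfsg.Agent.Omega.NOThreeL.EndFive

open Subgroup Cfsg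
open Cfsg.Agent.ZN (o2 zc zl)
open Cfsg.Agent.ZN.ChoiceBase hiding mem_zc
open Cfsg.Agent.ZN.ChoiceSit (Syl exists_syl syl_conj o2_le_syl syl_not_dvd)
open Cfsg.Agent.MinSimple.EmptyTI (syl_of_le)
open Cfsg.Agent.Omega.MinPar Cfsg.Agent.Omega.Frame Cfsg.Agent.Omega.FrameNOFF
open Cfsg.Agent.Omega.Node.NO3L
open Cfsg.Agent.Omega.NO3b.Wc (WC)
open Cfsg.Agent.Omega.NO3b.EZero (cj_eq_cj_iff)
open Cfsg.Agent.Omega.NOThreeL.Star (zl_mono)
open Cfsg.Agent.Omega.NOThreeL.Merge (HypG)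
open Cfsg.Agent.MinSimple.MinParabolic (IsMinPar)
open Cfsg.Agent.MinSimple.VModule (zc_le_zl le_normalizer_zl zl_le zc_le mem_zc le_centralizer_zc
  le_normalizer_o2 o2_isPGroup le_o2)

universe u

variable {G : Type u} [Group G]

/-- `Z₁ = C_V(S ∩ RR)` -/
def Zo (S RR V : Subgroup G) : Subgroup G := V ⊓ centralizer ((S ⊓ RR : Subgroup G) : Set G)

/-- The data. -/
structure Dat (S B RR V : Subgroup G) : Prop where
  wc : WC S B
  BR : B ≤ RR
  RM : RR ≤ normalizer (B : Set G)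
  NR : normalizer (B : Set G) ≤ normalizer (RR : Set G)
  NV : normalizer (B : Set G) ≤ normalizer (V : Set G)
  ZV : zc S ≤ V
  ab : V ≤ centralizer (V : Set G)
  sq : ∀ v ∈ V, v ^ 2 = 1
  BV : B ≤ centralizer (V : Set G)

theorem mem_norm_inf {A B : Subgroup G} {n : G} (h1 : n ∈ normalizer (A : Set G)) (h2 : n ∈ normalizer (B : Set G)) :
    n ∈ normalizer ((A ⊓ B : Subgroup G) : Set G) := by
  rw [mem_normalizer_iff_cj, cj_inf, mem_normalizer_iff_cj.1 h1, mem_normalizer_iff_cj.1 h2]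

theorem mem_norm_cent {A : Subgroup G} {n : G} (h1 : n ∈ normalizer (A : Set G)) :
    n ∈ normalizer ((centralizer (A : Set G) : Subgroup G) : Set G) := by
  rw [mem_normalizer_iff_cj, cj_centralizer, mem_normalizer_iff_cj.1 h1]

theorem cj_sup (n : G) (A B : Subgroup G) : cj n (A ⊔ B) = cj n A ⊔ cj n B := Subgroup.map_sup _ _ _

theorem mem_norm_sup {A B : Subgroup G} {n : G} (h1 : n ∈ normalizer (A : Set G)) (h2 : n ∈ normalizer (B : Set G)) :
    n ∈ normalizer ((A ⊔ B : Subgroup G) : Set G) := by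
  rw [mem_normalizer_iff_cj, cj_sup, mem_normalizer_iff_cj.1 h1, mem_normalizer_iff_cj.1 h2]

theorem zc_le_Zo {S RR V : Subgroup G} (hZ : zc S ≤ V) : zc S ≤ Zo S RR V := by
  refine le_inf hZ fun z hz => mem_centralizer_iff.2 fun s hs => ?_
  exact (mem_zc.1 hz).2.1 s hs.1

variable [Finite G] {S : Sylow 2 G}

/-! ### Frattini -/

theorem syl_inf {K : Subgroup G} (hS : (S : Subgroup G) ≤ normalizer (K : Set G)) :
    Syl ((S : Subgroup G) ⊓ K) K := by
  refine ⟨inf_le_right, S.isPGroup'.to_le inf_le_left, fun Q hQ hp hle => ?_⟩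
  have hQL : Q ≤ normalizer (K : Set G) := hQ.trans Subgroup.le_normalizer
  obtain ⟨T, hT, hQT⟩ := exists_syl hp hQL
  obtain ⟨x, hx, hxT⟩ := syl_conj hT (syl_of_le hS)
  have h1 : cj x Q ≤ (S : Subgroup G) ⊓ K := by
    refine le_inf ?_ ?_
    · rw [← hxT]; exact cj_mono x hQT
    · have h2 := cj_mono x hQ
      rwa [mem_normalizer_iff_cj.1 hx] at h2
  have h2 := card_le_of_le h1
  rw [card_cj] at h2
  exact (eq_of_le_of_card_ge hle h2).symm

theorem frattini {K : Subgroup G} (hS : (S : Subgroup G) ≤ normalizer (K : Set G)) {n : G}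
    (hn : n ∈ normalizer (K : Set G)) : ∃ c ∈ K,
    c⁻¹ * n ∈ normalizer (((S : Subgroup G) ⊓ K : Subgroup G) : Set G) := by
  have h1 : Syl (cj n ((S : Subgroup G) ⊓ K)) K := by
    have hC : cj n K = K := mem_normalizer_iff_cj.1 hn
    refine ⟨?_, isPGroup_cj _ (S.isPGroup'.to_le inf_le_left), fun Q hQ hp hle => ?_⟩
    · exact (cj_mono n (syl_inf hS).1).trans hC.le
    · have h2 := (syl_inf hS).2.2 (cj n⁻¹ Q) (by
        rw [cj_le_iff, inv_inv, hC]; exact hQ) (isPGroup_cj _ hp) (by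
        have h3 := cj_mono n⁻¹ hle
        rwa [cj_inv_cj] at h3)
      rw [← h2, cj_cj_inv]
  obtain ⟨c, hc, hcn⟩ := syl_conj (syl_inf hS) h1
  exact ⟨c, hc, cj_eq_cj_iff.1 hcn.symm⟩

namespace Dat

variable {B RR V : Subgroup G} (d : Dat (S : Subgroup G) B RR V)
include d

theorem SB : (S : Subgroup G) ≤ normalizer (B : Set G) := NO3b.Exit.wc_S_le d.wc

theorem S_Zo : (S : Subgroup G) ≤ normalizer (Zo (S : Subgroup G) RR V : Set G) := fun _ hs =>
  mem_norm_inf (d.NV (d.SB hs))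
    (mem_norm_cent (mem_norm_inf (Subgroup.le_normalizer hs) (d.NR (d.SB hs))))

omit [Finite G] in
/-- an element of `M` normalising `S ∩ RR` normalises `Z₁` -/
theorem mem_Zo {m : G} (hm : m ∈ normalizer (B : Set G))
    (h : m ∈ normalizer (((S : Subgroup G) ⊓ RR : Subgroup G) : Set G)) :
    m ∈ normalizer (Zo (S : Subgroup G) RR V : Set G) := mem_norm_inf (d.NV hm) (mem_norm_cent h)

omit [Finite G] in
/-- an element normalising a subgroup of `S` over `B` is in `M` -/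
theorem mem_of_norm {T : Subgroup G} (hB : B ≤ T) (hT : T ≤ (S : Subgroup G)) {n : G}
    (h : n ∈ normalizer (T : Set G)) : n ∈ normalizer (B : Set G) := by
  rw [mem_normalizer_iff_cj]
  refine d.wc.eq n ?_
  have h1 := cj_mono n hB
  rw [mem_normalizer_iff_cj.1 h] at h1
  exact h1.trans hT

/-- `N_G(Z₁) = C_G(Z₁)(M ∩ N_G(Z₁))` and `M = RR(M ∩ N_G(Z₁))`: a subgroup normalised by `RR`, `C_G(Z₁)` and
`M ∩ N_G(Z₁)` is normalised by `M` and `N_G(Z₁)`. -/
theorem le_norm_of {R : Subgroup G} (h1 : RR ≤ normalizer (R : Set G))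
    (h2 : centralizer (Zo (S : Subgroup G) RR V : Set G) ≤ normalizer (R : Set G))
    (h3 : normalizer (B : Set G) ⊓ normalizer (Zo (S : Subgroup G) RR V : Set G) ≤ normalizer (R : Set G)) :
    normalizer (B : Set G) ≤ normalizer (R : Set G) ∧
      normalizer (Zo (S : Subgroup G) RR V : Set G) ≤ normalizer (R : Set G) := by
  constructor
  · intro m hm
    obtain ⟨c, hc, hcm⟩ := frattini (S := S) (d.SB.trans d.NR) (d.NR hm)
    have h4 : c⁻¹ * m ∈ normalizer (B : Set G) := mul_mem (inv_mem (d.RM hc)) hm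
    have h5 := h3 (mem_inf.2 ⟨h4, d.mem_Zo h4 hcm⟩)
    have h6 := mul_mem (h1 hc) h5
    rwa [mul_inv_cancel_left] at h6
  · intro n hn
    have hS : (S : Subgroup G) ≤ normalizer ((centralizer (Zo (S : Subgroup G) RR V : Set G) : Subgroup G) : Set G) :=
      fun s hs => mem_norm_cent (d.S_Zo hs)
    obtain ⟨c, hc, hcn⟩ := frattini (S := S) hS (mem_norm_cent hn)
    have hcZ : c ∈ normalizer (Zo (S : Subgroup G) RR V : Set G) := centralizer_le_normalizer _ hc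
    have hBC : B ≤ (S : Subgroup G) ⊓ centralizer (Zo (S : Subgroup G) RR V : Set G) :=
      le_inf d.wc.le (d.BV.trans (centralizer_le inf_le_left))
    have h4 : c⁻¹ * n ∈ normalizer (B : Set G) := d.mem_of_norm hBC inf_le_left hcn
    have h5 := h3 (mem_inf.2 ⟨h4, mul_mem (inv_mem hcZ) hn⟩)
    have h6 := mul_mem (h2 hc) h5
    rwa [mul_inv_cancel_left] at h6

/-- **The end**: a local `H ≥ C_G(Z)` with `RR ≤ H` makes `⟨M, N_G(Z₁)⟩` local. -/
theorem exists_norm (hc : IsCharacteristicTwoType G) (hne : (S : Subgroup G) ≠ ⊥) {H : Subgroup G}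
    (hH : IsLong (S : Subgroup G) H) (hRH : RR ≤ H) : ∃ R : Subgroup G, R ≠ ⊥ ∧ IsPGroup 2 R ∧
      normalizer (B : Set G) ≤ normalizer (R : Set G) ∧
      normalizer (Zo (S : Subgroup G) RR V : Set G) ≤ normalizer (R : Set G) := by
  set H₀ : Subgroup G := RR ⊔ centralizer (Zo (S : Subgroup G) RR V : Set G) with hH₀
  have hZ := zc_le_Zo (S := (S : Subgroup G)) (RR := RR) d.ZV
  have hH0H : H₀ ≤ H := sup_le hRH ((centralizer_le hZ).trans hH.cz)
  have hZC : zc (S : Subgroup G) ≤ centralizer (Zo (S : Subgroup G) RR V : Set G) :=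
    hZ.trans ((inf_le_left.trans d.ab).trans (centralizer_le inf_le_left))
  have hU2 : IsPGroup 2 (zl (S : Subgroup G) H₀) :=
    (o2_isPGroup H).to_le (((zl_mono _ hH0H).trans (hH.loc.zl_le S hc)).trans (zc_le _))
  have hUH : zl (S : Subgroup G) H₀ ≤ H₀ := zl_le (hZC.trans le_sup_right) Subgroup.le_normalizer
  have hU1 : zl (S : Subgroup G) H₀ ≠ ⊥ := by
    intro e
    apply MinSimple.Basic.zc_ne_bot S.isPGroup' hne
    rw [← le_bot_iff, ← e]
    exact zc_le_zl _ _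
  have hO : o2 H₀ ≠ ⊥ := o2_ne_bot_of_le hU2 hU1 hUH (le_normalizer_zl _ _)
  refine ⟨o2 H₀, hO, o2_isPGroup _, d.le_norm_of (le_sup_left.trans (le_normalizer_o2 H₀))
    (le_sup_right.trans (le_normalizer_o2 H₀)) ?_⟩
  intro n hn
  have h1 : n ∈ normalizer (H₀ : Set G) := mem_norm_sup (d.NR hn.1) (mem_norm_cent hn.2)
  rw [mem_normalizer_iff_cj] at h1 ⊢
  have h2 := pCore_cj n H₀
  rw [h1] at h2
  exact h2.symm

/-- `P ∈ P(S)`, `P ≤ M`, `P ≰ N_G(Z₁)`: `P = (P ∩ RR)S`. -/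
theorem eq_sup {P : Subgroup G} (hP : IsPar (S : Subgroup G) P) (hPM : P ≤ normalizer (B : Set G))
    (hPZ : ¬ P ≤ normalizer (Zo (S : Subgroup G) RR V : Set G)) : (P ⊓ RR) ⊔ (S : Subgroup G) = P := by
  have : Fact (Nat.Prime 2) := ⟨Nat.prime_two⟩
  have hn : P ≤ normalizer ((P ⊓ RR : Subgroup G) : Set G) := fun p hp =>
    mem_norm_inf (Subgroup.le_normalizer hp) (d.NR (hPM hp))
  rcases hP.toIsMinPar.sup_eq_or_inf_le S.isPGroup' (syl_not_dvd (syl_of_le hP.le)) inf_le_left hn with h1 | h1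
  · exact h1
  · refine absurd (fun p hp => ?_) hPZ
    have h2 : (S : Subgroup G) ⊓ RR = o2 P ⊓ RR := by
      apply le_antisymm
      · exact le_inf ((le_inf inf_le_left (le_inf (inf_le_left.trans hP.le) inf_le_right)).trans h1) inf_le_right
      · exact inf_le_inf_right _ (hP.isLoc.o2_le S)
    refine d.mem_Zo (hPM hp) ?_
    rw [h2]
    exact mem_norm_inf (le_normalizer_o2 P hp) (d.NR (hPM hp))

/-- **END5.** -/
theorem false_of (hc : IsCharacteristicTwoType G) (hne : (S : Subgroup G) ≠ ⊥) {M₀ : Subgroup G}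
    (hM : M₀ ≤ normalizer (B : Set G))
    (gen : M₀ ≤ sSup {P : Subgroup G | IsParS (S : Subgroup G) P ∧ P ≤ M₀})
    (nonLoc : NonLoc M₀ (CZ (S : Subgroup G)))
    (loc : ∀ P : Subgroup G, IsParS (S : Subgroup G) P → IsLong (S : Subgroup G) (P ⊔ CZ (S : Subgroup G)))
    (hC : CZ (S : Subgroup G) ≤ normalizer (Zo (S : Subgroup G) RR V : Set G))
    (key : ∀ P : Subgroup G, IsParS (S : Subgroup G) P → P ≤ M₀ →
      ¬ P ≤ normalizer (Zo (S : Subgroup G) RR V : Set G) → (P ⊓ RR) ⊔ (S : Subgroup G) = P →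
        RR ≤ P ⊔ CZ (S : Subgroup G)) : False := by
  have hZ := zc_le_Zo (S := (S : Subgroup G)) (RR := RR) d.ZV
  have hZ0 : Zo (S : Subgroup G) RR V ≠ ⊥ := by
    intro e
    apply MinSimple.Basic.zc_ne_bot S.isPGroup' hne
    rw [← le_bot_iff, ← e]
    exact hZ
  have hZ2 : IsPGroup 2 (Zo (S : Subgroup G) RR V) := NO3b.NoEmp.pgroup_of_sq fun v hv => d.sq v hv.1
  have hex : ∃ P : Subgroup G, IsParS (S : Subgroup G) P ∧ P ≤ M₀ ∧
      ¬ P ≤ normalizer (Zo (S : Subgroup G) RR V : Set G) := by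
    by_contra hcon
    push Not at hcon
    exact hZ0 (nonLoc _ hZ2 (gen.trans (sSup_le fun P hP => hcon P hP.1 hP.2)) hC)
  obtain ⟨P, hP, hPM, hPZ⟩ := hex
  obtain ⟨R, hR1, hR2, hR3, hR4⟩ := d.exists_norm hc hne (loc P hP)
    (key P hP hPM hPZ (d.eq_sup hP.toIsPar (hPM.trans hM) hPZ))
  exact hR1 (nonLoc R hR2 (hM.trans hR3) (hC.trans hR4))

/-- **END5 for `HypG` in NO-3L.** -/
theorem false_of_hypG (hne : (S : Subgroup G) ≠ ⊥) {M₀ : Subgroup G} (h : HypG S M₀) (D : Data (S : Subgroup G))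
    (hM : M₀ ≤ normalizer (B : Set G))
    (hC : CZ (S : Subgroup G) ≤ normalizer (Zo (S : Subgroup G) RR V : Set G))
    (key : ∀ P : Subgroup G, IsParS (S : Subgroup G) P → P ≤ M₀ →
      ¬ P ≤ normalizer (Zo (S : Subgroup G) RR V : Set G) → (P ⊓ RR) ⊔ (S : Subgroup G) = P →
        RR ≤ P ⊔ CZ (S : Subgroup G)) : False :=
  d.false_of h.ctx.char2 hne hM h.gen h.nonLoc D.loc hC key

end Dat

end Cfsg.Agent.Omega.NOThreeL.EndFive
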