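import Cfsg.Agent.Mrg.Omega.NOThreeL.Star

section


/-!
# NO-3L, A4 for `q = 2` (helper884, #16392 (2)(b), (c))

`X` acts irreducibly on the finite `F_2`-space `M`, the transvections `u ↦ u + f i u • c i` (conjugate under `X`)
are "in `O₂` of the stabiliser of `z = ∑ c i`", and the `c i` are linearly independent.  Then the `f i` are
linearly independent.
-/

set_option autoImplicit false

namespace Cfsg.Agent.Omega.NOThreeL.IndepTwo

open Cfsg.Agent.Omega.NOThreeL.ThmL

variable {X M : Type*} [Group X] [AddCommGroup M] [Module (ZMod 2) M] [DistribMulAction X M]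

/-! ### The dual module -/

/-- The contragredient action. -/
@[reducible] def dAct : DistribMulAction X (M →+ ZMod 2) where
  smul x f := act x f
  one_smul f := by
    change act (1 : X) f = f
    ext u; simp
  mul_smul x y f := by
    change act (x * y) f = act x (act y f)
    ext u; simp [mul_smul]
  smul_zero x := by
    change act x (0 : M →+ ZMod 2) = 0
    ext u; simp
  smul_add x f g := by
    change act x (f + g) = act x f + act x g
    ext u; simp

attribute [local instance] dAct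

omit [Module (ZMod 2) M] in
theorem dsmul (x : X) (f : M →+ ZMod 2) : x • f = act x f := rfl

/-- Evaluation at `e`. -/
def ev (e : M) : (M →+ ZMod 2) →+ ZMod 2 where
  toFun f := f e
  map_zero' := rfl
  map_add' _ _ := rfl

omit [Module (ZMod 2) M] in
@[simp] theorem ev_apply (e : M) (f : M →+ ZMod 2) : ev e f = f e := rfl

omit [Module (ZMod 2) M] in
theorem ev_add (a b : M) : ev (a + b) = ev a + ev b := by
  ext f
  exact map_add f a b

omit [Module (ZMod 2) M] in
theorem ev_act (x : X) (e : M) : act x (ev e) = ev (x • e) := by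
  ext f
  rw [act_apply, ev_apply, ev_apply, dsmul, act_apply, inv_inv]

omit [Group X] [DistribMulAction X M] in
/-- separation -/
theorem exists_functional {e : M} (he : e ≠ 0) : ∃ φ : M →+ ZMod 2, φ e = 1 := by
  by_contra hcon
  push Not at hcon
  have h1 : ∀ φ : Module.Dual (ZMod 2) M, φ e = 0 := by
    intro φ
    exact (z2 _).resolve_right (hcon φ.toAddMonoidHom)
  exact he ((Module.forall_dual_apply_eq_zero_iff (ZMod 2) e).mp h1)

omit [Group X] [DistribMulAction X M] in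
theorem ev_inj {a b : M} (h : ev a = ev b) : a = b := by
  by_contra hne
  obtain ⟨φ, hφ⟩ := exists_functional (sub_ne_zero.mpr hne)
  have h1 : φ a = φ b := DFunLike.congr_fun h φ
  rw [map_sub, h1, sub_self] at hφ
  exact absurd hφ (by decide)

theorem involutive {f : M →+ ZMod 2} {e : M} (h0 : f e = 0) {x : X} (hx : ∀ u : M, x • u = u + f u • e)
    (u : M) : x⁻¹ • u = u + f u • e := by
  rw [inv_smul_eq_iff, hx, map_add]
  have h1 : f (f u • e) = 0 := by rcases z2 (f u) with h | h <;> simp [h, h0]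
  rw [h1, add_zero, add_assoc, add_self, add_zero]

/-- `Y` of the dual at `e` is the set of axes of the transvections with centre `e`. -/
theorem mem_Y_dual {e : M} {f : M →+ ZMod 2} : f ∈ Y X (ev e) ↔ e ∈ Y X f := by
  constructor
  · rintro ⟨h0, x, hx⟩
    rw [ev_apply] at h0
    have key : ∀ u : M, x⁻¹ • u = u + f u • e := by
      intro u
      by_contra hne
      obtain ⟨φ, hφ⟩ := exists_functional (sub_ne_zero.mpr hne)
      have h1 := DFunLike.congr_fun (hx φ) u
      rw [dsmul, act_apply, ev_apply, AddMonoidHom.add_apply] at h1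
      have h2 : φ (f u • e) = (φ e • f) u := by
        rcases z2 (f u) with h | h <;> simp [h]
      rw [map_sub, map_add, h1, h2, sub_self] at hφ
      exact absurd hφ (by decide)
    refine ⟨h0, x, fun u => ?_⟩
    have h1 := involutive h0 key u
    rwa [inv_inv] at h1
  · rintro ⟨h0, x, hx⟩
    refine ⟨h0, x, fun φ => ?_⟩
    ext u
    rw [dsmul, act_apply, involutive h0 hx, map_add, AddMonoidHom.add_apply, ev_apply]
    rcases z2 (f u) with h | h
    · simp [h]
    · simp [h]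

/-- the dual of an irreducible module is irreducible -/
theorem irr_dual [Finite M] (irr : ∀ N : AddSubgroup M, (∀ (x : X), ∀ n ∈ N, x • n ∈ N) → N = ⊥ ∨ N = ⊤)
    (N : AddSubgroup (M →+ ZMod 2)) (hN : ∀ (x : X), ∀ n ∈ N, x • n ∈ N) : N = ⊥ ∨ N = ⊤ := by
  classical
  let K : AddSubgroup M :=
    { carrier := {m | ∀ f ∈ N, f m = 0}
      zero_mem' := fun f _ => map_zero f
      add_mem' := fun {a b} ha hb f hf => by rw [map_add, ha f hf, hb f hf, add_zero]
      neg_mem' := fun {a} ha f hf => by rw [map_neg, ha f hf, neg_zero] }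
  have hK : ∀ (x : X), ∀ n ∈ K, x • n ∈ K := by
    intro x n hn f hf
    have h1 := hn _ (hN x⁻¹ f hf)
    rw [dsmul, act_apply, inv_inv] at h1
    exact h1
  rcases irr K hK with h | h
  · right
    rw [eq_top_iff]
    intro φ _
    let W : Submodule (ZMod 2) (Module.Dual (ZMod 2) M) :=
      { carrier := {g | g.toAddMonoidHom ∈ N}
        zero_mem' := N.zero_mem
        add_mem' := fun {a b} ha hb => N.add_mem ha hb
        smul_mem' := by
          intro c g hg
          rcases z2 c with rfl | rfl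
          · rw [zero_smul]; exact N.zero_mem
          · rw [one_smul]; exact hg }
    have hW : W.dualCoannihilator.dualAnnihilator = W := Subspace.dualCoannihilator_dualAnnihilator_eq
    have h1 : (φ.toZModLinearMap 2 : Module.Dual (ZMod 2) M) ∈ W := by
      rw [← hW, Submodule.mem_dualAnnihilator]
      intro m hm
      rw [Submodule.mem_dualCoannihilator] at hm
      have h2 : m ∈ K := fun f hf => hm (f.toZModLinearMap 2) hf
      rw [h] at h2
      rw [AddSubgroup.mem_bot.mp h2, map_zero]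
    exact h1
  · left
    rw [eq_bot_iff]
    intro f hf
    rw [AddSubgroup.mem_bot]
    ext m
    have : m ∈ K := by rw [h]; trivial
    exact this f hf

/-- The data. -/
structure Dat {ι : Type*} [Fintype ι] (f : ι → (M →+ ZMod 2)) (c : ι → M) (z : M) : Prop where
  irr : ∀ N : AddSubgroup M, (∀ (x : X), ∀ n ∈ N, x • n ∈ N) → N = ⊥ ∨ N = ⊤
  ne : ∀ i, f i ≠ 0
  tv : ∀ i, c i ∈ Y X (f i)
  conj : ∀ i j, ∃ x : X, act x (f i) = f j ∧ x • c i = c j
  ind : ∀ I : Finset ι, I.Nonempty → ∑ i ∈ I, c i ≠ 0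
  two : ∀ i, ∀ s : X, s • z = z → ∀ t : X, (∀ u : M, t • u = u + f i u • c i) →
    ∃ n : ℕ, ∀ u : M, ((s * t * s⁻¹ * t⁻¹) ^ (2 ^ n)) • u = u

namespace Dat

variable {ι : Type*} [Fintype ι] {f : ι → (M →+ ZMod 2)} {c : ι → M} {z : M} (D : Dat (X := X) f c z)
include D

theorem c_ne (i : ι) : c i ≠ 0 := by
  have := D.ind {i} (Finset.singleton_nonempty i)
  rwa [Finset.sum_singleton] at this

/-- the orbit of the functionals -/
def Phi (X : Type*) [Group X] {M : Type*} [AddCommGroup M] [DistribMulAction X M] {ι : Type*}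
    (f : ι → (M →+ ZMod 2)) : Set (M →+ ZMod 2) := {g | ∃ (x : X) (i : ι), act x (f i) = g}


omit D [Module (ZMod 2) M] [Fintype ι] in
theorem act_mul (x y : X) (g : M →+ ZMod 2) : act x (act y g) = act (x * y) g := by
  ext u; simp [mul_smul]

omit D [Module (ZMod 2) M] [Fintype ι] in
theorem act_one (g : M →+ ZMod 2) : act (1 : X) g = g := by
  ext u; simp

omit D [Module (ZMod 2) M] [Fintype ι] in
theorem mem_Phi (i : ι) : f i ∈ Phi X f := ⟨1, i, act_one _⟩

theorem move (i : ι) {g : M →+ ZMod 2} (hg : g ∈ Phi X f) : ∃ x : X, act x (f i) = g := by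
  obtain ⟨y, j, rfl⟩ := hg
  obtain ⟨w, hw, -⟩ := D.conj i j
  exact ⟨y * w, by rw [← act_mul, hw]⟩

theorem data (i : ι) (four : ∃ a ∈ Y X (f i), ∃ b ∈ Y X (f i), a ≠ 0 ∧ b ≠ 0 ∧ a ≠ b) :
    Data (X := X) (Phi X f) where
  inv := by
    rintro x g ⟨y, j, rfl⟩
    exact ⟨x * y, j, (act_mul _ _ _).symm⟩
  trans := by
    intro g hg g' hg'
    obtain ⟨x, rfl⟩ := D.move i hg
    obtain ⟨y, rfl⟩ := D.move i hg'
    refine ⟨y * x⁻¹, ?_⟩
    rw [act_mul, inv_mul_cancel_right]
  ne := by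
    rintro g ⟨x, j, rfl⟩ h0
    apply D.ne j
    have h1 := congrArg (act x⁻¹) h0
    rw [Data.act_inv_act] at h1
    rw [h1]
    ext u; simp
  nonempty := ⟨f i, mem_Phi i⟩
  irr := D.irr
  four := by
    intro g hg
    obtain ⟨x, rfl⟩ := D.move i hg
    obtain ⟨a, ha, b, hb, ha0, hb0, hab⟩ := four
    refine ⟨x • a, smul_mem_Y ha x, x • b, smul_mem_Y hb x, ?_, ?_, ?_⟩
    · rwa [smul_ne_zero_iff_ne]
    · rwa [smul_ne_zero_iff_ne]
    · exact fun h => hab (MulAction.injective x h)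

theorem claimA {Φ : Set (M →+ ZMod 2)} {i : ι} {g : M →+ ZMod 2} (hg : Data.Comp X Φ (f i) g)
    (h1 : g (c i) = 1) (h0 : g z = 0) : False := by
  rcases hg.2 with h2 | ⟨e, ⟨hge, s, hs⟩, he⟩
  · rw [h2, apply_eq_zero (D.tv i)] at h1
    exact absurd h1 (by decide)
  · obtain ⟨hfc, t, ht⟩ := D.tv i
    have hsz : s • z = z := by rw [hs, h0, zero_smul, add_zero]
    obtain ⟨n, hn⟩ := D.two i s hsz t ht
    exact EndData.S3 hs ht hge hfc h1 he (hn e)

theorem claimA' [Finite M] {Φ : Set (M →+ ZMod 2)} (E : Data (X := X) Φ) {i : ι} (hi : f i ∈ Φ)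
    {g : M →+ ZMod 2} (hg : Data.Comp X Φ (f i) g) : g (c i) = g z := by
  rcases z2 (g (c i)) with h1 | h1
  · rcases z2 (g z) with h2 | h2
    · rw [h1, h2]
    · exfalso
      obtain ⟨k, hk, hk1⟩ := E.exists_one (D.c_ne i)
      have hkc : Data.Comp X Φ (f i) k := by
        by_contra hcon
        rw [E.apply_MM hi hk hcon (Data.Y_le_MM (Data.Comp.refl hi) (D.tv i))] at hk1
        exact absurd hk1 (by decide)
      rcases z2 (k z) with h3 | h3
      · exact D.claimA hkc hk1 h3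
      · have hne : g ≠ k := by
          rintro rfl
          rw [h1] at hk1
          exact absurd hk1 (by decide)
        refine D.claimA (E.comp_add' hi hg hkc hne) ?_ ?_
        · rw [AddMonoidHom.add_apply, h1, hk1]; decide
        · rw [AddMonoidHom.add_apply, h2, h3]; decide
  · rcases z2 (g z) with h2 | h2
    · exact (D.claimA hg h1 h2).elim
    · rw [h1, h2]

/-- different `i` belong to different components -/
theorem not_comp [Finite M] [DecidableEq ι] {Φ : Set (M →+ ZMod 2)} (E : Data (X := X) Φ)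
    (hf : ∀ i, f i ∈ Φ) {i j : ι} (hij : i ≠ j) : ¬ Data.Comp X Φ (f i) (f j) := by
  intro h
  have h1 : c i + c j = 0 := by
    refine E.eq_zero_of_MM (hf i) ((Data.MM X Φ (f i)).add_mem (Data.Y_le_MM (Data.Comp.refl (hf i)) (D.tv i))
      (Data.Y_le_MM h (D.tv j))) fun g hg => ?_
    have h2 : Data.Comp X Φ (f j) g := E.comp_trans (hf j) (E.comp_symm (hf i) h) hg
    rw [map_add, D.claimA' E (hf i) hg, D.claimA' E (hf j) h2]
    exact CharTwo.add_self_eq_zero _
  have h2 := D.ind {i, j} (Finset.insert_nonempty _ _)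
  rw [Finset.sum_pair hij] at h2
  exact h2 h1

/-- case (b) -/
theorem indep_of_four [Finite M] {Φ : Set (M →+ ZMod 2)} (E : Data (X := X) Φ) (hf : ∀ i, f i ∈ Φ)
    (I : Finset ι) (hI : I.Nonempty) : ∑ i ∈ I, f i ≠ 0 := by
  classical
  intro h0
  obtain ⟨i, hi⟩ := hI
  have h1 : ∃ k ∈ Φ, ∃ e ∈ Y X k, f i e = 1 := by
    by_contra hcon
    push Not at hcon
    exact D.ne i (E.eq_zero_of fun k hk e he => (z2 _).resolve_right (hcon k hk e he))
  obtain ⟨k, hk, e, he, hfe⟩ := h1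
  have h2 : ∀ j ∈ I, j ≠ i → f j e = 0 := by
    intro j _ hji
    refine (z2 _).resolve_right fun h3 => ?_
    have h4 : Data.Comp X Φ (f i) k := ⟨hk, Or.inr ⟨e, he, hfe⟩⟩
    have h5 : Data.Comp X Φ (f j) k := ⟨hk, Or.inr ⟨e, he, h3⟩⟩
    exact D.not_comp E hf hji.symm (E.comp_trans (hf i) h4 (E.comp_symm (hf j) h5))
  have h3 := DFunLike.congr_fun h0 e
  rw [AddMonoidHom.finsetSum_apply, Finset.sum_eq_single i h2 (fun h => absurd hi h), hfe, AddMonoidHom.zero_apply] at h3
  exact absurd h3 (by decide)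

/-! ### case (c) -/

/-- separation by the orbit of the functionals, without `four` -/
theorem exists_one (i : ι) {e : M} (he : e ≠ 0) : ∃ j ∈ Phi X f, j e = 1 := by
  by_contra hcon
  push Not at hcon
  let N : AddSubgroup M :=
    { carrier := {m | ∀ g ∈ Phi X f, g m = 0}
      zero_mem' := fun g _ => map_zero g
      add_mem' := fun {a b} ha hb g hg => by rw [map_add, ha g hg, hb g hg, add_zero]
      neg_mem' := fun {a} ha g hg => by rw [map_neg, ha g hg, neg_zero] }
  rcases D.irr N (fun x n hn g hg => by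
      obtain ⟨y, j, rfl⟩ := hg
      have h1 := hn _ ⟨x⁻¹ * y, j, rfl⟩
      rw [← act_mul, act_apply, inv_inv] at h1
      exact h1) with h | h
  · apply he
    rw [← AddSubgroup.mem_bot, ← h]
    intro g hg
    exact (z2 _).resolve_right (hcon g hg)
  · apply D.ne i
    ext m
    have : m ∈ N := by rw [h]; trivial
    exact this _ (mem_Phi i)

/-- the dual data -/
theorem dual (i : ι) [Finite M] (hX : ∃ a ∈ Y X (ev (c i)), ∃ b ∈ Y X (ev (c i)), a ≠ 0 ∧ b ≠ 0 ∧ a ≠ b) :
    Data (X := X) {φ : (M →+ ZMod 2) →+ ZMod 2 | ∃ x : X, φ = ev (x • c i)} where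
  inv := by
    rintro x φ ⟨y, rfl⟩
    exact ⟨x * y, by rw [ev_act, mul_smul]⟩
  trans := by
    rintro φ ⟨x, rfl⟩ ψ ⟨y, rfl⟩
    exact ⟨y * x⁻¹, by rw [ev_act, mul_smul, inv_smul_smul]⟩
  ne := by
    rintro φ ⟨x, rfl⟩ h0
    have h1 : ev (x • c i) = ev (0 : M) := by rw [h0]; ext φ; simp
    have h2 := ev_inj h1
    rw [smul_eq_zero_iff_eq] at h2
    exact D.c_ne i h2
  nonempty := ⟨_, 1, rfl⟩
  irr := irr_dual D.irr
  four := by
    rintro φ ⟨x, rfl⟩
    obtain ⟨a, ha, b, hb, ha0, hb0, hab⟩ := hX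
    refine ⟨x • a, ?_, x • b, ?_, ?_, ?_, ?_⟩
    · rw [← ev_act]; exact smul_mem_Y ha x
    · rw [← ev_act]; exact smul_mem_Y hb x
    · rwa [smul_ne_zero_iff_ne]
    · rwa [smul_ne_zero_iff_ne]
    · exact fun h => hab (MulAction.injective x h)

/-- if a centre belongs to two axes, an axis has two centres -/
theorem four_of_dual (i : ι) [Finite M]
    (hX : ∃ a ∈ Y X (ev (c i)), ∃ b ∈ Y X (ev (c i)), a ≠ 0 ∧ b ≠ 0 ∧ a ≠ b) :
    ∃ a ∈ Y X (f i), ∃ b ∈ Y X (f i), a ≠ 0 ∧ b ≠ 0 ∧ a ≠ b := by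
  have : Finite (M →+ ZMod 2) := Finite.of_injective (fun g => (g : M → ZMod 2)) DFunLike.coe_injective
  have E := D.dual i hX
  set Ω : Set ((M →+ ZMod 2) →+ ZMod 2) := {φ : (M →+ ZMod 2) →+ ZMod 2 | ∃ x : X, φ = ev (x • c i)} with hΩ
  have hi : ev (c i) ∈ Ω := ⟨1, by rw [one_smul]⟩
  have hfi : f i ∈ Y X (ev (c i)) := mem_Y_dual.mpr (D.tv i)
  obtain ⟨g, hg, hg0, hgf⟩ : ∃ g ∈ Y X (ev (c i)), g ≠ 0 ∧ g ≠ f i := by
    obtain ⟨a, ha, b, hb, ha0, hb0, hab⟩ := hX
    by_cases h : a = f i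
    · exact ⟨b, hb, hb0, fun h1 => hab (by rw [h, h1])⟩
    · exact ⟨a, ha, ha0, h⟩
  -- the component
  have sep : ∀ h ∈ Y X (ev (c i)), h ≠ 0 → ∃ e : M, Data.Comp X Ω (ev (c i)) (ev e) ∧ h e = 1 := by
    intro h hh h0
    by_contra hcon
    push Not at hcon
    apply h0
    refine E.eq_zero_of_MM hi (Data.Y_le_MM (Data.Comp.refl hi) hh) fun φ hφ => ?_
    obtain ⟨x, rfl⟩ := hφ.1
    exact (z2 _).resolve_right (hcon _ hφ)
  have add : ∀ e e' : M, Data.Comp X Ω (ev (c i)) (ev e) → Data.Comp X Ω (ev (c i)) (ev e') → e ≠ e' →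
      Data.Comp X Ω (ev (c i)) (ev (e + e')) := by
    intro e e' h h' hne
    rw [ev_add]
    exact E.comp_add' hi h h' (fun h1 => hne (ev_inj h1))
  obtain ⟨e, he, hge, hfe⟩ : ∃ e : M, Data.Comp X Ω (ev (c i)) (ev e) ∧ g e = 1 ∧ f i e = 0 := by
    obtain ⟨e2, h2, hg2⟩ := sep g hg hg0
    rcases z2 (f i e2) with h3 | h3
    · exact ⟨e2, h2, hg2, h3⟩
    · have hs : g + f i ≠ 0 := by
        intro h4
        apply hgf
        have h5 : g = -(f i) := eq_neg_of_add_eq_zero_left h4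
        rw [h5]
        ext m
        rw [AddMonoidHom.neg_apply]
        rcases z2 (f i m) with h | h <;> rw [h] <;> decide
      obtain ⟨e3, h4, h5⟩ := sep (g + f i) ((Y X (ev (c i))).add_mem hg hfi) hs
      rw [AddMonoidHom.add_apply] at h5
      rcases z2 (g e3) with h6 | h6
      · rw [h6, zero_add] at h5
        refine ⟨e2 + e3, add _ _ h2 h4 ?_, by rw [map_add, hg2, h6, add_zero], ?_⟩
        · rintro rfl
          rw [hg2] at h6
          exact absurd h6 (by decide)
        · rw [map_add, h3, h5]; decide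
      · refine ⟨e3, h4, h6, ?_⟩
        rw [h6] at h5
        rcases z2 (f i e3) with h7 | h7
        · exact h7
        · rw [h7] at h5; exact absurd h5 (by decide)
  have h1 : Adj X (ev (c i)) (ev e) := ⟨g, hg, hge⟩
  have h2 : f i ∈ Y X (ev e) := E.mem_Y_of hi he.1 h1 hfi hfe
  refine ⟨c i, D.tv i, e, mem_Y_dual.mp h2, D.c_ne i, ?_, ?_⟩
  · rintro rfl
    rw [map_zero] at hge
    exact absurd hge (by decide)
  · intro h3
    have h4 := apply_eq_zero hg
    rw [ev_apply, h3, hge] at h4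
    exact absurd h4 (by decide)

/-- **The functionals are linearly independent.** -/
theorem indep [Finite M] (I : Finset ι) (hI : I.Nonempty) : ∑ i ∈ I, f i ≠ 0 := by
  obtain ⟨i0, -⟩ := id hI
  by_cases hb : ∃ a ∈ Y X (f i0), ∃ b ∈ Y X (f i0), a ≠ 0 ∧ b ≠ 0 ∧ a ≠ b
  · exact D.indep_of_four (D.data i0 hb) mem_Phi I hI
  -- every centre belongs to one axis
  have uniq : ∀ (i : ι) (x : X) (g : M →+ ZMod 2), x • c i ∈ Y X g → g ≠ 0 → g = act x (f i) := by
    intro i x g hg hg0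
    by_contra hne
    apply hb
    obtain ⟨w, hw, hwc⟩ := D.conj i i0
    refine D.four_of_dual i0 ⟨f i0, mem_Y_dual.mpr (D.tv i0), act (w * x⁻¹) g, mem_Y_dual.mpr ?_, D.ne i0, ?_,
      ?_⟩
    · have h1 := smul_mem_Y hg (w * x⁻¹)
      rwa [mul_smul, inv_smul_smul, hwc] at h1
    · intro h1
      apply hg0
      have h2 := congrArg (act (w * x⁻¹)⁻¹) h1
      rw [Data.act_inv_act] at h2
      rw [h2]
      ext u; simp
    · intro h1
      apply hne
      have h2 := congrArg (act (w * x⁻¹)⁻¹) h1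
      rw [Data.act_inv_act, ← hw, act_mul, mul_inv_rev, inv_inv, inv_mul_cancel_right] at h2
      exact h2.symm
  have hne : ∀ (i : ι) (x : X), act x (f i) ≠ 0 := by
    intro i x h0
    apply D.ne i
    have h1 := congrArg (act x⁻¹) h0
    rw [Data.act_inv_act] at h1
    rw [h1]
    ext u; simp
  have half : ∀ (i j : ι) (x y : X), act x (f i) (y • c j) = 0 → act y (f j) (x • c i) = 1 → False := by
    intro i j x y h0 h1
    obtain ⟨-, t, ht⟩ := smul_mem_Y (D.tv i) x
    have hxi : act x (f i) (x • c i) = 0 := apply_eq_zero (smul_mem_Y (D.tv i) x)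
    have h2 := smul_mem_Y (smul_mem_Y (D.tv j) y) t
    have h3 : t • y • c j = y • c j := by rw [ht, h0, zero_smul, add_zero]
    rw [h3] at h2
    have h4 := uniq j y _ h2 (by rw [act_mul]; exact hne j _)
    apply hne i x
    ext u
    have h5 := DFunLike.congr_fun h4 u
    rw [act_apply, involutive hxi ht, map_add] at h5
    have h6 : act y (f j) (act x (f i) u • x • c i) = act x (f i) u := by
      rcases z2 (act x (f i) u) with h | h
      · rw [h, zero_smul, map_zero]
      · rw [h, one_smul, h1]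
    rw [h6] at h5
    rw [AddMonoidHom.zero_apply]
    exact add_eq_left.mp h5
  have sym : ∀ (i j : ι) (x y : X), act x (f i) (y • c j) = act y (f j) (x • c i) := by
    intro i j x y
    rcases z2 (act x (f i) (y • c j)) with h | h <;> rcases z2 (act y (f j) (x • c i)) with h' | h'
    · rw [h, h']
    · exact (half i j x y h h').elim
    · exact (half j i y x h' h).elim
    · rw [h, h']
  intro h0
  obtain ⟨j, ⟨y, k, rfl⟩, hj⟩ := D.exists_one i0 (D.ind I hI)
  rw [map_sum] at hj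
  have h1 : ∑ i ∈ I, act y (f k) (c i) = ∑ i ∈ I, f i (y • c k) := by
    refine Finset.sum_congr rfl fun i _ => ?_
    have := sym i k 1 y
    rw [act_one, one_smul] at this
    exact this.symm
  have h2 := DFunLike.congr_fun h0 (y • c k)
  rw [AddMonoidHom.finsetSum_apply, AddMonoidHom.zero_apply] at h2
  rw [h1, h2] at hj
  exact absurd hj (by decide)

/-- **All values of the functionals occur.** -/
theorem exists_apply [Finite M] (b : ι → ZMod 2) : ∃ u : M, ∀ i, f i u = b i := by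
  classical
  let p : Submodule (ZMod 2) (ι → ZMod 2) :=
    { carrier := {b | ∃ u : M, ∀ i, f i u = b i}
      zero_mem' := ⟨0, fun i => map_zero _⟩
      add_mem' := by
        rintro a b ⟨u, hu⟩ ⟨v, hv⟩
        exact ⟨u + v, fun i => by rw [map_add, hu, hv]; rfl⟩
      smul_mem' := by
        rintro a b ⟨u, hu⟩
        rcases z2 a with rfl | rfl
        · exact ⟨0, fun i => by rw [map_zero, zero_smul]; rfl⟩
        · exact ⟨u, fun i => by rw [one_smul, hu]⟩ }
  change b ∈ p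
  by_contra hcon
  obtain ⟨φ, hφb, hφp⟩ := Submodule.exists_dual_map_eq_bot_of_notMem hcon inferInstance
  have hker : ∀ m ∈ p, φ m = 0 := by
    intro m hm
    have : φ m ∈ p.map φ := ⟨m, hm, rfl⟩
    rw [hφp] at this
    exact (Submodule.mem_bot _).mp this
  have hφ : ∀ b : ι → ZMod 2, φ b = ∑ i, b i * φ (Pi.single i 1) := by
    intro b
    conv_lhs => rw [← Finset.univ_sum_single b]
    rw [map_sum]
    refine Finset.sum_congr rfl fun i _ => ?_
    rcases z2 (b i) with h | h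
    · rw [h, Pi.single_zero, map_zero, zero_mul]
    · rw [h, one_mul]
  let I : Finset ι := Finset.univ.filter fun i => φ (Pi.single i 1) = 1
  have hI : I.Nonempty := by
    by_contra hne
    rw [Finset.not_nonempty_iff_eq_empty] at hne
    apply hφb
    rw [hφ]
    refine Finset.sum_eq_zero fun i _ => ?_
    have h1 : φ (Pi.single i 1) = 0 := by
      refine (z2 _).resolve_right fun h => ?_
      have : i ∈ I := Finset.mem_filter.mpr ⟨Finset.mem_univ _, h⟩
      rw [hne] at this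
      exact absurd this (Finset.notMem_empty _)
    rw [h1, mul_zero]
  apply D.indep I hI
  ext u
  have h1 := hker (fun i => f i u) ⟨u, fun i => rfl⟩
  rw [hφ] at h1
  rw [AddMonoidHom.finsetSum_apply, AddMonoidHom.zero_apply, ← h1, Finset.sum_filter]
  refine Finset.sum_congr rfl fun i _ => ?_
  rcases z2 (φ (Pi.single i 1)) with h | h
  · rw [if_neg (by rw [h]; decide), h, mul_zero]
  · rw [if_pos h, h, mul_one]

end Dat

end Cfsg.Agent.Omega.NOThreeL.IndepTwo

end

section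


/-!
# NO-3L, box R, case (A), `q = 2`: the case SL (helper858, #17122 (2))

`X` (`= N = ⟨V'^H⟩`) acts on the finite `F_2`-space `M` (`= U#`), `I` is the set of fixed points, `e ∈ M`.
Results: `Dat.stab`, `Dat.trans`, `Dat.final`.
-/

set_option autoImplicit false

namespace Cfsg.Agent.Omega.NOThreeL.SLCase

open Cfsg.Agent.Omega.NOThreeL.ThmL Cfsg.Agent.Omega.NOThreeL.IndepTwo

attribute [local instance] dAct

variable {X M : Type*} [Group X] [AddCommGroup M] [Module (ZMod 2) M] [DistribMulAction X M]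

variable (X M) in
omit [Module (ZMod 2) M] in
/-- The fixed points. -/
def Fx : AddSubgroup M where
  carrier := {m | ∀ x : X, x • m = m}
  zero_mem' x := smul_zero x
  add_mem' ha hb x := by rw [smul_add, ha x, hb x]
  neg_mem' ha x := by rw [smul_neg, ha x]

omit [Module (ZMod 2) M] in
theorem mem_Fx {m : M} : m ∈ Fx X M ↔ ∀ x : X, x • m = m := Iff.rfl

variable (X M) in
/-- The functionals killing the fixed points. -/
def LL : Submodule (ZMod 2) (M →+ ZMod 2) where
  carrier := {φ | ∀ i ∈ Fx X M, φ i = 0}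
  zero_mem' _ _ := rfl
  add_mem' ha hb i hi := by rw [AddMonoidHom.add_apply, ha i hi, hb i hi, add_zero]
  smul_mem' c φ hφ i hi := by
    rcases z2 c with rfl | rfl
    · rw [zero_smul]; rfl
    · rw [one_smul]; exact hφ i hi

instance finLL [Finite M] : Finite ↥(LL X M) :=
  Finite.of_injective (fun g : ↥(LL X M) => ((g : M →+ ZMod 2) : M → ZMod 2))
    (fun _ _ h => Subtype.ext (DFunLike.coe_injective h))

omit [Module (ZMod 2) M] in
theorem act_mem_LL (x : X) {φ : M →+ ZMod 2} (h : φ ∈ LL X M) : act x φ ∈ LL X M := fun i hi => by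
  rw [act_apply, hi x⁻¹]
  exact h i hi

instance instAct : DistribMulAction X ↥(LL X M) where
  smul x φ := ⟨act x (φ : M →+ ZMod 2), act_mem_LL x φ.2⟩
  one_smul φ := by
    apply Subtype.ext
    change act (1 : X) (φ : M →+ ZMod 2) = φ
    ext u; simp
  mul_smul x y φ := by
    apply Subtype.ext
    change act (x * y) (φ : M →+ ZMod 2) = act x (act y φ)
    ext u; simp [mul_smul]
  smul_zero x := by
    apply Subtype.ext
    change act x (0 : M →+ ZMod 2) = 0
    ext u; simp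
  smul_add x φ ψ := by
    apply Subtype.ext
    change act x ((φ : M →+ ZMod 2) + (ψ : M →+ ZMod 2)) = act x (φ : M →+ ZMod 2) + act x (ψ : M →+ ZMod 2)
    ext u; simp

omit [Module (ZMod 2) M] in
theorem coe_smul' (x : X) (φ : ↥(LL X M)) : ((x • φ : ↥(LL X M)) : M →+ ZMod 2) = act x (φ : M →+ ZMod 2) :=
  rfl

variable (X) in
/-- Evaluation at `m`. -/
def evL (m : M) : ↥(LL X M) →+ ZMod 2 where
  toFun φ := (φ : M →+ ZMod 2) m
  map_zero' := rfl
  map_add' _ _ := rfl

omit [Module (ZMod 2) M] in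
@[simp] theorem evL_apply (m : M) (φ : ↥(LL X M)) : evL X m φ = (φ : M →+ ZMod 2) m := rfl

omit [Module (ZMod 2) M] in
theorem evL_add (a b : M) : evL X (a + b) = evL X a + evL X b := by
  ext φ
  exact map_add (φ : M →+ ZMod 2) a b

omit [Module (ZMod 2) M] in
theorem evL_act (x : X) (m : M) : act x (evL X m) = evL X (x • m) := by
  ext φ
  rw [act_apply, evL_apply, evL_apply, coe_smul', act_apply, inv_inv]

/-- separation -/
theorem exists_LL {m : M} (hm : m ∉ Fx X M) : ∃ φ ∈ LL X M, φ m = 1 := by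
  have hp : m ∉ (AddSubgroup.toZModSubmodule 2 (Fx X M)) := hm
  obtain ⟨φ, hφm, hφp⟩ := Submodule.exists_dual_map_eq_bot_of_notMem hp inferInstance
  refine ⟨φ.toAddMonoidHom, fun i hi => ?_, (z2 _).resolve_left hφm⟩
  have : φ i ∈ (AddSubgroup.toZModSubmodule 2 (Fx X M)).map φ := ⟨i, hi, rfl⟩
  rw [hφp] at this
  exact (Submodule.mem_bot _).mp this

theorem mem_Fx_of {m : M} (h : ∀ φ ∈ LL X M, φ m = 0) : m ∈ Fx X M := by
  by_contra hm
  obtain ⟨φ, hφ, h1⟩ := exists_LL hm
  rw [h φ hφ] at h1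
  exact absurd h1 (by decide)

theorem evL_eq {a b : M} : evL X a = evL X b ↔ a - b ∈ Fx X M := by
  constructor
  · intro h
    refine mem_Fx_of fun φ hφ => ?_
    rw [map_sub, sub_eq_zero]
    exact DFunLike.congr_fun h ⟨φ, hφ⟩
  · intro h
    ext φ
    have := φ.2 _ h
    rw [map_sub, sub_eq_zero] at this
    exact this

/-- `Y` of the dual: transvections of `M / I`. -/
theorem mem_YL {e : M} {f : ↥(LL X M)} :
    f ∈ Y X (evL X e) ↔ (f : M →+ ZMod 2) e = 0 ∧
      ∃ x : X, ∀ u : M, x • u - (u + (f : M →+ ZMod 2) u • e) ∈ Fx X M := by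
  have aux : ∀ (φ : M →+ ZMod 2) (u : M), φ (u + (f : M →+ ZMod 2) u • e) = φ u + φ e * (f : M →+ ZMod 2) u := by
    intro φ u
    rw [map_add]
    rcases z2 ((f : M →+ ZMod 2) u) with h | h <;> simp [h]
  constructor
  · rintro ⟨h0, x, hx⟩
    refine ⟨h0, x⁻¹, fun u => mem_Fx_of fun φ hφ => ?_⟩
    have h1 := congrArg (fun ψ : ↥(LL X M) => (ψ : M →+ ZMod 2) u) (hx ⟨φ, hφ⟩)
    simp only [coe_smul', act_apply, evL_apply, Submodule.coe_add, Submodule.coe_smul,
      AddMonoidHom.add_apply, AddMonoidHom.smul_apply, smul_eq_mul] at h1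
    rw [map_sub, aux, h1, sub_self]
  · rintro ⟨h0, x, hx⟩
    refine ⟨h0, x⁻¹, fun φ => ?_⟩
    apply Subtype.ext
    ext u
    have h1 := φ.2 _ (hx u)
    rw [map_sub, aux, sub_eq_zero] at h1
    rw [coe_smul', act_apply, inv_inv, h1]
    rfl

/-- The data of the case SL. -/
structure Dat (X : Type*) [Group X] {M : Type*} [AddCommGroup M] [Module (ZMod 2) M] [DistribMulAction X M]
    (e : M) : Prop where
  ne : e ≠ 0
  span : AddSubgroup.closure {m : M | ∃ x : X, x • e = m} = ⊤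
  gen : Subgroup.closure {x : X | ∃ (y : X) (f : M →+ ZMod 2), ∀ u : M, x • u = u + f u • (y • e)} = ⊤
  d : ∀ x : X, (∀ u : M, x • u - u ∈ Fx X M) → ∀ u : M, x • u = u
  four : ∃ f1 f2 : M →+ ZMod 2, e ∈ Y X f1 ∧ e ∈ Y X f2 ∧ f1 ≠ 0 ∧ f2 ≠ 0 ∧ f1 ≠ f2
  syl : ∃ T : Sylow 2 X, ∀ t ∈ (T : Subgroup X), t • e = e

namespace Dat

variable {e : M} (D : Dat X e)
include D

theorem mem_LL_of {f : M →+ ZMod 2} (h : e ∈ Y X f) : f ∈ LL X M := by
  obtain ⟨h0, x, hx⟩ := h
  intro i hi
  have h1 := hx i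
  rw [hi x] at h1
  rcases z2 (f i) with h2 | h2
  · exact h2
  · rw [h2, one_smul] at h1
    exact absurd (left_eq_add.mp h1) D.ne

theorem e_not_mem : e ∉ Fx X M := by
  intro h
  have hall : ∀ m : M, m ∈ Fx X M := by
    intro m
    have hm : m ∈ AddSubgroup.closure {m : M | ∃ x : X, x • e = m} := by rw [D.span]; trivial
    refine (AddSubgroup.closure_le _).mpr ?_ hm
    rintro _ ⟨x, rfl⟩
    rw [h x]
    exact h
  obtain ⟨f1, -, ⟨-, x, hx⟩, -, hf1, -⟩ := D.four
  apply hf1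
  ext u
  have h1 := hx u
  rw [hall u x] at h1
  rcases z2 (f1 u) with h2 | h2
  · exact h2
  · rw [h2, one_smul] at h1
    exact absurd (left_eq_add.mp h1) D.ne

theorem orbit_not_mem (x : X) : x • e ∉ Fx X M := fun h => D.e_not_mem (by
  have h1 := h x⁻¹
  rw [inv_smul_smul] at h1
  rwa [h1])

theorem smul_ne (x : X) : x • e ≠ 0 := fun h => D.orbit_not_mem x (h ▸ (Fx X M).zero_mem)

/-- generators: the functional vanishes at the centre and on the fixed points -/
theorem gen_spec {x y : X} {f : M →+ ZMod 2} (h : ∀ u : M, x • u = u + f u • (y • e)) :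
    f ∈ LL X M ∧ f (y • e) = 0 := by
  constructor
  · intro i hi
    have h1 := h i
    rw [hi x] at h1
    rcases z2 (f i) with h2 | h2
    · exact h2
    · rw [h2, one_smul] at h1
      exact absurd (left_eq_add.mp h1) (D.smul_ne y)
  · rcases z2 (f (y • e)) with h2 | h2
    · exact h2
    · have h1 := h (y • e)
      rw [h2, one_smul, add_self] at h1
      have h3 : y • e = 0 := by
        rwa [smul_eq_zero_iff_eq] at h1
      exact absurd h3 (D.smul_ne y)

/-- submodules -/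
theorem sub_or {N : AddSubgroup M} (hN : ∀ (x : X), ∀ n ∈ N, x • n ∈ N) : N ≤ Fx X M ∨ N = ⊤ := by
  by_cases h : N ≤ Fx X M
  · exact Or.inl h
  right
  obtain ⟨m, hm, hmI⟩ := Set.not_subset.mp h
  -- a generator moves `m`
  have h1 : ∃ x ∈ {x : X | ∃ (y : X) (f : M →+ ZMod 2), ∀ u : M, x • u = u + f u • (y • e)}, x • m ≠ m := by
    by_contra hcon
    push Not at hcon
    apply hmI
    have h2 : Subgroup.closure {x : X | ∃ (y : X) (f : M →+ ZMod 2), ∀ u : M, x • u = u + f u • (y • e)} ≤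
        MulAction.stabilizer X m := (Subgroup.closure_le _).mpr fun x hx => hcon x hx
    rw [D.gen] at h2
    intro x
    exact h2 (Subgroup.mem_top x)
  obtain ⟨x, ⟨y, f, hx⟩, hne⟩ := h1
  have h2 : f m = 1 := by
    rcases z2 (f m) with h3 | h3
    · exact absurd (by rw [hx, h3, zero_smul, add_zero]) hne
    · exact h3
  have h3 : y • e ∈ N := by
    have h4 := N.sub_mem (hN x m hm) hm
    rwa [hx, h2, one_smul, add_sub_cancel_left] at h4
  rw [eq_top_iff, ← D.span, AddSubgroup.closure_le]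
  rintro _ ⟨w, rfl⟩
  have h5 := hN (w * y⁻¹) _ h3
  rwa [mul_smul, inv_smul_smul] at h5

theorem irr [Finite M] (N : AddSubgroup ↥(LL X M)) (hN : ∀ (x : X), ∀ n ∈ N, x • n ∈ N) : N = ⊥ ∨ N = ⊤ := by
  classical
  let K : AddSubgroup M :=
    { carrier := {m | ∀ f ∈ N, (f : M →+ ZMod 2) m = 0}
      zero_mem' := fun f _ => map_zero _
      add_mem' := fun {a b} ha hb f hf => by rw [map_add, ha f hf, hb f hf, add_zero]
      neg_mem' := fun {a} ha f hf => by rw [map_neg, ha f hf, neg_zero] }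
  have hK : ∀ (x : X), ∀ n ∈ K, x • n ∈ K := by
    intro x n hn f hf
    have h1 := hn _ (hN x⁻¹ f hf)
    rw [coe_smul', act_apply, inv_inv] at h1
    exact h1
  rcases D.sub_or hK with h | h
  · right
    rw [eq_top_iff]
    intro φ _
    let W : Submodule (ZMod 2) (Module.Dual (ZMod 2) M) :=
      { carrier := {g | ∃ f ∈ N, (f : M →+ ZMod 2) = g.toAddMonoidHom}
        zero_mem' := ⟨0, N.zero_mem, rfl⟩
        add_mem' := by
          rintro a b ⟨f, hf, hfa⟩ ⟨g, hg, hgb⟩
          exact ⟨f + g, N.add_mem hf hg, by rw [Submodule.coe_add, hfa, hgb]; rfl⟩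
        smul_mem' := by
          rintro c g ⟨f, hf, hfg⟩
          rcases z2 c with rfl | rfl
          · exact ⟨0, N.zero_mem, by rw [zero_smul]; rfl⟩
          · exact ⟨f, hf, by rw [one_smul, hfg]⟩ }
    have hW : W.dualCoannihilator.dualAnnihilator = W := Subspace.dualCoannihilator_dualAnnihilator_eq
    have h1 : ((φ : M →+ ZMod 2).toZModLinearMap 2 : Module.Dual (ZMod 2) M) ∈ W := by
      rw [← hW, Submodule.mem_dualAnnihilator]
      intro m hm
      rw [Submodule.mem_dualCoannihilator] at hm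
      have h2 : m ∈ K := fun f hf => hm ((f : M →+ ZMod 2).toZModLinearMap 2) ⟨f, hf, rfl⟩
      exact φ.2 _ (h h2)
    obtain ⟨f, hf, hfφ⟩ := h1
    have h2 : f = φ := Subtype.ext hfφ
    rwa [← h2]
  · left
    rw [eq_bot_iff]
    intro f hf
    rw [AddSubgroup.mem_bot]
    apply Subtype.ext
    ext m
    have : m ∈ K := by rw [h]; trivial
    exact this f hf

theorem evL_ne (x : X) : evL X (x • e) ≠ 0 := by
  intro h
  apply D.orbit_not_mem x
  refine mem_Fx_of fun φ hφ => ?_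
  exact DFunLike.congr_fun h (⟨φ, hφ⟩ : ↥(LL X M))

/-- THEOREM L's data on the dual of `M / I`. -/
theorem data [Finite M] : Data (X := X) {φ : ↥(LL X M) →+ ZMod 2 | ∃ x : X, φ = evL X (x • e)} where
  inv := by
    rintro x φ ⟨y, rfl⟩
    exact ⟨x * y, by rw [evL_act, mul_smul]⟩
  trans := by
    rintro φ ⟨x, rfl⟩ ψ ⟨y, rfl⟩
    exact ⟨y * x⁻¹, by rw [evL_act, mul_smul, inv_smul_smul]⟩
  ne := by
    rintro φ ⟨x, rfl⟩
    exact D.evL_ne x
  nonempty := ⟨_, 1, rfl⟩
  irr := D.irr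
  four := by
    rintro φ ⟨x, rfl⟩
    obtain ⟨f1, f2, h1, h2, h10, h20, h12⟩ := D.four
    have hY : ∀ {f : M →+ ZMod 2} (h : e ∈ Y X f), (⟨f, D.mem_LL_of h⟩ : ↥(LL X M)) ∈ Y X (evL X e) := by
      rintro f ⟨h0, y, hy⟩
      rw [mem_YL]
      refine ⟨h0, y, fun u => ?_⟩
      rw [hy, sub_self]
      exact (Fx X M).zero_mem
    refine ⟨x • ⟨f1, D.mem_LL_of h1⟩, ?_, x • ⟨f2, D.mem_LL_of h2⟩, ?_, ?_, ?_, ?_⟩
    · rw [← evL_act]; exact smul_mem_Y (hY h1) x
    · rw [← evL_act]; exact smul_mem_Y (hY h2) x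
    · rw [smul_ne_zero_iff_ne]
      exact fun h => h10 (congrArg Subtype.val h)
    · rw [smul_ne_zero_iff_ne]
      exact fun h => h20 (congrArg Subtype.val h)
    · exact fun h => h12 (congrArg Subtype.val (MulAction.injective x h))

/-- one component -/
theorem comp [Finite M] (x y : X) :
    Data.Comp X {φ : ↥(LL X M) →+ ZMod 2 | ∃ x : X, φ = evL X (x • e)} (evL X (y • e)) (evL X (x • y • e)) := by
  have E := D.data
  have hmem : x ∈ Subgroup.closure {x : X | ∃ (y : X) (f : M →+ ZMod 2), ∀ u : M, x • u = u + f u • (y • e)} := by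
    rw [D.gen]; trivial
  -- a generator
  have step : ∀ (x w : X), x ∈ {x : X | ∃ (y : X) (f : M →+ ZMod 2), ∀ u : M, x • u = u + f u • (y • e)} →
      Data.Comp X {φ : ↥(LL X M) →+ ZMod 2 | ∃ x : X, φ = evL X (x • e)} (evL X (w • e)) (evL X (x • w • e)) := by
    rintro x w ⟨v, f, hx⟩
    obtain ⟨hf, hfv⟩ := D.gen_spec hx
    rw [hx]
    rcases z2 (f (w • e)) with h1 | h1
    · rw [h1, zero_smul, add_zero]
      exact Data.Comp.refl ⟨w, rfl⟩
    · rw [h1, one_smul, add_comm, evL_add]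
      have h2 : Data.Comp X {φ : ↥(LL X M) →+ ZMod 2 | ∃ x : X, φ = evL X (x • e)} (evL X (w • e))
          (evL X (v • e)) := by
        refine ⟨⟨v, rfl⟩, Or.inr ⟨⟨f, hf⟩, mem_YL.mpr ⟨hfv, x, fun u => ?_⟩, h1⟩⟩
        change x • u - (u + f u • v • e) ∈ Fx X M
        rw [hx, sub_self]
        exact (Fx X M).zero_mem
      refine Data.comp_add E ⟨w, rfl⟩ h2 ?_
      intro h3
      have h4 := DFunLike.congr_fun h3 (⟨f, hf⟩ : ↥(LL X M))
      rw [evL_apply, evL_apply] at h4
      change f (w • e) = f (v • e) at h4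
      rw [h1, hfv] at h4
      exact absurd h4 (by decide)
  induction hmem using Subgroup.closure_induction generalizing y with
  | mem x hx => exact step x y hx
  | one => rw [one_smul]; exact Data.Comp.refl ⟨y, rfl⟩
  | mul a b _ _ ha hb =>
    have h1 := hb y
    have h2 := ha (b * y)
    rw [mul_smul] at h2
    have h3 := E.comp_trans ⟨y, rfl⟩ h1 h2
    rwa [← mul_smul a b] at h3
  | inv a _ ha =>
    have h1 := ha (a⁻¹ * y)
    rw [mul_smul, smul_inv_smul] at h1
    exact E.comp_symm ⟨a⁻¹ * y, by rw [mul_smul]⟩ h1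

theorem CC_bot [Finite M] :
    Data.CC X {φ : ↥(LL X M) →+ ZMod 2 | ∃ x : X, φ = evL X (x • e)} (evL X e) = ⊥ := by
  unfold Data.CC
  rw [eq_bot_iff, AddSubgroup.closure_le]
  rintro m ⟨k, ⟨x, rfl⟩, hk, -⟩
  exfalso
  apply hk
  have := D.comp x 1
  rwa [one_smul] at this

/-- every nonzero vector of `M / I` is in the orbit -/
theorem exists_orbit [Finite M] {m : M} (hm : m ∉ Fx X M) : ∃ x : X, m - x • e ∈ Fx X M := by
  have E := D.data
  have h1 : evL X m ≠ 0 := by
    intro h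
    exact hm (mem_Fx_of fun φ hφ => DFunLike.congr_fun h (⟨φ, hφ⟩ : ↥(LL X M)))
  have h2 := E.comp_of_CC (f := evL X e) ⟨1, by rw [one_smul]⟩ h1 (fun φ hφ => by
    rw [D.CC_bot] at hφ
    rw [AddSubgroup.mem_bot.mp hφ, map_zero])
  obtain ⟨x, hx⟩ := h2.1
  exact ⟨x, evL_eq.mp hx⟩

/-- all transvections of `M / I` are induced -/
theorem exists_tr [Finite M] {m : M} (hm : m ∉ Fx X M) {f : M →+ ZMod 2} (hf : f ∈ LL X M) (h0 : f m = 0) :
    ∃ x : X, ∀ u : M, x • u - (u + f u • m) ∈ Fx X M := by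
  have E := D.data
  obtain ⟨w, hw⟩ := D.exists_orbit hm
  have hmw : evL X m = evL X (w • e) := evL_eq.mpr hw
  have key : ∀ g : ↥(LL X M), (g : M →+ ZMod 2) e = 0 → g ∈ Y X (evL X e) := by
    intro g hg
    refine E.mem_Y_of_MM ⟨1, by rw [one_smul]⟩ ?_ hg
    obtain ⟨a, ha, b, hb, hab⟩ := E.exists_add g (evL X e)
    rw [D.CC_bot] at hb
    rw [hab, AddSubgroup.mem_bot.mp hb, add_zero]
    exact ha
  have h1 := key (w⁻¹ • ⟨f, hf⟩) (by
    rw [coe_smul', act_apply, inv_inv]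
    have h2 := hf _ hw
    rw [map_sub, h0, zero_sub, neg_eq_zero] at h2
    exact h2)
  have h2 := smul_mem_Y h1 w
  rw [smul_inv_smul, evL_act, ← hmw] at h2
  exact (mem_YL.mp h2).2

omit D [Module (ZMod 2) M] in
theorem mem_inv {b : X} {m : M} (h : b • m - m ∈ Fx X M) : b⁻¹ • m - m ∈ Fx X M := by
  have h1 := h b⁻¹
  rw [smul_sub, inv_smul_smul] at h1
  have h2 : b⁻¹ • m - m = -(b • m - m) := by rw [← h1]; abel
  rw [h2]
  exact (Fx X M).neg_mem h

/-- (F2) a 2-element fixing `e + I` fixes `e`. -/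
theorem fix_of_two [Finite X] {b : X} (hb : b • e - e ∈ Fx X M) {n : ℕ} (hn : ∀ u : M, (b ^ (2 ^ n)) • u = u) :
    b • e = e := by
  classical
  obtain ⟨T, hT⟩ := D.syl
  let B : Subgroup X :=
    { carrier := {b | b • e - e ∈ Fx X M}
      one_mem' := by
        change (1 : X) • e - e ∈ Fx X M
        rw [one_smul, sub_self]; exact (Fx X M).zero_mem
      mul_mem' := by
        intro a c ha hc
        change (a * c) • e - e ∈ Fx X M
        have h1 : (a * c) • e - e = (a • e - e) + a • (c • e - e) := by rw [mul_smul, smul_sub]; abel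
        rw [h1, hc a]
        exact (Fx X M).add_mem ha hc
      inv_mem' := fun {a} ha => mem_inv ha }
  have hTB : (T : Subgroup X) ≤ B := fun t ht => by
    change t • e - e ∈ Fx X M
    rw [hT t ht, sub_self]; exact (Fx X M).zero_mem
  -- the 2-part of `b`
  obtain ⟨k, m, hm, hk⟩ := Nat.exists_eq_two_pow_mul_odd (orderOf_pos b).ne'
  set c := b ^ m with hc
  have hcB : c ∈ B := B.pow_mem (show b ∈ B from hb) m
  have hc2 : c ^ (2 ^ k) = 1 := by rw [hc, ← pow_mul, mul_comm m, ← hk, pow_orderOf_eq_one]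
  -- it is conjugate in `B` to an element of `T`
  let T' : Sylow 2 ↥B := T.subtype hTB
  have hP : IsPGroup 2 (Subgroup.zpowers (⟨c, hcB⟩ : ↥B)) := by
    refine IsPGroup.of_card_dvd_pow (n := k) ?_
    rw [Nat.card_zpowers]
    exact orderOf_dvd_of_pow_eq_one (Subtype.ext hc2)
  obtain ⟨Q, hQ⟩ := hP.exists_le_sylow
  obtain ⟨g, hg⟩ := MulAction.exists_smul_eq ↥B T' Q
  have h1 : (⟨c, hcB⟩ : ↥B) ∈ (Q : Subgroup ↥B) := hQ (Subgroup.mem_zpowers _)
  rw [← hg, Sylow.coe_subgroup_smul, Subgroup.mem_pointwise_smul_iff_inv_smul_mem] at h1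
  have h2 : (g : X)⁻¹ * c * (g : X) ∈ (T : Subgroup X) := by
    have h3 : ((MulAut.conj g)⁻¹ • (⟨c, hcB⟩ : ↥B) : ↥B) ∈ (T' : Subgroup ↥B) := h1
    have h4 : (((MulAut.conj g)⁻¹ • (⟨c, hcB⟩ : ↥B) : ↥B) : X) ∈ (T : Subgroup X) := h3
    simpa using h4
  have h3 := hT _ h2
  have h4 : c • (g : X) • e = (g : X) • e := by
    rw [mul_smul, mul_smul, inv_smul_eq_iff] at h3
    exact h3
  have h5 : (g : X) • e - e ∈ Fx X M := g.2
  have h6 : c • e = e := by
    have h7 := h5 c
    rw [smul_sub, h4] at h7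
    exact sub_right_injective h7
  have h7 : MulAction.period b e ∣ m := MulAction.pow_smul_eq_iff_period_dvd.mp h6
  have h8 : MulAction.period b e ∣ 2 ^ n := MulAction.pow_smul_eq_iff_period_dvd.mp (hn e)
  have h9 : MulAction.period b e ∣ 1 := by
    have h10 : Nat.Coprime m (2 ^ n) := Nat.Coprime.pow_right n (Nat.coprime_two_right.mpr hm)
    have h11 := Nat.dvd_gcd h7 h8
    rwa [h10] at h11
  have h10 : (b ^ 1) • e = e := MulAction.pow_smul_eq_iff_period_dvd.mpr h9
  rwa [pow_one] at h10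

omit D in
/-- `j` induces the transvection `u ↦ u + g(u) e` on `M / I`. -/
def Ind (X : Type*) [Group X] {M : Type*} [AddCommGroup M] [Module (ZMod 2) M] [DistribMulAction X M]
    (e : M) (g : M →+ ZMod 2) (j : X) : Prop := ∀ u : M, j • u - (u + g u • e) ∈ Fx X M

/-- (F3) -/
theorem fix_of_ind [Finite X] {g : M →+ ZMod 2} (hg : g ∈ LL X M) (h0 : g e = 0) {j : X} (hj : Ind X e g j) :
    j • e = e := by
  have hje : j • e - e ∈ Fx X M := by
    have := hj e
    rwa [h0, zero_smul, add_zero] at this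
  -- `j² u = u + g(u) r`
  set r := j • e - e with hr
  have e3 : j • e = e + r := by rw [hr]; abel
  have key : ∀ u : M, j • j • u = u + g u • r := by
    intro u
    have hi := hj u
    set i := j • u - (u + g u • e) with hdef
    have e1 : j • u = u + g u • e + i := by rw [hdef]; abel
    rw [e1, smul_add, smul_add, smul_zmod, hi j, e1, e3, smul_add]
    have e4 : u + g u • e + i + (g u • e + g u • r) + i = u + g u • r + (g u • e + g u • e) + (i + i) := by abel
    rw [e4, add_self, add_self, add_zero, add_zero]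
  have h4 : ∀ u : M, (j ^ (2 ^ 2)) • u = u := by
    intro u
    have h5 : (j ^ (2 ^ 2)) • u = j • j • j • j • u := by
      rw [show 2 ^ 2 = 4 from rfl, pow_succ, pow_succ, pow_succ, pow_one, mul_smul, mul_smul, mul_smul]
    rw [h5, key u, key (u + g u • r), map_add]
    have h6 : g (g u • r) = 0 := by
      rcases z2 (g u) with h | h
      · rw [h, zero_smul, map_zero]
      · rw [h, one_smul]; exact hg r hje
    rw [h6, add_zero, add_assoc, add_self, add_zero]
  exact D.fix_of_two hje h4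

/-- `j` is unique -/
theorem ind_unique {g : M →+ ZMod 2} {j j' : X} (hj : Ind X e g j) (hj' : Ind X e g j') (u : M) :
    j • u = j' • u := by
  have h1 : ∀ u : M, (j'⁻¹ * j) • u - u ∈ Fx X M := by
    intro u
    have h2 : (j'⁻¹ * j) • u - u = j'⁻¹ • ((j • u - (u + g u • e)) - (j' • u - (u + g u • e))) := by
      rw [sub_sub_sub_cancel_right, mul_smul, smul_sub, inv_smul_smul]
    have h3 := (Fx X M).sub_mem (hj u) (hj' u)
    rw [h2, h3]
    exact h3
  have h2 := D.d _ h1 u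
  rwa [mul_smul, inv_smul_eq_iff] at h2

/-- the predicate `P(g, r)`: `u ↦ u + g(u) (e + r)` is induced -/
def PP (X : Type*) [Group X] {M : Type*} [AddCommGroup M] [Module (ZMod 2) M] [DistribMulAction X M]
    (e : M) (g : M →+ ZMod 2) (r : M) : Prop := r ∈ Fx X M ∧ ∃ j : X, ∀ u : M, j • u = u + g u • (e + r)

omit D in
theorem ind_of {g : M →+ ZMod 2} {r : M} (hr : r ∈ Fx X M) {j : X} (hj : ∀ u : M, j • u = u + g u • (e + r)) :
    Ind X e g j := by
  intro u
  rw [hj, smul_add]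
  have h1 : u + (g u • e + g u • r) - (u + g u • e) = g u • r := by abel
  rw [h1]
  rcases z2 (g u) with h | h
  · rw [h, zero_smul]; exact (Fx X M).zero_mem
  · rw [h, one_smul]; exact hr

theorem r_unique {g : M →+ ZMod 2} (hg0 : g ≠ 0) {r r' : M} (h : PP X e g r) (h' : PP X e g r') : r = r' := by
  obtain ⟨hr, j, hj⟩ := h
  obtain ⟨hr', j', hj'⟩ := h'
  obtain ⟨u, hu⟩ : ∃ u, g u = 1 := by
    by_contra hcon
    push Not at hcon
    exact hg0 (by ext u; exact (z2 _).resolve_right (hcon u))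
  have h1 := D.ind_unique (ind_of hr hj) (ind_of hr' hj') u
  rw [hj, hj', hu, one_smul, one_smul] at h1
  exact add_left_cancel (add_left_cancel h1)

/-- (F4) -/
theorem conj {f : M →+ ZMod 2} {b : X} {r s : M} (h : PP X e f s) (hb : b • e = e + r)
    (hr : r ∈ Fx X M) : PP X e (act b f) (r + s) := by
  obtain ⟨hs, j, hj⟩ := h
  refine ⟨(Fx X M).add_mem hr hs, b * j * b⁻¹, fun u => ?_⟩
  rw [mul_smul, mul_smul, hj, smul_add, smul_inv_smul, smul_zmod, smul_add, hb, hs b, act_apply, add_assoc e]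

theorem exists_both {f g : M →+ ZMod 2} (hf : f ≠ 0) (hg : g ≠ 0) : ∃ v, f v = 1 ∧ g v = 1 := by
  have ex : ∀ {f : M →+ ZMod 2}, f ≠ 0 → ∃ u, f u = 1 := by
    intro f hf
    by_contra hcon
    push Not at hcon
    exact hf (by ext u; exact (z2 _).resolve_right (hcon u))
  obtain ⟨a, ha⟩ := ex hf
  obtain ⟨c, hc⟩ := ex hg
  rcases z2 (g a) with h1 | h1
  · rcases z2 (f c) with h2 | h2
    · exact ⟨a + c, by rw [map_add, ha, h2, add_zero], by rw [map_add, h1, hc, zero_add]⟩
    · exact ⟨c, h2, hc⟩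
  · exact ⟨a, ha, h1⟩

/-- (F5) -/
theorem move [Finite M] {f g : M →+ ZMod 2} (hf : f ∈ LL X M) (hg : g ∈ LL X M) (hf0 : f ≠ 0) (hg0 : g ≠ 0)
    (hfe : f e = 0) (hge : g e = 0) : ∃ b : X, b • e - e ∈ Fx X M ∧ act b f = g := by
  obtain ⟨v, hfv, hgv⟩ := D.exists_both hf0 hg0
  have hv : v ∉ Fx X M := fun h => by
    rw [hf v h] at hfv
    exact absurd hfv (by decide)
  obtain ⟨x, hx⟩ := D.exists_tr hv (f := f + g) ((LL X M).add_mem hf hg)
    (by rw [AddMonoidHom.add_apply, hfv, hgv]; decide)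
  refine ⟨x⁻¹, mem_inv ?_, ?_⟩
  · have h1 := hx e
    rwa [AddMonoidHom.add_apply, hfe, hge, add_zero, zero_smul, add_zero] at h1
  · ext u
    rw [act_apply, inv_inv]
    have h1 := hf _ (hx u)
    rw [map_sub, sub_eq_zero, map_add] at h1
    rw [h1, AddMonoidHom.add_apply]
    have h2 : f ((f u + g u) • v) = f u + g u := by
      rcases z2 (f u + g u) with h | h
      · rw [h, zero_smul, map_zero]
      · rw [h, one_smul, hfv]
    rw [h2, ← add_assoc, CharTwo.add_self_eq_zero, zero_add]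

/-- additivity -/
theorem add_r [Finite M] {g g' : M →+ ZMod 2} {r r' r'' : M} (h : PP X e g r) (h' : PP X e g' r')
    (h'' : PP X e (g + g') r'') (hg : g e = 0) (hgL : g ∈ LL X M) (hne : g ≠ g')
    (hg0 : g ≠ 0) (hg0' : g' ≠ 0) : r = r'' := by
  obtain ⟨hr, j, hj⟩ := h
  obtain ⟨hr', j', hj'⟩ := h'
  obtain ⟨hr'', j'', hj''⟩ := h''
  have e1 : ∀ u : M, (j * j') • u = u + g u • (e + r) + g' u • (e + r') := by
    intro u
    rw [mul_smul, hj' u, smul_add, smul_zmod, hj u]
    have h1 : j • (e + r') = e + r' := by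
      rw [smul_add, hr' j, hj e, hg, zero_smul, add_zero]
    rw [h1]
  have h1 : Ind X e (g + g') (j * j') := by
    intro u
    rw [e1, AddMonoidHom.add_apply, add_smul, smul_add, smul_add]
    have h2 : u + (g u • e + g u • r) + (g' u • e + g' u • r') - (u + (g u • e + g' u • e)) =
        g u • r + g' u • r' := by abel
    rw [h2]
    have h3 : ∀ (a : ZMod 2) {i : M}, i ∈ Fx X M → a • i ∈ Fx X M := by
      intro a i hi
      rcases z2 a with h | h
      · rw [h, zero_smul]; exact (Fx X M).zero_mem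
      · rw [h, one_smul]; exact hi
    exact (Fx X M).add_mem (h3 _ hr) (h3 _ hr')
  -- a vector with `g u = 1`, `g' u = 0`
  obtain ⟨u, hu, hu'⟩ : ∃ u, g u = 1 ∧ (g + g') u = 1 := by
    refine D.exists_both hg0 fun h0 => hne ?_
    ext u
    have h2 := DFunLike.congr_fun h0 u
    rw [AddMonoidHom.add_apply, AddMonoidHom.zero_apply] at h2
    rcases z2 (g u) with h3 | h3 <;> rcases z2 (g' u) with h4 | h4 <;> rw [h3, h4] at h2 ⊢
    · exact absurd h2 (by decide)
    · exact absurd h2 (by decide)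
  have hg'u : g' u = 0 := by
    rw [AddMonoidHom.add_apply, hu] at hu'
    rcases z2 (g' u) with h3 | h3
    · exact h3
    · rw [h3] at hu'; exact absurd hu' (by decide)
  have h2 := D.ind_unique h1 (ind_of hr'' hj'') u
  rw [e1, hj'', hu, hg'u, hu', zero_smul, add_zero, one_smul, one_smul] at h2
  exact add_left_cancel (add_left_cancel h2)

/-- (F6) all transvections with centre `e` are induced, with `r = 0` -/
theorem exact [Finite X] [Finite M] {g : M →+ ZMod 2} (hg : g ∈ LL X M) (hg0 : g ≠ 0) (hge : g e = 0) :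
    PP X e g 0 := by
  obtain ⟨f, -, hfY, -, hf0, -, -⟩ := D.four
  have hf : f ∈ LL X M := D.mem_LL_of hfY
  have hPf : PP X e f 0 := by
    obtain ⟨h0, x, hx⟩ := hfY
    exact ⟨(Fx X M).zero_mem, x, fun u => by rw [add_zero]; exact hx u⟩
  have hfe : f e = 0 := apply_eq_zero hfY
  have ex : ∀ {g : M →+ ZMod 2}, g ∈ LL X M → g ≠ 0 → g e = 0 → ∃ r, PP X e g r := by
    intro g hg hg0 hge
    obtain ⟨b, hb, rfl⟩ := D.move hf hg hf0 hg0 hfe hge
    exact ⟨_, D.conj hPf (by abel : b • e = e + (b • e - e)) hb⟩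
  obtain ⟨r, hr⟩ := ex hg hg0 hge
  by_cases hne : g = f
  · rwa [hne]
  · have hs0 : f + g ≠ 0 := by
      intro h0
      apply hne
      ext u
      have h2 := DFunLike.congr_fun h0 u
      rw [AddMonoidHom.add_apply, AddMonoidHom.zero_apply] at h2
      rcases z2 (f u) with h3 | h3 <;> rcases z2 (g u) with h4 | h4 <;> rw [h3, h4] at h2 ⊢
      · exact absurd h2 (by decide)
      · exact absurd h2 (by decide)
    obtain ⟨s, hs⟩ := ex ((LL X M).add_mem hf hg) hs0 (by rw [AddMonoidHom.add_apply, hfe, hge, add_zero])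
    have h1 : (0 : M) = s := D.add_r hPf hr hs hfe hf (fun h => hne h.symm) hf0 hg0
    have h2 : r = s := D.add_r hr hPf (by rwa [add_comm]) hge hg hne hg0 hf0
    rwa [h2, ← h1] at hr

/-- **(F7)** the stabiliser of `e + I` fixes `e`. -/
theorem stab [Finite X] [Finite M] {b : X} (hb : b • e - e ∈ Fx X M) : b • e = e := by
  obtain ⟨f, -, hfY, -, hf0, -, -⟩ := D.four
  have hf : f ∈ LL X M := D.mem_LL_of hfY
  have hfe : f e = 0 := apply_eq_zero hfY
  have hne : act b f ≠ 0 := by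
    intro h0
    apply hf0
    have h1 := congrArg (act b⁻¹) h0
    rw [Data.act_inv_act] at h1
    rw [h1]
    ext u; simp
  have hbe : act b f e = 0 := by
    rw [act_apply]
    have h1 := hf _ (mem_inv hb)
    rw [map_sub, hfe, sub_zero] at h1
    exact h1
  have h1 := D.conj (D.exact hf hf0 hfe) (by abel : b • e = e + (b • e - e)) hb
  have h2 := D.exact (act_mem_LL b hf) hne hbe
  have h3 := D.r_unique hne h1 h2
  rw [add_zero, sub_eq_zero] at h3
  exact h3

/-- **(F8)** -/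
theorem trans [Finite X] [Finite M] {f g : M →+ ZMod 2} (hf : f ∈ LL X M) (hg : g ∈ LL X M) (hf0 : f ≠ 0)
    (hg0 : g ≠ 0) (hfe : f e = 0) (hge : g e = 0) : ∃ b : X, b • e = e ∧ act b f = g := by
  obtain ⟨b, hb, h⟩ := D.move hf hg hf0 hg0 hfe hge
  exact ⟨b, D.stab hb, h⟩

omit D in
/-- (F9) -/
theorem mem_of {w : M} (h : ∀ g ∈ LL X M, g e = 0 → g w = 0) : w ∈ Fx X M ∨ w - e ∈ Fx X M := by
  let p : Submodule (ZMod 2) M := AddSubgroup.toZModSubmodule 2 (Fx X M) ⊔ Submodule.span (ZMod 2) {e}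
  by_cases hw : w ∈ p
  · obtain ⟨i, hi, m, hm, rfl⟩ := Submodule.mem_sup.mp hw
    obtain ⟨a, rfl⟩ := Submodule.mem_span_singleton.mp hm
    rcases z2 a with h1 | h1
    · left
      rw [h1, zero_smul, add_zero]
      exact hi
    · right
      rw [h1, one_smul, add_sub_cancel_right]
      exact hi
  · exfalso
    obtain ⟨φ, hφ, hφp⟩ := Submodule.exists_dual_map_eq_bot_of_notMem hw inferInstance
    have hker : ∀ m ∈ p, φ m = 0 := by
      intro m hm
      have : φ m ∈ p.map φ := ⟨m, hm, rfl⟩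
      rw [hφp] at this
      exact (Submodule.mem_bot _).mp this
    apply hφ
    exact h φ.toAddMonoidHom
      (fun i hi => hker i ((le_sup_left : AddSubgroup.toZModSubmodule 2 (Fx X M) ≤ p) hi))
      (hker e ((le_sup_right : Submodule.span (ZMod 2) {e} ≤ p) (Submodule.mem_span_singleton_self e)))

/-- **The end of the case SL.** -/
theorem final [Finite X] [Finite M] {Φ : Set (M →+ ZMod 2)}
    (hΦ : ∀ x : X, x • e = e → ∀ f ∈ Φ, act x f ∈ Φ) {f : M →+ ZMod 2} (hfΦ : f ∈ Φ) (hf0 : f ≠ 0)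
    (hf : f ∈ LL X M) (hfe : f e = 0) {W : Set M} (hW : ∀ g ∈ Φ, ∀ w ∈ W, g w = 0) {x : X} (hx : x • e ∈ W) :
    x • e = e := by
  have h1 : ∀ g ∈ LL X M, g e = 0 → g (x • e) = 0 := by
    intro g hg hge
    by_cases hg0 : g = 0
    · rw [hg0, AddMonoidHom.zero_apply]
    · obtain ⟨b, hb, rfl⟩ := D.trans hf hg hf0 hg0 hfe hge
      exact hW _ (hΦ b hb f hfΦ) _ hx
  rcases mem_of h1 with h2 | h2
  · exact absurd h2 (D.orbit_not_mem x)
  · exact D.stab h2

end Dat

end Cfsg.Agent.Omega.NOThreeL.SLCase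

end

section


/-!
# NO-3L, box R ∩ (A), `q = 2`, all `k`, the case SL (#18037 (2)), the module `U₁` (helper850)

`X` (`= H`) acts on the finite `F_2`-space `M` (`= U₁`), `N ⊴ X` acts as the group generated by the conjugates of
one transvection `u ↦ u + f(u) e`, `M = ⟨e^X⟩`, `I = FxN N M` is the set of fixed points of `N`.
The dual `LN N M` of `M / I` is a sum of blocks (THEOREM L).

* `Dat.move`, `Dat.exact`, `Dat.uniq`, `Dat.move'`.
-/

set_option autoImplicit false
set_option linter.unusedSectionVars false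

namespace Cfsg.Agent.Omega.NOThreeL.RTools.Many.SLMod

open Cfsg.Agent.Omega.NOThreeL.ThmL Cfsg.Agent.Omega.NOThreeL.IndepTwo

variable {X M : Type*} [Group X] [AddCommGroup M] [Module (ZMod 2) M] [DistribMulAction X M]

omit [Module (ZMod 2) M] in
variable (M) in
/-- The fixed points of `N`. -/
def FxN (N : Subgroup X) : AddSubgroup M where
  carrier := {m | ∀ x ∈ N, x • m = m}
  zero_mem' x _ := smul_zero x
  add_mem' ha hb x hx := by rw [smul_add, ha x hx, hb x hx]
  neg_mem' ha x hx := by rw [smul_neg, ha x hx]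

omit [Module (ZMod 2) M] in
theorem mem_FxN {N : Subgroup X} {m : M} : m ∈ FxN M N ↔ ∀ x ∈ N, x • m = m := Iff.rfl

omit [Module (ZMod 2) M] in
theorem smul_FxN {N : Subgroup X} [hN : N.Normal] {m : M} (x : X) (hm : m ∈ FxN M N) : x • m ∈ FxN M N := by
  intro n hn
  have h1 := hm (x⁻¹ * n * x) (by
    have := hN.conj_mem n hn x⁻¹
    rwa [inv_inv] at this)
  rw [mul_smul, mul_smul, inv_smul_eq_iff] at h1
  exact h1

variable (M) in
/-- The functionals killing the fixed points of `N`. -/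
def LN (N : Subgroup X) : Submodule (ZMod 2) (M →+ ZMod 2) where
  carrier := {φ | ∀ i ∈ FxN M N, φ i = 0}
  zero_mem' _ _ := rfl
  add_mem' ha hb i hi := by rw [AddMonoidHom.add_apply, ha i hi, hb i hi, add_zero]
  smul_mem' c φ hφ i hi := by
    rcases z2 c with rfl | rfl
    · rw [zero_smul]; rfl
    · rw [one_smul]; exact hφ i hi

instance finLN [Finite M] (N : Subgroup X) : Finite ↥(LN M N) :=
  Finite.of_injective (fun g : ↥(LN M N) => ((g : M →+ ZMod 2) : M → ZMod 2))
    (fun _ _ h => Subtype.ext (DFunLike.coe_injective h))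

omit [Module (ZMod 2) M] in
theorem act_mem_LN {N : Subgroup X} [N.Normal] (x : X) {φ : M →+ ZMod 2} (h : φ ∈ LN M N) :
    act x φ ∈ LN M N := fun i hi => by
  rw [act_apply]
  exact h _ (smul_FxN x⁻¹ hi)

instance instAct (N : Subgroup X) [N.Normal] : DistribMulAction X ↥(LN M N) where
  smul x φ := ⟨act x (φ : M →+ ZMod 2), act_mem_LN x φ.2⟩
  one_smul φ := by
    apply Subtype.ext
    change act (1 : X) (φ : M →+ ZMod 2) = φ
    ext u; simp
  mul_smul x y φ := by
    apply Subtype.ext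
    change act (x * y) (φ : M →+ ZMod 2) = act x (act y φ)
    ext u; simp [mul_smul]
  smul_zero x := by
    apply Subtype.ext
    change act x (0 : M →+ ZMod 2) = 0
    ext u; simp
  smul_add x φ ψ := by
    apply Subtype.ext
    change act x ((φ : M →+ ZMod 2) + (ψ : M →+ ZMod 2)) = act x (φ : M →+ ZMod 2) + act x (ψ : M →+ ZMod 2)
    ext u; simp

variable {N : Subgroup X} [N.Normal]

omit [Module (ZMod 2) M] in
theorem coe_smul' (x : X) (φ : ↥(LN M N)) : ((x • φ : ↥(LN M N)) : M →+ ZMod 2) = act x (φ : M →+ ZMod 2) :=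
  rfl

variable (N) in
/-- Evaluation at `m`. -/
def evN (m : M) : ↥(LN M N) →+ ZMod 2 where
  toFun φ := (φ : M →+ ZMod 2) m
  map_zero' := rfl
  map_add' _ _ := rfl

omit [Module (ZMod 2) M] [N.Normal] in
@[simp] theorem evN_apply (m : M) (φ : ↥(LN M N)) : evN N m φ = (φ : M →+ ZMod 2) m := rfl

omit [Module (ZMod 2) M] [N.Normal] in
theorem evN_add (a b : M) : evN N (a + b) = evN N a + evN N b := by
  ext φ
  exact map_add (φ : M →+ ZMod 2) a b

omit [Module (ZMod 2) M] in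
theorem evN_act (x : X) (m : M) : act x (evN N m) = evN N (x • m) := by
  ext φ
  rw [act_apply, evN_apply, evN_apply, coe_smul', act_apply, inv_inv]

omit [N.Normal] in
/-- separation -/
theorem exists_LN {m : M} (hm : m ∉ FxN M N) : ∃ φ ∈ LN M N, φ m = 1 := by
  have hp : m ∉ (AddSubgroup.toZModSubmodule 2 (FxN M N)) := hm
  obtain ⟨φ, hφm, hφp⟩ := Submodule.exists_dual_map_eq_bot_of_notMem hp inferInstance
  refine ⟨φ.toAddMonoidHom, fun i hi => ?_, (z2 _).resolve_left hφm⟩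
  have : φ i ∈ (AddSubgroup.toZModSubmodule 2 (FxN M N)).map φ := ⟨i, hi, rfl⟩
  rw [hφp] at this
  exact (Submodule.mem_bot _).mp this

omit [N.Normal] in
theorem mem_FxN_of {m : M} (h : ∀ φ ∈ LN M N, φ m = 0) : m ∈ FxN M N := by
  by_contra hm
  obtain ⟨φ, hφ, h1⟩ := exists_LN hm
  rw [h φ hφ] at h1
  exact absurd h1 (by decide)

omit [N.Normal] in
theorem evN_eq {a b : M} : evN N a = evN N b ↔ a - b ∈ FxN M N := by
  constructor
  · intro h
    refine mem_FxN_of fun φ hφ => ?_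
    rw [map_sub, sub_eq_zero]
    exact DFunLike.congr_fun h ⟨φ, hφ⟩
  · intro h
    ext φ
    have := φ.2 _ h
    rw [map_sub, sub_eq_zero] at this
    exact this

/-- `Y` of the dual: transvections of `M / I`. -/
theorem mem_YN {e : M} {f : ↥(LN M N)} :
    f ∈ Y X (evN N e) ↔ (f : M →+ ZMod 2) e = 0 ∧
      ∃ x : X, ∀ u : M, x • u - (u + (f : M →+ ZMod 2) u • e) ∈ FxN M N := by
  have aux : ∀ (φ : M →+ ZMod 2) (u : M), φ (u + (f : M →+ ZMod 2) u • e) = φ u + φ e * (f : M →+ ZMod 2) u := by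
    intro φ u
    rw [map_add]
    rcases z2 ((f : M →+ ZMod 2) u) with h | h <;> simp [h]
  constructor
  · rintro ⟨h0, x, hx⟩
    refine ⟨h0, x⁻¹, fun u => mem_FxN_of fun φ hφ => ?_⟩
    have h1 := congrArg (fun ψ : ↥(LN M N) => (ψ : M →+ ZMod 2) u) (hx ⟨φ, hφ⟩)
    simp only [coe_smul', act_apply, evN_apply, Submodule.coe_add, Submodule.coe_smul,
      AddMonoidHom.add_apply, AddMonoidHom.smul_apply, smul_eq_mul] at h1
    rw [map_sub, aux, h1, sub_self]
  · rintro ⟨h0, x, hx⟩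
    refine ⟨h0, x⁻¹, fun φ => ?_⟩
    apply Subtype.ext
    ext u
    have h1 := φ.2 _ (hx u)
    rw [map_sub, aux, sub_eq_zero] at h1
    rw [coe_smul', act_apply, inv_inv, h1]
    rfl

/-- separation in the dual -/
theorem sep {L : Type*} [AddCommGroup L] [Module (ZMod 2) L] (A : AddSubgroup L) {h : L} (hh : h ∉ A) :
    ∃ φ : L →+ ZMod 2, φ h = 1 ∧ ∀ a ∈ A, φ a = 0 := by
  have hp : h ∉ (AddSubgroup.toZModSubmodule 2 A) := hh
  obtain ⟨φ, hφm, hφp⟩ := Submodule.exists_dual_map_eq_bot_of_notMem hp inferInstance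
  refine ⟨φ.toAddMonoidHom, (z2 _).resolve_left hφm, fun i hi => ?_⟩
  have : φ i ∈ (AddSubgroup.toZModSubmodule 2 A).map φ := ⟨i, hi, rfl⟩
  rw [hφp] at this
  exact (Submodule.mem_bot _).mp this

/-- The data. -/
structure Dat (N : Subgroup X) (e : M) (f : M →+ ZMod 2) : Prop where
  ne : e ≠ 0
  span : AddSubgroup.closure {m : M | ∃ x : X, x • e = m} = ⊤
  tr : ∃ n ∈ N, ∀ u : M, n • u = u + f u • e
  fe : f e = 0
  f0 : f ≠ 0
  gen : ∀ n ∈ N, ∃ n' ∈ Subgroup.closure {y : X | ∃ x : X, ∀ u : M, y • u = u + act x f u • (x • e)},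
    ∀ u : M, n • u = n' • u
  d : ∀ x : X, (∀ u : M, x • u - u ∈ FxN M N) → (∀ u ∈ FxN M N, x • u = u) → ∀ u : M, x • u = u
  four : ∃ g : M →+ ZMod 2, e ∈ Y X g ∧ g ≠ 0 ∧ g ≠ f

omit [N.Normal] in
theorem act_ne {f : M →+ ZMod 2} (hf : f ≠ 0) (x : X) : act x f ≠ 0 := by
  intro h0
  apply hf
  have h1 := congrArg (act x⁻¹) h0
  rw [Data.act_inv_act] at h1
  rw [h1]
  ext u; simp

omit [N.Normal] in
theorem exists_one_of {f : M →+ ZMod 2} (hf : f ≠ 0) : ∃ u, f u = 1 := by
  by_contra hcon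
  push Not at hcon
  exact hf (by ext u; exact (z2 _).resolve_right (hcon u))

omit [N.Normal] in
/-- conjugate of a transvection -/
theorem conj_tr {f : M →+ ZMod 2} {e : M} {n : X} (h : ∀ u : M, n • u = u + f u • e) (b : X) (u : M) :
    (b * n * b⁻¹) • u = u + act b f u • (b • e) := by
  rw [mul_smul, mul_smul, h, smul_add, smul_inv_smul, smul_zmod]
  rfl

namespace Dat

variable {e : M} {f : M →+ ZMod 2} (D : Dat N e f)
include D

theorem centre_ne (x : X) : x • e ≠ 0 := by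
  rw [smul_ne_zero_iff_ne]
  exact D.ne

/-- the conjugates are in `N` -/
theorem trN (x : X) : ∃ n ∈ N, ∀ u : M, n • u = u + act x f u • (x • e) := by
  obtain ⟨n, hn, h⟩ := D.tr
  exact ⟨x * n * x⁻¹, (inferInstance : N.Normal).conj_mem n hn x, conj_tr h x⟩

theorem f_LN : f ∈ LN M N := by
  obtain ⟨n, hn, h⟩ := D.tr
  intro i hi
  have h1 := h i
  rw [hi n hn] at h1
  rcases z2 (f i) with h2 | h2
  · exact h2
  · rw [h2, one_smul] at h1
    exact absurd (left_eq_add.mp h1) D.ne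

theorem e_not_mem : e ∉ FxN M N := by
  intro h
  have hall : ∀ m : M, m ∈ FxN M N := by
    intro m
    have hm : m ∈ AddSubgroup.closure {m : M | ∃ x : X, x • e = m} := by rw [D.span]; trivial
    refine (AddSubgroup.closure_le _).mpr ?_ hm
    rintro _ ⟨x, rfl⟩
    exact smul_FxN x h
  apply D.f0
  ext u
  exact D.f_LN u (hall u)

theorem orbit_not_mem (x : X) : x • e ∉ FxN M N := fun h => D.e_not_mem (by
  have h1 := smul_FxN x⁻¹ h
  rwa [inv_smul_smul] at h1)

omit D in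
/-- a functional with centre a point is in `LN` -/
theorem mem_LN_of {g : M →+ ZMod 2} {p : M} (hp : p ∉ FxN M N) {x : X} (hx : ∀ u : M, x • u - (u + g u • p) ∈ FxN M N)
    (hxI : ∀ i ∈ FxN M N, x • i ∈ FxN M N) : g ∈ LN M N := by
  intro i hi
  rcases z2 (g i) with h2 | h2
  · exact h2
  · have h1 := hx i
    rw [h2, one_smul] at h1
    exfalso
    apply hp
    have h3 := (FxN M N).sub_mem (hxI i hi) h1
    have h4 := (FxN M N).sub_mem h3 hi
    have h5 : x • i - (x • i - (i + p)) - i = p := by abel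
    rwa [h5] at h4

/-- submodules -/
theorem sub_or {K : AddSubgroup M} (hK : ∀ (x : X), ∀ n ∈ K, x • n ∈ K) : K ≤ FxN M N ∨ K = ⊤ := by
  by_cases h : K ≤ FxN M N
  · exact Or.inl h
  right
  obtain ⟨m, hm, hmI⟩ := Set.not_subset.mp h
  -- a conjugate of the transvection moves `m`
  have h1 : ∃ x : X, act x f m = 1 := by
    by_contra hcon
    push Not at hcon
    apply hmI
    intro n hn
    obtain ⟨n', hn', h2⟩ := D.gen n hn
    rw [h2]
    have h3 : Subgroup.closure {y : X | ∃ x : X, ∀ u : M, y • u = u + act x f u • (x • e)} ≤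
        MulAction.stabilizer X m := (Subgroup.closure_le _).mpr (by
      rintro y ⟨x, hy⟩
      change y • m = m
      rw [hy, (z2 _).resolve_right (hcon x), zero_smul, add_zero])
    exact h3 hn'
  obtain ⟨x, hx⟩ := h1
  obtain ⟨n, hn, hn'⟩ := D.trN x
  have h3 : x • e ∈ K := by
    have h4 := K.sub_mem (hK n m hm) hm
    rwa [hn', hx, one_smul, add_sub_cancel_left] at h4
  rw [eq_top_iff, ← D.span, AddSubgroup.closure_le]
  rintro _ ⟨w, rfl⟩
  have h5 := hK (w * x⁻¹) _ h3
  rwa [mul_smul, inv_smul_smul] at h5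

theorem irr [Finite M] (K : AddSubgroup ↥(LN M N)) (hK : ∀ (x : X), ∀ n ∈ K, x • n ∈ K) : K = ⊥ ∨ K = ⊤ := by
  classical
  let K' : AddSubgroup M :=
    { carrier := {m | ∀ f ∈ K, (f : M →+ ZMod 2) m = 0}
      zero_mem' := fun f _ => map_zero _
      add_mem' := fun {a b} ha hb f hf => by rw [map_add, ha f hf, hb f hf, add_zero]
      neg_mem' := fun {a} ha f hf => by rw [map_neg, ha f hf, neg_zero] }
  have hK' : ∀ (x : X), ∀ n ∈ K', x • n ∈ K' := by
    intro x n hn f hf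
    have h1 := hn _ (hK x⁻¹ f hf)
    rw [coe_smul', act_apply, inv_inv] at h1
    exact h1
  rcases D.sub_or hK' with h | h
  · right
    rw [eq_top_iff]
    intro φ _
    let W : Submodule (ZMod 2) (Module.Dual (ZMod 2) M) :=
      { carrier := {g | ∃ f ∈ K, (f : M →+ ZMod 2) = g.toAddMonoidHom}
        zero_mem' := ⟨0, K.zero_mem, rfl⟩
        add_mem' := by
          rintro a b ⟨f, hf, hfa⟩ ⟨g, hg, hgb⟩
          exact ⟨f + g, K.add_mem hf hg, by rw [Submodule.coe_add, hfa, hgb]; rfl⟩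
        smul_mem' := by
          rintro c g ⟨f, hf, hfg⟩
          rcases z2 c with rfl | rfl
          · exact ⟨0, K.zero_mem, by rw [zero_smul]; rfl⟩
          · exact ⟨f, hf, by rw [one_smul, hfg]⟩ }
    have hW : W.dualCoannihilator.dualAnnihilator = W := Subspace.dualCoannihilator_dualAnnihilator_eq
    have h1 : ((φ : M →+ ZMod 2).toZModLinearMap 2 : Module.Dual (ZMod 2) M) ∈ W := by
      rw [← hW, Submodule.mem_dualAnnihilator]
      intro m hm
      rw [Submodule.mem_dualCoannihilator] at hm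
      have h2 : m ∈ K' := fun f hf => hm ((f : M →+ ZMod 2).toZModLinearMap 2) ⟨f, hf, rfl⟩
      exact φ.2 _ (h h2)
    obtain ⟨f, hf, hfφ⟩ := h1
    have h2 : f = φ := Subtype.ext hfφ
    rwa [← h2]
  · left
    rw [eq_bot_iff]
    intro f hf
    rw [AddSubgroup.mem_bot]
    apply Subtype.ext
    ext m
    have : m ∈ K' := by rw [h]; trivial
    exact this f hf

theorem evN_ne (x : X) : evN N (x • e) ≠ 0 := by
  intro h
  apply D.orbit_not_mem x
  refine mem_FxN_of fun φ hφ => ?_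
  exact DFunLike.congr_fun h (⟨φ, hφ⟩ : ↥(LN M N))

end Dat

variable (N) in
/-- the points of `M / I` as functionals on the dual -/
def Ph (e : M) : Set (↥(LN M N) →+ ZMod 2) := {φ | ∃ x : X, φ = evN N (x • e)}

namespace Dat

variable {e : M} {f : M →+ ZMod 2} (D : Dat N e f)
include D

theorem exact_LN {g : M →+ ZMod 2} (h : e ∈ Y X g) : g ∈ LN M N := by
  obtain ⟨h0, x, hx⟩ := h
  exact mem_LN_of D.e_not_mem (x := x) (fun u => by rw [hx, sub_self]; exact (FxN M N).zero_mem)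
    (fun i hi => smul_FxN x hi)

theorem f_Y : e ∈ Y X f := by
  obtain ⟨n, -, h⟩ := D.tr
  exact ⟨D.fe, n, h⟩

/-- THEOREM L's data on the dual of `M / I`. -/
theorem data [Finite M] : Data (X := X) (Ph N e) where
  inv := by
    rintro x φ ⟨y, rfl⟩
    exact ⟨x * y, by rw [evN_act, mul_smul]⟩
  trans := by
    rintro φ ⟨x, rfl⟩ ψ ⟨y, rfl⟩
    exact ⟨y * x⁻¹, by rw [evN_act, mul_smul, inv_smul_smul]⟩
  ne := by
    rintro φ ⟨x, rfl⟩
    exact D.evN_ne x
  nonempty := ⟨_, 1, rfl⟩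
  irr := D.irr
  four := by
    rintro φ ⟨x, rfl⟩
    obtain ⟨g, hg, hg0, hgf⟩ := D.four
    have hY : ∀ {g : M →+ ZMod 2} (h : e ∈ Y X g), (⟨g, D.exact_LN h⟩ : ↥(LN M N)) ∈ Y X (evN N e) := by
      rintro g ⟨h0, y, hy⟩
      rw [mem_YN]
      refine ⟨h0, y, fun u => ?_⟩
      rw [hy, sub_self]
      exact (FxN M N).zero_mem
    refine ⟨x • ⟨f, D.exact_LN D.f_Y⟩, ?_, x • ⟨g, D.exact_LN hg⟩, ?_, ?_, ?_, ?_⟩
    · rw [← evN_act]; exact smul_mem_Y (hY D.f_Y) x
    · rw [← evN_act]; exact smul_mem_Y (hY hg) x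
    · rw [smul_ne_zero_iff_ne]
      exact fun h => D.f0 (congrArg Subtype.val h)
    · rw [smul_ne_zero_iff_ne]
      exact fun h => hg0 (congrArg Subtype.val h)
    · exact fun h => hgf (congrArg Subtype.val (MulAction.injective x h)).symm

end Dat

/-! ### Points and blocks -/

/-- `p` is a point. -/
def Pt (X : Type*) [Group X] {M : Type*} [AddCommGroup M] [DistribMulAction X M] (e p : M) : Prop :=
  ∃ x : X, p = x • e

variable (N) in
/-- `p` and `q` are in one block. -/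
def Cp (e p q : M) : Prop := Data.Comp X (Ph N e) (evN N p) (evN N q)

variable (N) in
/-- The functional `g` belongs to the block of `p`. -/
def InB (e p : M) (g : M →+ ZMod 2) : Prop :=
  ∃ h : g ∈ LN M N, (⟨g, h⟩ : ↥(LN M N)) ∈ Data.MM X (Ph N e) (evN N p)

theorem Pt.smul {e p : M} (h : Pt X e p) (x : X) : Pt X e (x • p) := by
  obtain ⟨y, rfl⟩ := h
  exact ⟨x * y, by rw [mul_smul]⟩

theorem Pt.mem {e p : M} (h : Pt X e p) : evN N p ∈ Ph N e := by
  obtain ⟨x, rfl⟩ := h
  exact ⟨x, rfl⟩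

theorem InB.memLN {e p : M} {g : M →+ ZMod 2} (h : InB N e p g) : g ∈ LN M N := h.1

theorem InB.add {e p : M} {g g' : M →+ ZMod 2} (h : InB N e p g) (h' : InB N e p g') : InB N e p (g + g') := by
  obtain ⟨h1, h2⟩ := h
  obtain ⟨h3, h4⟩ := h'
  exact ⟨(LN M N).add_mem h1 h3, AddSubgroup.add_mem _ h2 h4⟩

theorem InB.zero {e p : M} : InB N e p 0 := ⟨(LN M N).zero_mem, AddSubgroup.zero_mem _⟩

namespace Dat

variable {e : M} {f : M →+ ZMod 2} (D : Dat N e f)
include D

theorem ne_Fx {p : M} (hp : Pt X e p) : p ∉ FxN M N := by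
  obtain ⟨x, rfl⟩ := hp
  exact D.orbit_not_mem x

theorem ne_zero {p : M} (hp : Pt X e p) : p ≠ 0 := fun h => D.ne_Fx hp (h ▸ (FxN M N).zero_mem)

omit D in
theorem cp_refl {p : M} (hp : Pt X e p) : Cp N e p p := Data.Comp.refl hp.mem

theorem cp_symm [Finite M] {p q : M} (hp : Pt X e p) (h : Cp N e p q) : Cp N e q p := D.data.comp_symm hp.mem h

theorem cp_trans [Finite M] {p q r : M} (hp : Pt X e p) (h : Cp N e p q) (h' : Cp N e q r) : Cp N e p r :=
  D.data.comp_trans hp.mem h h'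

theorem cp_act [Finite M] {p q : M} (h : Cp N e p q) (x : X) : Cp N e (x • p) (x • q) := by
  have h1 := D.data.comp_act h x
  rw [evN_act, evN_act] at h1
  exact h1

theorem inB_of_Y {p : M} (hp : Pt X e p) {g : M →+ ZMod 2} (hg : g ∈ LN M N)
    (h : (⟨g, hg⟩ : ↥(LN M N)) ∈ Y X (evN N p)) : InB N e p g :=
  ⟨hg, Data.Y_le_MM (Data.Comp.refl hp.mem) h⟩

/-- the conjugates of `f` -/
theorem act_Y (x : X) : (⟨act x f, act_mem_LN x D.f_LN⟩ : ↥(LN M N)) ∈ Y X (evN N (x • e)) := by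
  rw [mem_YN]
  obtain ⟨n, -, h⟩ := D.trN x
  refine ⟨?_, n, fun u => ?_⟩
  · change act x f (x • e) = 0
    rw [act_smul, D.fe]
  · change n • u - (u + act x f u • x • e) ∈ FxN M N
    rw [h, sub_self]
    exact (FxN M N).zero_mem

theorem inB_act (x : X) : InB N e (x • e) (act x f) := D.inB_of_Y ⟨x, rfl⟩ _ (D.act_Y x)

/-- `N` fixes the blocks. -/
theorem cp_N [Finite M] {p : M} (hp : Pt X e p) {n : X} (hn : n ∈ N) : Cp N e p (n • p) := by
  have E := D.data
  obtain ⟨n', hn', h⟩ := D.gen n hn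
  rw [h]
  clear h hn
  -- a generator
  have step : ∀ (y : X) (p : M), Pt X e p →
      y ∈ {y : X | ∃ x : X, ∀ u : M, y • u = u + act x f u • (x • e)} → Cp N e p (y • p) := by
    rintro y p hp ⟨x, hy⟩
    rw [hy]
    rcases z2 (act x f p) with h1 | h1
    · rw [h1, zero_smul, add_zero]
      exact cp_refl hp
    · rw [h1, one_smul, add_comm]
      unfold Cp
      rw [evN_add]
      have h2 : Data.Comp X (Ph N e) (evN N p) (evN N (x • e)) := ⟨⟨x, rfl⟩, Or.inr ⟨_, D.act_Y x, h1⟩⟩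
      refine Data.comp_add E hp.mem h2 ?_
      intro h3
      have h4 := DFunLike.congr_fun h3 (⟨act x f, act_mem_LN x D.f_LN⟩ : ↥(LN M N))
      change act x f p = act x f (x • e) at h4
      rw [h1, act_smul, D.fe] at h4
      exact absurd h4 (by decide)
  induction hn' using Subgroup.closure_induction generalizing p with
  | mem x hx => exact step x p hp hx
  | one => rw [one_smul]; exact cp_refl hp
  | mul a b _ _ ha hb =>
    have h1 := hb hp
    have h2 := ha (hp.smul b)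
    rw [mul_smul]
    exact D.cp_trans hp h1 h2
  | inv a _ ha =>
    have h1 := ha (hp.smul a⁻¹)
    rw [smul_inv_smul] at h1
    exact D.cp_symm (hp.smul a⁻¹) h1

/-- **points from functionals on the dual** -/
theorem exists_pt [Finite M] {p : M} (hp : Pt X e p) {g1 g2 h : M →+ ZMod 2} (h1 : InB N e p g1)
    (h2 : InB N e p g2) (hh : InB N e p h) (n0 : h ≠ 0) (n1 : h ≠ g1) (n2 : h ≠ g2) (n3 : h ≠ g1 + g2) :
    ∃ q, Pt X e q ∧ Cp N e p q ∧ g1 q = 0 ∧ g2 q = 0 ∧ h q = 1 := by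
  have E := D.data
  obtain ⟨h1, h1'⟩ := h1
  obtain ⟨h2, h2'⟩ := h2
  obtain ⟨hh, hh'⟩ := hh
  let A : Submodule (ZMod 2) ↥(LN M N) := AddSubgroup.toZModSubmodule 2 (Data.CC X (Ph N e) (evN N p)) ⊔
    Submodule.span (ZMod 2) {(⟨g1, h1⟩ : ↥(LN M N)), ⟨g2, h2⟩}
  have hA : (⟨h, hh⟩ : ↥(LN M N)) ∉ A := by
    intro hmem
    obtain ⟨c, hc, s, hs, hcs⟩ := Submodule.mem_sup.mp hmem
    obtain ⟨a, b, hab⟩ := Submodule.mem_span_pair.mp hs
    have hc' : c ∈ Data.CC X (Ph N e) (evN N p) := hc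
    have hsM : s ∈ Data.MM X (Ph N e) (evN N p) := by
      rw [← hab]
      refine AddSubgroup.add_mem _ ?_ ?_
      · rcases z2 a with h | h
        · rw [h, zero_smul]; exact AddSubgroup.zero_mem _
        · rw [h, one_smul]; exact h1'
      · rcases z2 b with h | h
        · rw [h, zero_smul]; exact AddSubgroup.zero_mem _
        · rw [h, one_smul]; exact h2'
    have hcM : c ∈ Data.MM X (Ph N e) (evN N p) := by
      have h3 : c = ⟨h, hh⟩ - s := by rw [← hcs]; abel
      rw [h3]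
      exact AddSubgroup.sub_mem _ hh' hsM
    have hc0 : c = 0 := E.eq_zero_of_MM hp.mem hcM fun g hg => E.apply_CC hp.mem hg hc'
    rw [hc0, zero_add, ← hab] at hcs
    have h4 : (a • g1 + b • g2 : M →+ ZMod 2) = h := congrArg Subtype.val hcs
    rcases z2 a with ha | ha <;> rcases z2 b with hb | hb <;> rw [ha, hb] at h4
    · rw [zero_smul, zero_smul, add_zero] at h4; exact n0 h4.symm
    · rw [zero_smul, one_smul, zero_add] at h4; exact n2 h4.symm
    · rw [zero_smul, one_smul, add_zero] at h4; exact n1 h4.symm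
    · rw [one_smul, one_smul] at h4; exact n3 h4.symm
  obtain ⟨φ, hφ1, hφ0⟩ := Submodule.exists_dual_map_eq_bot_of_notMem hA inferInstance
  have hφ : ∀ a ∈ A, φ a = 0 := fun a ha => by
    have : φ a ∈ A.map φ := ⟨a, ha, rfl⟩
    rw [hφ0] at this
    exact (Submodule.mem_bot _).mp this
  have hφ1' : φ ⟨h, hh⟩ = 1 := (z2 _).resolve_left hφ1
  have hC : Data.Comp X (Ph N e) (evN N p) φ.toAddMonoidHom := by
    refine E.comp_of_CC hp.mem (fun h0 => hφ1 (DFunLike.congr_fun h0 _)) fun m hm => ?_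
    exact hφ m ((le_sup_left : AddSubgroup.toZModSubmodule 2 (Data.CC X (Ph N e) (evN N p)) ≤ A) hm)
  obtain ⟨x, hx⟩ := hC.1
  refine ⟨x • e, ⟨x, rfl⟩, ?_, ?_, ?_, ?_⟩
  · unfold Cp; rw [← hx]; exact hC
  · have h3 : φ.toAddMonoidHom ⟨g1, h1⟩ = 0 := hφ _ ((le_sup_right : Submodule.span (ZMod 2) _ ≤ A)
      (Submodule.subset_span (by simp)))
    rw [hx] at h3
    exact h3
  · have h3 : φ.toAddMonoidHom ⟨g2, h2⟩ = 0 := hφ _ ((le_sup_right : Submodule.span (ZMod 2) _ ≤ A)
      (Submodule.subset_span (by simp)))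
    rw [hx] at h3
    exact h3
  · have h3 : φ.toAddMonoidHom ⟨h, hh⟩ = 1 := hφ1'
    rw [hx] at h3
    exact h3

theorem exists_both [Finite M] {p : M} (hp : Pt X e p) {g h : M →+ ZMod 2} (hg : InB N e p g)
    (hh : InB N e p h) (g0 : g ≠ 0) (h0 : h ≠ 0) : ∃ q, Pt X e q ∧ Cp N e p q ∧ g q = 1 ∧ h q = 1 := by
  by_cases hgh : g = h
  · subst hgh
    obtain ⟨q, hq, h1, -, -, h2⟩ := D.exists_pt hp InB.zero InB.zero hg g0 g0 g0 (by rwa [add_zero])
    exact ⟨q, hq, h1, h2, h2⟩
  · obtain ⟨q, hq, h1, h2, -, h3⟩ := D.exists_pt hp (hg.add hh) InB.zero hg g0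
      (fun h => h0 (left_eq_add.mp h)) g0 (fun h => h0 (by rw [add_zero] at h; exact left_eq_add.mp h))
    refine ⟨q, hq, h1, h3, ?_⟩
    rw [AddMonoidHom.add_apply, h3] at h2
    rcases z2 (h q) with h4 | h4
    · rw [h4] at h2; exact absurd h2 (by decide)
    · exact h4

theorem MM_eq [Finite M] {p q : M} (hp : Pt X e p) (h : Cp N e p q) :
    Data.MM X (Ph N e) (evN N p) = Data.MM X (Ph N e) (evN N q) := by
  have E := D.data
  unfold Data.MM
  congr 1
  ext m
  constructor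
  · rintro ⟨k, h1, h2⟩
    exact ⟨k, E.comp_trans h.1 (E.comp_symm hp.mem h) h1, h2⟩
  · rintro ⟨k, h1, h2⟩
    exact ⟨k, E.comp_trans hp.mem h h1, h2⟩

theorem inB_iff [Finite M] {p q : M} (hp : Pt X e p) (h : Cp N e p q) {g : M →+ ZMod 2} :
    InB N e p g ↔ InB N e q g := by
  unfold InB
  rw [D.MM_eq hp h]

/-- functionals of one block vanish on the other blocks -/
theorem inB_apply [Finite M] {p q : M} (hp : Pt X e p) (hq : Pt X e q) (h : ¬ Cp N e p q) {g : M →+ ZMod 2}
    (hg : InB N e p g) : g q = 0 := by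
  obtain ⟨h1, h2⟩ := hg
  exact D.data.apply_MM hp.mem hq.mem h h2

/-- all transvections of `M / I` with functional in the block are induced by `X` -/
theorem exists_ind [Finite M] {p : M} (hp : Pt X e p) {g : M →+ ZMod 2} (hg : InB N e p g) (h0 : g p = 0) :
    ∃ x : X, ∀ u : M, x • u - (u + g u • p) ∈ FxN M N := by
  obtain ⟨h1, h2⟩ := hg
  exact (mem_YN.mp (D.data.mem_Y_of_MM hp.mem h2 h0)).2

omit D in
theorem mem_inv {b : X} {m : M} (h : b • m - m ∈ FxN M N) : b⁻¹ • m - m ∈ FxN M N := by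
  have h1 := smul_FxN b⁻¹ h
  rw [smul_sub, inv_smul_smul] at h1
  have h2 : b⁻¹ • m - m = -(m - b⁻¹ • m) := by abel
  rw [h2]
  exact (FxN M N).neg_mem h1

theorem move [Finite M] {p : M} (hp : Pt X e p) {g h : M →+ ZMod 2} (hg : InB N e p g) (hh : InB N e p h)
    (g0 : g ≠ 0) (h0 : h ≠ 0) (gp : g p = 0) (hhp : h p = 0) : ∃ b : X, b • p - p ∈ FxN M N ∧ act b g = h := by
  obtain ⟨v, hv, hpv, hgv, hhv⟩ := D.exists_both hp hg hh g0 h0
  obtain ⟨x, hx⟩ := D.exists_ind hv ((D.inB_iff hp hpv).mp (hg.add hh))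
    (by rw [AddMonoidHom.add_apply, hgv, hhv]; decide)
  refine ⟨x⁻¹, mem_inv ?_, ?_⟩
  · have h1 := hx p
    rwa [AddMonoidHom.add_apply, gp, hhp, add_zero, zero_smul, add_zero] at h1
  · ext u
    rw [act_apply, inv_inv]
    have h1 := hg.memLN _ (hx u)
    rw [map_sub, sub_eq_zero, map_add] at h1
    rw [h1, AddMonoidHom.add_apply]
    have h2 : g ((g u + h u) • v) = g u + h u := by
      rcases z2 (g u + h u) with h | h
      · rw [h, zero_smul, map_zero]
      · rw [h, one_smul, hgv]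
    rw [h2, ← add_assoc, CharTwo.add_self_eq_zero, zero_add]

/-- an element of `N` is determined by its action on `M / I` -/
theorem eq_of_ind {n n' : X} (hn : n ∈ N) (hn' : n' ∈ N) {t : M → M} (h : ∀ u : M, n • u - t u ∈ FxN M N)
    (h' : ∀ u : M, n' • u - t u ∈ FxN M N) (u : M) : n • u = n' • u := by
  have h1 : ∀ u : M, (n'⁻¹ * n) • u - u ∈ FxN M N := by
    intro u
    have h2 : (n'⁻¹ * n) • u - u = n'⁻¹ • ((n • u - t u) - (n' • u - t u)) := by
      rw [sub_sub_sub_cancel_right, mul_smul, smul_sub, inv_smul_smul]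
    have h3 := (FxN M N).sub_mem (h u) (h' u)
    rw [h2]
    exact smul_FxN _ h3
  have h2 := D.d _ h1 (fun u hu => hu _ (N.mul_mem (N.inv_mem hn') hn)) u
  rwa [mul_smul, inv_smul_eq_iff] at h2

omit D in
variable (N) in
/-- `u ↦ u + g(u) (p + r)` is induced by `N`, `r ∈ I`. -/
def PPr (p : M) (g : M →+ ZMod 2) (r : M) : Prop := r ∈ FxN M N ∧ ∃ n ∈ N, ∀ u : M, n • u = u + g u • (p + r)

omit D in
theorem ind_of {p : M} {g : M →+ ZMod 2} {r : M} (hr : r ∈ FxN M N) {n : X}
    (hn : ∀ u : M, n • u = u + g u • (p + r)) (u : M) : n • u - (u + g u • p) ∈ FxN M N := by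
  rw [hn, smul_add]
  have h1 : u + (g u • p + g u • r) - (u + g u • p) = g u • r := by abel
  rw [h1]
  rcases z2 (g u) with h | h
  · rw [h, zero_smul]; exact (FxN M N).zero_mem
  · rw [h, one_smul]; exact hr

theorem r_unique {p : M} {g : M →+ ZMod 2} (hg0 : g ≠ 0) {r r' : M} (h : PPr N p g r) (h' : PPr N p g r') :
    r = r' := by
  obtain ⟨hr, n, hn, hj⟩ := h
  obtain ⟨hr', n', hn', hj'⟩ := h'
  obtain ⟨u, hu⟩ := exists_one_of hg0
  have h1 := D.eq_of_ind hn hn' (t := fun u => u + g u • p) (ind_of hr hj) (ind_of hr' hj') u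
  rw [hj, hj', hu, one_smul, one_smul] at h1
  exact add_left_cancel (add_left_cancel h1)

omit D in
theorem conj0 {p : M} {g : M →+ ZMod 2} {b : X} (h : PPr N p g 0) (hb : b • p - p ∈ FxN M N) :
    PPr N p (act b g) (b • p - p) := by
  obtain ⟨-, n, hn, hj⟩ := h
  refine ⟨hb, b * n * b⁻¹, (inferInstance : N.Normal).conj_mem n hn b, fun u => ?_⟩
  have h1 : ∀ u : M, n • u = u + g u • p := fun u => by rw [hj, add_zero]
  rw [conj_tr h1, add_sub_cancel]

omit D in
theorem exists_diff {g g' : M →+ ZMod 2} (hg0 : g ≠ 0) (hne : g ≠ g') : ∃ u, g u = 1 ∧ g' u = 0 := by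
  by_contra hcon
  push Not at hcon
  -- `g u = 1` implies `g' u = 1`
  have h1 : ∀ u, g u = 1 → g' u = 1 := fun u hu => (z2 _).resolve_left (hcon u hu)
  obtain ⟨u0, hu0⟩ := exists_one_of hg0
  apply hne
  ext u
  rcases z2 (g u) with h | h
  · have h2 := h1 (u0 + u) (by rw [map_add, hu0, h, add_zero])
    rw [map_add, h1 u0 hu0] at h2
    rw [h]
    rcases z2 (g' u) with h3 | h3
    · exact h3.symm
    · rw [h3] at h2; exact absurd h2 (by decide)
  · rw [h, h1 u h]

/-- additivity -/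
theorem add_r {p : M} {g g' : M →+ ZMod 2} {r r' r'' : M} (h : PPr N p g r) (h' : PPr N p g' r')
    (h'' : PPr N p (g + g') r'') (hg : g p = 0) (hne : g ≠ g') (hg0 : g ≠ 0) : r = r'' := by
  obtain ⟨hr, n, hn, hj⟩ := h
  obtain ⟨hr', n', hn', hj'⟩ := h'
  obtain ⟨hr'', n'', hn'', hj''⟩ := h''
  have e1 : ∀ u : M, (n * n') • u = u + g u • (p + r) + g' u • (p + r') := by
    intro u
    rw [mul_smul, hj' u, smul_add, smul_zmod, hj u]
    have h1 : n • (p + r') = p + r' := by
      rw [smul_add, hr' n hn, hj p, hg, zero_smul, add_zero]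
    rw [h1]
  have h3 : ∀ (a : ZMod 2) {i : M}, i ∈ FxN M N → a • i ∈ FxN M N := by
    intro a i hi
    rcases z2 a with h | h
    · rw [h, zero_smul]; exact (FxN M N).zero_mem
    · rw [h, one_smul]; exact hi
  have h1 : ∀ u : M, (n * n') • u - (u + (g + g') u • p) ∈ FxN M N := by
    intro u
    rw [e1, AddMonoidHom.add_apply, add_smul, smul_add, smul_add]
    have h2 : u + (g u • p + g u • r) + (g' u • p + g' u • r') - (u + (g u • p + g' u • p)) =
        g u • r + g' u • r' := by abel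
    rw [h2]
    exact (FxN M N).add_mem (h3 _ hr) (h3 _ hr')
  obtain ⟨u, hu, hu'⟩ := exists_diff hg0 hne
  have hu'' : (g + g') u = 1 := by rw [AddMonoidHom.add_apply, hu, hu', add_zero]
  have h2 := D.eq_of_ind (N.mul_mem hn hn') hn'' (t := fun u => u + (g + g') u • p) h1 (ind_of hr'' hj'') u
  rw [e1, hj'', hu, hu', hu'', zero_smul, add_zero, one_smul, one_smul] at h2
  exact add_left_cancel (add_left_cancel h2)

/-- **all transvections with centre `p` and functional in the block are induced by `N`** -/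
theorem exact [Finite M] {p : M} (hp : Pt X e p) {g : M →+ ZMod 2} (hg : InB N e p g) (gp : g p = 0) :
    ∃ n ∈ N, ∀ u : M, n • u = u + g u • p := by
  obtain ⟨x, rfl⟩ := hp
  have hp : Pt X e (x • e) := ⟨x, rfl⟩
  by_cases g0 : g = 0
  · exact ⟨1, N.one_mem, fun u => by rw [g0, one_smul, AddMonoidHom.zero_apply, zero_smul, add_zero]⟩
  set h := act x f with hdef
  have hh : InB N e (x • e) h := D.inB_act x
  have hh0 : h ≠ 0 := act_ne D.f0 x
  have hhp : h (x • e) = 0 := by rw [hdef, act_smul, D.fe]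
  have hP : PPr N (x • e) h 0 := by
    obtain ⟨n, hn, hn'⟩ := D.trN x
    exact ⟨(FxN M N).zero_mem, n, hn, fun u => by rw [add_zero]; exact hn' u⟩
  have ex : ∀ {g : M →+ ZMod 2}, InB N e (x • e) g → g ≠ 0 → g (x • e) = 0 → ∃ r, PPr N (x • e) g r := by
    intro g hg hg0 hge
    obtain ⟨b, hb, rfl⟩ := D.move hp hh hg hh0 hg0 hhp hge
    exact ⟨_, conj0 hP hb⟩
  have key : PPr N (x • e) g 0 := by
    obtain ⟨r, hr⟩ := ex hg g0 gp
    by_cases hne : g = h
    · rwa [hne]
    · have hs0 : h + g ≠ 0 := by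
        intro h0
        apply hne
        ext u
        have h2 := DFunLike.congr_fun h0 u
        rw [AddMonoidHom.add_apply, AddMonoidHom.zero_apply] at h2
        rcases z2 (h u) with h3 | h3 <;> rcases z2 (g u) with h4 | h4 <;> rw [h3, h4] at h2 ⊢
        · exact absurd h2 (by decide)
        · exact absurd h2 (by decide)
      obtain ⟨s, hs⟩ := ex (hh.add hg) hs0 (by rw [AddMonoidHom.add_apply, hhp, gp, add_zero])
      have h1 : (0 : M) = s := D.add_r hP hr hs hhp (fun h => hne h.symm) hh0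
      have h2 : r = s := D.add_r hr hP (by rwa [add_comm]) gp hne g0
      rwa [h2, ← h1] at hr
  obtain ⟨-, n, hn, hj⟩ := key
  exact ⟨n, hn, fun u => by rw [hj, add_zero]⟩

/-- **points are determined mod `I`** -/
theorem uniq [Finite M] {p q : M} (hp : Pt X e p) (hq : Pt X e q) (h : q - p ∈ FxN M N) : q = p := by
  obtain ⟨x, rfl⟩ := hp
  obtain ⟨y, rfl⟩ := hq
  have hp : Pt X e (x • e) := ⟨x, rfl⟩
  set b := y * x⁻¹ with hb
  have hbx : b • (x • e) = y • e := by rw [hb, mul_smul, inv_smul_smul]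
  have hb' : b • (x • e) - x • e ∈ FxN M N := by rwa [hbx]
  obtain ⟨n, hn, hn'⟩ := D.trN x
  have hP : PPr N (x • e) (act x f) 0 := ⟨(FxN M N).zero_mem, n, hn, fun u => by rw [add_zero]; exact hn' u⟩
  have h1 := conj0 hP hb'
  have hne : act b (act x f) ≠ 0 := act_ne (act_ne D.f0 x) b
  -- `act b (act x f)` is in the block
  have hin : InB N e (x • e) (act b (act x f)) := by
    have h2 : (⟨act y f, act_mem_LN y D.f_LN⟩ : ↥(LN M N)) ∈ Y X (evN N (x • e)) := by
      have h3 := D.act_Y y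
      rwa [evN_eq.mpr h] at h3
    have h4 : act b (act x f) = act y f := by
      ext u
      rw [act_apply, act_apply, act_apply, hb, mul_inv_rev, inv_inv, mul_smul, inv_smul_smul]
    rw [h4]
    exact D.inB_of_Y hp _ h2
  have hz : act b (act x f) (x • e) = 0 := by
    have h2 := hin.memLN _ (mem_inv hb')
    have h3 : act x f (x • e) = 0 := by rw [act_smul, D.fe]
    have h4 := (D.inB_act x).memLN _ (mem_inv hb')
    rw [map_sub, h3, sub_zero] at h4
    rw [act_apply]
    exact h4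
  obtain ⟨n', hn1, hn2⟩ := D.exact hp hin hz
  have h5 := D.r_unique hne h1 ⟨(FxN M N).zero_mem, n', hn1, fun u => by rw [add_zero]; exact hn2 u⟩
  rw [sub_eq_zero, hbx] at h5
  exact h5

end Dat

end Cfsg.Agent.Omega.NOThreeL.RTools.Many.SLMod

end

section


/-!
# NO-3L, box R ∩ (A), `q = 2`, all `k`, the case SL (#18037 (2)): the end in module language (helper850)

`Full` : `M = U₁ → M₂ = U`, points `z i`, transvections `t i` with functional `φ i`, `X = N C`, `C` fixes `∑ z i`,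
`ζ ∈ M₂` with (#).  `Full.false` : contradiction.
-/

set_option autoImplicit false
set_option linter.unusedSectionVars false

namespace Cfsg.Agent.Omega.NOThreeL.RTools.Many.SLMod

open Cfsg.Agent.Omega.NOThreeL.ThmL Cfsg.Agent.Omega.NOThreeL.IndepTwo

variable {X M M₂ : Type*} [Group X] [AddCommGroup M] [Module (ZMod 2) M] [DistribMulAction X M]
  [AddCommGroup M₂] [Module (ZMod 2) M₂] [DistribMulAction X M₂]

namespace Dat

variable {N : Subgroup X} [N.Normal] {e : M} {f : M →+ ZMod 2} (D : Dat N e f)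
include D

/-- a functional of the block which is `1` on the point -/
theorem exists_val_one [Finite M] {p : M} (hp : Pt X e p) : ∃ g, InB N e p g ∧ g p = 1 := by
  obtain ⟨ψ, hψ, h1⟩ := exists_LN (D.ne_Fx hp)
  obtain ⟨a, ha, b, hb, hab⟩ := D.data.exists_add ⟨ψ, hψ⟩ (evN N p)
  refine ⟨a, ⟨a.2, ha⟩, ?_⟩
  have h2 : evN N p b = 0 := D.data.apply_CC hp.mem (Data.Comp.refl hp.mem) hb
  have h3 : evN N p ⟨ψ, hψ⟩ = 1 := h1
  rw [hab, map_add, h2, add_zero] at h3
  exact h3

/-- two points of a block are separated by the block -/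
theorem exists_val [Finite M] {p q : M} (hp : Pt X e p) (hq : Pt X e q) (hpq : Cp N e p q) (hne : p ≠ q) :
    ∃ g, InB N e p g ∧ g p = 1 ∧ g q = 0 := by
  have h0 : p - q ∉ FxN M N := fun h => hne (D.uniq hq hp h)
  obtain ⟨ψ, hψ, h1⟩ := exists_LN h0
  obtain ⟨a, ha, b, hb, hab⟩ := D.data.exists_add ⟨ψ, hψ⟩ (evN N p)
  have ha' : InB N e p (a : M →+ ZMod 2) := ⟨a.2, ha⟩
  have h2 : (b : M →+ ZMod 2) p = 0 := D.data.apply_CC hp.mem (Data.Comp.refl hp.mem) hb
  have h3 : (b : M →+ ZMod 2) q = 0 := D.data.apply_CC hp.mem hpq hb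
  have h4 : ψ = (a : M →+ ZMod 2) + (b : M →+ ZMod 2) := congrArg Subtype.val hab
  rw [h4, AddMonoidHom.add_apply, map_sub, map_sub, h2, h3, sub_zero, add_zero] at h1
  obtain ⟨β, hβ, hβ1⟩ := D.exists_val_one hp
  rcases z2 ((a : M →+ ZMod 2) p) with h5 | h5 <;> rcases z2 ((a : M →+ ZMod 2) q) with h6 | h6
  · rw [h5, h6] at h1; exact absurd h1 (by decide)
  · rcases z2 (β q) with h7 | h7
    · exact ⟨β, hβ, hβ1, h7⟩
    · refine ⟨β + a, hβ.add ha', ?_, ?_⟩
      · rw [AddMonoidHom.add_apply, hβ1, h5, add_zero]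
      · rw [AddMonoidHom.add_apply, h7, h6]; decide
  · exact ⟨a, ha', h5, h6⟩
  · rw [h5, h6] at h1; exact absurd h1 (by decide)

/-- the sum of two points of a block is a point -/
theorem pt_add [Finite M] {p q : M} (hp : Pt X e p) (hq : Pt X e q) (hpq : Cp N e p q) (hne : p ≠ q)
    {g : M →+ ZMod 2} (hg : InB N e p g) (g0 : g ≠ 0) (gp : g p = 0) (gq : g q = 0) :
    Pt X e (p + q) ∧ Cp N e p (p + q) := by
  have E := D.data
  have h1 : evN N p ≠ evN N q := fun h => hne (D.uniq hq hp (evN_eq.mp h))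
  have h2 := Data.comp_add E hp.mem hpq h1
  rw [add_comm, ← evN_add] at h2
  obtain ⟨x, hx⟩ := h2.1
  have hr : Pt X e (x • e) := ⟨x, rfl⟩
  have hpr : Cp N e p (x • e) := by unfold Cp; rw [← hx]; exact h2
  -- exact transvections
  have hrI : p + q - x • e ∈ FxN M N := evN_eq.mp hx
  have gr : g (x • e) = 0 := by
    have h3 := hg.memLN _ hrI
    rw [map_sub, map_add, gp, gq, add_zero, zero_sub, neg_eq_zero] at h3
    exact h3
  obtain ⟨a, ha, ha'⟩ := D.exact hp hg gp
  obtain ⟨b, hb, hb'⟩ := D.exact hq ((D.inB_iff hp hpq).mp hg) gq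
  obtain ⟨c, hc, hc'⟩ := D.exact hr ((D.inB_iff hp hpr).mp hg) gr
  have e1 : ∀ u : M, (a * b) • u = u + g u • (p + q) := by
    intro u
    rw [mul_smul, hb', smul_add, smul_zmod, ha', ha' q, gq, zero_smul, add_zero, smul_add, add_assoc]
  obtain ⟨u, hu⟩ := exists_one_of g0
  have h3 := D.eq_of_ind (N.mul_mem ha hb) hc (t := fun u => u + g u • (x • e)) (by
    intro u
    rw [e1]
    have h4 : u + g u • (p + q) - (u + g u • x • e) = g u • (p + q - x • e) := by rw [smul_sub]; abel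
    rw [h4]
    rcases z2 (g u) with h | h
    · rw [h, zero_smul]; exact (FxN M N).zero_mem
    · rw [h, one_smul]; exact hrI) (fun u => by rw [hc', sub_self]; exact (FxN M N).zero_mem) u
  rw [e1, hc', hu, one_smul, one_smul] at h3
  have h4 := add_left_cancel h3
  rw [h4]
  exact ⟨hr, hpr⟩

/-- transitivity on the pairs (centre, functional) -/
theorem exists_conj [Finite M] {p : M} (hp : Pt X e p) {g : M →+ ZMod 2} (hg : InB N e p g) (g0 : g ≠ 0)
    (gp : g p = 0) : ∃ b : X, b • e = p ∧ act b f = g := by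
  obtain ⟨x, rfl⟩ := hp
  have hp : Pt X e (x • e) := ⟨x, rfl⟩
  obtain ⟨b, hb, h⟩ := D.move hp (D.inB_act x) hg (act_ne D.f0 x) g0 (by rw [act_smul, D.fe]) gp
  have h1 : b • x • e = x • e := D.uniq hp (hp.smul b) hb
  refine ⟨b * x, by rw [mul_smul, h1], ?_⟩
  rw [← h]
  ext u
  rw [act_apply, act_apply, act_apply, mul_inv_rev, mul_smul]

end Dat

/-- All the data. -/
structure Full (N C : Subgroup X) (j : M →+ M₂) {k : ℕ} (z : Fin k → M) (φ : Fin k → (M →+ ZMod 2))
    (t : Fin k → X) (i₀ : Fin k) (F : M₂ →+ ZMod 2) (ζ : M₂) : Prop where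
  dat : Dat N (z i₀) (φ i₀)
  inj : Function.Injective j
  eqv : ∀ (x : X) (u : M), j (x • u) = x • j u
  cent : ∀ x : X, (∀ u : M, x • u = u) → ∀ u : M₂, x • u = u
  tr2 : ∃ n ∈ N, (∀ u : M, n • u = u + φ i₀ u • z i₀) ∧ ∀ u : M₂, n • u = u + F u • j (z i₀)
  cj : ∀ i, ∃ x : X, z i = x • z i₀ ∧ φ i = act x (φ i₀)
  zinj : Function.Injective z
  ti : ∀ i, ∀ u : M, t i • u = u + φ i u • z i
  NC : ∀ x : X, ∃ n ∈ N, ∃ c ∈ C, x = n * c
  Ce : ∀ c ∈ C, c • (∑ i, z i) = ∑ i, z i
  hash : ∀ y : X, y • ζ = ζ → ∀ i, ∃ m : ℕ, ∀ u : M, ((y * t i * y⁻¹ * (t i)⁻¹) ^ (2 ^ m)) • u = u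
  W : (∃ n ∈ N, n • (∑ i, z i) ≠ ∑ i, z i) → ∃ W : AddSubgroup M,
    (∀ x : X, x • (∑ i, z i) = ∑ i, z i → ∀ w ∈ W, x • w ∈ W) ∧ (∀ i, ∀ w ∈ W, φ i w = 0) ∧
    ((∀ x : X, x • (∑ i, z i) ∈ W → x • (∑ i, z i) = ∑ i, z i) → ∀ x : X, x • (∑ i, z i) = ∑ i, z i)

namespace Full

variable {N C : Subgroup X} [N.Normal] {j : M →+ M₂} {k : ℕ} {z : Fin k → M} {φ : Fin k → (M →+ ZMod 2)}
  {t : Fin k → X} {i₀ : Fin k} {F : M₂ →+ ZMod 2} {ζ : M₂} (A : Full N C j z φ t i₀ F ζ)
include A

theorem pt (i : Fin k) : Pt X (z i₀) (z i) := by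
  obtain ⟨x, hx, -⟩ := A.cj i
  exact ⟨x, hx⟩

theorem inB (i : Fin k) : InB N (z i₀) (z i) (φ i) := by
  obtain ⟨x, hx, hx'⟩ := A.cj i
  rw [hx, hx']
  exact A.dat.inB_act x

theorem φ_ne (i : Fin k) : φ i ≠ 0 := by
  obtain ⟨x, hx, hx'⟩ := A.cj i
  rw [hx']
  exact act_ne A.dat.f0 x

theorem φ_self (i : Fin k) : φ i (z i) = 0 := by
  obtain ⟨x, hx, hx'⟩ := A.cj i
  rw [hx', hx, act_smul, A.dat.fe]

omit A in
/-- the transvection `(g, v)` moves `ζ` by `c v`. -/
def SS (j : M →+ M₂) (ζ : M₂) (X : Type*) [Group X] [DistribMulAction X M] [DistribMulAction X M₂]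
    (g : M →+ ZMod 2) (v : M) (c : ZMod 2) : Prop :=
  ∃ y : X, (∀ u : M, y • u = u + g u • v) ∧ y • ζ = ζ + c • j v

theorem ss_exists [Finite M] {p : M} (hp : Pt X (z i₀) p) {g : M →+ ZMod 2} (hg : InB N (z i₀) p g)
    (g0 : g ≠ 0) (gp : g p = 0) : ∃ c, SS j ζ X g p c := by
  obtain ⟨b, hb, h⟩ := A.dat.exists_conj hp hg g0 gp
  obtain ⟨n, -, h1, h2⟩ := A.tr2
  refine ⟨act b F ζ, b * n * b⁻¹, fun u => ?_, ?_⟩
  · rw [conj_tr h1, h, hb]
  · rw [conj_tr h2, ← A.eqv, hb]

/-- elements acting equally on `M` act equally on `M₂` -/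
theorem eq₂ {y y' : X} (h : ∀ u : M, y • u = y' • u) (u : M₂) : y • u = y' • u := by
  have h1 := A.cent (y'⁻¹ * y) (fun u => by rw [mul_smul, h, inv_smul_smul]) u
  rwa [mul_smul, inv_smul_eq_iff] at h1

omit A in
theorem ss_add {g g' : M →+ ZMod 2} {v : M} {c c' : ZMod 2} (A : Full N C j z φ t i₀ F ζ) (h : SS j ζ X g v c)
    (h' : SS j ζ X g' v c') (gv : g v = 0) : SS j ζ X (g + g') v (c + c') := by
  obtain ⟨y, hy, h1⟩ := h
  obtain ⟨y', hy', h1'⟩ := h'
  have hv : y • v = v := by rw [hy, gv, zero_smul, add_zero]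
  refine ⟨y * y', fun u => ?_, ?_⟩
  · rw [mul_smul, hy', smul_add, smul_zmod, hv, hy, AddMonoidHom.add_apply, add_smul, add_assoc]
  · rw [mul_smul, h1', smul_add, smul_zmod, ← A.eqv, hv, h1, add_smul, add_assoc]

theorem ss_unique {g : M →+ ZMod 2} {v : M} {c c' : ZMod 2} (hv : v ≠ 0) (h : SS j ζ X g v c)
    (h' : SS j ζ X g v c') : c = c' := by
  obtain ⟨y, hy, h1⟩ := h
  obtain ⟨y', hy', h1'⟩ := h'
  have h2 := A.eq₂ (y := y) (y' := y') (fun u => by rw [hy, hy']) ζ
  rw [h1, h1'] at h2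
  have h3 := add_left_cancel h2
  have hj : j v ≠ 0 := fun h => hv (A.inj (h.trans (map_zero j).symm))
  rcases z2 c with h4 | h4 <;> rcases z2 c' with h5 | h5 <;> rw [h4, h5] at h3 ⊢
  · rw [zero_smul, one_smul] at h3; exact absurd h3.symm hj
  · rw [zero_smul, one_smul] at h3; exact absurd h3 hj

theorem ss_indep [Finite M] {p q : M} (hp : Pt X (z i₀) p) (hq : Pt X (z i₀) q) (hpq : Cp N (z i₀) p q)
    {g : M →+ ZMod 2} (hg : InB N (z i₀) p g) (g0 : g ≠ 0) (gp : g p = 0) (gq : g q = 0) {c c' : ZMod 2}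
    (h : SS j ζ X g p c) (h' : SS j ζ X g q c') : c = c' := by
  have D := A.dat
  by_cases hne : p = q
  · subst hne
    exact A.ss_unique (D.ne_zero hp) h h'
  obtain ⟨hr, hpr⟩ := D.pt_add hp hq hpq hne hg g0 gp gq
  have gr : g (p + q) = 0 := by rw [map_add, gp, gq, add_zero]
  obtain ⟨c'', y'', hy'', h1''⟩ := A.ss_exists hr ((D.inB_iff hp hpr).mp hg) g0 gr
  obtain ⟨y, hy, h1⟩ := h
  obtain ⟨y', hy', h1'⟩ := h'
  have hyq : y • q = q := by rw [hy, gq, zero_smul, add_zero]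
  have h2 := A.eq₂ (y := y * y') (y' := y'') (fun u => by
    rw [mul_smul, hy', smul_add, smul_zmod, hyq, hy, hy'', smul_add, add_assoc]) ζ
  rw [mul_smul, h1', smul_add, smul_zmod, ← A.eqv, hyq, h1, h1'', add_assoc] at h2
  have h3 := add_left_cancel h2
  have h4 : c • p + c' • q = c'' • (p + q) := by
    apply A.inj
    rw [map_add]
    have e1 : ∀ (a : ZMod 2) (m : M), j (a • m) = a • j m := by
      intro a m
      rcases z2 a with h | h
      · rw [h, zero_smul, zero_smul, map_zero]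
      · rw [h, one_smul, one_smul]
    rw [e1, e1, e1, h3]
  have hp0 := D.ne_zero hp
  have hq0 := D.ne_zero hq
  rcases z2 c with h5 | h5 <;> rcases z2 c' with h6 | h6 <;> rcases z2 c'' with h7 | h7 <;>
    rw [h5, h6, h7] at h4
  · rw [h5, h6]
  · rw [h5, h6]
  · rw [zero_smul, one_smul, zero_smul, zero_add] at h4; exact absurd h4 hq0
  · rw [zero_smul, one_smul, one_smul, zero_add] at h4; exact absurd (right_eq_add.mp h4) hp0
  · rw [zero_smul, one_smul, zero_smul, add_zero] at h4; exact absurd h4 hp0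
  · rw [zero_smul, one_smul, one_smul, add_zero] at h4; exact absurd (left_eq_add.mp h4) hq0
  · rw [h5, h6]
  · rw [h5, h6]

/-- (#) -/
theorem ss_one [Finite M] {l : Fin k} {g : M →+ ZMod 2} (hg : InB N (z i₀) (z l) g) (gl : g (z l) = 1)
    {v : M} (hv : Pt X (z i₀) v) (hlv : Cp N (z i₀) (z l) v) (gv : g v = 0) {c : ZMod 2}
    (h : SS j ζ X g v c) : c = 1 := by
  have D := A.dat
  rcases z2 c with hc | hc
  · exfalso
    have g0 : g ≠ 0 := fun h0 => by rw [h0, AddMonoidHom.zero_apply] at gl; exact absurd gl (by decide)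
    obtain ⟨v', hv', hlv', gv', -, hφ⟩ := D.exists_pt (A.pt l) hg InB.zero (A.inB l) (A.φ_ne l)
      (fun h => by rw [← h, A.φ_self] at gl; exact absurd gl (by decide)) (A.φ_ne l)
      (fun h => by rw [add_zero] at h; rw [← h, A.φ_self] at gl; exact absurd gl (by decide))
    obtain ⟨c', h'⟩ := A.ss_exists hv' ((D.inB_iff (A.pt l) hlv').mp hg) g0 gv'
    have hvv' : Cp N (z i₀) v v' := D.cp_trans hv (D.cp_symm (A.pt l) hlv) hlv'
    have hcc := A.ss_indep hv hv' hvv' ((D.inB_iff (A.pt l) hlv).mp hg) g0 gv gv' h h'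
    obtain ⟨y, hy, hyζ⟩ := h'
    rw [← hcc, hc, zero_smul, add_zero] at hyζ
    obtain ⟨m, hm⟩ := A.hash y hyζ l
    exact EndData.S3 hy (A.ti l) gv' (A.φ_self l) gl hφ (hm v')
  · exact hc

/-- different `z i` are in different blocks -/
theorem not_cp [Finite M] {i l : Fin k} (hil : i ≠ l) : ¬ Cp N (z i₀) (z i) (z l) := by
  intro hC
  have D := A.dat
  have hp := A.pt i
  have hq := A.pt l
  have hne : z i ≠ z l := fun h => hil (A.zinj h)
  obtain ⟨g, hg, g1, g2⟩ := D.exists_val hp hq hC hne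
  obtain ⟨g', hg', g1', g2'⟩ := D.exists_val hq hp (D.cp_symm hp hC) hne.symm
  have hg'' := (D.inB_iff hp hC).mpr hg'
  -- a common zero
  obtain ⟨x, hx, -⟩ := A.cj i
  obtain ⟨f2, hf2, hf20, hf2f⟩ := D.four
  have hf2L := D.exact_LN hf2
  -- the two functionals at `z i`
  have k1 : InB N (z i₀) (z i) (act x (φ i₀)) := by rw [hx]; exact D.inB_act x
  have k1z : act x (φ i₀) (z i) = 0 := by rw [hx, act_smul, D.fe]
  have k2 : InB N (z i₀) (z i) (act x f2) := by
    rw [hx]
    refine D.inB_of_Y ⟨x, rfl⟩ (act_mem_LN x hf2L) ?_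
    obtain ⟨h0, y, hy⟩ := hf2
    rw [mem_YN]
    refine ⟨?_, x * y * x⁻¹, fun u => ?_⟩
    · change act x f2 (x • z i₀) = 0
      rw [act_smul, h0]
    · change (x * y * x⁻¹) • u - (u + act x f2 u • x • z i₀) ∈ FxN M N
      rw [conj_tr hy, sub_self]
      exact (FxN M N).zero_mem
  have k2z : act x f2 (z i) = 0 := by rw [hx, act_smul, apply_eq_zero hf2]
  obtain ⟨h, hh, h0, hz, hne'⟩ : ∃ h, InB N (z i₀) (z i) h ∧ h ≠ 0 ∧ h (z i) = 0 ∧ h ≠ g' := by
    by_cases h3 : act x (φ i₀) = g'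
    · refine ⟨_, k2, act_ne hf20 x, k2z, fun h4 => hf2f ?_⟩
      have h5 := congrArg (act x⁻¹) (h4.trans h3.symm)
      rwa [Data.act_inv_act, Data.act_inv_act] at h5
    · exact ⟨_, k1, act_ne D.f0 x, k1z, h3⟩
  obtain ⟨v, hv, hpv, gv, gv', -⟩ := D.exists_pt hp hg hg'' hh h0
    (fun h4 => by rw [h4, g1] at hz; exact absurd hz (by decide)) hne'
    (fun h4 => by
      rw [h4, AddMonoidHom.add_apply, g1, g2'] at hz
      exact absurd hz (by decide))
  have g0 : g ≠ 0 := fun h0 => by rw [h0, AddMonoidHom.zero_apply] at g1; exact absurd g1 (by decide)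
  have g0' : g' ≠ 0 := fun h0 => by rw [h0, AddMonoidHom.zero_apply] at g1'; exact absurd g1' (by decide)
  obtain ⟨c, hc⟩ := A.ss_exists hv ((D.inB_iff hp hpv).mp hg) g0 gv
  obtain ⟨c', hc'⟩ := A.ss_exists hv ((D.inB_iff hp hpv).mp hg'') g0' gv'
  have h1 := A.ss_one hg g1 hv hpv gv hc
  have h2 := A.ss_one (l := l) hg' g1' hv (D.cp_trans hq (D.cp_symm hp hC) hpv) gv' hc'
  have h3 := A.ss_one (l := i) (hg.add hg'') (by rw [AddMonoidHom.add_apply, g1, g2']; decide) hv hpv
    (by rw [AddMonoidHom.add_apply, gv, gv', add_zero]) (ss_add A hc hc' gv)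
  rw [h1, h2] at h3
  exact absurd h3 (by decide)

/-- the sum of the `z i` evaluated at a functional of the block of `z l` -/
theorem sum_apply [Finite M] {l : Fin k} (x : X) {p : M} (hp : Pt X (z i₀) p) (h : Cp N (z i₀) p (x • z l))
    {g : M →+ ZMod 2} (hg : InB N (z i₀) p g) : g (x • ∑ i, z i) = g (x • z l) := by
  have D := A.dat
  rw [Finset.smul_sum, map_sum, Finset.sum_eq_single l]
  · intro i _ hil
    refine D.inB_apply hp ((A.pt i).smul x) (fun h1 => A.not_cp hil ?_) hg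
    have h2 := D.cp_act (D.cp_trans ((A.pt i).smul x) (D.cp_symm hp h1) h) x⁻¹
    rwa [inv_smul_smul, inv_smul_smul] at h2
  · intro h1
    exact absurd (Finset.mem_univ l) h1

/-- every block contains some `z i` -/
theorem exists_cp [Finite M] {p : M} (hp : Pt X (z i₀) p) : ∃ i, Cp N (z i₀) (z i) p := by
  have D := A.dat
  obtain ⟨x, rfl⟩ := hp
  obtain ⟨n, hn, c, hc, rfl⟩ := A.NC x
  have hq : Pt X (z i₀) (c • z i₀) := ⟨c, rfl⟩
  obtain ⟨i, hi⟩ : ∃ i, Cp N (z i₀) (z i) (c • z i₀) := by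
    by_contra hcon
    push Not at hcon
    obtain ⟨g, hg, g1⟩ := D.exists_val_one hq
    have h1 := A.sum_apply c hq (cp_self hq) hg
    rw [A.Ce c hc, g1, map_sum, Finset.sum_eq_zero] at h1
    · exact absurd h1 (by decide)
    · intro i _
      exact D.inB_apply hq (A.pt i) (fun h2 => hcon i (D.cp_symm hq h2)) hg
  refine ⟨i, ?_⟩
  have h1 := D.cp_N hq hn
  rw [mul_smul]
  exact D.cp_trans (A.pt i) hi h1
where
  cp_self {q : M} (hq : Pt X (z i₀) q) : Cp N (z i₀) q q := Data.Comp.refl hq.mem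

/-- **The case SL is impossible.** -/
theorem false [Finite M] : False := by
  have D := A.dat
  set s := ∑ i, z i with hs
  have hrefl : ∀ {q : M}, Pt X (z i₀) q → Cp N (z i₀) q q := fun hq => Data.Comp.refl hq.mem
  -- `s ∉ I`
  have hsI : s ∉ FxN M N := by
    intro h
    obtain ⟨g, hg, g1⟩ := D.exists_val_one (A.pt i₀)
    have h1 := A.sum_apply (l := i₀) 1 (A.pt i₀) (by rw [one_smul]; exact hrefl (A.pt i₀)) hg
    rw [one_smul, one_smul, g1, ← hs, hg.memLN _ h] at h1
    exact absurd h1 (by decide)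
  have hmv : ∃ n ∈ N, n • s ≠ s := by
    by_contra hcon
    push Not at hcon
    exact hsI hcon
  obtain ⟨W, hW, hφW, hfix⟩ := A.W hmv
  -- the functionals of the block of `z i` killing `z i` kill `W`
  have claimW : ∀ i, ∀ g, InB N (z i₀) (z i) g → g (z i) = 0 → ∀ w ∈ W, g w = 0 := by
    intro i g hg gi w hw
    by_cases g0 : g = 0
    · rw [g0]; rfl
    obtain ⟨v, hv, hiv, gv, fv⟩ := D.exists_both (A.pt i) hg (A.inB i) g0 (A.φ_ne i)
    have hin := hg.add (A.inB i)
    obtain ⟨n, hn, hn'⟩ := D.exact hv ((D.inB_iff (A.pt i) hiv).mp hin)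
      (by rw [AddMonoidHom.add_apply, gv, fv]; decide)
    have hz : ∀ l, n • z l = z l := by
      intro l
      rw [hn']
      have h1 : (g + φ i) (z l) = 0 := by
        by_cases hl : i = l
        · rw [← hl, AddMonoidHom.add_apply, gi, A.φ_self, add_zero]
        · exact D.inB_apply (A.pt i) (A.pt l) (A.not_cp hl) hin
      rw [h1, zero_smul, add_zero]
    have hns : n • s = s := by
      rw [hs, Finset.smul_sum]
      exact Finset.sum_congr rfl fun l _ => hz l
    have h2 := hφW i _ (hW n hns w hw)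
    rw [hn', map_add, AddMonoidHom.add_apply] at h2
    have h3 : φ i ((g w + φ i w) • v) = g w + φ i w := by
      rcases z2 (g w + φ i w) with h | h
      · rw [h, zero_smul, map_zero]
      · rw [h, one_smul, fv]
    rw [h3, hφW i w hw] at h2
    rwa [zero_add, add_zero] at h2
  refine hsI fun n _ => hfix (fun x hx => ?_) n
  -- `x • s ∈ W`
  have hσ : ∀ i, ∃ l, x • z l = z i := by
    intro i
    obtain ⟨l, hl⟩ := A.exists_cp ((A.pt i).smul x⁻¹)
    have h1 := D.cp_act hl x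
    rw [smul_inv_smul] at h1
    have hxl := (A.pt l).smul x
    refine ⟨l, ?_⟩
    by_contra hne
    obtain ⟨g, hg, g1, g2⟩ := D.exists_val hxl (A.pt i) h1 hne
    have h2 := claimW i g ((D.inB_iff hxl h1).mp hg) g2 _ hx
    rw [A.sum_apply x hxl (hrefl hxl) hg, g1] at h2
    exact absurd h2 (by decide)
  choose σ hσ using hσ
  have hinj : Function.Injective σ := fun a b hab => A.zinj (by rw [← hσ a, ← hσ b, hab])
  have hbij : Function.Bijective σ := Finite.injective_iff_bijective.mp hinj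
  rw [Finset.smul_sum, ← (Equiv.ofBijective σ hbij).sum_comp (fun l => x • z l)]
  exact Finset.sum_congr rfl fun i _ => hσ i

end Full

end Cfsg.Agent.Omega.NOThreeL.RTools.Many.SLMod

end
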