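import Cfsg.Agent.Mrg.Omega.NOThreeL.RTree
import Cfsg.Agent.Mrg.Omega.NOThreeL.RTools.Many.Reduce
import Cfsg.Agent.Mrg.Omega.NOThreeL.RBig.AxRInst
import Cfsg.Agent.Mrg.Omega.NOThreeL.ATwo.MainQ


/-!
# NO-3L, box R, case (A): the tree below `NatBig` (`V_P` natural `SL₂(F)^k`, `|F| > 2`)

`Data S`, `PairA S P H`, `H` minimal (below itself), `M : NatKM F S P V_P (cv S P) k`, `2 < |F|`; nothing about
offenders (`RTools.Many.exists_nat_big`: this is the only case of (A) left). All sockets are K-free.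

* `Splits S P D` : `V_P = V₀ × D` with `V₀` normal in `P`;
* `Three` : (3) of #19602: split, `1 ≠ z ∈ Z ∩ V₀` ⟹ `V_P ≤ O₂(C_G(z))` (any `P ∈ P*(S)`);
* `SplitE` : (5)-(7) of #19602: split, `C_Z(P) ≠ 1`, `U_H` exact;
* `NsOne` : #19087: `k = 1`, not split, `|Z/C_Z(P)| = |F|`;
* `NsF` : `k = 1`, not split, `|Z/C_Z(P)| < |F|` (field automorphisms);
* `NsK` : `k ≥ 2`, not split;
* `ThmK` : THEOREM K of #21065 (helper162): `k ≥ 2`, `C_Z(P) ≠ 1` ⟹ `[V_P, U_H] = 1` for all local `H ≥ S`;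
* `SplitOne` : `SplitE` for `k = 1`;
* `natBig_of` : `Three`, `SplitE`, `NsOne`, `NsF`, `NsK` imply `NatBig`; `natBig_of'` : `Three`, `ThmK`, `SplitOne`,
  `NsOne`, `NsF` imply `NatBig`; `caseA_false` : `NatBig` kills case (A); `rg_of'` : `NatBig`, `RBz K`, `RBc K`
  imply `Merge.RG K`.
-/

set_option autoImplicit false

namespace Cfsg.Agent.Omega.NOThreeL.RTreeA

open Subgroup Cfsg Cfsg.Agent.ZN Cfsg.Agent.Omega.MinPar Cfsg.Agent.Omega.Frame Cfsg.Agent.Omega.FrameNOFF
open Cfsg.Agent.Omega.Node.NO3L Cfsg.Agent.Omega.NOThreeL.Basic Cfsg.Agent.Omega.NOThreeL.Main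
open Cfsg.Agent.Omega.FFThm (Off NatK NatKM)
open Cfsg.Agent.Omega.FrameFF (cv)
open Cfsg.Agent.Omega.NOThreeL.RTree (RBz RBc RB)

universe u

/-- `V_P = V₀ × D` with `V₀` normal in `P`. -/
def SplitBy {G : Type u} [Group G] (S P D V₀ : Subgroup G) : Prop :=
  V₀ ≤ zl S P ∧ P ≤ normalizer (V₀ : Set G) ∧ V₀ ⊓ D = ⊥ ∧ zl S P ≤ V₀ ⊔ D

/-- `V_P` splits over `D`. -/
def Splits {G : Type u} [Group G] (S P D : Subgroup G) : Prop := ∃ V₀, SplitBy S P D V₀

/-- The common hypotheses. -/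
structure BigA {G : Type u} [Group G] [Finite G] (S : Sylow 2 G) (P H : Subgroup G) (F : Type) [Field F]
    (k : ℕ) : Prop where
  ctx : Ctx G
  data : Data (S : Subgroup G)
  pair : PairA (S : Subgroup G) P H
  min : ∀ H₁ : Subgroup G, IsLong (S : Subgroup G) H₁ → H₁ ≤ H → H₁ ≠ H →
    zl (S : Subgroup G) P ≤ centralizer (zl (S : Subgroup G) H₁ : Set G)
  pos : 0 < k
  big : 2 < Nat.card F

/-- **`q > 2`**: everything that is left of case (A). -/
def NatBig : Prop :=
  ∀ (G : Type u) [Group G] [Finite G] (S : Sylow 2 G) (P H : Subgroup G) (F : Type) [Field F] [Finite F]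
    [CharP F 2] (k : ℕ), BigA S P H F k →
      NatKM F (S : Subgroup G) P (zl (S : Subgroup G) P) (cv (S : Subgroup G) P) k → False

/-- (3) of #19602. -/
def Three : Prop :=
  ∀ (G : Type u) [Group G] [Finite G], Ctx G → ∀ (S : Sylow 2 G), Data (S : Subgroup G) →
    ∀ P : Subgroup G, IsParS (S : Subgroup G) P →
      ∀ (F : Type) [Field F] [Finite F] [CharP F 2] (k : ℕ), 0 < k → 2 < Nat.card F →
        NatKM F (S : Subgroup G) P (zl (S : Subgroup G) P) (cv (S : Subgroup G) P) k →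
          ∀ V₀ : Subgroup G, SplitBy (S : Subgroup G) P (cv (S : Subgroup G) P) V₀ →
            ∀ z ∈ zc (S : Subgroup G), z ∈ V₀ → z ≠ 1 →
              zl (S : Subgroup G) P ≤ o2 (centralizer ({z} : Set G))

/-- (5)-(7) of #19602: split, `C_Z(P) ≠ 1`, exact, with (3). -/
def SplitE : Prop :=
  ∀ (G : Type u) [Group G] [Finite G] (S : Sylow 2 G) (P H : Subgroup G) (F : Type) [Field F] [Finite F]
    [CharP F 2] (k : ℕ), BigA S P H F k →
      NatKM F (S : Subgroup G) P (zl (S : Subgroup G) P) (cv (S : Subgroup G) P) k →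
        Exact (S : Subgroup G) P H → zc (S : Subgroup G) ⊓ centralizer (P : Set G) ≠ ⊥ →
          ∀ V₀ : Subgroup G, SplitBy (S : Subgroup G) P (cv (S : Subgroup G) P) V₀ →
            (∀ z ∈ zc (S : Subgroup G), z ∈ V₀ → z ≠ 1 →
              zl (S : Subgroup G) P ≤ o2 (centralizer ({z} : Set G))) → False

/-- #19087: `k = 1`, not split, no field automorphisms. -/
def NsOne : Prop :=
  ∀ (G : Type u) [Group G] [Finite G] (S : Sylow 2 G) (P H : Subgroup G) (F : Type) [Field F] [Finite F]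
    [CharP F 2], BigA S P H F 1 →
      ∀ M : NatKM F (S : Subgroup G) P (zl (S : Subgroup G) P) (cv (S : Subgroup G) P) 1,
        ¬ Splits (S : Subgroup G) P (cv (S : Subgroup G) P) →
          (∀ x : F, ∃ z ∈ zc (S : Subgroup G), M.e z 0 = ![x, 0]) → False

/-- `k = 1`, not split, field automorphisms. -/
def NsF : Prop :=
  ∀ (G : Type u) [Group G] [Finite G] (S : Sylow 2 G) (P H : Subgroup G) (F : Type) [Field F] [Finite F]
    [CharP F 2], BigA S P H F 1 →
      ∀ M : NatKM F (S : Subgroup G) P (zl (S : Subgroup G) P) (cv (S : Subgroup G) P) 1,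
        ¬ Splits (S : Subgroup G) P (cv (S : Subgroup G) P) →
          ¬ (∀ x : F, ∃ z ∈ zc (S : Subgroup G), M.e z 0 = ![x, 0]) → False

/-- `k ≥ 2`, not split. -/
def NsK : Prop :=
  ∀ (G : Type u) [Group G] [Finite G] (S : Sylow 2 G) (P H : Subgroup G) (F : Type) [Field F] [Finite F]
    [CharP F 2] (k : ℕ), BigA S P H F k → 2 ≤ k →
      NatKM F (S : Subgroup G) P (zl (S : Subgroup G) P) (cv (S : Subgroup G) P) k →
        ¬ Splits (S : Subgroup G) P (cv (S : Subgroup G) P) → False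

/-- **THEOREM K** of #21065 (helper162). -/
def ThmK : Prop :=
  ∀ (G : Type u) [Group G] [Finite G], IsCharacteristicTwoType G → ∀ (S : Sylow 2 G) (P H : Subgroup G),
    IsParS (S : Subgroup G) P → IsLoc (S : Subgroup G) H →
      zc (S : Subgroup G) ⊓ centralizer (P : Set G) ≠ ⊥ →
        ∀ (F : Type) [Field F] [Finite F] [CharP F 2] (k : ℕ), 2 ≤ k → 2 < Nat.card F →
          NatKM F (S : Subgroup G) P (zl (S : Subgroup G) P) (cv (S : Subgroup G) P) k →
            zl (S : Subgroup G) P ≤ centralizer (zl (S : Subgroup G) H : Set G)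

/-- `SplitE` for `k = 1`. -/
def SplitOne : Prop :=
  ∀ (G : Type u) [Group G] [Finite G] (S : Sylow 2 G) (P H : Subgroup G) (F : Type) [Field F] [Finite F]
    [CharP F 2], BigA S P H F 1 →
      NatKM F (S : Subgroup G) P (zl (S : Subgroup G) P) (cv (S : Subgroup G) P) 1 →
        Exact (S : Subgroup G) P H → zc (S : Subgroup G) ⊓ centralizer (P : Set G) ≠ ⊥ →
          ∀ V₀ : Subgroup G, SplitBy (S : Subgroup G) P (cv (S : Subgroup G) P) V₀ →
            (∀ z ∈ zc (S : Subgroup G), z ∈ V₀ → z ≠ 1 →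
              zl (S : Subgroup G) P ≤ o2 (centralizer ({z} : Set G))) → False

/-- **EXACT** from (3). -/
theorem off_of {G : Type u} [Group G] [Finite G] {S : Sylow 2 G} {P H : Subgroup G} {F : Type} [Field F]
    [Finite F] [CharP F 2] {k : ℕ} (h : BigA S P H F k)
    (M : NatK F (S : Subgroup G) P (zl (S : Subgroup G) P) (cv (S : Subgroup G) P) k) {V₀ : Subgroup G}
    (hV : SplitBy (S : Subgroup G) P (cv (S : Subgroup G) P) V₀)
    (hO : ∀ z ∈ zc (S : Subgroup G), z ∈ V₀ → z ≠ 1 →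
      zl (S : Subgroup G) P ≤ o2 (centralizer ({z} : Set G))) : Exact (S : Subgroup G) P H := by
  have D : RBig.AxRInst.Spl S P H (cv (S : Subgroup G) P) V₀ M :=
    ⟨h.ctx.char2, h.data, h.pair, h.pos, hV.1, hV.2.1, hV.2.2.1, hV.2.2.2, inf_le_left, hO⟩
  have hoff := D.off h.big
  obtain ⟨hn, -, hoff', he⟩ := PairA.off_of h.ctx.char2 FFBr.ffthm h.pair hoff
  exact ⟨h.pair, hoff, hoff', hn, he⟩

/-- `C_Z(P) = 1` and `U_H` exact (`ATwo.FrQ.false_of`). -/
theorem false_of_inf_eq_bot {G : Type u} [Group G] [Finite G] (hG : Ctx G) {S : Sylow 2 G}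
    (D : Data (S : Subgroup G)) {P H : Subgroup G} (E : Exact (S : Subgroup G) P H)
    (h0 : zc (S : Subgroup G) ⊓ centralizer (P : Set G) = ⊥) {F : Type} [Field F] [CharP F 2] {k : ℕ}
    (hk : 0 < k)
    (M : NatK F (S : Subgroup G) P (zl (S : Subgroup G) P) (cv (S : Subgroup G) P) k) : False := by
  have h1 : cv (S : Subgroup G) P = ⊥ := NoFF.LinesPlug.inf_oddGen_eq_bot hG.char2 S E.par.toIsPar h0
  rw [h1] at M
  exact ATwo.FrQ.false_of (M := M) ⟨hG.char2, hG.sylow_ne_bot S, D, E, hk⟩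

/-- **`NatBig` from its leaves.** -/
theorem natBig_of (h3 : Three.{u}) (hs : SplitE.{u}) (h1 : NsOne.{u}) (hf : NsF.{u}) (hk : NsK.{u}) :
    NatBig.{u} := by
  intro G _ _ S P H F _ _ _ k h M
  by_cases hS : Splits (S : Subgroup G) P (cv (S : Subgroup G) P)
  · obtain ⟨V₀, hV⟩ := hS
    have hO := h3 G h.ctx S h.data P h.pair.par F k h.pos h.big M V₀ hV
    have hE := off_of h M.toNatK hV hO
    by_cases h0 : zc (S : Subgroup G) ⊓ centralizer (P : Set G) = ⊥
    · exact false_of_inf_eq_bot h.ctx h.data hE h0 h.pos M.toNatK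
    · exact hs G S P H F k h M hE h0 V₀ hV hO
  · rcases Nat.lt_or_ge k 2 with h2 | h2
    · obtain rfl : k = 1 := by have := h.pos; omega
      by_cases hx : ∀ x : F, ∃ z ∈ zc (S : Subgroup G), M.e z 0 = ![x, 0]
      · exact h1 G S P H F h M hS hx
      · exact hf G S P H F h M hS hx
    · exact hk G S P H F k h h2 M hS

/-- If `C_Z(P) = 1`, then `V_P` splits over `cv S P = 1`. -/
theorem splitBy_of_eq_bot {G : Type u} [Group G] [Finite G] (hc : IsCharacteristicTwoType G) {S : Sylow 2 G}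
    {P : Subgroup G} (hP : IsParS (S : Subgroup G) P)
    (h0 : zc (S : Subgroup G) ⊓ centralizer (P : Set G) = ⊥) :
    SplitBy (S : Subgroup G) P (cv (S : Subgroup G) P) (zl (S : Subgroup G) P) := by
  have h1 : cv (S : Subgroup G) P = ⊥ := NoFF.LinesPlug.inf_oddGen_eq_bot hc S hP.toIsPar h0
  refine ⟨le_rfl, le_normalizer_zl _ _, ?_, ?_⟩
  · rw [h1, inf_bot_eq]
  · rw [h1, sup_bot_eq]

/-- **`NatBig` from its leaves**, with THEOREM K. -/
theorem natBig_of' (h3 : Three.{u}) (hK : ThmK.{u}) (hs : SplitOne.{u}) (h1 : NsOne.{u}) (hf : NsF.{u}) :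
    NatBig.{u} := by
  intro G _ _ S P H F _ _ _ k h M
  by_cases h0 : zc (S : Subgroup G) ⊓ centralizer (P : Set G) = ⊥
  · have hV := splitBy_of_eq_bot h.ctx.char2 h.pair.par h0
    have hO := h3 G h.ctx S h.data P h.pair.par F k h.pos h.big M _ hV
    exact false_of_inf_eq_bot h.ctx h.data (off_of h M.toNatK hV hO) h0 h.pos M.toNatK
  · rcases Nat.lt_or_ge k 2 with h2 | h2
    · obtain rfl : k = 1 := by have := h.pos; omega
      by_cases hS : Splits (S : Subgroup G) P (cv (S : Subgroup G) P)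
      · obtain ⟨V₀, hV⟩ := hS
        have hO := h3 G h.ctx S h.data P h.pair.par F 1 h.pos h.big M V₀ hV
        exact hs G S P H F h M (off_of h M.toNatK hV hO) h0 V₀ hV hO
      · by_cases hx : ∀ x : F, ∃ z ∈ zc (S : Subgroup G), M.e z 0 = ![x, 0]
        · exact h1 G S P H F h M hS hx
        · exact hf G S P H F h M hS hx
    · exact h.pair.ne (hK G h.ctx.char2 S P H h.pair.par h.pair.long.loc h0 F k h2 h.big M)

/-- **`NatBig` kills case (A).** -/
theorem pair_false (h : NatBig.{u}) {G : Type u} [Group G] [Finite G] (hG : Ctx G) {S : Sylow 2 G}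
    (D : Data (S : Subgroup G)) {P H : Subgroup G} (E : PairA (S : Subgroup G) P H) : False := by
  obtain ⟨H₁, -, hE, hmin⟩ := RTools.Many.exists_min E
  obtain ⟨F, _, _, _, k, hk, hq, ⟨M⟩⟩ := RTools.Many.exists_nat_big hG D hE
  exact h G S P H₁ F k ⟨hG, D, hE, hmin, hk, hq⟩ M

theorem caseA_false (h : NatBig.{u}) {G : Type u} [Group G] [Finite G] (hG : Ctx G) {S : Sylow 2 G}
    (D : Data (S : Subgroup G)) : ¬ CaseA (S : Subgroup G) := by
  intro hA
  obtain ⟨P, H, E⟩ := caseA_iff.1 hA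
  exact pair_false h hG D E

/-- **Box R from its leaves.** -/
theorem rg_of' {K : Cls.{u}} (h : NatBig.{u}) (hz : RBz K) (hc : RBc K) : Merge.RG K := by
  refine RTree.rg_of ?_ hz hc
  intro G _ _ hG _ S _ D P H hE F _ _ _ k _ _ _
  exact (pair_false h hG D hE).elim

end Cfsg.Agent.Omega.NOThreeL.RTreeA
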