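import Cfsg.Agent.Mrg.Omega.Node.NO3L
import Cfsg.Agent.Omega.NO3S.PointTI
import Cfsg.Agent.Omega.NOThreeL.ThmT
import Mathlib
import Cfsg.Agent.Omega.NoFF.Basic

section


/-!
# NO-3L, socket R: (R2) of #15623 (helper691)

`S` a Sylow 2-subgroup, `Z = Ω₁(Z(S))`, `z ∈ Z - 1`.

* `exists_par` : `C_G(z)` does not normalise `Z`: some `P ∈ P*(S)` centralises `z`;
* `iff_exists` : `C_G(z) ≰ N_G(Z)` iff `z ∈ C_Z(P)` for some `P ∈ P*(S)`;
* `ti_of` : `z ∈ Z ∩ Z^g`, `C_G(z) ≤ N_G(Z)`: `g ∈ N_G(Z)`;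
* `cent_le`, `ti` : if `C_Z(P) = 1` for all `P ∈ P*(S)`, then `C_G(z) ≤ N_G(Z)` for all `z ∈ Z - 1` and `Z` is
  a TI-subgroup;
* `isLong_centralizer` : `E ≤ Z`, `E ≠ 1`: `C_G(E)` is a long group; `le_centralizer_E` : it contains `P` for
  `E = C_Z(P)`; `comm_of_cent` : if `H` centralises `C_Z(P) ≠ 1`, then `[V_P, U_H] = 1`.
-/

set_option autoImplicit false

namespace Cfsg.Agent.Omega.NOThreeL.RTwo

open Subgroup Cfsg Cfsg.Agent.ZN Cfsg.Agent.Omega.MinPar Cfsg.Agent.Omega.FrameNOFF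
open Cfsg.Agent.Omega.Node.NO3L
open Cfsg.Agent.Omega.NoFF.Basic (conj_conj mem_conj conj_le_iff conj_le_centralizer comm_mono)
open Cfsg.Agent.Omega.NOThreeL.Pair (zl_abel)
open Cfsg.Agent.MinSimple.VModule (mem_zc zc_le zc_le_centralizer le_centralizer_zc zc_comm zc_sq
  normalizer_le_normalizer_zc zl_le zc_le_zl le_normalizer_zl)
open scoped Pointwise

universe u

variable {G : Type u} [Group G]

section one

variable [Finite G] (S : Sylow 2 G)

/-- `C_G(z)` does not normalise `Z`: some member of `P*(S)` centralises `z`. -/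
theorem exists_par {z : G} (hz : z ∈ zc (S : Subgroup G)) (hz1 : z ≠ 1)
    (h : ¬ centralizer ({z} : Set G) ≤ normalizer (zc (S : Subgroup G) : Set G)) :
    ∃ P : Subgroup G, IsParS (S : Subgroup G) P ∧ P ≤ centralizer ({z} : Set G) := by
  have hS : (S : Subgroup G) ≤ centralizer ({z} : Set G) := by
    intro s hs
    rw [mem_centralizer_singleton_iff]
    exact (mem_zc.1 hz).2.1 s hs
  have hL := isLoc_centralizer S (zc_sq _ z hz) hz1 hS
  obtain ⟨P, hP, hPL, hPn⟩ := hL.exists_not_le S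
    (inf_le_right.trans (normalizer_le_normalizer_zc _)) h
  exact ⟨P, ⟨hP, hPn⟩, hPL⟩

/-- **(R2)**, last statement. -/
theorem iff_exists {z : G} (hz : z ∈ zc (S : Subgroup G)) (hz1 : z ≠ 1) :
    ¬ centralizer ({z} : Set G) ≤ normalizer (zc (S : Subgroup G) : Set G) ↔
      ∃ P : Subgroup G, IsParS (S : Subgroup G) P ∧
        z ∈ zc (S : Subgroup G) ⊓ centralizer (P : Set G) := by
  constructor
  · intro h
    obtain ⟨P, hP, hPz⟩ := exists_par S hz hz1 h
    refine ⟨P, hP, mem_inf.2 ⟨hz, mem_centralizer_iff.2 fun p hp => ?_⟩⟩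
    exact mem_centralizer_singleton_iff.1 (hPz hp)
  · rintro ⟨P, hP, hPz⟩ h
    refine hP.not_zc fun p hp => h ?_
    rw [mem_centralizer_singleton_iff]
    exact mem_centralizer_iff.1 (mem_inf.1 hPz).2 p hp

omit [Finite G] in
theorem le_centralizer {z : G} (hz : z ∈ zc (S : Subgroup G)) :
    (S : Subgroup G) ≤ centralizer ({z} : Set G) := fun s hs => by
  rw [mem_centralizer_singleton_iff]
  exact (mem_zc.1 hz).2.1 s hs

/-- `z ∈ Z ∩ Z^g` and `C_G(z) ≤ N_G(Z)`: `g ∈ N_G(Z)`. -/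
theorem ti_of {z g : G} (hz : z ∈ zc (S : Subgroup G))
    (hzg : z ∈ MulAut.conj g • zc (S : Subgroup G))
    (h : centralizer ({z} : Set G) ≤ normalizer (zc (S : Subgroup G) : Set G)) :
    g ∈ normalizer (zc (S : Subgroup G) : Set G) := by
  rw [mem_conj] at hzg
  have h1 : ((g • S : Sylow 2 G) : Subgroup G) ≤ centralizer ({z} : Set G) := by
    intro s hs
    have hs' : s ∈ MulAut.conj g • (S : Subgroup G) := hs
    rw [mem_conj] at hs'
    rw [mem_centralizer_singleton_iff]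
    have h2 := (mem_zc.1 hzg).2.1 _ hs'
    have h3 := congrArg (fun t => g * t * g⁻¹) h2
    simpa [mul_assoc] using h3
  obtain ⟨c, hc, he⟩ := NO3S.PT.exists_conj (le_centralizer S hz) h1
  have h2 : MulAut.conj (g⁻¹ * c) • (S : Subgroup G) = S := by
    have h3 : MulAut.conj c • (S : Subgroup G) = MulAut.conj g • (S : Subgroup G) := he
    rw [← conj_conj, h3, conj_conj, inv_mul_cancel, map_one, one_smul]
  have h3 : g⁻¹ * c ∈ normalizer ((S : Subgroup G) : Set G) := mem_normalizer_of_conj_eq h2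
  have h4 := normalizer_le_normalizer_zc _ h3
  have h5 := mul_mem (h hc) (inv_mem h4)
  have e : c * (g⁻¹ * c)⁻¹ = g := by group
  rwa [e] at h5

omit [Finite G] in
/-- `E ≤ Z`, `E ≠ 1`: `C_G(E)` is a long group. -/
theorem isLong_centralizer {E : Subgroup G} (hE : E ≤ zc (S : Subgroup G)) (h : E ≠ ⊥) :
    IsLong (S : Subgroup G) (centralizer (E : Set G)) := by
  obtain ⟨⟨z, hz⟩, hz1⟩ := Subgroup.ne_bot_iff_exists_ne_one.1 h
  have hz1' : z ≠ 1 := fun h0 => hz1 (Subtype.ext h0)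
  have hS : (S : Subgroup G) ≤ centralizer (E : Set G) :=
    (le_centralizer_zc _).trans (centralizer_le hE)
  refine ⟨(isLoc_centralizer S (zc_sq _ z (hE hz)) hz1' (le_centralizer S (hE hz))).of_le S hS
    (centralizer_le (Set.singleton_subset_iff.2 hz)), centralizer_le hE⟩

omit [Finite G] in
/-- `P ≤ C_G(C_Z(P))` -/
theorem le_centralizer_E (P : Subgroup G) :
    P ≤ centralizer ((zc (S : Subgroup G) ⊓ centralizer (P : Set G) : Subgroup G) : Set G) := by
  rw [le_centralizer_iff]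
  exact inf_le_right

/-- If the long group `H` centralises `C_Z(P) ≠ 1`, then `[V_P, U_H] = 1`. -/
theorem comm_of_cent (hc : IsCharacteristicTwoType G) {P H : Subgroup G}
    (hE : zc (S : Subgroup G) ⊓ centralizer (P : Set G) ≠ ⊥)
    (hH : H ≤ centralizer ((zc (S : Subgroup G) ⊓ centralizer (P : Set G) : Subgroup G) : Set G)) :
    zl (S : Subgroup G) P ≤ centralizer (zl (S : Subgroup G) H : Set G) := by
  set E := zc (S : Subgroup G) ⊓ centralizer (P : Set G) with hEd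
  set K := centralizer (E : Set G) with hK
  have hL := isLong_centralizer S (E := E) inf_le_left hE
  have hmono : ∀ {A : Subgroup G}, A ≤ K → zl (S : Subgroup G) A ≤ zl (S : Subgroup G) K := fun h =>
    zl_le (zc_le_zl _ _) (h.trans (le_normalizer_zl _ _))
  exact comm_mono (zl_abel hc S hL.loc).1 (hmono (le_centralizer_E S P)) (hmono hH)

variable (hP : ∀ P : Subgroup G, IsParS (S : Subgroup G) P →
  zc (S : Subgroup G) ⊓ centralizer (P : Set G) = ⊥)
include hP

/-- **(R2)**: `C_Z(P) = 1` for all `P ∈ P*(S)`: `C_G(z) ≤ N_G(Z)` for all `z ∈ Z - 1`. -/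
theorem cent_le {z : G} (hz : z ∈ zc (S : Subgroup G)) (hz1 : z ≠ 1) :
    centralizer ({z} : Set G) ≤ normalizer (zc (S : Subgroup G) : Set G) := by
  by_contra h
  obtain ⟨P, h1, h2⟩ := (iff_exists S hz hz1).1 h
  rw [hP P h1, mem_bot] at h2
  exact hz1 h2

/-- **(R2)**: `C_Z(P) = 1` for all `P ∈ P*(S)`: `Z` is a TI-subgroup. -/
theorem ti {g : G} (h : zc (S : Subgroup G) ⊓ MulAut.conj g • zc (S : Subgroup G) ≠ ⊥) :
    g ∈ normalizer (zc (S : Subgroup G) : Set G) := by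
  obtain ⟨z, hz1⟩ := Subgroup.ne_bot_iff_exists_ne_one.1 h
  exact ti_of S (mem_inf.1 z.2).1 (mem_inf.1 z.2).2
    (cent_le S hP (mem_inf.1 z.2).1 fun h0 => hz1 (Subtype.ext h0))

end one

end Cfsg.Agent.Omega.NOThreeL.RTwo

end

section


/-!
# NO-3L, THEOREM EXACT for `q > 2` (helper850 #16366 (4)-(8), helper884 #16740 (A4a)): the abstract part

`H` acts on the elementary abelian 2-group `M` (`= U_H`), `Ax i = C_U(N_i)`, `R i = [U, N_i]`, `T i` = the image
of `N_i`, with `[u, T i] = R i` for all `u ∉ Ax i`.  Results: `AxData.exact`, `AxData.card_eq`.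
-/

set_option autoImplicit false

namespace Cfsg.Agent.Omega.NOThreeL.ThmAx

open scoped Pointwise

variable {H M : Type*} [Group H] [AddCommGroup M] [DistribMulAction H M]

/-- `r = ∑ r_i` with `r_i ∈ R i`, `r_i ≠ 0`. -/
def Full {ι : Type*} [Fintype ι] (R : ι → AddSubgroup M) (r : M) : Prop :=
  ∃ f : ι → M, (∀ i, f i ∈ R i ∧ f i ≠ 0) ∧ r = ∑ i, f i

/-- The data. -/
structure AxData {ι : Type*} [Fintype ι] (T : ι → Subgroup H) (Ax R : ι → AddSubgroup M)
    (Z : AddSubgroup M) : Prop where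
  char2 : ∀ m : M, m + m = 0
  fix : ∀ i, ∀ t ∈ T i, ∀ u ∈ Ax i, t • u = u
  quad : ∀ i, ∀ t ∈ T i, ∀ u : M, t • u - u ∈ R i
  full : ∀ i, ∀ u : M, u ∉ Ax i → ∀ r ∈ R i, ∃ t ∈ T i, t • u = u + r
  le : ∀ i j, R i ≤ Ax j
  trans : ∀ i j, ∃ s : H, s • Ax i = Ax j
  ne : ∀ i, Ax i ≠ ⊤
  card : ∀ i j, Nat.card (M ⧸ Ax j) ≤ Nat.card (R i)
  big : ∀ i, 2 < Nat.card (R i)
  zfull : ∀ z ∈ Z, z ≠ 0 → Full R z
  Z0 : Z ≠ ⊥
  two : ∀ z ∈ Z, z ≠ 0 → ∀ i, ∀ a ∈ T i, ∀ b : H, b • z = z → (∀ u : M, b • b • u = u) →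
    ∃ n : ℕ, ∀ u : M, ((b * a) ^ (2 ^ n)) • u = u
  noff : ∀ r : M, Full R r → ∀ t : H, t • r = r → ∀ z ∈ Z, ∀ i, t • z ∈ Ax i
  meet : ∀ N : AddSubgroup M, (∀ h : H, ∀ n ∈ N, h • n ∈ N) → N ≠ ⊥ → ∃ z ∈ Z, z ≠ 0 ∧ z ∈ N
  gen : ∀ N : AddSubgroup M, (∀ h : H, ∀ n ∈ N, h • n ∈ N) → Z ≤ N → N = ⊤

section defs

variable {ι : Type*} (T : ι → Subgroup H) (Ax R : ι → AddSubgroup M)

/-- `g` is an axis. -/
def IsAx (g : AddSubgroup M) : Prop := ∃ (h : H) (i : ι), h • Ax i = g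

/-- The group of the axis `g`. -/
def TT (g : AddSubgroup M) : Subgroup H :=
  Subgroup.closure {t | ∃ (h : H) (i : ι), h • Ax i = g ∧ ∃ s ∈ T i, t = h * s * h⁻¹}

variable (H) in
/-- The commutator space of the axis `g`. -/
def YY (g : AddSubgroup M) : AddSubgroup M :=
  AddSubgroup.closure {m | ∃ (h : H) (i : ι), h • Ax i = g ∧ ∃ y ∈ R i, m = h • y}

variable (H) in
/-- Adjacency. -/
def Adj (g g' : AddSubgroup M) : Prop := ¬ YY H Ax R g ≤ g'

end defs

theorem mem_smul {g : AddSubgroup M} {h : H} {u : M} : u ∈ h • g ↔ h⁻¹ • u ∈ g :=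
  AddSubgroup.mem_pointwise_smul_iff_inv_smul_mem

theorem smul_eq_of {g : AddSubgroup M} {P : Subgroup H} (key : ∀ t ∈ P, t • g ≤ g) {t : H} (ht : t ∈ P) :
    t • g = g := by
  refine le_antisymm (key t ht) fun u hu => ?_
  rw [mem_smul]
  exact key t⁻¹ (P.inv_mem ht) (AddSubgroup.smul_mem_pointwise_smul _ _ _ hu)

theorem YY_smul {ι : Type*} {Ax R : ι → AddSubgroup M} (x : H) (g : AddSubgroup M) {m : M}
    (hm : m ∈ YY H Ax R g) : x • m ∈ YY H Ax R (x • g) := by
  induction hm using AddSubgroup.closure_induction with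
  | mem m hm =>
    obtain ⟨h, i, hg, y, hy, rfl⟩ := hm
    exact AddSubgroup.subset_closure ⟨x * h, i, by rw [mul_smul, hg], y, hy, by rw [mul_smul]⟩
  | zero => rw [smul_zero]; exact AddSubgroup.zero_mem _
  | add a b _ _ ha hb => rw [smul_add]; exact AddSubgroup.add_mem _ ha hb
  | neg a _ ha => rw [smul_neg]; exact AddSubgroup.neg_mem _ ha

theorem YY_smul_eq {ι : Type*} {Ax R : ι → AddSubgroup M} (x : H) (g : AddSubgroup M) :
    YY H Ax R (x • g) = x • YY H Ax R g := by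
  apply le_antisymm
  · intro m hm
    rw [mem_smul]
    have := YY_smul x⁻¹ _ hm
    rwa [inv_smul_smul] at this
  · intro m hm
    rw [mem_smul] at hm
    have := YY_smul x _ hm
    rwa [smul_inv_smul] at this

theorem adj_smul {ι : Type*} {Ax R : ι → AddSubgroup M} (x : H) {g g' : AddSubgroup M}
    (h : Adj H Ax R g g') : Adj H Ax R (x • g) (x • g') := by
  intro h1
  apply h
  intro u hu
  have h2 := h1 (YY_smul x g hu)
  rwa [mem_smul, inv_smul_smul] at h2

theorem IsAx.smul {ι : Type*} {Ax : ι → AddSubgroup M} {g : AddSubgroup M} (h : IsAx (H := H) Ax g) (x : H) :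
    IsAx (H := H) Ax (x • g) := by
  obtain ⟨y, i, rfl⟩ := h
  exact ⟨x * y, i, mul_smul _ _ _⟩

namespace AxData

variable {ι : Type*} [Fintype ι] {T : ι → Subgroup H} {Ax R : ι → AddSubgroup M}
  {Z : AddSubgroup M} (D : AxData T Ax R Z)
include D

omit D [Fintype ι] in
theorem isAx (Ax : ι → AddSubgroup M) (i : ι) : IsAx (H := H) Ax (Ax i) := ⟨1, i, one_smul _ _⟩

theorem YY_le {g : AddSubgroup M} : YY H Ax R g ≤ g := by
  unfold YY
  rw [AddSubgroup.closure_le]
  rintro m ⟨h, i, rfl, y, hy, rfl⟩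
  exact AddSubgroup.smul_mem_pointwise_smul _ _ _ (D.le i i hy)

omit D [Fintype ι] in
theorem R_le_YY (i : ι) : R i ≤ YY H Ax R (Ax i) := fun y hy =>
  AddSubgroup.subset_closure ⟨1, i, one_smul _ _, y, hy, (one_smul _ _).symm⟩

theorem TT_fix {g : AddSubgroup M} {t : H} (ht : t ∈ TT T Ax g) {u : M} (hu : u ∈ g) : t • u = u := by
  induction ht using Subgroup.closure_induction with
  | mem t ht =>
    obtain ⟨h, i, hg, s, hs, rfl⟩ := ht
    rw [← hg, mem_smul] at hu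
    rw [mul_smul, mul_smul, D.fix i s hs _ hu, smul_inv_smul]
  | one => rw [one_smul]
  | mul a b _ _ ha hb => rw [mul_smul, hb, ha]
  | inv a _ ha => rw [inv_smul_eq_iff, ha]

theorem TT_quad {g : AddSubgroup M} {t : H} (ht : t ∈ TT T Ax g) (u : M) :
    t • u - u ∈ YY H Ax R g := by
  induction ht using Subgroup.closure_induction generalizing u with
  | mem t ht =>
    obtain ⟨h, i, hg, s, hs, rfl⟩ := ht
    have h1 := D.quad i s hs (h⁻¹ • u)
    have h2 : (h * s * h⁻¹) • u - u = h • (s • (h⁻¹ • u) - h⁻¹ • u) := by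
      rw [mul_smul, mul_smul, smul_sub, smul_inv_smul]
    rw [h2]
    exact AddSubgroup.subset_closure ⟨h, i, hg, _, h1, rfl⟩
  | one => rw [one_smul, sub_self]; exact AddSubgroup.zero_mem _
  | mul a b _ _ ha hb =>
    have h1 : (a * b) • u - u = (a • b • u - b • u) + (b • u - u) := by rw [mul_smul]; abel
    rw [h1]
    exact AddSubgroup.add_mem _ (ha _) (hb _)
  | inv a _ ha =>
    have h1 : a⁻¹ • u - u = -(a • (a⁻¹ • u) - a⁻¹ • u) := by rw [smul_inv_smul]; abel
    rw [h1]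
    exact AddSubgroup.neg_mem _ (ha _)

/-- fullness -/
theorem TT_full {g : AddSubgroup M} {u : M} (hu : u ∉ g) {y : M} (hy : y ∈ YY H Ax R g) :
    ∃ t ∈ TT T Ax g, t • u = u + y := by
  induction hy using AddSubgroup.closure_induction with
  | mem m hm =>
    obtain ⟨h, i, hg, y, hy, rfl⟩ := hm
    have h1 : h⁻¹ • u ∉ Ax i := by rwa [← mem_smul, hg]
    obtain ⟨s, hs, hsu⟩ := D.full i _ h1 y hy
    refine ⟨h * s * h⁻¹, Subgroup.subset_closure ⟨h, i, hg, s, hs, rfl⟩, ?_⟩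
    rw [mul_smul, mul_smul, hsu, smul_add, smul_inv_smul]
  | zero => exact ⟨1, Subgroup.one_mem _, by rw [one_smul, add_zero]⟩
  | add a b _ hb ha' hb' =>
    obtain ⟨t1, ht1, h1⟩ := ha'
    obtain ⟨t2, ht2, h2⟩ := hb'
    refine ⟨t1 * t2, Subgroup.mul_mem _ ht1 ht2, ?_⟩
    rw [mul_smul, h2, smul_add, h1, D.TT_fix ht1 (D.YY_le hb), add_assoc]
  | neg a ha ha' =>
    obtain ⟨t, ht, h1⟩ := ha'
    refine ⟨t⁻¹, Subgroup.inv_mem _ ht, ?_⟩
    rw [inv_smul_eq_iff, smul_add, smul_neg, h1, D.TT_fix ht (D.YY_le ha)]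
    abel

theorem TT_invol {g : AddSubgroup M} {t : H} (ht : t ∈ TT T Ax g) (u : M) : t • t • u = u := by
  have h1 := D.TT_fix ht (D.YY_le (D.TT_quad ht u))
  rw [smul_sub] at h1
  have h2 : t • t • u = (t • u + t • u) - u := by
    rw [sub_eq_iff_eq_add] at h1
    rw [h1]
    abel
  rw [h2, D.char2, zero_sub]
  exact neg_eq_of_add_eq_zero_left (D.char2 u)

theorem neg_eq (u : M) : -u = u := neg_eq_of_add_eq_zero_left (D.char2 u)

/-- axes are conjugate -/
theorem exists_smul {g g' : AddSubgroup M} (hg : IsAx (H := H) Ax g) (hg' : IsAx (H := H) Ax g') :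
    ∃ x : H, x • g = g' := by
  obtain ⟨h, i, rfl⟩ := hg
  obtain ⟨h', j, rfl⟩ := hg'
  obtain ⟨s, hs⟩ := D.trans i j
  exact ⟨h' * s * h⁻¹, by rw [mul_smul, mul_smul, inv_smul_smul, hs]⟩

theorem card_YY {g g' : AddSubgroup M} (hg : IsAx (H := H) Ax g) (hg' : IsAx (H := H) Ax g') :
    Nat.card (YY H Ax R g) = Nat.card (YY H Ax R g') := by
  obtain ⟨x, rfl⟩ := D.exists_smul hg hg'
  rw [YY_smul_eq]
  refine Nat.card_congr ⟨fun e => ⟨x • (e : M), AddSubgroup.smul_mem_pointwise_smul _ _ _ e.2⟩,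
    fun e => ⟨x⁻¹ • (e : M), mem_smul.mp e.2⟩, fun e => ?_, fun e => ?_⟩
  · ext; simp
  · ext; simp

omit D in
theorem eq_of_le' [Finite M] {a b : AddSubgroup M} (h : a ≤ b) (hc : Nat.card b ≤ Nat.card a) : a = b := by
  apply SetLike.coe_injective
  apply Set.eq_of_subset_of_ncard_le h
  exact hc

theorem smul_eq_of_not_adj {g g' : AddSubgroup M} (h : ¬ Adj H Ax R g' g) {t : H} (ht : t ∈ TT T Ax g') :
    t • g = g := by
  have hcon : YY H Ax R g' ≤ g := not_not.mp h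
  refine smul_eq_of (P := TT T Ax g') (fun t ht u hu => ?_) ht
  rw [mem_smul] at hu
  have h1 := hcon (D.TT_quad ht (t⁻¹ • u))
  have h2 := g.add_mem h1 hu
  rwa [sub_add_cancel, smul_inv_smul] at h2

theorem adj_symm [Finite M] {g g' : AddSubgroup M} (hg : IsAx (H := H) Ax g) (hg' : IsAx (H := H) Ax g')
    (h : Adj H Ax R g g') : Adj H Ax R g' g := by
  intro hcon
  -- `T_{g'}` normalises `g`
  have hn : ∀ t ∈ TT T Ax g', t • g = g := fun t ht => D.smul_eq_of_not_adj (not_not.mpr hcon) ht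
  obtain ⟨y, hy, hyg⟩ := Set.not_subset.mp h
  have h1 : YY H Ax R g' ≤ YY H Ax R g := by
    intro e he
    obtain ⟨t, ht, hte⟩ := D.TT_full hyg he
    have h2 : t • y ∈ YY H Ax R g := by
      have := YY_smul (Ax := Ax) (R := R) t g hy
      rwa [hn t ht] at this
    rw [hte] at h2
    have h3 := (YY H Ax R g).sub_mem h2 hy
    rwa [add_sub_cancel_left] at h3
  have h2 := eq_of_le' h1 (D.card_YY hg hg').le
  apply h
  rw [← h2]
  exact D.YY_le

/-- (5) -/
theorem five [Finite M] {g : AddSubgroup M} (hg : IsAx (H := H) Ax g) {z : M} (hz : z ∈ Z) (hz0 : z ≠ 0)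
    (hzg : z ∈ g) (i : ι) : R i ≤ g := by
  by_contra hcon
  obtain ⟨r, hr, hrg⟩ := Set.not_subset.mp hcon
  have h1 : Adj H Ax R (Ax i) g := fun h => hcon ((R_le_YY i).trans h)
  obtain ⟨u, hu, hui⟩ := Set.not_subset.mp (D.adj_symm (isAx Ax i) hg h1)
  obtain ⟨b, hb, hbr⟩ := D.TT_full hrg hu
  obtain ⟨a, ha, hau⟩ := D.full i u hui r hr
  have hbz : b • z = z := D.TT_fix hb hzg
  obtain ⟨n, hn⟩ := D.two z hz hz0 i a ha b hbz (D.TT_invol hb)
  have hbu : b • u = u := D.TT_fix hb (D.YY_le hu)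
  have har : a • r = r := D.fix i a ha r (D.le i i hr)
  have hr0 : r ≠ 0 := fun h => hrg (h ▸ g.zero_mem)
  -- `ba : r ↦ r + u ↦ u ↦ ...`
  set k : H := b * a with hk
  have e1 : k • r = r + u := by rw [hk, mul_smul, har, hbr]
  have e2 : k • u = r := by
    rw [hk, mul_smul, hau, smul_add, hbu, hbr, ← add_assoc, add_comm u r, add_assoc, D.char2, add_zero]
  have e3 : k • (r + u) = u := by
    rw [smul_add, e1, e2, add_comm r u, add_assoc, D.char2, add_zero]
  have h3 : (k ^ 3) • r = r := by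
    rw [pow_succ, pow_succ, pow_one, mul_smul, mul_smul, e1, e3, e2]
  have h4 : MulAction.period k r ∣ 3 := MulAction.pow_smul_eq_iff_period_dvd.mp h3
  have h5 : MulAction.period k r ∣ 2 ^ n := MulAction.pow_smul_eq_iff_period_dvd.mp (hn r)
  have h6 : MulAction.period k r ∣ 1 := by
    have h7 : Nat.Coprime 3 (2 ^ n) := Nat.Coprime.pow_right n (by decide)
    have h8 := Nat.dvd_gcd h4 h5
    rwa [h7] at h8
  have h7 : (k ^ 1) • r = r := MulAction.pow_smul_eq_iff_period_dvd.mpr h6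
  rw [pow_one, e1] at h7
  have h8 : u = 0 := by simpa using h7
  exact hui (h8 ▸ (Ax i).zero_mem)

theorem Z_le_of {g : AddSubgroup M} (h : ∀ i, R i ≤ g) : Z ≤ g := by
  intro z hz
  by_cases h0 : z = 0
  · rw [h0]; exact g.zero_mem
  · obtain ⟨f, hf, rfl⟩ := D.zfull z hz h0
    exact g.sum_mem fun i _ => h i (hf i).1

theorem exists_z : ∃ z ∈ Z, z ≠ 0 := by
  by_contra hcon
  push Not at hcon
  apply D.Z0
  rw [eq_bot_iff]
  intro z hz
  exact AddSubgroup.mem_bot.mpr (hcon z hz)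

theorem five' [Finite M] {g : AddSubgroup M} (hg : IsAx (H := H) Ax g) (hZ : Z ≤ g) (i : ι) : R i ≤ g := by
  obtain ⟨z, hz, hz0⟩ := D.exists_z
  exact D.five hg hz hz0 (hZ hz) i

theorem five'' [Finite M] {g : AddSubgroup M} (hg : IsAx (H := H) Ax g) (t : H) (hZ : t • Z ≤ g) (i : ι) :
    t • R i ≤ g := by
  have h1 : Z ≤ t⁻¹ • g := fun z hz => by
    rw [mem_smul, inv_inv]
    exact hZ (AddSubgroup.smul_mem_pointwise_smul _ _ _ hz)
  have h2 := D.five' (hg.smul t⁻¹) h1 i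
  intro r hr
  rw [mem_smul] at hr
  have h3 := h2 hr
  rwa [mem_smul, inv_inv, smul_inv_smul] at h3

theorem Z_le_Ax (i : ι) : Z ≤ Ax i := D.Z_le_of fun j => D.le j i

theorem card_quot {g : AddSubgroup M} (hg : IsAx (H := H) Ax g) (i : ι) :
    Nat.card (M ⧸ g) = Nat.card (M ⧸ Ax i) := by
  obtain ⟨x, rfl⟩ := D.exists_smul (isAx Ax i) hg
  exact (Nat.card_congr (QuotientAddGroup.congr (Ax i) (x • Ax i) (DistribMulAction.toAddEquiv M x)
    rfl).toEquiv).symm

/-- the common part of all axes is trivial -/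
theorem exists_not_mem [Finite M] {u : M} (hu : u ≠ 0) : ∃ g, IsAx (H := H) Ax g ∧ u ∉ g := by
  by_contra hcon
  push Not at hcon
  let N : AddSubgroup M :=
    { carrier := {m | ∀ g, IsAx (H := H) Ax g → m ∈ g}
      zero_mem' := fun g _ => g.zero_mem
      add_mem' := fun {a b} ha hb g hg => g.add_mem (ha g hg) (hb g hg)
      neg_mem' := fun {a} ha g hg => g.neg_mem (ha g hg) }
  have hNi : ∀ h : H, ∀ n ∈ N, h • n ∈ N := by
    intro h n hn g hg
    have h1 := hn (h⁻¹ • g) (hg.smul h⁻¹)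
    rw [mem_smul, inv_inv] at h1
    exact h1
  have hN : N ≠ ⊥ := fun h => hu (AddSubgroup.mem_bot.mp (h ▸ (show u ∈ N from hcon)))
  obtain ⟨z, hz, hz0, hzN⟩ := D.meet N hNi hN
  have h1 : ∀ i, R i ≤ N := fun i r hr g hg => D.five hg hz hz0 (hzN g hg) i hr
  have h2 := D.gen N hNi (D.Z_le_of h1)
  obtain ⟨f, hf, hzf⟩ := D.zfull z hz hz0
  have hι : Nonempty ι := by
    by_contra hne
    rw [not_nonempty_iff] at hne
    apply hz0
    rw [hzf, Finset.univ_eq_empty, Finset.sum_empty]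
  obtain ⟨i⟩ := hι
  apply D.ne i
  rw [eq_top_iff]
  intro m _
  have : m ∈ N := by rw [h2]; trivial
  exact this _ (isAx Ax i)

/-- (6) -/
theorem six [Finite M] {g : AddSubgroup M} (hg : IsAx (H := H) Ax g) (hZ : ¬ Z ≤ g) {r : M}
    (hr : Full R r) (hrg : r ∈ g) : False := by
  obtain ⟨z, hz, hzg⟩ := Set.not_subset.mp hZ
  have hz0 : z ≠ 0 := fun h => hzg (h ▸ g.zero_mem)
  have h1 : ∀ i, YY H Ax R g ≤ Ax i := by
    intro i y hy
    obtain ⟨t, ht, hty⟩ := D.TT_full hzg hy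
    have h2 := D.noff r hr t (D.TT_fix ht hrg) z hz i
    rw [hty] at h2
    have h3 := (Ax i).sub_mem h2 (D.Z_le_Ax i hz)
    rwa [add_sub_cancel_left] at h3
  obtain ⟨f, hf, hzf⟩ := D.zfull z hz hz0
  have h2 : ∃ i, f i ∉ g := by
    by_contra hcon
    push Not at hcon
    apply hzg
    change z ∈ g
    rw [hzf]
    exact g.sum_mem fun i _ => hcon i
  obtain ⟨i, hi⟩ := h2
  have h3 : Adj H Ax R (Ax i) g := fun h => hi (h (R_le_YY i (hf i).1))
  exact D.adj_symm (isAx Ax i) hg h3 (h1 i)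

theorem six' [Finite M] {g : AddSubgroup M} (hg : IsAx (H := H) Ax g) (t : H) (hZ : ¬ t • Z ≤ g) {r : M}
    (hr : Full R r) (hrg : t • r ∈ g) : False := by
  refine D.six (hg.smul t⁻¹) (fun h => hZ ?_) hr ?_
  · intro z hz
    rw [mem_smul] at hz
    have h3 := h hz
    rwa [mem_smul, inv_inv, smul_inv_smul] at h3
  · rw [mem_smul, inv_inv]
    exact hrg

theorem ne_zero_of_big (i : ι) (r : M) : ∃ c ∈ R i, c ≠ 0 ∧ c ≠ r := by
  classical
  by_contra hcon
  push Not at hcon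
  have h1 : ((R i : AddSubgroup M) : Set M) ⊆ ({0, r} : Set M) := by
    intro c hc
    by_cases h0 : c = 0
    · exact Or.inl h0
    · exact Or.inr (hcon c hc h0)
  have h2 : Nat.card (R i) ≤ 2 := by
    have h3 := Set.ncard_le_ncard h1 (Set.toFinite _)
    have h4 : ({0, r} : Set M).ncard ≤ 2 := by
      have h5 := Set.ncard_insert_le (0 : M) {r}
      rwa [Set.ncard_singleton] at h5
    exact h3.trans h4
  exact absurd (D.big i) (by omega)

/-- (7), first part -/
theorem seven [Finite M] {g : AddSubgroup M} (hg : IsAx (H := H) Ax g) (hZ : ¬ Z ≤ g) :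
    ∃ i, ∀ r ∈ R i, r ∈ g → r = 0 := by
  by_contra hcon
  push Not at hcon
  choose f h1 h2 h3 using hcon
  exact D.six hg hZ ⟨f, fun i => ⟨h1 i, h3 i⟩, rfl⟩ (g.sum_mem fun i _ => h2 i)

theorem inj_surj [Finite M] {g : AddSubgroup M} (hg : IsAx (H := H) Ax g) {i : ι}
    (h : ∀ r ∈ R i, r ∈ g → r = 0) :
    Nat.card (M ⧸ g) = Nat.card (R i) ∧ ∀ u : M, ∃ r ∈ R i, r + u ∈ g := by
  let φ : R i → M ⧸ g := fun r => QuotientAddGroup.mk (r : M)
  have hinj : Function.Injective φ := by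
    intro a b hab
    have h1 : -(a : M) + b ∈ g := QuotientAddGroup.eq.mp hab
    have h2 := h _ ((R i).add_mem ((R i).neg_mem a.2) b.2) h1
    exact Subtype.ext (neg_add_eq_zero.mp h2)
  have hbij : Function.Bijective φ := by
    refine hinj.bijective_of_nat_card_le ?_
    rw [D.card_quot hg i]
    exact D.card i i
  refine ⟨(Nat.card_congr (Equiv.ofBijective φ hbij)).symm, fun u => ?_⟩
  obtain ⟨r, hr⟩ := hbij.2 (QuotientAddGroup.mk u)
  have h1 : -(r : M) + u ∈ g := QuotientAddGroup.eq.mp hr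
  rw [D.neg_eq] at h1
  exact ⟨r, r.2, h1⟩

/-- (7), second part -/
theorem others [Finite M] {g : AddSubgroup M} (hg : IsAx (H := H) Ax g) (hZ : ¬ Z ≤ g) {i : ι}
    (h : ∀ r ∈ R i, r ∈ g → r = 0) {l : ι} (hl : l ≠ i) : R l ≤ g := by
  classical
  -- nonzero vectors
  have hx : ∀ m, ∃ x ∈ R m, x ≠ 0 := fun m => by
    obtain ⟨c, hc, hc0, -⟩ := D.ne_zero_of_big m 0
    exact ⟨c, hc, hc0⟩
  choose x hxR hx0 using hx
  obtain ⟨-, hs⟩ := D.inj_surj hg h
  let ρ : M → M := fun d => d + ∑ m ∈ (Finset.univ.erase l).erase i, x m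
  have key : ∀ d ∈ R l, d ≠ 0 → ρ d ∈ g := by
    intro d hd hd0
    obtain ⟨s, hsR, hsg⟩ := hs (ρ d)
    by_cases hs0 : s = 0
    · rwa [hs0, zero_add] at hsg
    · exfalso
      refine D.six hg hZ ⟨fun m => if m = i then s else if m = l then d else x m, fun m => ?_, ?_⟩ hsg
      · by_cases h1 : m = i
        · subst h1; simp only [if_true]; exact ⟨hsR, hs0⟩
        · by_cases h2 : m = l
          · subst h2; simp only [if_neg h1, if_true]; exact ⟨hd, hd0⟩
          · simp only [if_neg h1, if_neg h2]; exact ⟨hxR m, hx0 m⟩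
      · have hiu : i ∈ Finset.univ.erase l := Finset.mem_erase.mpr ⟨hl.symm, Finset.mem_univ _⟩
        rw [← Finset.add_sum_erase Finset.univ _ (Finset.mem_univ l), ← Finset.add_sum_erase _ _ hiu]
        simp only [if_true, if_neg hl]
        have h1 : ∑ m ∈ (Finset.univ.erase l).erase i, (if m = i then s else if m = l then d else x m)
            = ∑ m ∈ (Finset.univ.erase l).erase i, x m := by
          refine Finset.sum_congr rfl fun m hm => ?_
          rw [Finset.mem_erase, Finset.mem_erase] at hm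
          rw [if_neg hm.1, if_neg hm.2.1]
        rw [h1]
        change s + (d + _) = d + (s + _)
        abel
  intro r hr
  by_cases hr0 : r = 0
  · rw [hr0]; exact g.zero_mem
  obtain ⟨c, hc, hc0, hcr⟩ := D.ne_zero_of_big l r
  have h1 := key c hc hc0
  have h2 := key (c + r) ((R l).add_mem hc hr) (fun h0 => hcr (by
    rw [← D.neg_eq r]; exact eq_neg_of_add_eq_zero_left h0))
  have h3 := g.sub_mem h2 h1
  have h4 : ρ (c + r) - ρ c = r := by
    change (c + r + _) - (c + _) = r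
    abel
  rwa [h4] at h3

/-- (7): the axes not containing `R i`. -/
theorem spec [Finite M] {g : AddSubgroup M} (hg : IsAx (H := H) Ax g) {i : ι} (hi : ¬ R i ≤ g) :
    (¬ Z ≤ g) ∧ (∀ l, l ≠ i → R l ≤ g) ∧ Nat.card (M ⧸ g) = Nat.card (R i) ∧
      (∀ u : M, ∃ r ∈ R i, r + u ∈ g) := by
  have hZ : ¬ Z ≤ g := fun h => hi (D.five' hg h i)
  obtain ⟨j, hj⟩ := D.seven hg hZ
  have hji : j = i := by
    by_contra hne
    exact hi (D.others hg hZ hj (fun h => hne h.symm))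
  subst hji
  exact ⟨hZ, fun l hl => D.others hg hZ hj hl, D.inj_surj hg hj⟩

theorem exists_index [Finite M] {g : AddSubgroup M} (hZ : ¬ Z ≤ g) : ∃ i, ¬ R i ≤ g := by
  by_contra hcon
  push Not at hcon
  exact hZ (D.Z_le_of hcon)

/-- (8), no edges between different `NN`. -/
theorem eight [Finite M] {g g' : AddSubgroup M} (hg : IsAx (H := H) Ax g) (hg' : IsAx (H := H) Ax g')
    {i j : ι} (hi : ¬ R i ≤ g) (hj : ¬ R j ≤ g') (hij : i ≠ j) : ¬ Adj H Ax R g g' := by
  classical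
  intro hadj
  obtain ⟨y, hy, hyg⟩ := Set.not_subset.mp hadj
  obtain ⟨-, h1, -, -⟩ := D.spec hg hi
  obtain ⟨-, h2, -, h3⟩ := D.spec hg' hj
  obtain ⟨s, hsR, hsg⟩ := h3 y
  have hs0 : s ≠ 0 := by
    rintro rfl
    rw [zero_add] at hsg
    exact hyg hsg
  obtain ⟨a, haR, hag⟩ := Set.not_subset.mp hi
  have ha0 : a ≠ 0 := fun h => hag (h ▸ g.zero_mem)
  obtain ⟨t, ht, hta⟩ := D.TT_full hag hy
  have hx : ∀ m, ∃ x ∈ R m, x ≠ 0 := fun m => by
    obtain ⟨c, hc, hc0, -⟩ := D.ne_zero_of_big m 0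
    exact ⟨c, hc, hc0⟩
  choose x hxR hx0 using hx
  let f : ι → M := fun m => if m = i then a else if m = j then s else x m
  have hfi : f i = a := if_pos rfl
  have hfj : f j = s := by
    change (if j = i then a else if j = j then s else x j) = s
    rw [if_neg hij.symm, if_pos rfl]
  have hf : ∀ m, f m ∈ R m ∧ f m ≠ 0 := by
    intro m
    by_cases e1 : m = i
    · subst e1; rw [hfi]; exact ⟨haR, ha0⟩
    · by_cases e2 : m = j
      · subst e2; rw [hfj]; exact ⟨hsR, hs0⟩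
      · have : f m = x m := by
          change (if m = i then a else if m = j then s else x m) = x m
          rw [if_neg e1, if_neg e2]
        rw [this]
        exact ⟨hxR m, hx0 m⟩
  have hsum : t • (∑ m, f m) = (∑ m ∈ Finset.univ.erase j, f m) + (s + y) := by
    rw [← Finset.add_sum_erase Finset.univ f (Finset.mem_univ i), smul_add, hfi, hta, Finset.smul_sum]
    have e1 : ∑ m ∈ Finset.univ.erase i, t • f m = ∑ m ∈ Finset.univ.erase i, f m := by
      refine Finset.sum_congr rfl fun m hm => ?_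
      rw [Finset.mem_erase] at hm
      exact D.TT_fix ht (h1 m hm.1 (hf m).1)
    rw [e1]
    have e2 : a + ∑ m ∈ Finset.univ.erase i, f m = s + ∑ m ∈ Finset.univ.erase j, f m := by
      rw [← hfi, Finset.add_sum_erase Finset.univ f (Finset.mem_univ i), ← hfj,
        Finset.add_sum_erase Finset.univ f (Finset.mem_univ j)]
    have e3 : a + y + ∑ m ∈ Finset.univ.erase i, f m = (a + ∑ m ∈ Finset.univ.erase i, f m) + y := by abel
    rw [e3, e2]
    abel
  have hmem : t • (∑ m, f m) ∈ g' := by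
    rw [hsum]
    refine g'.add_mem (g'.sum_mem fun m hm => ?_) hsg
    rw [Finset.mem_erase] at hm
    exact h2 m hm.1 (hf m).1
  have hZ : t • Z ≤ g' := by
    by_contra hZ
    exact D.six' hg' t hZ ⟨f, hf, rfl⟩ hmem
  have h4 := D.five'' hg' t hZ j
  apply hj
  intro r hr
  have h5 := h4 (AddSubgroup.smul_mem_pointwise_smul _ t _ hr)
  rwa [D.TT_fix ht (h1 j hij.symm hr)] at h5

omit D in
/-- the union of components `CC i` -/
def CC (H : Type*) [Group H] {M : Type*} [AddCommGroup M] [DistribMulAction H M] {ι : Type*}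
    (Ax R : ι → AddSubgroup M) (Z : AddSubgroup M) (i : ι) (g : AddSubgroup M) : Prop :=
  IsAx (H := H) Ax g ∧ (¬ R i ≤ g ∨ (Z ≤ g ∧ ∃ g2, IsAx (H := H) Ax g2 ∧ ¬ R i ≤ g2 ∧ Adj H Ax R g g2))

/-- `CC i` is closed under adjacency -/
theorem CC_adj [Finite M] {i : ι} {g g' : AddSubgroup M} (h : CC H Ax R Z i g) (hg' : IsAx (H := H) Ax g')
    (hadj : Adj H Ax R g g') : CC H Ax R Z i g' := by
  obtain ⟨hg, h⟩ := h
  have hadj' := D.adj_symm hg hg' hadj
  refine ⟨hg', ?_⟩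
  rcases h with h | ⟨hZ, g2, hg2, hi2, ha2⟩
  · by_cases hZ' : Z ≤ g'
    · exact Or.inr ⟨hZ', g, hg, h, hadj'⟩
    · left
      obtain ⟨j, hj⟩ := D.exists_index hZ'
      by_cases hij : i = j
      · rwa [hij]
      · exact absurd hadj (D.eight hg hg' h hj hij)
  · -- move `g` into `NN i`
    obtain ⟨hZ2, hl2, -, -⟩ := D.spec hg2 hi2
    obtain ⟨z, hz, hz2⟩ := Set.not_subset.mp hZ2
    obtain ⟨y, hy, hyg⟩ := Set.not_subset.mp (D.adj_symm hg hg2 ha2)
    obtain ⟨t, ht, htz⟩ := D.TT_full hz2 hy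
    have hz1 : ¬ Z ≤ t⁻¹ • g := by
      intro h1
      have h2 := h1 hz
      rw [mem_smul, inv_inv, htz] at h2
      have h3 := g.sub_mem h2 (hZ hz)
      rw [add_sub_cancel_left] at h3
      exact hyg h3
    have hg1 : IsAx (H := H) Ax (t⁻¹ • g) := hg.smul _
    have hi1 : ¬ R i ≤ t⁻¹ • g := by
      obtain ⟨j, hj⟩ := D.exists_index hz1
      by_cases hij : j = i
      · rwa [← hij]
      · exfalso
        apply hj
        intro r hr
        rw [mem_smul, inv_inv, D.TT_fix ht (hl2 j hij hr)]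
        exact D.five' hg hZ j hr
    -- a neighbour `g'` with `g'` not adjacent to `g2` is fixed by `t`
    have hfix : ¬ Adj H Ax R g2 g' → Adj H Ax R (t⁻¹ • g) g' := by
      intro h1
      have h2 := D.smul_eq_of_not_adj h1 (Subgroup.inv_mem _ ht)
      have h3 := adj_smul t⁻¹ hadj
      rwa [h2] at h3
    by_cases hZ' : Z ≤ g'
    · right
      refine ⟨hZ', ?_⟩
      by_cases h1 : Adj H Ax R g2 g'
      · exact ⟨g2, hg2, hi2, D.adj_symm hg2 hg' h1⟩
      · exact ⟨t⁻¹ • g, hg1, hi1, D.adj_symm hg1 hg' (hfix h1)⟩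
    · left
      obtain ⟨j, hj⟩ := D.exists_index hZ'
      by_cases hij : i = j
      · rwa [hij]
      · exact absurd (hfix (D.eight hg2 hg' hi2 hj hij)) (D.eight hg1 hg' hi1 hj hij)

theorem CC_disj [Finite M] {i j : ι} {g : AddSubgroup M} (hi : CC H Ax R Z i g) (hj : CC H Ax R Z j g) :
    i = j := by
  by_contra hij
  rcases hj.2 with h2 | ⟨hZ, g3, hg3, hi3, ha3⟩
  · rcases hi.2 with h1 | ⟨hZ, -⟩
    · exact h2 ((D.spec hi.1 h1).2.1 j (fun h => hij h.symm))
    · exact h2 (D.five' hi.1 hZ j)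
  · have h1 := D.CC_adj hi hg3 ha3
    rcases h1.2 with h2 | ⟨hZ3, -⟩
    · exact hi3 ((D.spec hg3 h2).2.1 j (fun h => hij h.symm))
    · exact hi3 (D.five' hg3 hZ3 j)

theorem exists_NN [Finite M] (i : ι) : ∃ g, IsAx (H := H) Ax g ∧ ¬ R i ≤ g := by
  obtain ⟨c, hc, hc0, -⟩ := D.ne_zero_of_big i 0
  obtain ⟨g, hg, hcg⟩ := D.exists_not_mem hc0
  exact ⟨g, hg, fun h => hcg (h hc)⟩

theorem CC_self [Finite M] (i : ι) : CC H Ax R Z i (Ax i) := by
  refine ⟨isAx Ax i, Or.inr ⟨D.Z_le_Ax i, ?_⟩⟩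
  obtain ⟨g, hg, hi⟩ := D.exists_NN i
  exact ⟨g, hg, hi, fun h => hi ((R_le_YY i).trans h)⟩

theorem card_eq [Finite M] (i j : ι) : Nat.card (M ⧸ Ax j) = Nat.card (R i) := by
  obtain ⟨g, hg, hi⟩ := D.exists_NN i
  rw [← (D.spec hg hi).2.2.1, D.card_quot hg j]

/-- **THEOREM EXACT**, abstract form. -/
theorem exact [Finite M] (i : ι) (u : M) : ∃ v : M, (∀ l, l ≠ i → v ∈ Ax l) ∧ v + u ∈ Ax i := by
  obtain ⟨g, hg, hi⟩ := D.exists_NN i
  have h1 : Adj H Ax R (Ax i) g := fun h => hi ((R_le_YY i).trans h)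
  have h2 := D.adj_symm (isAx Ax i) hg h1
  -- a conjugate of some `R j` in `YY g`, not contained in `Ax i`
  have h3 : ∃ (h : H) (j : ι), h • Ax j = g ∧ ¬ h • R j ≤ Ax i := by
    by_contra hcon
    push Not at hcon
    apply h2
    unfold YY
    rw [AddSubgroup.closure_le]
    rintro m ⟨h, j, hg, y, hy, rfl⟩
    exact hcon h j hg (AddSubgroup.smul_mem_pointwise_smul _ _ _ hy)
  obtain ⟨h, j, hgj, hj⟩ := h3
  have h4 : ¬ R j ≤ h⁻¹ • Ax i := by
    intro h5
    apply hj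
    intro m hm
    rw [mem_smul] at hm
    have h6 := h5 hm
    rwa [mem_smul, inv_inv, smul_inv_smul] at h6
  obtain ⟨-, -, -, h5⟩ := D.spec ((isAx Ax i).smul h⁻¹) h4
  obtain ⟨r, hr, hru⟩ := h5 (h⁻¹ • u)
  refine ⟨h • r, fun l hl => ?_, ?_⟩
  · have h6 : h • r ∈ YY H Ax R g := AddSubgroup.subset_closure ⟨h, j, hgj, r, hr, rfl⟩
    by_contra h7
    have h8 : Adj H Ax R g (Ax l) := fun h => h7 (h h6)
    have h9 := D.CC_adj (i := i) ⟨hg, Or.inl hi⟩ (isAx Ax l) h8
    exact hl (D.CC_disj (D.CC_self l) h9)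
  · rw [mem_smul, inv_inv, smul_add, smul_inv_smul] at hru
    exact hru

end AxData

end Cfsg.Agent.Omega.NOThreeL.ThmAx

end

section


/-!
# NO-3L, box R, case (A), `q > 2` (#19602, helper797): (F'), the graph of axes, (P), (M), (2)

`AxSys A TT YY` : `H` acts on the finite elementary abelian 2-group `M`; `A` is a set of subgroups ("axes") of `M`,
permuted transitively by `H`; `TT g` centralises `g`, `[M, TT g] ≤ YY g ≤ g`, and `[u, TT g] = YY g` for `u ∉ g`.
`g ~ g'` if `YY g ≰ g'`.  For a component `c = Cp K`: `N_c = NC K`, `U_c = UC K`.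

Let `z` be fixed by a Sylow 2-subgroup of `H`, `H = N C_H(z)`, and not fixed by `N`.  Then:
* `Sit.inf` : `u ∈ U_c` and `u ∈ g` for all `g ∈ c` implies `u = 0`;
* `Sit.orbit` : the `N_c`-orbit of `z` is `(z + U_c) - I_c`;
* `Sit.mem` : `z ∈ U_c + I_c`; **`Sit.trans`** : `N_c` is transitive on `U_c - {0}`;
* `Sit.mem_all` : `z ∈ [M, N] + C_M(N)`.
-/

set_option autoImplicit false
set_option linter.unusedSectionVars false

namespace Cfsg.Agent.Omega.NOThreeL.RBig.Trans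

open Subgroup
open Cfsg.Agent.Omega.NOThreeL.ThmAx (mem_smul smul_eq_of)
open scoped Pointwise

variable {H M : Type*} [Group H] [AddCommGroup M] [DistribMulAction H M]

/-- The axis system. -/
structure AxSys (A : Set (AddSubgroup M)) (TT : AddSubgroup M → Subgroup H) (YY : AddSubgroup M → AddSubgroup M) :
    Prop where
  char2 : ∀ m : M, m + m = 0
  inv : ∀ x : H, ∀ g ∈ A, x • g ∈ A
  conjT : ∀ x : H, ∀ g ∈ A, ∀ t ∈ TT g, x * t * x⁻¹ ∈ TT (x • g)
  conjY : ∀ x : H, ∀ g ∈ A, YY (x • g) = x • YY g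
  le : ∀ g ∈ A, YY g ≤ g
  fix : ∀ g ∈ A, ∀ t ∈ TT g, ∀ u ∈ g, t • u = u
  quad : ∀ g ∈ A, ∀ t ∈ TT g, ∀ u : M, t • u + u ∈ YY g
  full : ∀ g ∈ A, ∀ u : M, u ∉ g → ∀ y ∈ YY g, ∃ t ∈ TT g, t • u = u + y
  symm : ∀ g ∈ A, ∀ g' ∈ A, ¬ YY g ≤ g' → ¬ YY g' ≤ g
  big : ∀ g ∈ A, ∀ r : M, ∃ s ∈ YY g, s ≠ 0 ∧ s ≠ r
  trans : ∀ g ∈ A, ∀ g' ∈ A, ∃ x : H, x • g = g'

section defs

variable (A : Set (AddSubgroup M)) (TT : AddSubgroup M → Subgroup H) (YY : AddSubgroup M → AddSubgroup M)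

/-- a walk of length `n` -/
inductive Walk : ℕ → AddSubgroup M → AddSubgroup M → Prop
  | zero (g : AddSubgroup M) (hg : g ∈ A) : Walk 0 g g
  | step {n : ℕ} {k g g' : AddSubgroup M} (h : Walk n k g) (hg' : g' ∈ A) (ha : ¬ YY g ≤ g') : Walk (n + 1) k g'

/-- the component of `K` -/
def Cp (K : AddSubgroup M) : Set (AddSubgroup M) := {g | ∃ n, Walk A YY n K g}

/-- `N_c` -/
def NC (K : AddSubgroup M) : Subgroup H := ⨆ g ∈ Cp A YY K, TT g

/-- `U_c` -/
def UC (K : AddSubgroup M) : AddSubgroup M := ⨆ g ∈ Cp A YY K, YY g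

/-- `N` -/
def NN : Subgroup H := ⨆ g ∈ A, TT g

end defs

namespace AxSys

variable {A : Set (AddSubgroup M)} {TT : AddSubgroup M → Subgroup H} {YY : AddSubgroup M → AddSubgroup M}
  (D : AxSys A TT YY) {g g' K : AddSubgroup M}
include D

theorem neg_eq (u : M) : -u = u := neg_eq_of_add_eq_zero_left (D.char2 u)

theorem add_add_self (u v : M) : u + v + v = u := by rw [add_assoc, D.char2, add_zero]

theorem mem_iff (hg : g ∈ A) {u : M} : u ∈ g ↔ ∀ t ∈ TT g, t • u = u := by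
  constructor
  · exact fun hu t ht => D.fix g hg t ht u hu
  · intro h
    by_contra hu
    obtain ⟨s, hs, hs0, -⟩ := D.big g hg 0
    obtain ⟨t, ht, htu⟩ := D.full g hg u hu s hs
    rw [h t ht] at htu
    exact hs0 (left_eq_add.1 htu)

/-- `g' ≁ g`: `T_{g'}` normalises `g` -/
theorem smul_eq (hg' : g' ∈ A) (h : YY g' ≤ g) {t : H} (ht : t ∈ TT g') : t • g = g := by
  refine smul_eq_of (P := TT g') (fun t ht u hu => ?_) ht
  rw [mem_smul] at hu
  have h1 := h (D.quad g' hg' t ht (t⁻¹ • u))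
  have h2 := g.add_mem h1 hu
  rwa [D.add_add_self, smul_inv_smul] at h2

theorem self_smul (hg : g ∈ A) {t : H} (ht : t ∈ TT g) : t • g = g := D.smul_eq hg (D.le g hg) ht

theorem walk_mem {n : ℕ} (hK : K ∈ A) (h : Walk A YY n K g) : g ∈ A := by
  cases h with
  | zero => exact hK
  | step _ hg' _ => exact hg'

theorem walk_mem' {n : ℕ} (h : Walk A YY n K g) : K ∈ A ∧ g ∈ A := by
  induction h with
  | zero g hg => exact ⟨hg, hg⟩
  | step _ hg' _ ih => exact ⟨ih.1, hg'⟩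

theorem walk_smul (x : H) {n : ℕ} (h : Walk A YY n K g) : Walk A YY n (x • K) (x • g) := by
  induction h with
  | zero g hg => exact Walk.zero _ (D.inv x _ hg)
  | step h' hg' ha ih =>
    refine Walk.step ih (D.inv x _ hg') fun h1 => ha fun u hu => ?_
    have h2 := (D.walk_mem' h').2
    rw [D.conjY x _ h2] at h1
    have h3 := h1 (AddSubgroup.smul_mem_pointwise_smul u x _ hu)
    rwa [mem_smul, inv_smul_smul] at h3

omit D in
theorem walk_trans {m n : ℕ} (h1 : Walk A YY m K g) (h2 : Walk A YY n g g') : Walk A YY (m + n) K g' := by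
  induction h2 with
  | zero g hg => exact h1
  | step _ hg' ha ih => exact Walk.step (ih h1) hg' ha

theorem walk_symm {n : ℕ} (h : Walk A YY n K g) : ∃ m, Walk A YY m g K := by
  induction h with
  | zero g hg => exact ⟨0, Walk.zero _ hg⟩
  | @step n k g g' h' hg' ha ih =>
    obtain ⟨m, hm⟩ := ih
    have h2 := (D.walk_mem' h').2
    exact ⟨_, walk_trans (Walk.step (Walk.zero _ hg') h2 (D.symm _ h2 _ hg' ha)) hm⟩

theorem mem_A (h : g ∈ Cp A YY K) : g ∈ A := by
  obtain ⟨n, hn⟩ := h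
  exact (D.walk_mem' hn).2

omit D in
theorem self_mem (hK : K ∈ A) : K ∈ Cp A YY K := ⟨0, Walk.zero _ hK⟩

theorem Cp_eq (h : g ∈ Cp A YY K) : Cp A YY g = Cp A YY K := by
  obtain ⟨n, hn⟩ := h
  obtain ⟨m, hm⟩ := D.walk_symm hn
  ext k
  constructor
  · rintro ⟨l, hl⟩
    exact ⟨_, walk_trans hn hl⟩
  · rintro ⟨l, hl⟩
    exact ⟨_, walk_trans hm hl⟩

omit D in
theorem adj_mem (hK : K ∈ A) (hg : g ∈ A) (h : ¬ YY K ≤ g) : g ∈ Cp A YY K :=
  ⟨1, Walk.step (Walk.zero _ hK) hg h⟩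

theorem le_of_not_mem (hK : K ∈ A) (hg : g ∈ A) (h : g ∉ Cp A YY K) : YY K ≤ g := by
  by_contra h1
  exact h (adj_mem hK hg h1)

theorem smul_Cp (x : H) : Cp A YY (x • K) = {g | x⁻¹ • g ∈ Cp A YY K} := by
  ext g
  constructor
  · rintro ⟨n, hn⟩
    have h1 := D.walk_smul x⁻¹ hn
    rw [inv_smul_smul] at h1
    exact ⟨n, h1⟩
  · rintro ⟨n, hn⟩
    have h1 := D.walk_smul x hn
    rw [smul_inv_smul] at h1
    exact ⟨n, h1⟩

/-- `N` fixes the components -/
theorem NN_Cp (hK : K ∈ A) {n : H} (hn : n ∈ NN A TT) : n • K ∈ Cp A YY K := by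
  -- the set of `n` fixing all components
  have key : ∀ n ∈ NN A TT, ∀ K ∈ A, n • K ∈ Cp A YY K := by
    let X : Subgroup H :=
      { carrier := {n | ∀ K ∈ A, n • K ∈ Cp A YY K}
        one_mem' := fun K hK => by
          rw [one_smul]
          exact self_mem hK
        mul_mem' := fun {a b} ha hb K hK => by
          have h1 := ha _ (D.inv b K hK)
          rw [← mul_smul, D.Cp_eq (hb K hK)] at h1
          exact h1
        inv_mem' := fun {a} ha K hK => by
          have h1 := ha _ (D.inv a⁻¹ K hK)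
          rw [smul_inv_smul] at h1
          rw [D.Cp_eq h1]
          exact self_mem (D.inv a⁻¹ K hK) }
    have h : NN A TT ≤ X := iSup₂_le fun g hg t ht K hK => by
      by_cases h1 : YY g ≤ K
      · rw [D.smul_eq hg h1 ht]
        exact self_mem hK
      · have h2 := D.symm _ hg _ hK h1
        have h3 : ¬ YY g ≤ t • K := fun h3 => h1 fun u hu => by
          have h4 := h3 (show t • u ∈ YY g from ?_)
          · rwa [mem_smul, inv_smul_smul] at h4
          · have h5 := D.conjY t g hg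
            rw [D.self_smul hg ht] at h5
            rw [h5]
            exact AddSubgroup.smul_mem_pointwise_smul u t _ hu
        exact ⟨_, Walk.step (Walk.step (Walk.zero _ hK) hg h2) (D.inv t K hK) h3⟩
    exact fun n hn => h hn
  exact key n hn K hK

theorem TT_le_NC (h : g ∈ Cp A YY K) : TT g ≤ NC A TT YY K := le_iSup₂_of_le g h le_rfl

theorem NC_le_NN : NC A TT YY K ≤ NN A TT := iSup₂_le fun g hg => le_iSup₂_of_le g (D.mem_A hg) le_rfl

omit D in
theorem YY_le_UC (h : g ∈ Cp A YY K) : YY g ≤ UC A YY K := le_iSup₂_of_le g h le_rfl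

/-- **(P)** -/
theorem P {y : M} (hK : K ∈ A) (hy : y ∈ K) (h : ∀ g ∈ A, ¬ YY K ≤ g → y ∈ g) : ∀ g ∈ Cp A YY K, y ∈ g := by
  have key : ∀ n g, Walk A YY n K g → y ∈ g := by
    intro n
    induction n using Nat.strong_induction_on with
    | _ n ih =>
      intro g hg
      by_contra hyg
      cases hg with
      | zero => exact hyg hy
      | @step m _ g₁ _ hg₁ hgA ha =>
        have hg₁A := (D.walk_mem' hg₁).2
        have hns : YY K ≤ g := by
          by_contra h1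
          exact hyg (h g hgA h1)
        have hsn : YY g ≤ K := by
          by_contra h1
          exact D.symm _ hgA _ hK h1 hns
        -- `T_g` fixes `K`
        have h2 : ∀ t ∈ TT g, y ∈ t • g₁ := by
          intro t ht
          have h3 := D.walk_smul t hg₁
          rw [D.smul_eq hgA hsn ht] at h3
          exact ih m (Nat.lt_succ_self m) _ h3
        refine D.symm _ hg₁A _ hgA ha fun w hw => ?_
        obtain ⟨t, ht, htw⟩ := D.full g hgA y hyg w hw
        have h4 := h2 t⁻¹ (inv_mem ht)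
        rw [mem_smul, inv_inv] at h4
        have h5 := h2 1 (one_mem _)
        rw [one_smul] at h5
        have h6 := g₁.add_mem h4 h5
        rw [htw, add_comm y w, D.add_add_self] at h6
        exact h6
  rintro g ⟨n, hn⟩
  exact key n g hn

/-- Some `N_c`-conjugate of `u` is outside `K`. -/
theorem exists_not_mem {u : M} (hK : K ∈ A) {g₀ : AddSubgroup M} (hg₀ : g₀ ∈ Cp A YY K) (hu : u ∉ g₀) :
    ∃ n ∈ NC A TT YY K, n • u ∉ K := by
  by_contra hcon
  push Not at hcon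
  have h1 : ∀ g ∈ A, ¬ YY K ≤ g → ∀ n ∈ NC A TT YY K, n • u ∈ g := by
    intro g hg hadj n hn
    by_contra hng
    refine D.symm _ hK _ hg hadj fun w hw => ?_
    obtain ⟨t, ht, htw⟩ := D.full g hg _ hng w hw
    have h2 := hcon (t * n) (mul_mem (D.TT_le_NC (adj_mem hK hg hadj) ht) hn)
    rw [mul_smul, htw] at h2
    have h3 := K.add_mem h2 (hcon n hn)
    rwa [add_comm (n • u) w, D.add_add_self] at h3
  refine hu (D.P hK ?_ (fun g hg hadj => ?_) g₀ hg₀)
  · have := hcon 1 (one_mem _)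
    rwa [one_smul] at this
  · have := h1 g hg hadj 1 (one_mem _)
    rwa [one_smul] at this

/-- fixed by `N` -/
theorem fixed_iff {u : M} : (∀ g ∈ A, u ∈ g) ↔ ∀ n ∈ NN A TT, n • u = u := by
  constructor
  · intro h n hn
    have : NN A TT ≤ MulAction.stabilizer H u := iSup₂_le fun g hg t ht => D.fix g hg t ht u (h g hg)
    exact this hn
  · intro h g hg
    rw [D.mem_iff hg]
    exact fun t ht => h t ((le_iSup₂_of_le g hg le_rfl : TT g ≤ NN A TT) ht)

theorem NC_fix {u : M} (h : ∀ g ∈ Cp A YY K, u ∈ g) {n : H} (hn : n ∈ NC A TT YY K) : n • u = u := by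
  have : NC A TT YY K ≤ MulAction.stabilizer H u := iSup₂_le fun g hg t ht => D.fix g (D.mem_A hg) t ht u (h g hg)
  exact this hn

/-- `N_c` moves by `U_c` -/
theorem NC_quad {n : H} (hn : n ∈ NC A TT YY K) : ∀ u : M, n • u + u ∈ UC A YY K := by
  have key : ∀ g ∈ Cp A YY K, ∀ t ∈ TT g, ∀ u : M, t • u + u ∈ UC A YY K := fun g hg t ht u =>
    YY_le_UC hg (D.quad g (D.mem_A hg) t ht u)
  let X : Subgroup H :=
    { carrier := {n | ∀ u : M, n • u + u ∈ UC A YY K}
      one_mem' := fun u => by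
        rw [one_smul, D.char2]
        exact zero_mem _
      mul_mem' := fun {a b} ha hb u => by
        have h1 := add_mem (ha (b • u)) (hb u)
        rw [← add_assoc, D.add_add_self] at h1
        rwa [mul_smul]
      inv_mem' := fun {a} ha u => by
        have h1 := ha (a⁻¹ • u)
        rw [smul_inv_smul, add_comm] at h1
        exact h1 }
  exact (iSup₂_le fun g hg t ht u => key g hg t ht u : NC A TT YY K ≤ X) hn

/-- `U_c ≤ g` for `g ∉ c` -/
theorem UC_le (hg : g ∈ A) (h : g ∉ Cp A YY K) : UC A YY K ≤ g := by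
  refine iSup₂_le fun k hk => ?_
  refine D.le_of_not_mem (D.mem_A hk) hg ?_
  rwa [D.Cp_eq hk]

theorem NN_normal : (NN A TT).Normal := by
  refine ⟨fun n hn x => ?_⟩
  have h1 : NN A TT ≤ (NN A TT).comap (MulAut.conj x).toMonoidHom := iSup₂_le fun g hg t ht =>
    (le_iSup₂_of_le (x • g) (D.inv x g hg) le_rfl : TT (x • g) ≤ NN A TT) (D.conjT x g hg t ht)
  exact h1 hn

theorem NC_eq (h : g ∈ Cp A YY K) : NC A TT YY g = NC A TT YY K := by rw [NC, NC, D.Cp_eq h]

theorem UC_eq (h : g ∈ Cp A YY K) : UC A YY g = UC A YY K := by rw [UC, UC, D.Cp_eq h]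

/-- `N_c ⊴ N` -/
theorem NN_norm_NC : NN A TT ≤ normalizer (NC A TT YY K : Set H) := by
  have key : ∀ n ∈ NN A TT, ∀ m ∈ NC A TT YY K, n * m * n⁻¹ ∈ NC A TT YY K := by
    intro n hn m hm
    have h1 : NC A TT YY K ≤ (NC A TT YY K).comap (MulAut.conj n).toMonoidHom := by
      refine iSup₂_le fun g hg t ht => ?_
      have h2 := D.NN_Cp (D.mem_A hg) hn
      rw [D.Cp_eq hg] at h2
      exact D.TT_le_NC h2 (D.conjT n g (D.mem_A hg) t ht)
    exact h1 hm
  intro n hn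
  rw [mem_normalizer_iff]
  refine fun m => ⟨key n hn m, fun h => ?_⟩
  have := key n⁻¹ (inv_mem hn) _ h
  have e : n⁻¹ * (n * m * n⁻¹) * n⁻¹⁻¹ = m := by group
  rwa [e] at this

end AxSys

theorem relIndex_sup_of_normalizes [Finite H] {S K : Subgroup H} (hK : S ≤ normalizer (K : Set H)) :
    S.relIndex K = S.relIndex (S ⊔ K) := by
  set J := S ⊔ K with hJ
  have hJN : J ≤ normalizer (K : Set H) := sup_le hK le_normalizer
  have : (K.subgroupOf J).Normal := normal_subgroupOf_of_le_normalizer hJN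
  have hSJ : S ≤ J := le_sup_left
  have hKJ : K ≤ J := le_sup_right
  have h1 : (K.subgroupOf J).relIndex ((S.subgroupOf J) ⊔ (K.subgroupOf J)) =
      (K.subgroupOf J).relIndex (S.subgroupOf J) := relIndex_sup_right _ _
  have h2 : (S.subgroupOf J) ⊔ (K.subgroupOf J) = ⊤ := by
    rw [← subgroupOf_sup hSJ hKJ, ← hJ, subgroupOf_self]
  rw [h2, relIndex_top_right, relIndex_subgroupOf hSJ] at h1
  have e1 : K.relIndex J = K.relIndex S := h1
  have c1 : Nat.card K * K.relIndex J = Nat.card J := by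
    rw [← relIndex_bot_left, ← relIndex_bot_left]
    exact relIndex_mul_relIndex _ _ _ bot_le hKJ
  have c2 : Nat.card S * S.relIndex J = Nat.card J := by
    rw [← relIndex_bot_left, ← relIndex_bot_left]
    exact relIndex_mul_relIndex _ _ _ bot_le hSJ
  have c3 : Nat.card (K ⊓ S : Subgroup H) * K.relIndex S = Nat.card S := by
    rw [← inf_relIndex_right K S, ← relIndex_bot_left, ← relIndex_bot_left]
    exact relIndex_mul_relIndex _ _ _ bot_le inf_le_right
  have c4 : Nat.card (K ⊓ S : Subgroup H) * S.relIndex K = Nat.card K := by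
    rw [← inf_relIndex_left K S, ← relIndex_bot_left, ← relIndex_bot_left]
    exact relIndex_mul_relIndex _ _ _ bot_le inf_le_left
  have hpos : 0 < Nat.card (K ⊓ S : Subgroup H) * K.relIndex S := by rw [c3]; exact Nat.card_pos
  refine Nat.eq_of_mul_eq_mul_left hpos ?_
  calc Nat.card (K ⊓ S : Subgroup H) * K.relIndex S * S.relIndex K
      = (Nat.card (K ⊓ S : Subgroup H) * S.relIndex K) * K.relIndex S := by ring
    _ = Nat.card J := by rw [c4, ← e1, c1]
    _ = _ := by rw [c3, c2]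

/-- The situation of a vector `z`: fixed by a Sylow 2-subgroup, `H = N C_H(z)`, not fixed by `N`. -/
structure Sit (A : Set (AddSubgroup M)) (TT : AddSubgroup M → Subgroup H) (YY : AddSubgroup M → AddSubgroup M)
    (z : M) : Prop extends AxSys A TT YY where
  syl : ∃ S : Sylow 2 H, ∀ s ∈ S, s • z = z
  gen : ∀ h : H, ∃ n ∈ NN A TT, (n⁻¹ * h) • z = z
  ne : ∃ g ∈ A, z ∉ g

namespace Sit

variable {A : Set (AddSubgroup M)} {TT : AddSubgroup M → Subgroup H} {YY : AddSubgroup M → AddSubgroup M}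
  {z : M} (D : Sit A TT YY z) {g g' K : AddSubgroup M}
include D

/-- **(F')** -/
theorem F' [Finite H] {n : H} (hn : n ∈ NN A TT) (h : ∀ g ∈ A, n • z + z ∈ g) : n • z = z := by
  obtain ⟨S, hS⟩ := D.syl
  -- `N₀`
  have hfix : ∀ {a : H}, a ∈ NN A TT → ∀ {u : M}, (∀ g ∈ A, u ∈ g) → a • u = u := fun ha _ hu =>
    D.fixed_iff.1 hu _ ha
  let N₀ : Subgroup H :=
    { carrier := {n | n ∈ NN A TT ∧ ∀ g ∈ A, n • z + z ∈ g}
      one_mem' := ⟨one_mem _, fun g _ => by rw [one_smul, D.char2]; exact zero_mem _⟩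
      mul_mem' := fun {a b} ha hb => ⟨mul_mem ha.1 hb.1, fun g hg => by
        have e : (a * b) • z + z = a • (b • z + z) + (a • z + z) := by
          rw [mul_smul, smul_add, add_assoc, ← add_assoc (a • z), D.char2, zero_add]
        rw [e, hfix ha.1 hb.2]
        exact add_mem (hb.2 g hg) (ha.2 g hg)⟩
      inv_mem' := fun {a} ha => ⟨inv_mem ha.1, fun g hg => by
        have e : a⁻¹ • z + z = a⁻¹ • (a • z + z) := by
          rw [smul_add, inv_smul_smul, add_comm]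
        rw [e, hfix (inv_mem ha.1) ha.2]
        exact ha.2 g hg⟩ }
  have hN₀ : ∀ {a : H}, a ∈ N₀ ↔ a ∈ NN A TT ∧ ∀ g ∈ A, a • z + z ∈ g := Iff.rfl
  let φ : N₀ →* Multiplicative M :=
    { toFun := fun a => Multiplicative.ofAdd ((a : H) • z + z)
      map_one' := by
        change Multiplicative.ofAdd ((1 : H) • z + z) = 1
        rw [one_smul, D.char2]
        rfl
      map_mul' := fun a b => by
        change Multiplicative.ofAdd (((a : H) * b) • z + z) = Multiplicative.ofAdd (((a : H) • z + z) + ((b : H) • z + z))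
        have e : ((a : H) * b) • z + z = (a : H) • ((b : H) • z + z) + ((a : H) • z + z) := by
          rw [mul_smul, smul_add, add_assoc, ← add_assoc ((a : H) • z), D.char2, zero_add]
        rw [e, hfix a.2.1 b.2.2, add_comm] }
  have hφ : ∀ a : N₀, φ a = 1 ↔ (a : H) • z = z := fun a => by
    constructor
    · intro h1
      have h2 : (a : H) • z + z = 0 := congrArg Multiplicative.toAdd h1
      have h3 := D.add_add_self ((a : H) • z) z
      rw [h2, zero_add] at h3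
      exact h3.symm
    · intro h1
      change Multiplicative.ofAdd ((a : H) • z + z) = 1
      rw [h1, D.char2]
      rfl
  -- the index is odd
  have hSn : (S : Subgroup H) ≤ normalizer (N₀ : Set H) := by
    have key : ∀ s ∈ S, ∀ a ∈ N₀, s * a * s⁻¹ ∈ N₀ := by
      intro s hs a ha
      have h1 : s⁻¹ • z = z := hS _ (inv_mem hs)
      refine hN₀.2 ⟨D.NN_normal.conj_mem a ha.1 s, fun g hg => ?_⟩
      have e : (s * a * s⁻¹) • z + z = s • (a • z + z) := by
        rw [mul_smul, mul_smul, h1, smul_add, hS s hs]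
      rw [e]
      have h2 := ha.2 (s⁻¹ • g) (D.inv _ g hg)
      rwa [mem_smul, inv_inv] at h2
    intro s hs
    rw [mem_normalizer_iff]
    refine fun a => ⟨key s hs a, fun h => ?_⟩
    have := key s⁻¹ (inv_mem hs) _ h
    have e : s⁻¹ * (s * a * s⁻¹) * s⁻¹⁻¹ = a := by group
    rwa [e] at this
  have hodd : ¬ 2 ∣ (S : Subgroup H).relIndex N₀ := by
    rw [relIndex_sup_of_normalizes hSn]
    have : Fact (Nat.Prime 2) := ⟨Nat.prime_two⟩
    intro h1
    exact S.not_dvd_index (h1.trans (relIndex_dvd_index_of_le le_sup_left))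
  have hker : φ.ker.index ∣ (S : Subgroup H).relIndex N₀ := by
    rw [relIndex]
    refine index_dvd_of_le fun a ha => ?_
    rw [MonoidHom.mem_ker, hφ]
    exact hS _ (mem_subgroupOf.1 ha)
  have : Fact (Nat.Prime 2) := ⟨Nat.prime_two⟩
  have hp : IsPGroup 2 φ.range := by
    intro x
    refine ⟨1, ?_⟩
    obtain ⟨_, a, rfl⟩ := x
    apply Subtype.ext
    change (φ a) ^ (2 ^ 1) = 1
    rw [pow_one, pow_two]
    exact congrArg Multiplicative.ofAdd (D.char2 ((a : H) • z + z))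
  have hfin : Finite φ.range := Set.finite_range φ |>.to_subtype
  obtain ⟨k, hk⟩ := IsPGroup.iff_card.1 hp
  rw [index_ker, hk] at hker
  have hk0 : k = 0 := by
    by_contra hk0
    exact hodd ((dvd_pow_self 2 hk0).trans hker)
  rw [hk0, pow_zero] at hk
  have h1 : φ ⟨n, hN₀.2 ⟨hn, h⟩⟩ = 1 := by
    have h2 : φ.range = ⊥ := Subgroup.card_eq_one.1 hk
    have h3 : φ ⟨n, hN₀.2 ⟨hn, h⟩⟩ ∈ φ.range := ⟨_, rfl⟩
    rw [h2] at h3
    exact mem_bot.1 h3
  exact (hφ _).1 h1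

/-- `z ∉ I_c` -/
theorem not_mem (hK : K ∈ A) : ∃ g ∈ Cp A YY K, z ∉ g := by
  by_contra hcon
  push Not at hcon
  obtain ⟨g₁, hg₁, hz⟩ := D.ne
  obtain ⟨h, rfl⟩ := D.trans K hK g₁ hg₁
  obtain ⟨n, hn, hz'⟩ := D.gen h
  apply hz
  obtain ⟨s, hs⟩ : ∃ s, s = n⁻¹ * h := ⟨_, rfl⟩
  rw [← hs] at hz'
  have e : h = n * s := by rw [hs, mul_inv_cancel_left]
  have h1 : h • K ∈ Cp A YY (s • K) := by
    rw [e, mul_smul]
    exact D.NN_Cp (D.inv s K hK) hn
  rw [D.smul_Cp s] at h1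
  have h2 := hcon _ h1
  rw [mem_smul, inv_inv, hz'] at h2
  exact h2

theorem mem_of_mem [Finite H] (hK : K ∈ A) {y : M} (hy : y ∈ YY K) (h : ∀ k ∈ Cp A YY K, y ∈ k) : y = 0 := by
  obtain ⟨g₀, hg₀, hz⟩ := D.not_mem hK
  obtain ⟨n, hn, hnz⟩ := D.exists_not_mem hK hg₀ hz
  have hall : ∀ g ∈ A, y ∈ g := fun g hg => by
    by_cases h1 : g ∈ Cp A YY K
    · exact h g h1
    · exact D.le_of_not_mem hK hg h1 hy
  obtain ⟨t, ht, hty⟩ := D.full K hK _ hnz y hy
  have hnN := D.NC_le_NN hn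
  have htN : t ∈ NN A TT := D.NC_le_NN (D.TT_le_NC (AxSys.self_mem hK) ht)
  have h1 : (n⁻¹ * t * n) • z = z + y := by
    rw [mul_smul, mul_smul, hty, smul_add, inv_smul_smul, D.fixed_iff.1 hall n⁻¹ (inv_mem hnN)]
  have h2 : (n⁻¹ * t * n) • z + z = y := by
    rw [h1, add_comm z y, D.add_add_self]
  have h3 := D.F' (mul_mem (mul_mem (inv_mem hnN) htN) hnN) (fun g hg => by rw [h2]; exact hall g hg)
  rw [h3, D.char2] at h2
  exact h2.symm

theorem exists_of_ne [Finite H] (hg : g ∈ Cp A YY K) {y : M} (hy : y ∈ YY g) (hy0 : y ≠ 0) :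
    ∃ k ∈ Cp A YY K, y ∉ k := by
  by_contra hcon
  push Not at hcon
  exact hy0 (D.mem_of_mem (D.mem_A hg) hy (by rw [D.Cp_eq hg]; exact hcon))

/-- the `N_c`-orbit of `z` -/
def Orb (_ : Sit A TT YY z) (K : AddSubgroup M) (m : M) : Prop := ∃ n ∈ NC A TT YY K, m = n • z

theorem orb_self : D.Orb K z := ⟨1, one_mem _, (one_smul _ _).symm⟩

theorem orb_smul {m : M} (h : D.Orb K m) {n : H} (hn : n ∈ NC A TT YY K) : D.Orb K (n • m) := by
  obtain ⟨a, ha, rfl⟩ := h
  exact ⟨n * a, mul_mem hn ha, (mul_smul _ _ _).symm⟩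

theorem orb_eq (hg : g ∈ Cp A YY K) {m : M} : D.Orb g m ↔ D.Orb K m := by
  rw [Orb, Orb, D.NC_eq hg]

theorem orb_full {m y : M} (h : D.Orb K m) (hg : g ∈ Cp A YY K) (hm : m ∉ g) (hy : y ∈ YY g) : D.Orb K (m + y) := by
  obtain ⟨t, ht, hty⟩ := D.full g (D.mem_A hg) m hm y hy
  rw [← hty]
  exact D.orb_smul h (D.TT_le_NC hg ht)

/-- an element of the orbit is not in `I_c` -/
theorem orb_not_mem (hK : K ∈ A) {m : M} (h : D.Orb K m) : ∃ g ∈ Cp A YY K, m ∉ g := by
  by_contra hcon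
  push Not at hcon
  obtain ⟨n, hn, rfl⟩ := h
  have h1 := D.NC_fix hcon (inv_mem hn)
  rw [inv_smul_smul] at h1
  obtain ⟨g, hg, hz⟩ := D.not_mem hK
  apply hz
  rw [h1]
  exact hcon g hg

/-- (P), contraposed -/
theorem exists_adj (hK : K ∈ A) {y : M} (hy : y ∈ K) (h : ∃ g ∈ Cp A YY K, y ∉ g) :
    ∃ g ∈ A, ¬ YY K ≤ g ∧ y ∉ g := by
  by_contra hcon
  push Not at hcon
  obtain ⟨g, hg, hyg⟩ := h
  exact hyg (D.P hK hy (fun g hg hadj => hcon g hg hadj) g hg)

/-- (E1) -/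
theorem E1 (hK : K ∈ A) {m y : M} (h : D.Orb K m) (hmK : m ∈ K) (hy : y ∈ YY K) (hg : g ∈ A) (hadj : ¬ YY K ≤ g)
    (h1 : m ∉ g) (h2 : m + y ∉ g) : D.Orb K (m + y) := by
  have hgc : g ∈ Cp A YY K := AxSys.adj_mem hK hg hadj
  obtain ⟨r, hr, hrK⟩ := SetLike.not_le_iff_exists.1 (D.symm _ hK _ hg hadj)
  have h3 := D.orb_full h hgc h1 hr
  have h4 : m + r ∉ K := fun h4 => hrK (by
    have := K.add_mem h4 hmK
    rwa [add_comm m r, D.add_add_self] at this)
  have h5 := D.orb_full h3 (AxSys.self_mem hK) h4 hy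
  have h6 : m + r + y ∉ g := fun h6 => h2 (by
    have := g.add_mem h6 (D.le g hg hr)
    rwa [add_right_comm m r y, D.add_add_self] at this)
  have h7 := D.orb_full h5 hgc h6 hr
  rwa [add_right_comm m r y, D.add_add_self] at h7

/-- **(M)** -/
theorem M_self [Finite H] (hK : K ∈ A) {m y : M} (h : D.Orb K m) (hy : y ∈ YY K)
    (hne : ∃ g ∈ Cp A YY K, m + y ∉ g) : D.Orb K (m + y) := by
  by_cases hmK : m ∈ K
  swap
  · exact D.orb_full h (AxSys.self_mem hK) hmK hy
  by_contra hcon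
  have hyK : y ∈ K := D.le K hK hy
  have hmyK : m + y ∈ K := K.add_mem hmK hyK
  have i1 : ∀ g ∈ A, ¬ YY K ≤ g → m ∉ g → m + y ∈ g := fun g hg hadj hmg => by
    by_contra h1
    exact hcon (D.E1 hK h hmK hy hg hadj hmg h1)
  have i2 : ∀ g ∈ A, ¬ YY K ≤ g → m + y ∉ g → m ∈ g := fun g hg hadj hmg => by
    by_contra h1
    exact hmg (i1 g hg hadj h1)
  obtain ⟨g, hg, hadj, hmg⟩ := D.exists_adj hK hmK (D.orb_not_mem hK h)
  obtain ⟨g', hg', hadj', hmg'⟩ := D.exists_adj hK hmyK hne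
  -- (iii)
  have i3 : ∀ g ∈ A, ¬ YY K ≤ g → m ∉ g → ∀ g' ∈ A, ¬ YY K ≤ g' → m + y ∉ g' → ∀ r ∈ YY K,
      r + y ∈ g ∨ r ∈ g' := by
    intro g hg hadj hmg g' hg' hadj' hmg' r hr
    by_contra h1
    push Not at h1
    have h2 : m + r ∉ g := fun h2 => h1.1 (by
      have := g.add_mem h2 (i1 g hg hadj hmg)
      have e : m + r + (m + y) = r + y := by
        rw [add_add_add_comm, D.char2, zero_add]
      rwa [e] at this)
    have h3 := D.E1 hK h hmK hr hg hadj hmg h2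
    have h4 : m + r ∉ g' := fun h4 => h1.2 (by
      have := g'.add_mem h4 (i2 g' hg' hadj' hmg')
      rwa [add_comm m r, D.add_add_self] at this)
    have e : m + r + (r + y) = m + y := by rw [← add_assoc, D.add_add_self]
    have h5 := D.E1 hK h3 (K.add_mem hmK (D.le K hK hr)) (add_mem hr hy) hg' hadj' h4 (by rw [e]; exact hmg')
    rw [e] at h5
    exact hcon h5
  have ynot : ∀ g ∈ A, ¬ YY K ≤ g → m ∉ g → y ∉ g := fun g hg hadj hmg h1 => hmg (by
    have := g.add_mem (i1 g hg hadj hmg) h1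
    rwa [D.add_add_self] at this)
  have ynot' : ∀ g ∈ A, ¬ YY K ≤ g → m + y ∉ g → y ∉ g := fun g hg hadj hmg h1 =>
    hmg (g.add_mem (i2 g hg hadj hmg) h1)
  -- `r ∈ g ↔ r ∈ g'`
  have i4 : ∀ g ∈ A, ¬ YY K ≤ g → m ∉ g → ∀ g' ∈ A, ¬ YY K ≤ g' → m + y ∉ g' → ∀ r ∈ YY K, r ∈ g ↔ r ∈ g' := by
    intro g hg hadj hmg g' hg' hadj' hmg' r hr
    constructor
    · intro h1
      rcases i3 g hg hadj hmg g' hg' hadj' hmg' r hr with h2 | h2
      · exact absurd (by
          have := g.add_mem h2 h1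
          rwa [add_comm r y, D.add_add_self] at this) (ynot g hg hadj hmg)
      · exact h2
    · intro h1
      rcases i3 g hg hadj hmg g' hg' hadj' hmg' (r + y) (add_mem hr hy) with h2 | h2
      · rwa [D.add_add_self] at h2
      · exact absurd (by
          have := g'.add_mem h2 h1
          rwa [add_comm r y, D.add_add_self] at this) (ynot' g' hg' hadj' hmg')
  -- `r₀`
  obtain ⟨r₀, hr₀, hr₀0, hr₀g⟩ : ∃ r₀ ∈ YY K, r₀ ≠ 0 ∧ r₀ ∈ g := by
    obtain ⟨s, hs, hs0, hsy⟩ := D.big K hK y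
    rcases i3 g hg hadj hmg g' hg' hadj' hmg' s hs with h1 | h1
    · refine ⟨s + y, add_mem hs hy, fun h2 => hsy ?_, h1⟩
      have h3 := D.add_add_self s y
      rw [h2, zero_add] at h3
      exact h3.symm
    · exact ⟨s, hs, hs0, (i4 g hg hadj hmg g' hg' hadj' hmg' s hs).2 h1⟩
  have hr₀g' := (i4 g hg hadj hmg g' hg' hadj' hmg' r₀ hr₀).1 hr₀g
  have hr₀K : r₀ ∈ K := D.le K hK hr₀
  obtain ⟨g₀, hg₀, hadj₀, hr₀n⟩ := D.exists_adj hK hr₀K (D.exists_of_ne (AxSys.self_mem hK) hr₀ hr₀0)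
  have hm₀ : m ∈ g₀ := by
    by_contra h1
    exact hr₀n ((i4 g₀ hg₀ hadj₀ h1 g' hg' hadj' hmg' r₀ hr₀).2 hr₀g')
  have hmy₀ : m + y ∈ g₀ := by
    by_contra h1
    exact hr₀n ((i4 g hg hadj hmg g₀ hg₀ hadj₀ h1 r₀ hr₀).1 hr₀g)
  -- `m → m + r₀ → m + r₀ + y → m + y`
  have h1 : D.Orb K (m + r₀) := D.E1 hK h hmK hr₀ hg hadj hmg fun h1 => hmg (by
    have := g.add_mem h1 hr₀g
    rwa [D.add_add_self] at this)
  have h2 : D.Orb K (m + r₀ + y) := by
    refine D.E1 hK h1 (K.add_mem hmK hr₀K) hy hg₀ hadj₀ (fun h1 => hr₀n ?_) fun h1 => hr₀n ?_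
    · have := g₀.add_mem h1 hm₀
      rwa [add_comm m r₀, D.add_add_self] at this
    · have := g₀.add_mem h1 hmy₀
      have e : m + r₀ + y + (m + y) = r₀ := by
        rw [add_add_add_comm, D.char2, add_zero, add_comm m r₀, D.add_add_self]
      rwa [e] at this
  have e : m + r₀ + y + r₀ = m + y := by
    rw [add_right_comm m r₀ y, D.add_add_self]
  have h3 : D.Orb K (m + r₀ + y + r₀) := by
    refine D.E1 hK h2 (K.add_mem (K.add_mem hmK hr₀K) hyK) hr₀ hg' hadj' (fun h1 => hmg' ?_) (by rw [e]; exact hmg')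
    have := g'.add_mem h1 hr₀g'
    rwa [e] at this
  rw [e] at h3
  exact hcon h3

theorem M_comp [Finite H] {m y : M} (h : D.Orb K m) (hg : g ∈ Cp A YY K) (hy : y ∈ YY g)
    (hne : ∃ k ∈ Cp A YY K, m + y ∉ k) : D.Orb K (m + y) := by
  rw [← D.orb_eq hg] at h ⊢
  exact D.M_self (D.mem_A hg) h hy (by rw [D.Cp_eq hg]; exact hne)

theorem chain [Finite H] (n : ℕ) : ∀ l : List M, l.length = n → (∀ w ∈ l, ∃ g ∈ Cp A YY K, w ∈ YY g) →
    ∀ m, D.Orb K m → (∃ g ∈ Cp A YY K, m + l.sum ∉ g) → D.Orb K (m + l.sum) := by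
  induction n using Nat.strong_induction_on with
  | _ n ih =>
    intro l hl hlY m hm hne
    match l, hl, hlY, hne with
    | [], _, _, _ =>
      rw [List.sum_nil, add_zero]
      exact hm
    | [y], _, hlY, hne =>
      rw [List.sum_singleton] at hne ⊢
      obtain ⟨g, hg, hy⟩ := hlY y (List.mem_singleton_self y)
      exact D.M_comp hm hg hy hne
    | y₁ :: y₂ :: l', hl, hlY, hne =>
      obtain ⟨g₁, hg₁, hy₁⟩ := hlY y₁ (by simp)
      obtain ⟨g₂, hg₂, hy₂⟩ := hlY y₂ (by simp)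
      have hl' : ∀ w ∈ l', ∃ g ∈ Cp A YY K, w ∈ YY g := fun w hw => hlY w (by simp [hw])
      simp only [List.length_cons] at hl
      simp only [List.sum_cons] at hne ⊢
      by_cases h1 : ∃ g ∈ Cp A YY K, m + y₁ ∉ g
      · have h2 := D.M_comp hm hg₁ hy₁ h1
        have h3 := ih (l'.length + 1) (by omega) (y₂ :: l') rfl (fun w hw => hlY w (by simp at hw ⊢; tauto)) _ h2
        simp only [List.sum_cons] at h3
        rw [add_assoc] at h3
        exact h3 hne
      by_cases h1' : ∃ g ∈ Cp A YY K, m + y₂ ∉ g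
      · have h2 := D.M_comp hm hg₂ hy₂ h1'
        have h3 := ih (l'.length + 1) (by omega) (y₁ :: l') rfl (fun w hw => hlY w (by simp at hw ⊢; tauto)) _ h2
        simp only [List.sum_cons] at h3
        have e : m + y₂ + (y₁ + l'.sum) = m + (y₁ + (y₂ + l'.sum)) := by abel
        rw [e] at h3
        exact h3 hne
      push Not at h1 h1'
      obtain ⟨s, hs, hs0, hsy⟩ := D.big g₁ (D.mem_A hg₁) y₁
      have hsy1 : s + y₁ ≠ 0 := fun h2 => hsy (by
        have h3 := D.add_add_self s y₁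
        rw [h2, zero_add] at h3
        exact h3.symm)
      obtain ⟨k, hk, hks⟩ := D.exists_of_ne hg₁ (add_mem hs hy₁) hsy1
      have h2 : D.Orb K (m + s) := D.M_comp hm hg₁ hs ⟨k, hk, fun h3 => hks (by
        have h4 := k.add_mem h3 (h1 k hk)
        have e : m + s + (m + y₁) = s + y₁ := by rw [add_add_add_comm, D.char2, zero_add]
        rwa [e] at h4)⟩
      obtain ⟨k', hk', hks'⟩ := D.exists_of_ne hg₁ hs hs0
      have h3 : D.Orb K (m + s + y₂) := D.M_comp h2 hg₂ hy₂ ⟨k', hk', fun h3 => hks' (by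
        have h4 := k'.add_mem h3 (h1' k' hk')
        have e : m + s + y₂ + (m + y₂) = s := by
          rw [add_add_add_comm, D.char2, add_zero, add_comm m s, D.add_add_self]
        rwa [e] at h4)⟩
      have h4 := ih (l'.length + 1) (by omega) ((s + y₁) :: l') rfl (fun w hw => by
        simp only [List.mem_cons] at hw
        rcases hw with rfl | hw
        · exact ⟨g₁, hg₁, add_mem hs hy₁⟩
        · exact hl' w hw) _ h3
      simp only [List.sum_cons] at h4
      have e : m + s + y₂ + (s + y₁ + l'.sum) = m + (y₁ + (y₂ + l'.sum)) := by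
        have e1 : m + s + y₂ + (s + y₁ + l'.sum) = (s + s) + (m + (y₁ + (y₂ + l'.sum))) := by abel
        rw [e1, D.char2, zero_add]
      rw [e] at h4
      exact h4 hne

theorem exists_list {u : M} (hu : u ∈ UC A YY K) : ∃ l : List M, (∀ w ∈ l, ∃ g ∈ Cp A YY K, w ∈ YY g) ∧
    l.sum = u := by
  let X : AddSubgroup M :=
    { carrier := {u | ∃ l : List M, (∀ w ∈ l, ∃ g ∈ Cp A YY K, w ∈ YY g) ∧ l.sum = u}
      zero_mem' := ⟨[], by simp, List.sum_nil⟩
      add_mem' := by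
        rintro a b ⟨l, hl, rfl⟩ ⟨l', hl', rfl⟩
        refine ⟨l ++ l', fun w hw => ?_, List.sum_append⟩
        rcases List.mem_append.1 hw with h | h
        · exact hl w h
        · exact hl' w h
      neg_mem' := by
        rintro a ⟨l, hl, rfl⟩
        exact ⟨l, hl, (D.neg_eq _).symm⟩ }
  exact (iSup₂_le fun g hg y hy => ⟨[y], fun w hw => ⟨g, hg, by rwa [List.mem_singleton.1 hw]⟩, List.sum_singleton⟩ :
    UC A YY K ≤ X) hu

/-- **the `N_c`-orbit of `z` is `(z + U_c) - I_c`** -/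
theorem orbit [Finite H] {u : M} (hu : u ∈ UC A YY K) (h : ∃ g ∈ Cp A YY K, z + u ∉ g) :
    ∃ n ∈ NC A TT YY K, n • z = z + u := by
  obtain ⟨l, hl, rfl⟩ := D.exists_list hu
  obtain ⟨n, hn, h1⟩ := D.chain _ l rfl hl z D.orb_self h
  exact ⟨n, hn, h1.symm⟩

/-- **`U_c ∩ I_c = 0`** -/
theorem inf [Finite H] (hK : K ∈ A) {u : M} (hu : u ∈ UC A YY K) (h : ∀ g ∈ Cp A YY K, u ∈ g) : u = 0 := by
  obtain ⟨g₀, hg₀, hz⟩ := D.not_mem hK
  obtain ⟨n, hn, h1⟩ := D.orbit hu ⟨g₀, hg₀, fun h1 => hz (by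
    have := g₀.add_mem h1 (h g₀ hg₀)
    rwa [D.add_add_self] at this)⟩
  have h2 : n • z + z = u := by rw [h1, add_comm z u, D.add_add_self]
  have h3 := D.F' (D.NC_le_NN hn) (fun g hg => by
    rw [h2]
    by_cases h4 : g ∈ Cp A YY K
    · exact h g h4
    · exact D.UC_le hg h4 hu)
  rw [h3, D.char2] at h2
  exact h2.symm

/-- the `N_c`-orbit has odd length -/
theorem odd_relIndex [Finite H] : ¬ 2 ∣ (MulAction.stabilizer H z).relIndex (NC A TT YY K) := by
  obtain ⟨S, hS⟩ := D.syl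
  have hN := D.NN_normal
  set T : Subgroup H := (S : Subgroup H) ⊓ NN A TT with hT
  have hTX : T ≤ MulAction.stabilizer H z := fun s hs => hS s (mem_inf.1 hs).1
  have h1 : (MulAction.stabilizer H z).relIndex (NC A TT YY K) ∣ T.relIndex (NC A TT YY K) := by
    rw [relIndex, relIndex]
    exact index_dvd_of_le (comap_mono hTX)
  have h2 : T.relIndex (NC A TT YY K) ∣ T.relIndex (NN A TT) := by
    rw [relIndex_sup_of_normalizes (inf_le_right.trans D.NN_norm_NC)]
    exact Dvd.intro _ (relIndex_mul_relIndex _ _ _ le_sup_left (sup_le inf_le_right D.NC_le_NN))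
  have h3 : T.relIndex (NN A TT) = (S : Subgroup H).relIndex (NN A TT) := by
    rw [hT, inf_relIndex_right]
  have h4 : ¬ 2 ∣ (S : Subgroup H).relIndex (NN A TT) := by
    rw [relIndex_sup_of_normalizes (by rw [normalizer_eq_top]; exact le_top)]
    have : Fact (Nat.Prime 2) := ⟨Nat.prime_two⟩
    intro h1
    exact S.not_dvd_index (h1.trans (relIndex_dvd_index_of_le le_sup_left))
  intro h5
  apply h4
  rw [← h3]
  exact (h5.trans h1).trans h2

/-- **`z ∈ U_c + I_c`** -/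
theorem mem [Finite H] [Finite M] (hK : K ∈ A) : ∃ u ∈ UC A YY K, ∀ g ∈ Cp A YY K, z + u ∈ g := by
  by_contra hcon
  push Not at hcon
  -- the orbit is `z + U_c`
  have h1 : (MulAction.stabilizer H z).relIndex (NC A TT YY K) = Nat.card (UC A YY K) := by
    have e1 : (MulAction.stabilizer H z).relIndex (NC A TT YY K) =
        (MulAction.stabilizer (NC A TT YY K) z).index := by
      rw [relIndex]
      congr 1
    rw [e1, MulAction.index_stabilizer, ← Nat.card_coe_set_eq]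
    symm
    refine Nat.card_congr (Equiv.ofBijective
      (fun u : ↥(UC A YY K) => (⟨z + u, ?_⟩ : MulAction.orbit (NC A TT YY K) z)) ⟨?_, ?_⟩)
    · obtain ⟨n, hn, h2⟩ := D.orbit u.2 (hcon _ u.2)
      exact ⟨⟨n, hn⟩, h2⟩
    · intro u v h
      exact Subtype.ext (add_left_cancel (congrArg Subtype.val h))
    · rintro ⟨_, ⟨n, rfl⟩⟩
      refine ⟨⟨(n : H) • z + z, D.NC_quad n.2 z⟩, Subtype.ext ?_⟩
      change z + ((n : H) • z + z) = (n : H) • z
      rw [add_comm, D.add_add_self]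
  have h2 : 2 ∣ Nat.card (UC A YY K) := by
    obtain ⟨s, hs, hs0, -⟩ := D.big K hK 0
    have hsU : s ∈ UC A YY K := AxSys.YY_le_UC (AxSys.self_mem hK) hs
    have h3 : addOrderOf (⟨s, hsU⟩ : ↥(UC A YY K)) = 2 := by
      refine addOrderOf_eq_prime ?_ fun h => hs0 (congrArg Subtype.val h)
      rw [two_nsmul]
      exact Subtype.ext (D.char2 s)
    rw [← h3]
    exact addOrderOf_dvd_natCard _
  rw [← h1] at h2
  exact D.odd_relIndex h2

/-- **`N_c` is transitive on `U_c - {0}`** -/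
theorem transU [Finite H] [Finite M] (hK : K ∈ A) {u v : M} (hu : u ∈ UC A YY K) (hu0 : u ≠ 0)
    (hv : v ∈ UC A YY K) (hv0 : v ≠ 0) : ∃ n ∈ NC A TT YY K, n • u = v := by
  obtain ⟨w, hw, hi⟩ := D.mem hK
  have key : ∀ u ∈ UC A YY K, u ≠ 0 → ∃ n ∈ NC A TT YY K, n • z = z + w + u := by
    intro u hu hu0
    have h1 : ∃ g ∈ Cp A YY K, z + (w + u) ∉ g := by
      by_contra hcon
      push Not at hcon
      refine hu0 (D.inf hK hu fun g hg => ?_)
      have h2 := g.add_mem (hcon g hg) (hi g hg)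
      have e : z + (w + u) + (z + w) = u := by
        rw [← add_assoc z w u, add_comm (z + w) u, D.add_add_self]
      rwa [e] at h2
    obtain ⟨n, hn, h2⟩ := D.orbit (add_mem hw hu) h1
    exact ⟨n, hn, by rw [h2, add_assoc]⟩
  obtain ⟨a, ha, h1⟩ := key u hu hu0
  obtain ⟨b, hb, h2⟩ := key v hv hv0
  have hn : b * a⁻¹ ∈ NC A TT YY K := mul_mem hb (inv_mem ha)
  refine ⟨b * a⁻¹, hn, ?_⟩
  have h3 : (b * a⁻¹) • (z + w + u) = z + w + v := by
    rw [← h1, mul_smul, inv_smul_smul, h2]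
  rw [smul_add, D.NC_fix hi hn] at h3
  exact add_left_cancel h3

/-- **`z ∈ [M, N] + C_M(N)`** -/
theorem mem_all [Finite H] [Finite M] : ∃ w ∈ ⨆ g ∈ A, YY g, ∀ g ∈ A, z + w ∈ g := by
  classical
  have key : ∀ s : Finset (AddSubgroup M), (∀ k ∈ s, k ∈ A) →
      ∃ w ∈ ⨆ k ∈ s, UC A YY k, ∀ k ∈ s, ∀ g ∈ Cp A YY k, z + w ∈ g := by
    intro s
    induction s using Finset.induction_on with
    | empty => exact fun _ => ⟨0, zero_mem _, by simp⟩
    | insert K s hKs ih =>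
      intro hs
      obtain ⟨w, hw, h1⟩ := ih fun k hk => hs k (Finset.mem_insert_of_mem hk)
      have hK : K ∈ A := hs K (Finset.mem_insert_self _ _)
      have hle : (⨆ k ∈ s, UC A YY k) ≤ ⨆ k ∈ insert K s, UC A YY k :=
        iSup₂_le fun k hk => le_iSup₂_of_le k (Finset.mem_insert_of_mem hk) le_rfl
      by_cases hc : ∃ k ∈ s, K ∈ Cp A YY k
      · obtain ⟨k, hk, hKk⟩ := hc
        refine ⟨w, hle hw, fun k' hk' g hg => ?_⟩
        rcases Finset.mem_insert.1 hk' with rfl | hk'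
        · rw [D.Cp_eq hKk] at hg
          exact h1 k hk g hg
        · exact h1 k' hk' g hg
      · push Not at hc
        obtain ⟨u, hu, h2⟩ := D.mem hK
        refine ⟨w + u, add_mem (hle hw) ((le_iSup₂_of_le K (Finset.mem_insert_self _ _) le_rfl :
          UC A YY K ≤ ⨆ k ∈ insert K s, UC A YY k) hu), fun k' hk' g hg => ?_⟩
        rcases Finset.mem_insert.1 hk' with rfl | hk'
        · have h3 : (⨆ k ∈ s, UC A YY k) ≤ g := iSup₂_le fun k hk => by
            refine D.UC_le (D.mem_A hg) fun h4 => hc k hk ?_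
            rw [← D.Cp_eq h4, D.Cp_eq hg]
            exact AxSys.self_mem hK
          have h5 := g.add_mem (h2 g hg) (h3 hw)
          have e : z + u + w = z + (w + u) := by abel
          rwa [e] at h5
        · have h3 : UC A YY K ≤ g := by
            refine D.UC_le (D.mem_A hg) fun h4 => hc k' hk' ?_
            rw [← D.Cp_eq hg, D.Cp_eq h4]
            exact AxSys.self_mem hK
          have h5 := g.add_mem (h1 k' hk' g hg) (h3 hu)
          have e : z + w + u = z + (w + u) := by abel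
          rwa [e] at h5
  have hfin : A.Finite := Set.toFinite A
  obtain ⟨w, hw, h1⟩ := key hfin.toFinset fun k hk => hfin.mem_toFinset.1 hk
  refine ⟨w, ?_, fun g hg => h1 g (hfin.mem_toFinset.2 hg) g (AxSys.self_mem hg)⟩
  have h2 : (⨆ k ∈ hfin.toFinset, UC A YY k) ≤ ⨆ g ∈ A, YY g := iSup₂_le fun k _ => iSup₂_le fun g hg =>
    le_iSup₂_of_le g (D.mem_A hg) le_rfl
  exact h2 hw

end Sit

end Cfsg.Agent.Omega.NOThreeL.RBig.Trans

end

section


/-!
# NO-3L, box R, `R ∩ (A)`, nonsplit with fields (#21360 (0)): `|T| = 2` is impossible, the pure part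

An axis system (`RBig.Trans.Sit`) whose axes all have index `2`, and a subgroup `W ≤ U_c` with at least two nonzero
elements which lies in every axis containing `z`: contradiction.
-/

set_option autoImplicit false
set_option linter.unusedSectionVars false

namespace Cfsg.Agent.Omega.NOThreeL.RF.TwoT

open Subgroup
open Cfsg.Agent.Omega.NOThreeL.ThmAx (mem_smul smul_eq_of)
open Cfsg.Agent.Omega.NOThreeL.RBig.Trans
open scoped Pointwise

variable {H M : Type*} [Group H] [AddCommGroup M] [DistribMulAction H M]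
variable {A : Set (AddSubgroup M)} {TT : AddSubgroup M → Subgroup H} {YY : AddSubgroup M → AddSubgroup M}
  {z : M} {K : AddSubgroup M}

/-- The component `z_c` of `z`: nonzero, and on `c` it lies in the same axes as `z`. -/
theorem exists_comp [Finite H] [Finite M] (D : Sit A TT YY z) (hK : K ∈ A) :
    ∃ u ∈ UC A YY K, u ≠ 0 ∧ ∀ g ∈ Cp A YY K, u ∈ g ↔ z ∈ g := by
  obtain ⟨u, hu, hg⟩ := D.mem hK
  have hiff : ∀ g ∈ Cp A YY K, u ∈ g ↔ z ∈ g := fun g h => by
    constructor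
    · intro h1
      have h2 := g.add_mem (hg g h) h1
      rwa [D.add_add_self] at h2
    · intro h1
      have h2 := g.add_mem (hg g h) h1
      rwa [add_comm z u, D.add_add_self] at h2
  refine ⟨u, hu, ?_, hiff⟩
  rintro rfl
  obtain ⟨g, h, hz⟩ := D.not_mem hK
  exact hz ((hiff g h).1 (zero_mem _))

/-- If `W ≤ U_c` lies in every axis of `c` that contains `z`, then every axis of `c` containing one nonzero vector of
`W` contains `W` (and `z`). -/
theorem mem_of_mem [Finite H] [Finite M] (D : Sit A TT YY z) (hK : K ∈ A) {W : AddSubgroup M}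
    (hWU : W ≤ UC A YY K) (hW : ∀ g ∈ Cp A YY K, z ∈ g → W ≤ g) {r : M} (hr : r ∈ W) (hr0 : r ≠ 0)
    {g : AddSubgroup M} (hg : g ∈ Cp A YY K) (hrg : r ∈ g) : z ∈ g := by
  obtain ⟨u, hu, hu0, hiff⟩ := exists_comp D hK
  obtain ⟨n, hn, hnu⟩ := D.transU hK hu hu0 (hWU hr) hr0
  -- `X u ⊆ X r`, same number
  set X : M → Set (AddSubgroup M) := fun m => {g | g ∈ Cp A YY K ∧ m ∈ g} with hX
  have hinv : ∀ k ∈ NC A TT YY K, ∀ g ∈ Cp A YY K, k • g ∈ Cp A YY K := fun k hk g hg => by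
    have h1 := D.NN_Cp (D.mem_A hg) (D.NC_le_NN hk)
    rwa [D.Cp_eq hg] at h1
  have hsub : X u ⊆ X r := fun k hk => ⟨hk.1, hW k hk.1 ((hiff k hk.1).1 hk.2) hr⟩
  have hfin : (X r).Finite := Set.toFinite _
  have himg : X r = (fun g : AddSubgroup M => n • g) '' X u := by
    ext k
    constructor
    · rintro ⟨h1, h2⟩
      refine ⟨n⁻¹ • k, ⟨hinv _ (inv_mem hn) _ h1, ?_⟩, smul_inv_smul n k⟩
      rw [mem_smul, inv_inv, hnu]
      exact h2
    · rintro ⟨k, ⟨h1, h2⟩, rfl⟩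
      refine ⟨hinv _ hn _ h1, ?_⟩
      change r ∈ n • k
      rw [mem_smul, ← hnu, inv_smul_smul]
      exact h2
  have hcard : (X r).ncard = (X u).ncard := by
    rw [himg]
    exact Set.ncard_image_of_injective _ (MulAction.injective n)
  have heq : X u = X r := Set.eq_of_subset_of_ncard_le hsub hcard.le hfin
  have h1 : g ∈ X r := ⟨hg, hrg⟩
  rw [← heq] at h1
  exact (hiff g hg).1 h1.2

/-- **`|T| = 2` is impossible** (#21360 (0)): axes of index `2`, `|W| ≥ 4`. -/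
theorem two_false [Finite H] [Finite M] (D : Sit A TT YY z) (hK : K ∈ A) {W : AddSubgroup M}
    (hWU : W ≤ UC A YY K) (hW : ∀ g ∈ Cp A YY K, z ∈ g → W ≤ g)
    (h2 : ∀ g ∈ A, ∀ a b : M, a ∉ g → b ∉ g → a + b ∈ g)
    {r s : M} (hr : r ∈ W) (hs : s ∈ W) (hr0 : r ≠ 0) (hs0 : s ≠ 0) (hrs : r ≠ s) : False := by
  obtain ⟨g, hg, hz⟩ := D.not_mem hK
  have h1 : ∀ w ∈ W, w ≠ 0 → w ∉ g := fun w hw hw0 hwg => hz (mem_of_mem D hK hWU hW hw hw0 hg hwg)
  refine h1 (r + s) (add_mem hr hs) (fun h => hrs ?_) (h2 g (D.mem_A hg) r s (h1 r hr hr0) (h1 s hs hs0))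
  have h3 := D.add_add_self r s
  rw [h, zero_add] at h3
  exact h3.symm

end Cfsg.Agent.Omega.NOThreeL.RF.TwoT

end

section


/-!
# NO-3L, box R, `q > 2`: the abstract part of #19602 (helper797), I: root groups, axes, THEOREM EXACT

`H` acts on the elementary abelian 2-group `M` (`= U_H`); `Ax i = C_U(N_i)`, `R i = [U, N_i]`, `T i` = the image of
`N_i`, with `[u, T i] = R i` for all `u ∉ Ax i` (`V_P` split over `C_Z(P)`).

* `Rt T Ax R` : root groups; the API (`TT_fix`, `TT_quad`, `TT_full`, `adj_symm`, `smul_eq_of_not_adj`) without any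
  hypothesis on `Z`;
* `Ex T Ax R` : moreover `|M : Ax j| ≤ |R i|`, `2 < |R i|`, `noff` (an element fixing a full vector maps the `R l`
  into all `Ax j`) and `nt` (the `R i` are not contained in all axes);
* `Ex.exact`, `Ex.card_eq` : THEOREM EXACT WITH RADICAL, #19602 (4);
* `Ex.ti` : `x • R i ≤ g` or `x • R i ∩ g = 0` for every axis `g`;
* `Ex.not_reach` : different `Ax i` are in different components.
-/

set_option autoImplicit false

namespace Cfsg.Agent.Omega.NOThreeL.RSplit.Root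

open scoped Pointwise
open Cfsg.Agent.Omega.NOThreeL.ThmAx (Full IsAx TT YY Adj mem_smul smul_eq_of YY_smul YY_smul_eq adj_smul IsAx.smul)

variable {H M : Type*} [Group H] [AddCommGroup M] [DistribMulAction H M]

/-- Root groups. -/
structure Rt {ι : Type*} (T : ι → Subgroup H) (Ax R : ι → AddSubgroup M) : Prop where
  char2 : ∀ m : M, m + m = 0
  fix : ∀ i, ∀ t ∈ T i, ∀ u ∈ Ax i, t • u = u
  quad : ∀ i, ∀ t ∈ T i, ∀ u : M, t • u - u ∈ R i
  full : ∀ i, ∀ u : M, u ∉ Ax i → ∀ r ∈ R i, ∃ t ∈ T i, t • u = u + r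
  le : ∀ i j, R i ≤ Ax j
  trans : ∀ i j, ∃ s : H, s • Ax i = Ax j

namespace Rt

variable {ι : Type*} {T : ι → Subgroup H} {Ax R : ι → AddSubgroup M} (D : Rt T Ax R)
include D

omit D in
theorem isAx (Ax : ι → AddSubgroup M) (i : ι) : IsAx (H := H) Ax (Ax i) := ⟨1, i, one_smul _ _⟩

theorem YY_le {g : AddSubgroup M} : YY H Ax R g ≤ g := by
  unfold YY
  rw [AddSubgroup.closure_le]
  rintro m ⟨h, i, rfl, y, hy, rfl⟩
  exact AddSubgroup.smul_mem_pointwise_smul _ _ _ (D.le i i hy)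

omit D in
theorem R_le_YY (i : ι) : R i ≤ YY H Ax R (Ax i) := fun y hy =>
  AddSubgroup.subset_closure ⟨1, i, one_smul _ _, y, hy, (one_smul _ _).symm⟩

theorem TT_fix {g : AddSubgroup M} {t : H} (ht : t ∈ TT T Ax g) {u : M} (hu : u ∈ g) : t • u = u := by
  induction ht using Subgroup.closure_induction with
  | mem t ht =>
    obtain ⟨h, i, hg, s, hs, rfl⟩ := ht
    rw [← hg, mem_smul] at hu
    rw [mul_smul, mul_smul, D.fix i s hs _ hu, smul_inv_smul]
  | one => rw [one_smul]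
  | mul a b _ _ ha hb => rw [mul_smul, hb, ha]
  | inv a _ ha => rw [inv_smul_eq_iff, ha]

theorem TT_quad {g : AddSubgroup M} {t : H} (ht : t ∈ TT T Ax g) (u : M) :
    t • u - u ∈ YY H Ax R g := by
  induction ht using Subgroup.closure_induction generalizing u with
  | mem t ht =>
    obtain ⟨h, i, hg, s, hs, rfl⟩ := ht
    have h1 := D.quad i s hs (h⁻¹ • u)
    have h2 : (h * s * h⁻¹) • u - u = h • (s • (h⁻¹ • u) - h⁻¹ • u) := by
      rw [mul_smul, mul_smul, smul_sub, smul_inv_smul]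
    rw [h2]
    exact AddSubgroup.subset_closure ⟨h, i, hg, _, h1, rfl⟩
  | one => rw [one_smul, sub_self]; exact AddSubgroup.zero_mem _
  | mul a b _ _ ha hb =>
    have h1 : (a * b) • u - u = (a • b • u - b • u) + (b • u - u) := by rw [mul_smul]; abel
    rw [h1]
    exact AddSubgroup.add_mem _ (ha _) (hb _)
  | inv a _ ha =>
    have h1 : a⁻¹ • u - u = -(a • (a⁻¹ • u) - a⁻¹ • u) := by rw [smul_inv_smul]; abel
    rw [h1]
    exact AddSubgroup.neg_mem _ (ha _)

/-- fullness -/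
theorem TT_full {g : AddSubgroup M} {u : M} (hu : u ∉ g) {y : M} (hy : y ∈ YY H Ax R g) :
    ∃ t ∈ TT T Ax g, t • u = u + y := by
  induction hy using AddSubgroup.closure_induction with
  | mem m hm =>
    obtain ⟨h, i, hg, y, hy, rfl⟩ := hm
    have h1 : h⁻¹ • u ∉ Ax i := by rwa [← mem_smul, hg]
    obtain ⟨s, hs, hsu⟩ := D.full i _ h1 y hy
    refine ⟨h * s * h⁻¹, Subgroup.subset_closure ⟨h, i, hg, s, hs, rfl⟩, ?_⟩
    rw [mul_smul, mul_smul, hsu, smul_add, smul_inv_smul]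
  | zero => exact ⟨1, Subgroup.one_mem _, by rw [one_smul, add_zero]⟩
  | add a b _ hb ha' hb' =>
    obtain ⟨t1, ht1, h1⟩ := ha'
    obtain ⟨t2, ht2, h2⟩ := hb'
    refine ⟨t1 * t2, Subgroup.mul_mem _ ht1 ht2, ?_⟩
    rw [mul_smul, h2, smul_add, h1, D.TT_fix ht1 (D.YY_le hb), add_assoc]
  | neg a ha ha' =>
    obtain ⟨t, ht, h1⟩ := ha'
    refine ⟨t⁻¹, Subgroup.inv_mem _ ht, ?_⟩
    rw [inv_smul_eq_iff, smul_add, smul_neg, h1, D.TT_fix ht (D.YY_le ha)]
    abel

theorem TT_invol {g : AddSubgroup M} {t : H} (ht : t ∈ TT T Ax g) (u : M) : t • t • u = u := by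
  have h1 := D.TT_fix ht (D.YY_le (D.TT_quad ht u))
  rw [smul_sub] at h1
  have h2 : t • t • u = (t • u + t • u) - u := by
    rw [sub_eq_iff_eq_add] at h1
    rw [h1]
    abel
  rw [h2, D.char2, zero_sub]
  exact neg_eq_of_add_eq_zero_left (D.char2 u)

theorem neg_eq (u : M) : -u = u := neg_eq_of_add_eq_zero_left (D.char2 u)

/-- axes are conjugate -/
theorem exists_smul {g g' : AddSubgroup M} (hg : IsAx (H := H) Ax g) (hg' : IsAx (H := H) Ax g') :
    ∃ x : H, x • g = g' := by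
  obtain ⟨h, i, rfl⟩ := hg
  obtain ⟨h', j, rfl⟩ := hg'
  obtain ⟨s, hs⟩ := D.trans i j
  exact ⟨h' * s * h⁻¹, by rw [mul_smul, mul_smul, inv_smul_smul, hs]⟩

theorem card_YY {g g' : AddSubgroup M} (hg : IsAx (H := H) Ax g) (hg' : IsAx (H := H) Ax g') :
    Nat.card (YY H Ax R g) = Nat.card (YY H Ax R g') := by
  obtain ⟨x, rfl⟩ := D.exists_smul hg hg'
  rw [YY_smul_eq]
  refine Nat.card_congr ⟨fun e => ⟨x • (e : M), AddSubgroup.smul_mem_pointwise_smul _ _ _ e.2⟩,
    fun e => ⟨x⁻¹ • (e : M), mem_smul.mp e.2⟩, fun e => ?_, fun e => ?_⟩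
  · ext; simp
  · ext; simp

omit D in
theorem eq_of_le' [Finite M] {a b : AddSubgroup M} (h : a ≤ b) (hc : Nat.card b ≤ Nat.card a) : a = b := by
  apply SetLike.coe_injective
  apply Set.eq_of_subset_of_ncard_le h
  exact hc

theorem smul_eq_of_not_adj {g g' : AddSubgroup M} (h : ¬ Adj H Ax R g' g) {t : H} (ht : t ∈ TT T Ax g') :
    t • g = g := by
  have hcon : YY H Ax R g' ≤ g := not_not.mp h
  refine smul_eq_of (P := TT T Ax g') (fun t ht u hu => ?_) ht
  rw [mem_smul] at hu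
  have h1 := hcon (D.TT_quad ht (t⁻¹ • u))
  have h2 := g.add_mem h1 hu
  rwa [sub_add_cancel, smul_inv_smul] at h2

theorem adj_symm [Finite M] {g g' : AddSubgroup M} (hg : IsAx (H := H) Ax g) (hg' : IsAx (H := H) Ax g')
    (h : Adj H Ax R g g') : Adj H Ax R g' g := by
  intro hcon
  -- `T_{g'}` normalises `g`
  have hn : ∀ t ∈ TT T Ax g', t • g = g := fun t ht => D.smul_eq_of_not_adj (not_not.mpr hcon) ht
  obtain ⟨y, hy, hyg⟩ := Set.not_subset.mp h
  have h1 : YY H Ax R g' ≤ YY H Ax R g := by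
    intro e he
    obtain ⟨t, ht, hte⟩ := D.TT_full hyg he
    have h2 : t • y ∈ YY H Ax R g := by
      have := YY_smul (Ax := Ax) (R := R) t g hy
      rwa [hn t ht] at this
    rw [hte] at h2
    have h3 := (YY H Ax R g).sub_mem h2 hy
    rwa [add_sub_cancel_left] at h3
  have h2 := eq_of_le' h1 (D.card_YY hg hg').le
  apply h
  rw [← h2]
  exact D.YY_le

end Rt

/-- Root groups with the hypotheses of THEOREM EXACT. -/
structure Ex {ι : Type*} [Fintype ι] (T : ι → Subgroup H) (Ax R : ι → AddSubgroup M) : Prop extends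
    Rt T Ax R where
  card : ∀ i j, Nat.card (M ⧸ Ax j) ≤ Nat.card (R i)
  big : ∀ i, 2 < Nat.card (R i)
  noff : ∀ r : M, Full R r → ∀ t : H, t • r = r → ∀ l, ∀ r' ∈ R l, ∀ i, t • r' ∈ Ax i
  nt : ∀ i, ∃ g, IsAx (H := H) Ax g ∧ ¬ R i ≤ g

namespace Ex

variable {ι : Type*} [Fintype ι] {T : ι → Subgroup H} {Ax R : ι → AddSubgroup M} (D : Ex T Ax R)
include D

theorem card_quot {g : AddSubgroup M} (hg : IsAx (H := H) Ax g) (i : ι) :
    Nat.card (M ⧸ g) = Nat.card (M ⧸ Ax i) := by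
  obtain ⟨x, rfl⟩ := D.exists_smul (Rt.isAx Ax i) hg
  exact (Nat.card_congr (QuotientAddGroup.congr (Ax i) (x • Ax i) (DistribMulAction.toAddEquiv M x)
    rfl).toEquiv).symm

/-- (6) an axis which contains a full vector contains all `R l` -/
theorem six [Finite M] {g : AddSubgroup M} (hg : IsAx (H := H) Ax g) {r : M} (hr : Full R r) (hrg : r ∈ g) (l : ι) :
    R l ≤ g := by
  by_contra hcon
  obtain ⟨z, hz, hzg⟩ := Set.not_subset.mp hcon
  have h1 : ∀ i, YY H Ax R g ≤ Ax i := by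
    intro i y hy
    obtain ⟨t, ht, hty⟩ := D.TT_full hzg hy
    have h2 := D.noff r hr t (D.TT_fix ht hrg) l z hz i
    rw [hty] at h2
    have h3 := (Ax i).sub_mem h2 (D.le l i hz)
    rwa [add_sub_cancel_left] at h3
  have h3 : Adj H Ax R (Ax l) g := fun h => hzg (h (Rt.R_le_YY l hz))
  exact D.adj_symm (Rt.isAx Ax l) hg h3 (h1 l)

theorem six' [Finite M] {g : AddSubgroup M} (hg : IsAx (H := H) Ax g) (t : H) {r : M}
    (hr : Full R r) (hrg : t • r ∈ g) (l : ι) : t • R l ≤ g := by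
  have h1 := D.six (hg.smul t⁻¹) hr (by rw [mem_smul, inv_inv]; exact hrg) l
  intro z hz
  rw [mem_smul] at hz
  have h3 := h1 hz
  rwa [mem_smul, inv_inv, smul_inv_smul] at h3

theorem ne_zero_of_big (i : ι) (r : M) : ∃ c ∈ R i, c ≠ 0 ∧ c ≠ r := by
  classical
  by_contra hcon
  push Not at hcon
  have h1 : ((R i : AddSubgroup M) : Set M) ⊆ ({0, r} : Set M) := by
    intro c hc
    by_cases h0 : c = 0
    · exact Or.inl h0
    · exact Or.inr (hcon c hc h0)
  have h2 : Nat.card (R i) ≤ 2 := by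
    have h3 := Set.ncard_le_ncard h1 (Set.toFinite _)
    have h4 : ({0, r} : Set M).ncard ≤ 2 := by
      have h5 := Set.ncard_insert_le (0 : M) {r}
      rwa [Set.ncard_singleton] at h5
    exact h3.trans h4
  exact absurd (D.big i) (by omega)

/-- (7), first part -/
theorem seven [Finite M] {g : AddSubgroup M} (hg : IsAx (H := H) Ax g) {l : ι} (hl : ¬ R l ≤ g) :
    ∃ i, ∀ r ∈ R i, r ∈ g → r = 0 := by
  by_contra hcon
  push Not at hcon
  choose f h1 h2 h3 using hcon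
  exact hl (D.six hg ⟨f, fun i => ⟨h1 i, h3 i⟩, rfl⟩ (g.sum_mem fun i _ => h2 i) l)

theorem inj_surj [Finite M] {g : AddSubgroup M} (hg : IsAx (H := H) Ax g) {i : ι}
    (h : ∀ r ∈ R i, r ∈ g → r = 0) :
    Nat.card (M ⧸ g) = Nat.card (R i) ∧ ∀ u : M, ∃ r ∈ R i, r + u ∈ g := by
  let φ : R i → M ⧸ g := fun r => QuotientAddGroup.mk (r : M)
  have hinj : Function.Injective φ := by
    intro a b hab
    have h1 : -(a : M) + b ∈ g := QuotientAddGroup.eq.mp hab
    have h2 := h _ ((R i).add_mem ((R i).neg_mem a.2) b.2) h1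
    exact Subtype.ext (neg_add_eq_zero.mp h2)
  have hbij : Function.Bijective φ := by
    refine hinj.bijective_of_nat_card_le ?_
    rw [D.card_quot hg i]
    exact D.card i i
  refine ⟨(Nat.card_congr (Equiv.ofBijective φ hbij)).symm, fun u => ?_⟩
  obtain ⟨r, hr⟩ := hbij.2 (QuotientAddGroup.mk u)
  have h1 : -(r : M) + u ∈ g := QuotientAddGroup.eq.mp hr
  rw [D.neg_eq] at h1
  exact ⟨r, r.2, h1⟩

/-- (7), second part -/
theorem others [Finite M] {g : AddSubgroup M} (hg : IsAx (H := H) Ax g) {l₀ : ι} (hZ : ¬ R l₀ ≤ g) {i : ι}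
    (h : ∀ r ∈ R i, r ∈ g → r = 0) {l : ι} (hl : l ≠ i) : R l ≤ g := by
  classical
  -- nonzero vectors
  have hx : ∀ m, ∃ x ∈ R m, x ≠ 0 := fun m => by
    obtain ⟨c, hc, hc0, -⟩ := D.ne_zero_of_big m 0
    exact ⟨c, hc, hc0⟩
  choose x hxR hx0 using hx
  obtain ⟨-, hs⟩ := D.inj_surj hg h
  let ρ : M → M := fun d => d + ∑ m ∈ (Finset.univ.erase l).erase i, x m
  have key : ∀ d ∈ R l, d ≠ 0 → ρ d ∈ g := by
    intro d hd hd0
    obtain ⟨s, hsR, hsg⟩ := hs (ρ d)
    by_cases hs0 : s = 0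
    · rwa [hs0, zero_add] at hsg
    · exfalso
      refine hZ (D.six hg (r := s + ρ d)
        ⟨fun m => if m = i then s else if m = l then d else x m, fun m => ?_, ?_⟩ hsg l₀)
      · by_cases h1 : m = i
        · subst h1; simp only [if_true]; exact ⟨hsR, hs0⟩
        · by_cases h2 : m = l
          · subst h2; simp only [if_neg h1, if_true]; exact ⟨hd, hd0⟩
          · simp only [if_neg h1, if_neg h2]; exact ⟨hxR m, hx0 m⟩
      · have hiu : i ∈ Finset.univ.erase l := Finset.mem_erase.mpr ⟨hl.symm, Finset.mem_univ _⟩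
        rw [← Finset.add_sum_erase Finset.univ _ (Finset.mem_univ l), ← Finset.add_sum_erase _ _ hiu]
        simp only [if_true, if_neg hl]
        have h1 : ∑ m ∈ (Finset.univ.erase l).erase i, (if m = i then s else if m = l then d else x m)
            = ∑ m ∈ (Finset.univ.erase l).erase i, x m := by
          refine Finset.sum_congr rfl fun m hm => ?_
          rw [Finset.mem_erase, Finset.mem_erase] at hm
          rw [if_neg hm.1, if_neg hm.2.1]
        rw [h1]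
        change s + (d + _) = d + (s + _)
        abel
  intro r hr
  by_cases hr0 : r = 0
  · rw [hr0]; exact g.zero_mem
  obtain ⟨c, hc, hc0, hcr⟩ := D.ne_zero_of_big l r
  have h1 := key c hc hc0
  have h2 := key (c + r) ((R l).add_mem hc hr) (fun h0 => hcr (by
    rw [← D.neg_eq r]; exact eq_neg_of_add_eq_zero_left h0))
  have h3 := g.sub_mem h2 h1
  have h4 : ρ (c + r) - ρ c = r := by
    change (c + r + _) - (c + _) = r
    abel
  rwa [h4] at h3

/-- (7): the axes not containing `R i`. -/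
theorem spec [Finite M] {g : AddSubgroup M} (hg : IsAx (H := H) Ax g) {i : ι} (hi : ¬ R i ≤ g) :
    (∀ l, l ≠ i → R l ≤ g) ∧ Nat.card (M ⧸ g) = Nat.card (R i) ∧
      (∀ u : M, ∃ r ∈ R i, r + u ∈ g) ∧ ∀ r ∈ R i, r ∈ g → r = 0 := by
  obtain ⟨j, hj⟩ := D.seven hg hi
  have hji : j = i := by
    by_contra hne
    exact hi (D.others hg hi hj (fun h => hne h.symm))
  subst hji
  exact ⟨fun l hl => D.others hg hi hj hl, (D.inj_surj hg hj).1, (D.inj_surj hg hj).2, hj⟩

/-- (8), no edges between different `NN`. -/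
theorem eight [Finite M] {g g' : AddSubgroup M} (hg : IsAx (H := H) Ax g) (hg' : IsAx (H := H) Ax g')
    {i j : ι} (hi : ¬ R i ≤ g) (hj : ¬ R j ≤ g') (hij : i ≠ j) : ¬ Adj H Ax R g g' := by
  classical
  intro hadj
  obtain ⟨y, hy, hyg⟩ := Set.not_subset.mp hadj
  obtain ⟨h1, -, -, -⟩ := D.spec hg hi
  obtain ⟨h2, -, h3, -⟩ := D.spec hg' hj
  obtain ⟨s, hsR, hsg⟩ := h3 y
  have hs0 : s ≠ 0 := by
    rintro rfl
    rw [zero_add] at hsg
    exact hyg hsg
  obtain ⟨a, haR, hag⟩ := Set.not_subset.mp hi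
  have ha0 : a ≠ 0 := fun h => hag (h ▸ g.zero_mem)
  obtain ⟨t, ht, hta⟩ := D.TT_full hag hy
  have hx : ∀ m, ∃ x ∈ R m, x ≠ 0 := fun m => by
    obtain ⟨c, hc, hc0, -⟩ := D.ne_zero_of_big m 0
    exact ⟨c, hc, hc0⟩
  choose x hxR hx0 using hx
  let f : ι → M := fun m => if m = i then a else if m = j then s else x m
  have hfi : f i = a := if_pos rfl
  have hfj : f j = s := by
    change (if j = i then a else if j = j then s else x j) = s
    rw [if_neg hij.symm, if_pos rfl]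
  have hf : ∀ m, f m ∈ R m ∧ f m ≠ 0 := by
    intro m
    by_cases e1 : m = i
    · subst e1; rw [hfi]; exact ⟨haR, ha0⟩
    · by_cases e2 : m = j
      · subst e2; rw [hfj]; exact ⟨hsR, hs0⟩
      · have : f m = x m := by
          change (if m = i then a else if m = j then s else x m) = x m
          rw [if_neg e1, if_neg e2]
        rw [this]
        exact ⟨hxR m, hx0 m⟩
  have hsum : t • (∑ m, f m) = (∑ m ∈ Finset.univ.erase j, f m) + (s + y) := by
    rw [← Finset.add_sum_erase Finset.univ f (Finset.mem_univ i), smul_add, hfi, hta, Finset.smul_sum]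
    have e1 : ∑ m ∈ Finset.univ.erase i, t • f m = ∑ m ∈ Finset.univ.erase i, f m := by
      refine Finset.sum_congr rfl fun m hm => ?_
      rw [Finset.mem_erase] at hm
      exact D.TT_fix ht (h1 m hm.1 (hf m).1)
    rw [e1]
    have e2 : a + ∑ m ∈ Finset.univ.erase i, f m = s + ∑ m ∈ Finset.univ.erase j, f m := by
      rw [← hfi, Finset.add_sum_erase Finset.univ f (Finset.mem_univ i), ← hfj,
        Finset.add_sum_erase Finset.univ f (Finset.mem_univ j)]
    have e3 : a + y + ∑ m ∈ Finset.univ.erase i, f m = (a + ∑ m ∈ Finset.univ.erase i, f m) + y := by abel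
    rw [e3, e2]
    abel
  have hmem : t • (∑ m, f m) ∈ g' := by
    rw [hsum]
    refine g'.add_mem (g'.sum_mem fun m hm => ?_) hsg
    rw [Finset.mem_erase] at hm
    exact h2 m hm.1 (hf m).1
  have h4 := D.six' hg' t ⟨f, hf, rfl⟩ hmem j
  apply hj
  intro r hr
  have h5 := h4 (AddSubgroup.smul_mem_pointwise_smul _ t _ hr)
  rwa [D.TT_fix ht (h1 j hij.symm hr)] at h5

omit D in
/-- the union of components `CC i` -/
def CC (H : Type*) [Group H] {M : Type*} [AddCommGroup M] [DistribMulAction H M] {ι : Type*}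
    (Ax R : ι → AddSubgroup M) (i : ι) (g : AddSubgroup M) : Prop :=
  IsAx (H := H) Ax g ∧ (¬ R i ≤ g ∨ ((∀ l, R l ≤ g) ∧
    ∃ g2, IsAx (H := H) Ax g2 ∧ ¬ R i ≤ g2 ∧ Adj H Ax R g g2))

/-- `CC i` is closed under adjacency -/
theorem CC_adj [Finite M] {i : ι} {g g' : AddSubgroup M} (h : CC H Ax R i g) (hg' : IsAx (H := H) Ax g')
    (hadj : Adj H Ax R g g') : CC H Ax R i g' := by
  obtain ⟨hg, h⟩ := h
  have hadj' := D.adj_symm hg hg' hadj
  refine ⟨hg', ?_⟩
  rcases h with h | ⟨hZ, g2, hg2, hi2, ha2⟩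
  · by_cases hZ' : ∀ l, R l ≤ g'
    · exact Or.inr ⟨hZ', g, hg, h, hadj'⟩
    · left
      push Not at hZ'
      obtain ⟨j, hj⟩ := hZ'
      by_cases hij : i = j
      · rwa [hij]
      · exact absurd hadj (D.eight hg hg' h hj hij)
  · -- move `g` into `NN i`
    obtain ⟨hl2, -, -, -⟩ := D.spec hg2 hi2
    obtain ⟨z, hz, hz2⟩ := Set.not_subset.mp hi2
    obtain ⟨y, hy, hyg⟩ := Set.not_subset.mp (D.adj_symm hg hg2 ha2)
    obtain ⟨t, ht, htz⟩ := D.TT_full hz2 hy
    have hz1 : ¬ R i ≤ t⁻¹ • g := by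
      intro h1
      have h2 := h1 hz
      rw [mem_smul, inv_inv, htz] at h2
      have h3 := g.sub_mem h2 (hZ i hz)
      rw [add_sub_cancel_left] at h3
      exact hyg h3
    have hg1 : IsAx (H := H) Ax (t⁻¹ • g) := hg.smul _
    -- a neighbour `g'` with `g'` not adjacent to `g2` is fixed by `t`
    have hfix : ¬ Adj H Ax R g2 g' → Adj H Ax R (t⁻¹ • g) g' := by
      intro h1
      have h2 := D.smul_eq_of_not_adj h1 (Subgroup.inv_mem _ ht)
      have h3 := adj_smul t⁻¹ hadj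
      rwa [h2] at h3
    by_cases hZ' : ∀ l, R l ≤ g'
    · right
      refine ⟨hZ', ?_⟩
      by_cases h1 : Adj H Ax R g2 g'
      · exact ⟨g2, hg2, hi2, D.adj_symm hg2 hg' h1⟩
      · exact ⟨t⁻¹ • g, hg1, hz1, D.adj_symm hg1 hg' (hfix h1)⟩
    · left
      push Not at hZ'
      obtain ⟨j, hj⟩ := hZ'
      by_cases hij : i = j
      · rwa [hij]
      · exact absurd (hfix (D.eight hg2 hg' hi2 hj hij)) (D.eight hg1 hg' hz1 hj hij)

theorem CC_disj [Finite M] {i j : ι} {g : AddSubgroup M} (hi : CC H Ax R i g) (hj : CC H Ax R j g) :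
    i = j := by
  by_contra hij
  rcases hj.2 with h2 | ⟨hZ, g3, hg3, hi3, ha3⟩
  · rcases hi.2 with h1 | ⟨hZ, -⟩
    · exact h2 ((D.spec hi.1 h1).1 j (fun h => hij h.symm))
    · exact h2 (hZ j)
  · have h1 := D.CC_adj hi hg3 ha3
    rcases h1.2 with h2 | ⟨hZ3, -⟩
    · exact hi3 ((D.spec hg3 h2).1 j (fun h => hij h.symm))
    · exact hi3 (hZ3 j)

theorem CC_self [Finite M] (i : ι) : CC H Ax R i (Ax i) := by
  refine ⟨Rt.isAx Ax i, Or.inr ⟨fun l => D.le l i, ?_⟩⟩
  obtain ⟨g, hg, hi⟩ := D.nt i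
  exact ⟨g, hg, hi, fun h => hi ((Rt.R_le_YY i).trans h)⟩

theorem card_eq [Finite M] (i j : ι) : Nat.card (M ⧸ Ax j) = Nat.card (R i) := by
  obtain ⟨g, hg, hi⟩ := D.nt i
  rw [← (D.spec hg hi).2.1, D.card_quot hg j]

/-- **THEOREM EXACT WITH RADICAL**, abstract form. -/
theorem exact [Finite M] (i : ι) (u : M) : ∃ v : M, (∀ l, l ≠ i → v ∈ Ax l) ∧ v + u ∈ Ax i := by
  obtain ⟨g, hg, hi⟩ := D.nt i
  have h1 : Adj H Ax R (Ax i) g := fun h => hi ((Rt.R_le_YY i).trans h)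
  have h2 := D.adj_symm (Rt.isAx Ax i) hg h1
  -- a conjugate of some `R j` in `YY g`, not contained in `Ax i`
  have h3 : ∃ (h : H) (j : ι), h • Ax j = g ∧ ¬ h • R j ≤ Ax i := by
    by_contra hcon
    push Not at hcon
    apply h2
    unfold YY
    rw [AddSubgroup.closure_le]
    rintro m ⟨h, j, hg, y, hy, rfl⟩
    exact hcon h j hg (AddSubgroup.smul_mem_pointwise_smul _ _ _ hy)
  obtain ⟨h, j, hgj, hj⟩ := h3
  have h4 : ¬ R j ≤ h⁻¹ • Ax i := by
    intro h5
    apply hj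
    intro m hm
    rw [mem_smul] at hm
    have h6 := h5 hm
    rwa [mem_smul, inv_inv, smul_inv_smul] at h6
  obtain ⟨-, -, h5, -⟩ := D.spec ((Rt.isAx Ax i).smul h⁻¹) h4
  obtain ⟨r, hr, hru⟩ := h5 (h⁻¹ • u)
  refine ⟨h • r, fun l hl => ?_, ?_⟩
  · have h6 : h • r ∈ YY H Ax R g := AddSubgroup.subset_closure ⟨h, j, hgj, r, hr, rfl⟩
    by_contra h7
    have h8 : Adj H Ax R g (Ax l) := fun h => h7 (h h6)
    have h9 := D.CC_adj (i := i) ⟨hg, Or.inl hi⟩ (Rt.isAx Ax l) h8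
    exact hl (D.CC_disj (D.CC_self l) h9)
  · rw [mem_smul, inv_inv, smul_add, smul_inv_smul] at hru
    exact hru

/-- **(TI)** a centre is contained in an axis or is a complement of it. -/
theorem ti [Finite M] {g : AddSubgroup M} (hg : IsAx (H := H) Ax g) (x : H) (i : ι) (hx : ¬ x • R i ≤ g) :
    (∀ m ∈ x • R i, m ∈ g → m = 0) ∧ ∀ u : M, ∃ r ∈ x • R i, r + u ∈ g := by
  have h4 : ¬ R i ≤ x⁻¹ • g := by
    intro h5
    apply hx
    intro m hm
    rw [mem_smul] at hm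
    have h6 := h5 hm
    rwa [mem_smul, inv_inv, smul_inv_smul] at h6
  obtain ⟨-, -, h5, h6⟩ := D.spec (hg.smul x⁻¹) h4
  constructor
  · intro m hm hmg
    rw [mem_smul] at hm
    have h7 := h6 _ hm (by rw [mem_smul, inv_inv, smul_inv_smul]; exact hmg)
    rwa [smul_eq_zero_iff_eq] at h7
  · intro u
    obtain ⟨r, hr, hru⟩ := h5 (x⁻¹ • u)
    rw [mem_smul, inv_inv, smul_add, smul_inv_smul] at hru
    exact ⟨x • r, AddSubgroup.smul_mem_pointwise_smul _ _ _ hr, hru⟩

/-- different `Ax i` are in different components -/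
theorem not_reach [Finite M] {i j : ι}
    (h : Relation.ReflTransGen (fun g g' => IsAx (H := H) Ax g' ∧ Adj H Ax R g g') (Ax i) (Ax j)) : i = j := by
  have h1 : ∀ g, Relation.ReflTransGen (fun g g' => IsAx (H := H) Ax g' ∧ Adj H Ax R g g') (Ax i) g →
      CC H Ax R i g := by
    intro g hg
    induction hg with
    | refl => exact D.CC_self i
    | tail _ hbc ih => exact D.CC_adj ih hbc.1 hbc.2
  exact D.CC_disj (h1 _ h) (D.CC_self j)

end Ex

end Cfsg.Agent.Omega.NOThreeL.RSplit.Root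

end

section


/-!
# NO-3L, box R, `q > 2`: (F'), (P), (M), (2) of #19602 for root groups

`axSys` : root groups `Rt T Ax R` with `2 < |R i|` are an axis system (`RBig.Trans.AxSys`);
`sit` : with a vector `z` fixed by a Sylow 2-subgroup, `H = N C_H(z)`, `N = ⟨T i ^ H⟩`, not fixed by `N`, the situation
`RBig.Trans.Sit`: `Sit.inf`, `Sit.orbit`, `Sit.mem`, `Sit.transU`, `Sit.mem_all`, `Sit.F'`.
-/

set_option autoImplicit false

namespace Cfsg.Agent.Omega.NOThreeL.RSplit.TransRt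

open Cfsg.Agent.Omega.NOThreeL.ThmAx (IsAx TT YY Adj mem_smul YY_smul_eq IsAx.smul)
open Cfsg.Agent.Omega.NOThreeL.RSplit.Root Cfsg.Agent.Omega.NOThreeL.RBig.Trans
open scoped Pointwise

variable {H M : Type*} [Group H] [AddCommGroup M] [DistribMulAction H M]
variable {ι : Type*} {T : ι → Subgroup H} {Ax R : ι → AddSubgroup M}

/-- the set of axes -/
def Axs (H : Type*) [Group H] {M : Type*} [AddCommGroup M] [DistribMulAction H M] {ι : Type*}
    (Ax : ι → AddSubgroup M) : Set (AddSubgroup M) := {g | IsAx (H := H) Ax g}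

theorem exists_big [Finite M] (i : ι) (h : 2 < Nat.card (R i)) (r : M) : ∃ c ∈ R i, c ≠ 0 ∧ c ≠ r := by
  by_contra hcon
  push Not at hcon
  have h1 : ((R i : AddSubgroup M) : Set M) ⊆ {0, r} := fun c hc => by
    by_cases h0 : c = 0
    · exact Or.inl h0
    · exact Or.inr (hcon c hc h0)
  have h2 : Nat.card (R i) ≤ ({0, r} : Set M).ncard := by
    rw [← SetLike.coe_sort_coe, Nat.card_coe_set_eq]
    exact Set.ncard_le_ncard h1 (Set.toFinite _)
  have h3 : ({0, r} : Set M).ncard ≤ 2 := by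
    classical
    exact (Set.ncard_insert_le _ _).trans (by rw [Set.ncard_singleton])
  omega

theorem conj_TT (x : H) {g : AddSubgroup M} {t : H} (ht : t ∈ TT T Ax g) : x * t * x⁻¹ ∈ TT T Ax (x • g) := by
  induction ht using Subgroup.closure_induction with
  | mem t ht =>
    obtain ⟨h, i, hg, s, hs, rfl⟩ := ht
    refine Subgroup.subset_closure ⟨x * h, i, by rw [mul_smul, hg], s, hs, by group⟩
  | one => rw [mul_one, mul_inv_cancel]; exact one_mem _
  | mul a b _ _ ha hb =>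
    have e : x * (a * b) * x⁻¹ = (x * a * x⁻¹) * (x * b * x⁻¹) := by group
    rw [e]
    exact mul_mem ha hb
  | inv a _ ha =>
    have e : x * a⁻¹ * x⁻¹ = (x * a * x⁻¹)⁻¹ := by group
    rw [e]
    exact inv_mem ha

/-- Root groups are an axis system. -/
theorem axSys [Finite M] (D : Rt T Ax R) (big : ∀ i, 2 < Nat.card (R i)) :
    AxSys (Axs H Ax) (TT T Ax) (YY H Ax R) where
  char2 := D.char2
  inv := fun x _ hg => IsAx.smul hg x
  conjT := fun x _ _ _ ht => conj_TT x ht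
  conjY := fun x g _ => YY_smul_eq x g
  le := fun _ _ => D.YY_le
  fix := fun _ _ _ ht _ hu => D.TT_fix ht hu
  quad := fun _ _ t ht u => by
    have h := D.TT_quad ht u
    have e : t • u - u = t • u + u := by
      rw [sub_eq_add_neg, neg_eq_of_add_eq_zero_left (D.char2 u)]
    rwa [e] at h
  full := fun _ _ _ hu _ hy => D.TT_full hu hy
  symm := fun _ hg _ hg' h => D.adj_symm hg hg' h
  big := by
    rintro _ ⟨h, i, rfl⟩ r
    obtain ⟨c, hc, hc0, hcr⟩ := exists_big i (big i) (h⁻¹ • r)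
    refine ⟨h • c, ?_, fun h0 => hc0 ?_, fun h0 => hcr ?_⟩
    · rw [YY_smul_eq]
      exact AddSubgroup.smul_mem_pointwise_smul _ _ _ (Rt.R_le_YY i hc)
    · rw [smul_eq_zero_iff_eq] at h0
      exact h0
    · rw [← h0, inv_smul_smul]
  trans := fun _ hg _ hg' => D.exists_smul hg hg'

/-- `N = ⟨x T_i x⁻¹⟩` -/
theorem conj_mem_NN {x t : H} {i : ι} (ht : t ∈ T i) : x * t * x⁻¹ ∈ NN (Axs H Ax) (TT T Ax) :=
  (le_iSup₂_of_le (x • Ax i) ⟨x, i, rfl⟩ le_rfl : TT T Ax (x • Ax i) ≤ NN (Axs H Ax) (TT T Ax))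
    (Subgroup.subset_closure ⟨x, i, rfl, t, ht, rfl⟩)

/-- The situation of a vector. -/
theorem sit [Finite M] (D : Rt T Ax R) (big : ∀ i, 2 < Nat.card (R i)) {z : M}
    (syl : ∃ S : Sylow 2 H, ∀ s ∈ S, s • z = z) (gen : ∀ h : H, ∃ n ∈ NN (Axs H Ax) (TT T Ax), (n⁻¹ * h) • z = z)
    (ne : ∃ (x : H) (i : ι), z ∉ x • Ax i) : Sit (Axs H Ax) (TT T Ax) (YY H Ax R) z where
  toAxSys := axSys D big
  syl := syl
  gen := gen
  ne := by
    obtain ⟨x, i, h⟩ := ne
    exact ⟨_, ⟨x, i, rfl⟩, h⟩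

end Cfsg.Agent.Omega.NOThreeL.RSplit.TransRt

end

section


/-!
# A normal abelian subgroup as a module

`A : Nrm H U` : `U` is abelian and normalised by `H`; `A.Mod` is `U` written additively, with the action of `H` by
conjugation; `A.val : A.Mod → G`, `A.of x hx : A.Mod`; `A.ad B = U ∩ B` as an additive subgroup.
-/

set_option autoImplicit false

namespace Cfsg.Agent.Omega.NOThreeL.RSplit

open Subgroup
open Cfsg.Agent.Omega.NoFF.Basic (mem_conj)
open scoped Pointwise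

universe u

variable {G : Type u} [Group G]

/-- `H` normalises the abelian group `U`. -/
structure Nrm (H U : Subgroup G) : Prop where
  ab : ∀ u ∈ U, ∀ v ∈ U, u * v = v * u
  nrm : H ≤ normalizer (U : Set G)

/-- `U` as an `H`-module. -/
def Nrm.Mod {H U : Subgroup G} (_ : Nrm H U) : Type u := Additive U

namespace Nrm

variable {H U : Subgroup G} (A : Nrm H U)

instance : AddCommGroup A.Mod :=
  { (inferInstance : AddGroup (Additive U)) with
    add_comm := fun v w => congrArg Additive.ofMul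
      (Subtype.ext (A.ab _ (Additive.toMul v).2 _ (Additive.toMul w).2)) }

instance [Finite G] : Finite A.Mod := inferInstanceAs (Finite U)

include A in
theorem nrm' {x u : G} (hx : x ∈ H) (hu : u ∈ U) : x * u * x⁻¹ ∈ U := (mem_normalizer_iff.1 (A.nrm hx) u).1 hu

instance : DistribMulAction H A.Mod where
  smul x v := Additive.ofMul ⟨x * (Additive.toMul (v : Additive U) : U) * (x : G)⁻¹,
    A.nrm' x.2 (Additive.toMul (v : Additive U)).2⟩
  one_smul v := congrArg Additive.ofMul (Subtype.ext (by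
    change ((1 : H) : G) * (Additive.toMul (v : Additive U) : U) * ((1 : H) : G)⁻¹ =
      (Additive.toMul (v : Additive U) : U)
    rw [OneMemClass.coe_one, one_mul, inv_one, mul_one]))
  mul_smul x y v := congrArg Additive.ofMul (Subtype.ext (by
    change ((x * y : H) : G) * (Additive.toMul (v : Additive U) : U) * ((x * y : H) : G)⁻¹ =
      x * (y * (Additive.toMul (v : Additive U) : U) * (y : G)⁻¹) * (x : G)⁻¹
    rw [Subgroup.coe_mul]; group))
  smul_zero x := congrArg Additive.ofMul (Subtype.ext (by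
    change (x : G) * ((1 : U) : G) * (x : G)⁻¹ = ((1 : U) : G)
    rw [OneMemClass.coe_one, mul_one, mul_inv_cancel]))
  smul_add x v w := congrArg Additive.ofMul (Subtype.ext (by
    change (x : G) * ((Additive.toMul (v : Additive U) * Additive.toMul (w : Additive U) : U) : G) * (x : G)⁻¹ =
      (x * (Additive.toMul (v : Additive U) : U) * (x : G)⁻¹) *
        (x * (Additive.toMul (w : Additive U) : U) * (x : G)⁻¹)
    rw [Subgroup.coe_mul]; group))

/-- the element of `G` -/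
def val (m : A.Mod) : G := ((Additive.toMul (m : Additive U) : U) : G)

/-- the element of the module -/
def of (x : G) (hx : x ∈ U) : A.Mod := (Additive.ofMul (⟨x, hx⟩ : U) : Additive U)

@[simp] theorem val_of (x : G) (hx : x ∈ U) : A.val (A.of x hx) = x := rfl

theorem val_mem (m : A.Mod) : A.val m ∈ U := (Additive.toMul (m : Additive U)).2

@[simp] theorem of_val (m : A.Mod) : A.of (A.val m) (A.val_mem m) = m := rfl

variable {A}

theorem ext {m m' : A.Mod} (h : A.val m = A.val m') : m = m' :=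
  congrArg Additive.ofMul (Subtype.ext h)

theorem ext_iff {m m' : A.Mod} : m = m' ↔ A.val m = A.val m' := ⟨fun h => by rw [h], ext⟩

@[simp] theorem val_zero : A.val 0 = 1 := rfl

@[simp] theorem val_add (m m' : A.Mod) : A.val (m + m') = A.val m * A.val m' := rfl

@[simp] theorem val_neg (m : A.Mod) : A.val (-m) = (A.val m)⁻¹ := rfl

@[simp] theorem val_sub (m m' : A.Mod) : A.val (m - m') = A.val m * (A.val m')⁻¹ := by
  rw [sub_eq_add_neg, val_add, val_neg]

@[simp] theorem val_smul (h : H) (m : A.Mod) : A.val (h • m) = h * A.val m * (h : G)⁻¹ := rfl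

theorem eq_zero_iff {m : A.Mod} : m = 0 ↔ A.val m = 1 := by rw [ext_iff, val_zero]

variable (A) in
/-- `U ∩ B` as an additive subgroup -/
def ad (B : Subgroup G) : AddSubgroup A.Mod where
  carrier := {m | A.val m ∈ B}
  zero_mem' := B.one_mem
  add_mem' ha hb := B.mul_mem ha hb
  neg_mem' ha := B.inv_mem ha

theorem mem_ad {B : Subgroup G} {m : A.Mod} : m ∈ A.ad B ↔ A.val m ∈ B := Iff.rfl

theorem ad_le_iff {B C : Subgroup G} : A.ad B ≤ A.ad C ↔ U ⊓ B ≤ C :=
  ⟨fun h x hx => h (show A.of x hx.1 ∈ A.ad B from hx.2), fun h m hm => h ⟨A.val_mem m, hm⟩⟩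

theorem ad_mono {B C : Subgroup G} (h : B ≤ C) : A.ad B ≤ A.ad C := fun _ hm => h hm

theorem smul_ad (h : H) (B : Subgroup G) : h • A.ad B = A.ad (MulAut.conj (h : G) • B) := by
  ext m
  rw [ThmAx.mem_smul, mem_ad, mem_ad, mem_conj, val_smul]
  rw [InvMemClass.coe_inv, inv_inv]

theorem card_ad {B : Subgroup G} (hB : B ≤ U) : Nat.card (A.ad B) = Nat.card B :=
  Nat.card_congr ⟨fun m => ⟨A.val m, m.2⟩, fun b => ⟨A.of b (hB b.2), b.2⟩, fun _ => rfl, fun _ => rfl⟩

end Nrm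

end Cfsg.Agent.Omega.NOThreeL.RSplit

end

section


/-!
# NO-3L, box R, `q > 2`, split (helper797 #19602 (5)): hulls and points, abstract

`Comp T Ax R A N U` : `A` = the axes of one component, `N` a group fixing `A` and transitive on `U - 0`, `U` contains
all centres `x • R i` with axis in `A`; `ti` = 797's `Ex.ti`.

* `hull A U x` : the elements of `U` in all axes (in `A`) containing `x`;
* `Comp.mem_iff_of_mem_hull` : `y ∈ hull x`, `y ≠ 0` lies in the same axes as `x`;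
* **`Comp.hull_eq`** : `hull x = c • R i` for every centre `c • R i` (axis in `A`) containing `x`;
* `Comp.root_eq` : two centres with a common vector `≠ 0` are equal; `Comp.exists_root` : every vector of `U` is in one;
* `five` : 884's (5); `Comp.mem_root`, **`mem_root_sum`** : the components of `z` are in the `R i`.
-/

set_option autoImplicit false

namespace Cfsg.Agent.Omega.NOThreeL.RSplit.Hull

open scoped Pointwise
open Cfsg.Agent.Omega.NOThreeL.ThmAx (Full IsAx TT YY Adj mem_smul smul_eq_of YY_smul YY_smul_eq adj_smul IsAx.smul)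
open Cfsg.Agent.Omega.NOThreeL.RSplit.Root (Rt)

variable {H M : Type*} [Group H] [AddCommGroup M] [DistribMulAction H M]

/-- One component. -/
structure Comp {ι : Type*} (T : ι → Subgroup H) (Ax R : ι → AddSubgroup M) (A : Set (AddSubgroup M))
    (N : Subgroup H) (U : AddSubgroup M) : Prop extends Rt T Ax R where
  ti : ∀ {g : AddSubgroup M}, IsAx (H := H) Ax g → ∀ (x : H) (i : ι), ¬ x • R i ≤ g →
    (∀ m ∈ x • R i, m ∈ g → m = 0) ∧ ∀ u : M, ∃ r ∈ x • R i, r + u ∈ g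
  isax : ∀ g ∈ A, IsAx (H := H) Ax g
  inv : ∀ n ∈ N, ∀ g ∈ A, n • g ∈ A
  root : ∀ (x : H) (i : ι), x • Ax i ∈ A → x • R i ≤ U
  uinv : ∀ n ∈ N, ∀ u ∈ U, n • u ∈ U
  tr : ∀ x ∈ U, x ≠ 0 → ∀ y ∈ U, y ≠ 0 → ∃ n ∈ N, n • x = y
  sep : ∀ x ∈ U, x ≠ 0 → ∃ g ∈ A, x ∉ g
  rne : ∀ i, R i ≠ ⊥

/-- The elements of `U` which lie in all axes containing `x`. -/
def hull (A : Set (AddSubgroup M)) (U : AddSubgroup M) (x : M) : AddSubgroup M where
  carrier := {y | y ∈ U ∧ ∀ g ∈ A, x ∈ g → y ∈ g}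
  zero_mem' := ⟨U.zero_mem, fun g _ _ => g.zero_mem⟩
  add_mem' := fun {a b} ha hb => ⟨U.add_mem ha.1 hb.1, fun g hg hx => g.add_mem (ha.2 g hg hx) (hb.2 g hg hx)⟩
  neg_mem' := fun {a} ha => ⟨U.neg_mem ha.1, fun g hg hx => g.neg_mem (ha.2 g hg hx)⟩

theorem mem_hull {A : Set (AddSubgroup M)} {U : AddSubgroup M} {x y : M} :
    y ∈ hull A U x ↔ y ∈ U ∧ ∀ g ∈ A, x ∈ g → y ∈ g := Iff.rfl

/-- 884's (5) -/
theorem five {ι : Type*} {T : ι → Subgroup H} {Ax R : ι → AddSubgroup M} (D : Rt T Ax R) [Finite M]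
    {g : AddSubgroup M} (hg : IsAx (H := H) Ax g) {z : M}
    (two : ∀ i, ∀ a ∈ T i, ∀ b : H, b • z = z → (∀ u : M, b • b • u = u) →
      ∃ n : ℕ, ∀ u : M, ((b * a) ^ (2 ^ n)) • u = u) (hzg : z ∈ g) (i : ι) : R i ≤ g := by
  by_contra hcon
  obtain ⟨r, hr, hrg⟩ := Set.not_subset.mp hcon
  have h1 : Adj H Ax R (Ax i) g := fun h => hcon ((Rt.R_le_YY i).trans h)
  obtain ⟨u, hu, hui⟩ := Set.not_subset.mp (D.adj_symm (Rt.isAx Ax i) hg h1)
  obtain ⟨b, hb, hbr⟩ := D.TT_full hrg hu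
  obtain ⟨a, ha, hau⟩ := D.full i u hui r hr
  have hbz : b • z = z := D.TT_fix hb hzg
  obtain ⟨n, hn⟩ := two i a ha b hbz (D.TT_invol hb)
  have hbu : b • u = u := D.TT_fix hb (D.YY_le hu)
  have har : a • r = r := D.fix i a ha r (D.le i i hr)
  set k : H := b * a with hk
  have e1 : k • r = r + u := by rw [hk, mul_smul, har, hbr]
  have e2 : k • u = r := by
    rw [hk, mul_smul, hau, smul_add, hbu, hbr, ← add_assoc, add_comm u r, add_assoc, D.char2, add_zero]
  have e3 : k • (r + u) = u := by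
    rw [smul_add, e1, e2, add_comm r u, add_assoc, D.char2, add_zero]
  have h3 : (k ^ 3) • r = r := by
    rw [pow_succ, pow_succ, pow_one, mul_smul, mul_smul, e1, e3, e2]
  have h4 : MulAction.period k r ∣ 3 := MulAction.pow_smul_eq_iff_period_dvd.mp h3
  have h5 : MulAction.period k r ∣ 2 ^ n := MulAction.pow_smul_eq_iff_period_dvd.mp (hn r)
  have h6 : MulAction.period k r ∣ 1 := by
    have h7 : Nat.Coprime 3 (2 ^ n) := Nat.Coprime.pow_right n (by decide)
    have h8 := Nat.dvd_gcd h4 h5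
    rwa [h7] at h8
  have h7 : (k ^ 1) • r = r := MulAction.pow_smul_eq_iff_period_dvd.mpr h6
  rw [pow_one, e1] at h7
  have h8 : u = 0 := by simpa using h7
  exact hui (h8 ▸ (Ax i).zero_mem)

/-- A vector fixed by `TT g` lies in `g`. -/
theorem mem_of_fix {ι : Type*} {T : ι → Subgroup H} {Ax R : ι → AddSubgroup M} (D : Rt T Ax R)
    (hR : ∀ i, R i ≠ ⊥) {g : AddSubgroup M} (hg : IsAx (H := H) Ax g) {u : M}
    (h : ∀ t ∈ TT T Ax g, t • u = u) : u ∈ g := by
  by_contra hug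
  obtain ⟨x, i, rfl⟩ := hg
  obtain ⟨r, hr, hr0⟩ := (AddSubgroup.bot_or_exists_ne_zero (R i)).resolve_left (hR i)
  have h1 : x • r ∈ YY H Ax R (x • Ax i) := AddSubgroup.subset_closure ⟨x, i, rfl, r, hr, rfl⟩
  obtain ⟨t, ht, htu⟩ := D.TT_full hug h1
  rw [h t ht] at htu
  have h2 : x • r = 0 := left_eq_add.1 htu
  exact hr0 ((smul_eq_zero_iff_eq x).1 h2)

namespace Comp

variable {ι : Type*} {T : ι → Subgroup H} {Ax R : ι → AddSubgroup M} {A : Set (AddSubgroup M)}
  {N : Subgroup H} {U : AddSubgroup M} (C : Comp T Ax R A N U)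
include C

theorem card_axes {n : H} (hn : n ∈ N) (x : M) :
    {g | g ∈ A ∧ n • x ∈ g}.ncard = {g | g ∈ A ∧ x ∈ g}.ncard := by
  have h1 : {g | g ∈ A ∧ n • x ∈ g} = (fun g : AddSubgroup M => n • g) '' {g | g ∈ A ∧ x ∈ g} := by
    ext g
    constructor
    · rintro ⟨hg, hx⟩
      refine ⟨n⁻¹ • g, ⟨C.inv n⁻¹ (inv_mem hn) g hg, ?_⟩, smul_inv_smul n g⟩
      rw [mem_smul, inv_inv]
      exact hx
    · rintro ⟨g', ⟨hg', hx⟩, rfl⟩
      exact ⟨C.inv n hn g' hg', AddSubgroup.smul_mem_pointwise_smul _ _ _ hx⟩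
  rw [h1, Set.ncard_image_of_injective _ (MulAction.injective n)]

variable [Finite M]

/-- A vector `y ≠ 0` of the hull of `x` lies in the same axes as `x`. -/
theorem mem_iff_of_mem_hull {x y : M} (hx : x ∈ U) (hx0 : x ≠ 0) (hy : y ∈ hull A U x) (hy0 : y ≠ 0)
    {g : AddSubgroup M} (hg : g ∈ A) : y ∈ g ↔ x ∈ g := by
  obtain ⟨n, hn, hnx⟩ := C.tr x hx hx0 y hy.1 hy0
  have h1 : {g | g ∈ A ∧ x ∈ g} ⊆ {g | g ∈ A ∧ y ∈ g} := fun g hg => ⟨hg.1, hy.2 g hg.1 hg.2⟩
  have h2 := C.card_axes hn x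
  rw [hnx] at h2
  have h3 := Set.eq_of_subset_of_ncard_le h1 h2.le (Set.toFinite _)
  constructor
  · intro hyg
    have h4 : g ∈ {g | g ∈ A ∧ y ∈ g} := ⟨hg, hyg⟩
    rw [← h3] at h4
    exact h4.2
  · exact fun hxg => hy.2 g hg hxg

omit [Finite M] in
theorem root_le_hull {c : H} {i : ι} (hc : c • Ax i ∈ A) {x : M} (hx : x ∈ c • R i) (hx0 : x ≠ 0) :
    c • R i ≤ hull A U x := by
  intro y hy
  refine ⟨C.root c i hc hy, fun g hg hxg => ?_⟩
  by_contra hyg
  have h1 : ¬ c • R i ≤ g := fun h => hyg (h hy)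
  exact hx0 ((C.ti (C.isax g hg) c i h1).1 x hx hxg)

/-- **The hull of `x` is the centre containing `x`.** -/
theorem hull_eq {c : H} {i : ι} (hc : c • Ax i ∈ A) {x : M} (hx : x ∈ c • R i) (hx0 : x ≠ 0) :
    hull A U x = c • R i := by
  refine le_antisymm ?_ (C.root_le_hull hc hx hx0)
  intro y hy
  have hxU : x ∈ U := C.root c i hc hx
  obtain ⟨g, hg, hxg⟩ := C.sep x hxU hx0
  have h1 : ¬ c • R i ≤ g := fun h => hxg (h hx)
  obtain ⟨r, hr, hry⟩ := (C.ti (C.isax g hg) c i h1).2 y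
  have h2 : r + y ∈ hull A U x := add_mem (C.root_le_hull hc hx hx0 hr) hy
  by_cases h0 : r + y = 0
  · have h3 : y = -r := (neg_eq_of_add_eq_zero_right h0).symm
    rw [h3]
    exact neg_mem hr
  · exact absurd ((C.mem_iff_of_mem_hull hxU hx0 h2 h0 hg).1 hry) hxg

/-- Two centres with a common non-zero vector are equal. -/
theorem root_eq {c d : H} {i j : ι} (hc : c • Ax i ∈ A) (hd : d • Ax j ∈ A) {x : M} (hx : x ∈ c • R i)
    (hx' : x ∈ d • R j) (hx0 : x ≠ 0) : c • R i = d • R j := by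
  rw [← C.hull_eq hc hx hx0, C.hull_eq hd hx' hx0]

omit [Finite M] in
/-- Every vector of `U` lies in a centre. -/
theorem exists_root {c : H} {i : ι} (hc : c • Ax i ∈ A) {x : M} (hx : x ∈ U) :
    ∃ n ∈ N, (n * c) • Ax i ∈ A ∧ x ∈ (n * c) • R i := by
  by_cases hx0 : x = 0
  · exact ⟨1, one_mem _, by rwa [one_mul], by rw [hx0]; exact zero_mem _⟩
  · obtain ⟨r, hr, hr0⟩ := (AddSubgroup.bot_or_exists_ne_zero (R i)).resolve_left (C.rne i)
    have h1 : c • r ∈ c • R i := AddSubgroup.smul_mem_pointwise_smul _ _ _ hr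
    have h2 : c • r ≠ 0 := fun h => hr0 ((smul_eq_zero_iff_eq c).1 h)
    obtain ⟨n, hn, hnx⟩ := C.tr _ (C.root c i hc h1) h2 x hx hx0
    refine ⟨n, hn, ?_, ?_⟩
    · rw [mul_smul]
      exact C.inv n hn _ hc
    · rw [mul_smul, ← hnx]
      exact AddSubgroup.smul_mem_pointwise_smul _ _ _ h1

/-- All centres have the same order. -/
theorem card_root {c d : H} {i j : ι} (hc : c • Ax i ∈ A) (hd : d • Ax j ∈ A) :
    Nat.card ↥(c • R i) = Nat.card ↥(d • R j) := by
  obtain ⟨r, hr, hr0⟩ := (AddSubgroup.bot_or_exists_ne_zero (R j)).resolve_left (C.rne j)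
  have h1 : d • r ∈ d • R j := AddSubgroup.smul_mem_pointwise_smul _ _ _ hr
  have h2 : d • r ≠ 0 := fun h => hr0 ((smul_eq_zero_iff_eq d).1 h)
  obtain ⟨n, hn, hnc, hx⟩ := C.exists_root hc (C.root d j hd h1)
  rw [C.root_eq hd hnc h1 hx h2, mul_smul]
  exact Nat.card_congr ⟨fun m => ⟨n • (m : M), AddSubgroup.smul_mem_pointwise_smul _ _ _ m.2⟩,
    fun m => ⟨n⁻¹ • (m : M), mem_smul.mp m.2⟩, fun m => by ext; simp, fun m => by ext; simp⟩

/-- If all axes containing `u` contain `R i`, then `u ∈ R i`. -/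
theorem mem_root {i : ι} (hi : Ax i ∈ A) {u : M} (hu : u ∈ U) (h : ∀ g ∈ A, u ∈ g → R i ≤ g) : u ∈ R i := by
  by_cases hu0 : u = 0
  · rw [hu0]
    exact zero_mem _
  obtain ⟨r, hr, hr0⟩ := (AddSubgroup.bot_or_exists_ne_zero (R i)).resolve_left (C.rne i)
  have h1 : (1 : H) • Ax i ∈ A := by rwa [one_smul]
  have hr1 : r ∈ (1 : H) • R i := by rwa [one_smul]
  have hrU : r ∈ U := C.root 1 i h1 hr1
  have h2 : r ∈ hull A U u := ⟨hrU, fun g hg hug => h g hg hug hr⟩
  have h3 : u ∈ hull A U r := ⟨hu, fun g hg hrg => (C.mem_iff_of_mem_hull hu hu0 h2 hr0 hg).1 hrg⟩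
  rw [C.hull_eq h1 hr1 hr0, one_smul] at h3
  exact h3

end Comp

/-- **The components of `z` lie in the `R i`.** -/
theorem mem_root_sum {ι : Type*} [Fintype ι] [Finite M] {T : ι → Subgroup H} {Ax R : ι → AddSubgroup M}
    {A : ι → Set (AddSubgroup M)} {N : ι → Subgroup H} {U : ι → AddSubgroup M} {I : AddSubgroup M}
    (C : ∀ i, Comp T Ax R (A i) (N i) (U i)) (hi : ∀ i, Ax i ∈ A i)
    (hfix : ∀ i, ∀ g ∈ A i, ∀ t ∈ TT T Ax g, (∀ j, j ≠ i → ∀ u ∈ U j, t • u = u) ∧ ∀ u ∈ I, t • u = u)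
    {f : ι → M} (hf : ∀ i, f i ∈ U i) {w z : M} (hw : w ∈ I) (hz : z = ∑ i, f i + w)
    (two : ∀ i, ∀ a ∈ T i, ∀ b : H, b • z = z → (∀ u : M, b • b • u = u) →
      ∃ n : ℕ, ∀ u : M, ((b * a) ^ (2 ^ n)) • u = u) (i : ι) : f i ∈ R i := by
  classical
  refine (C i).mem_root (hi i) (hf i) fun g hg hfg => ?_
  have hax := (C i).isax g hg
  refine five (C i).toRt hax two ?_ i
  rw [hz, ← Finset.add_sum_erase Finset.univ f (Finset.mem_univ i)]
  refine add_mem (add_mem hfg (g.sum_mem fun j hj => ?_)) ?_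
  · rw [Finset.mem_erase] at hj
    exact mem_of_fix (C i).toRt (C i).rne hax fun t ht => (hfix i g hg t ht).1 j hj.1 _ (hf j)
  · exact mem_of_fix (C i).toRt (C i).rne hax fun t ht => (hfix i g hg t ht).2 _ hw

end Cfsg.Agent.Omega.NOThreeL.RSplit.Hull

end

section


/-!
# NO-3L, box R, `q > 2`, split (helper797 #19602 (5)): `H` minimal, the decomposition `U = (⊕ U_i) ⊕ I`, abstract

`Fv T Ax R z Z` : root groups with THEOREM EXACT (`Ex`), a full vector `∑ z i` with the situation `Sit` (616's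
transitivity), and a set `Z` of vectors generating `M` under `H`, each in all axes or with its own situation and with
`two` (`V ≤ O₂(C_H(u))`).  With `c_i` = the component of `Ax i`, `U_i = UC (Ax i)`, `N_i = NC (Ax i)`, `I` = the vectors
in all axes:

* `Fv.comp` : 877's `Comp`; `Fv.cover` : every axis is in some `c_i`; `Fv.hfix` : `TT g`, `g ∈ c_i`, centralises the other
  `U_j` and `I`; `Fv.uniq` : the sum `U_1 + .. + U_k + I` is direct; `Fv.span` : it is everything;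
* `Fv.zmem` : `Z ⊆ (∑ R_i) + I`; `Fv.zfix` : the two parts of `u ∈ Z` are fixed by every `s` which fixes `u` and
  normalises `∑ R_i`;
* `Fv.fuse` : the vectors `∑ f i`, `0 ≠ f i ∈ U_i`, are conjugate under `N`.
-/

set_option autoImplicit false
set_option linter.unusedSectionVars false

namespace Cfsg.Agent.Omega.NOThreeL.RSplit.Five

open scoped Pointwise
open Cfsg.Agent.Omega.NOThreeL.ThmAx (Full IsAx TT YY Adj mem_smul smul_eq_of YY_smul YY_smul_eq adj_smul IsAx.smul)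
open Cfsg.Agent.Omega.NOThreeL.RSplit.Root (Rt Ex)
open Cfsg.Agent.Omega.NOThreeL.RSplit.Hull (Comp hull mem_of_fix mem_root_sum)
open Cfsg.Agent.Omega.NOThreeL.RBig.Trans (AxSys Sit Cp NC UC NN Walk)
open Cfsg.Agent.Omega.NOThreeL.RSplit.TransRt (Axs)

variable {H M : Type*} [Group H] [AddCommGroup M] [DistribMulAction H M]
variable {ι : Type*}

section defs

variable (T : ι → Subgroup H) (Ax R : ι → AddSubgroup M)

variable (H) in
/-- the component of `Ax i` -/
def Cpt (i : ι) : Set (AddSubgroup M) := Cp (Axs H Ax) (YY H Ax R) (Ax i)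

/-- its group -/
def Nc (i : ι) : Subgroup H := NC (Axs H Ax) (TT T Ax) (YY H Ax R) (Ax i)

variable (H) in
/-- its commutator -/
def Uc (i : ι) : AddSubgroup M := UC (Axs H Ax) (YY H Ax R) (Ax i)

variable (H) in
/-- the vectors in all axes -/
def Ic : AddSubgroup M where
  carrier := {m | ∀ g, IsAx (H := H) Ax g → m ∈ g}
  zero_mem' := fun g _ => g.zero_mem
  add_mem' := fun ha hb g hg => g.add_mem (ha g hg) (hb g hg)
  neg_mem' := fun ha g hg => g.neg_mem (ha g hg)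

end defs

/-- The hypotheses of #19602 (5). -/
structure Fv [Fintype ι] (T : ι → Subgroup H) (Ax R : ι → AddSubgroup M) (z : ι → M) (Z : Set M) : Prop
    extends Ex T Ax R where
  zR : ∀ i, z i ∈ R i
  z0 : ∀ i, z i ≠ 0
  sit : Sit (Axs H Ax) (TT T Ax) (YY H Ax R) (∑ i, z i)
  one : ∀ u ∈ Z, u ∈ Ic H Ax ∨ Sit (Axs H Ax) (TT T Ax) (YY H Ax R) u
  gen : AddSubgroup.closure {m : M | ∃ (h : H), ∃ u ∈ Z, m = h • u} = ⊤
  two : ∀ u ∈ Z, u ∉ Ic H Ax → ∀ i, ∀ a ∈ T i, ∀ b : H, b • u = u → (∀ m : M, b • b • m = m) →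
      ∃ n : ℕ, ∀ m : M, ((b * a) ^ (2 ^ n)) • m = m

/-- a walk is a chain of adjacencies -/
theorem reach_of_walk {Ax R : ι → AddSubgroup M} {n : ℕ} {K g : AddSubgroup M}
    (h : Walk (Axs H Ax) (YY H Ax R) n K g) :
    Relation.ReflTransGen (fun g g' => IsAx (H := H) Ax g' ∧ Adj H Ax R g g') K g := by
  induction h with
  | zero => exact Relation.ReflTransGen.refl
  | step _ hg' ha ih => exact Relation.ReflTransGen.tail ih ⟨hg', ha⟩

theorem eq_of_mem_Cpt [Fintype ι] [Finite M] {T : ι → Subgroup H} {Ax R : ι → AddSubgroup M} (E : Ex T Ax R)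
    {i j : ι} (h : Ax j ∈ Cpt H Ax R i) : i = j := by
  obtain ⟨n, hn⟩ := h
  exact E.not_reach (reach_of_walk hn)

namespace Fv

variable [Fintype ι] [Finite H] [Finite M] {T : ι → Subgroup H} {Ax R : ι → AddSubgroup M} {z : ι → M} {Z : Set M}
  (D : Fv T Ax R z Z)
include D

omit [Finite H] in
theorem axSys : AxSys (Axs H Ax) (TT T Ax) (YY H Ax R) := TransRt.axSys D.toRt D.big

omit [Finite H] in
theorem Cpt_eq {i : ι} {g : AddSubgroup M} (hg : g ∈ Cpt H Ax R i) : Cp (Axs H Ax) (YY H Ax R) g = Cpt H Ax R i :=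
  D.axSys.Cp_eq hg

omit [Finite H] in
/-- different components -/
theorem not_mem {i j : ι} (hij : i ≠ j) {g : AddSubgroup M} (hg : g ∈ Cpt H Ax R i) : g ∉ Cpt H Ax R j := by
  intro h
  refine hij.symm (eq_of_mem_Cpt D.toEx (i := j) (j := i) ?_)
  rw [← D.Cpt_eq h, D.Cpt_eq hg]
  exact AxSys.self_mem (Rt.isAx Ax i)

omit [Finite H] in
theorem Uc_le {i j : ι} (hij : i ≠ j) {g : AddSubgroup M} (hg : g ∈ Cpt H Ax R i) : Uc H Ax R j ≤ g :=
  D.axSys.UC_le (D.axSys.mem_A hg) (D.not_mem hij hg)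

omit [Finite H] in
theorem Uc_inv {i : ι} {n : H} (hn : n ∈ Nc T Ax R i) {u : M} (hu : u ∈ Uc H Ax R i) : n • u ∈ Uc H Ax R i := by
  have h1 := add_mem (D.axSys.NC_quad hn u) hu
  rwa [D.axSys.add_add_self] at h1

/-- **877's `Comp`.** -/
theorem comp (i : ι) : Comp T Ax R (Cpt H Ax R i) (Nc T Ax R i) (Uc H Ax R i) where
  toRt := D.toRt
  ti := fun hg x i hx => D.toEx.ti hg x i hx
  isax := fun _ hg => D.axSys.mem_A hg
  inv := fun n hn g hg => by
    have h1 := D.axSys.NN_Cp (D.axSys.mem_A hg) (D.axSys.NC_le_NN hn)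
    rw [D.Cpt_eq hg] at h1
    exact h1
  root := fun x j hx y hy => by
    have h1 : y ∈ YY H Ax R (x • Ax j) := by
      rw [YY_smul_eq]
      obtain ⟨r, hr, rfl⟩ := hy
      exact AddSubgroup.smul_mem_pointwise_smul _ _ _ (Rt.R_le_YY j hr)
    exact AxSys.YY_le_UC hx h1
  uinv := fun _ hn _ hu => D.Uc_inv hn hu
  tr := fun x hx hx0 y hy hy0 => D.sit.transU (Rt.isAx Ax i) hx hx0 hy hy0
  sep := fun x hx hx0 => by
    by_contra hcon
    push Not at hcon
    exact hx0 (D.sit.inf (Rt.isAx Ax i) hx hcon)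
  rne := fun j h => by
    have h1 := D.big j
    rw [h, AddSubgroup.card_bot] at h1
    omega

omit [Finite H] [Finite M] in
theorem R_le_Uc (i : ι) : R i ≤ Uc H Ax R i := (Rt.R_le_YY i).trans (AxSys.YY_le_UC (AxSys.self_mem (Rt.isAx Ax i)))

omit [Finite H] [Finite M] D in
theorem self_mem (i : ι) : Ax i ∈ Cpt H Ax R i := AxSys.self_mem (Rt.isAx Ax i)

/-- **Every axis is in some `c_i`.** -/
theorem cover {g : AddSubgroup M} (hg : IsAx (H := H) Ax g) : ∃ i, g ∈ Cpt H Ax R i := by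
  classical
  obtain ⟨h, i, rfl⟩ := hg
  obtain ⟨n, hn, hc⟩ := D.sit.gen h
  obtain ⟨c, hc'⟩ : ∃ c, c = n⁻¹ * h := ⟨_, rfl⟩
  rw [← hc'] at hc
  have e : h = n * c := by rw [hc', mul_inv_cancel_left]
  -- `c` fixes `z₀`
  have key : ∃ j, c • Ax i ∈ Cpt H Ax R j := by
    by_contra hcon
    push Not at hcon
    -- a member of `c c_i` not containing `c z_i`
    obtain ⟨g, hg, hzg⟩ := (D.comp i).sep (z i) (D.R_le_Uc i (D.zR i)) (D.z0 i)
    have h1 : c • g ∈ Cp (Axs H Ax) (YY H Ax R) (c • Ax i) := by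
      rw [D.axSys.smul_Cp]
      rw [Set.mem_ofPred_eq, inv_smul_smul]
      exact hg
    have hgA := D.axSys.mem_A h1
    have h2 : ∀ j, c • g ∉ Cpt H Ax R j := fun j hj => by
      apply hcon j
      rw [← D.Cpt_eq hj, D.axSys.Cp_eq h1]
      exact AxSys.self_mem (IsAx.smul (Rt.isAx Ax i) c)
    have h3 : ∀ j, z j ∈ c • g := fun j =>
      D.axSys.UC_le hgA (h2 j) (D.R_le_Uc j (D.zR j))
    have h4 : ∀ j, j ≠ i → c • z j ∈ c • g := fun j hj =>
      AddSubgroup.smul_mem_pointwise_smul _ _ _ (D.Uc_le hj.symm hg (D.R_le_Uc j (D.zR j)))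
    have h5 : c • z i ∈ c • g := by
      have h6 : c • ∑ j, z j ∈ c • g := by
        rw [hc]
        exact (c • g).sum_mem fun j _ => h3 j
      rw [← Finset.add_sum_erase Finset.univ z (Finset.mem_univ i), smul_add, Finset.smul_sum] at h6
      exact ((c • g).add_mem_cancel_right ((c • g).sum_mem fun j hj => h4 j (Finset.ne_of_mem_erase hj))).1 h6
    rw [mem_smul, inv_smul_smul] at h5
    exact hzg h5
  obtain ⟨j, hj⟩ := key
  refine ⟨j, ?_⟩
  have h1 := D.axSys.NN_Cp (D.axSys.mem_A hj) hn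
  rw [D.Cpt_eq hj] at h1
  rwa [e, mul_smul]

omit [Finite H] in
/-- the root groups of `c_i` centralise the other `U_j` and `I` -/
theorem hfix (i : ι) : ∀ g ∈ Cpt H Ax R i, ∀ t ∈ TT T Ax g,
    (∀ j, j ≠ i → ∀ u ∈ Uc H Ax R j, t • u = u) ∧ ∀ u ∈ Ic H Ax, t • u = u := by
  intro g hg t ht
  have hgA := D.axSys.mem_A hg
  exact ⟨fun j hj u hu => D.axSys.fix g hgA t ht u (D.Uc_le hj.symm hg hu),
    fun u hu => D.axSys.fix g hgA t ht u (hu g hgA)⟩

omit [Finite H] in
/-- `N_i` centralises the other `U_j` and `I` -/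
theorem Nc_fix {i : ι} {n : H} (hn : n ∈ Nc T Ax R i) :
    (∀ j, j ≠ i → ∀ u ∈ Uc H Ax R j, n • u = u) ∧ ∀ u ∈ Ic H Ax, n • u = u := by
  constructor
  · intro j hj u hu
    exact D.axSys.NC_fix (fun g hg => D.Uc_le hj.symm hg hu) hn
  · intro u hu
    exact D.axSys.NC_fix (fun g hg => hu g (D.axSys.mem_A hg)) hn

/-- **The sum `U_1 + .. + U_k + I` is direct.** -/
theorem uniq {f : ι → M} (hf : ∀ i, f i ∈ Uc H Ax R i) {w : M} (hw : w ∈ Ic H Ax) (h : ∑ i, f i + w = 0) :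
    (∀ i, f i = 0) ∧ w = 0 := by
  classical
  have key : ∀ i, f i = 0 := by
    intro i
    by_contra h0
    obtain ⟨g, hg, hfg⟩ := (D.comp i).sep (f i) (hf i) h0
    apply hfg
    have h1 : ∑ i, f i + w ∈ g := by rw [h]; exact g.zero_mem
    rw [← Finset.add_sum_erase Finset.univ f (Finset.mem_univ i), add_assoc] at h1
    refine (g.add_mem_cancel_right (g.add_mem (g.sum_mem fun j hj => ?_) (hw g (D.axSys.mem_A hg)))).1 h1
    exact D.Uc_le (Finset.ne_of_mem_erase hj).symm hg (hf j)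
  refine ⟨key, ?_⟩
  rwa [Finset.sum_eq_zero fun i _ => key i, zero_add] at h

/-- every `y ∈ [M, N]` is a sum of elements of the `U_i` -/
theorem exists_of_mem {y : M} (hy : y ∈ ⨆ g ∈ Axs H Ax, YY H Ax R g) :
    ∃ f : ι → M, (∀ i, f i ∈ Uc H Ax R i) ∧ y = ∑ i, f i := by
  classical
  let X : AddSubgroup M :=
    { carrier := {y | ∃ f : ι → M, (∀ i, f i ∈ Uc H Ax R i) ∧ y = ∑ i, f i}
      zero_mem' := ⟨fun _ => 0, fun _ => zero_mem _, by simp⟩
      add_mem' := by
        rintro _ _ ⟨f, hf, rfl⟩ ⟨f', hf', rfl⟩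
        exact ⟨fun i => f i + f' i, fun i => add_mem (hf i) (hf' i), Finset.sum_add_distrib.symm⟩
      neg_mem' := by
        rintro _ ⟨f, hf, rfl⟩
        exact ⟨fun i => - f i, fun i => neg_mem (hf i), (Finset.sum_neg_distrib _).symm⟩ }
  have hX : (⨆ g ∈ Axs H Ax, YY H Ax R g) ≤ X := by
    refine iSup₂_le fun g hg y hy => ?_
    obtain ⟨i, hi⟩ := D.cover hg
    refine ⟨fun j => if j = i then y else 0, fun j => ?_, ?_⟩
    · by_cases h : j = i
      · subst h
        simp only [if_true]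
        exact AxSys.YY_le_UC hi hy
      · simp only [if_neg h]
        exact zero_mem _
    · rw [Finset.sum_ite_eq' Finset.univ i (fun _ => y), if_pos (Finset.mem_univ i)]
  exact hX hy

/-- `Z ⊆ [M, N] + I` -/
theorem zall {u : M} (hu : u ∈ Z) : ∃ f : ι → M, (∀ i, f i ∈ Uc H Ax R i) ∧ ∃ w ∈ Ic H Ax, u = ∑ i, f i + w := by
  rcases D.one u hu with h | h
  · exact ⟨fun _ => 0, fun _ => zero_mem _, u, h, by simp⟩
  · obtain ⟨y, hy, h1⟩ := h.mem_all
    obtain ⟨f, hf, rfl⟩ := D.exists_of_mem hy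
    refine ⟨f, hf, u + ∑ i, f i, h1, ?_⟩
    rw [add_comm u, ← add_assoc, D.char2, zero_add]

/-- `h • U_i = U_j` for some `j` -/
theorem smul_Uc (h : H) (i : ι) : ∃ j, h • Uc H Ax R i = Uc H Ax R j := by
  obtain ⟨j, hj⟩ := D.cover (IsAx.smul (Rt.isAx Ax i) h)
  refine ⟨j, ?_⟩
  have key : ∀ (h : H) (i j : ι), h • Ax i ∈ Cpt H Ax R j → h • Uc H Ax R i ≤ Uc H Ax R j := by
    intro h i j hj
    have h1 : Uc H Ax R i ≤ h⁻¹ • Uc H Ax R j := by
      refine iSup₂_le fun g hg y hy => ?_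
      rw [mem_smul, inv_inv]
      have h2 : h • g ∈ Cpt H Ax R j := by
        rw [← D.Cpt_eq hj, D.axSys.smul_Cp]
        rw [Set.mem_ofPred_eq, inv_smul_smul]
        exact hg
      refine AxSys.YY_le_UC h2 ?_
      rw [YY_smul_eq]
      exact AddSubgroup.smul_mem_pointwise_smul _ _ _ hy
    intro y hy
    rw [mem_smul] at hy
    have h2 := h1 hy
    rwa [mem_smul, inv_inv, smul_inv_smul] at h2
  refine le_antisymm (key h i j hj) ?_
  have h3 : h⁻¹ • Ax j ∈ Cpt H Ax R i := by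
    have h4 : Ax j ∈ Cp (Axs H Ax) (YY H Ax R) (h • Ax i) := by
      rw [D.Cpt_eq hj]
      exact self_mem j
    rw [D.axSys.smul_Cp] at h4
    exact h4
  have h5 := key h⁻¹ j i h3
  intro y hy
  rw [mem_smul]
  exact h5 (AddSubgroup.smul_mem_pointwise_smul _ _ _ hy)

omit [Fintype ι] [Finite H] [Finite M] D in
theorem Ic_smul {h : H} {w : M} (hw : w ∈ Ic H Ax) : h • w ∈ Ic H Ax := fun g hg => by
  have h1 := hw (h⁻¹ • g) (IsAx.smul hg h⁻¹)
  rwa [mem_smul, inv_inv] at h1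

/-- **`M = U_1 + .. + U_k + I`.** -/
theorem span : (⨆ i, Uc H Ax R i) ⊔ Ic H Ax = ⊤ := by
  rw [eq_top_iff, ← D.gen, AddSubgroup.closure_le]
  rintro _ ⟨h, u, hu, rfl⟩
  obtain ⟨f, hf, w, hw, rfl⟩ := D.zall hu
  rw [smul_add, Finset.smul_sum]
  refine add_mem (sum_mem fun i _ => ?_) (AddSubgroup.mem_sup_right (Ic_smul hw))
  obtain ⟨j, hj⟩ := D.smul_Uc h i
  refine AddSubgroup.mem_sup_left (AddSubgroup.mem_iSup_of_mem j ?_)
  rw [← hj]
  exact AddSubgroup.smul_mem_pointwise_smul _ _ _ (hf i)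

/-- every vector -/
theorem dec (m : M) : ∃ f : ι → M, (∀ i, f i ∈ Uc H Ax R i) ∧ ∃ w ∈ Ic H Ax, m = ∑ i, f i + w := by
  have h1 : m ∈ (⨆ i, Uc H Ax R i) ⊔ Ic H Ax := by rw [D.span]; trivial
  obtain ⟨y, hy, w, hw, rfl⟩ := AddSubgroup.mem_sup.1 h1
  have h2 : (⨆ i, Uc H Ax R i) ≤ ⨆ g ∈ Axs H Ax, YY H Ax R g := iSup_le fun i => iSup₂_le fun g hg =>
    le_iSup₂_of_le g (D.axSys.mem_A hg) le_rfl
  obtain ⟨f, hf, rfl⟩ := D.exists_of_mem (h2 hy)
  exact ⟨f, hf, w, hw, rfl⟩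

/-- **`Z ⊆ (∑ R_i) + I`** -/
theorem zmem {u : M} (hu : u ∈ Z) : ∃ f : ι → M, (∀ i, f i ∈ R i) ∧ ∃ w ∈ Ic H Ax, u = ∑ i, f i + w := by
  by_cases h : u ∈ Ic H Ax
  · exact ⟨fun _ => 0, fun _ => zero_mem _, u, h, by simp⟩
  obtain ⟨f, hf, w, hw, e⟩ := D.zall hu
  exact ⟨f, mem_root_sum D.comp self_mem D.hfix hf hw e (D.two u hu h), w, hw, e⟩

/-- if `u ∉ I` then some component is not zero -/
theorem exists_ne {u : M} (hu : u ∉ Ic H Ax) {f : ι → M} {w : M} (hw : w ∈ Ic H Ax)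
    (e : u = ∑ i, f i + w) : ∃ i, f i ≠ 0 := by
  by_contra hcon
  push Not at hcon
  rw [Finset.sum_eq_zero fun i _ => hcon i, zero_add] at e
  exact hu (e ▸ hw)

/-- **The two parts of `u ∈ Z` are fixed by what fixes `u` and normalises `∑ R_i`.** -/
theorem zfix {f : ι → M} (hf : ∀ i, f i ∈ R i) {w : M} (hw : w ∈ Ic H Ax) {s : H}
    (hs : s • (∑ i, f i + w) = ∑ i, f i + w) (hR : ∀ i, s • R i ≤ ⨆ j, R j) :
    s • ∑ i, f i = ∑ i, f i ∧ s • w = w := by
  classical
  have h1 : s • ∑ i, f i ∈ ⨆ j, R j := by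
    rw [Finset.smul_sum]
    exact sum_mem fun i _ => hR i (AddSubgroup.smul_mem_pointwise_smul _ _ _ (hf i))
  have h2 : ∑ i, f i ∈ ⨆ j, R j := sum_mem fun i _ => AddSubgroup.mem_iSup_of_mem i (hf i)
  have h3 : s • ∑ i, f i - ∑ i, f i ∈ ⨆ g ∈ Axs H Ax, YY H Ax R g := by
    refine (iSup_le fun i => ?_ : (⨆ j, R j) ≤ _) (sub_mem h1 h2)
    exact (Rt.R_le_YY i).trans (le_iSup₂_of_le (Ax i) (Rt.isAx Ax i) le_rfl)
  obtain ⟨f', hf', e'⟩ := D.exists_of_mem h3
  have h4 : ∑ i, f' i + (s • w - w) = 0 := by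
    rw [← e']
    rw [smul_add] at hs
    have : s • ∑ i, f i - ∑ i, f i + (s • w - w) = (s • ∑ i, f i + s • w) - (∑ i, f i + w) := by abel
    rw [this, hs, sub_self]
  obtain ⟨h5, h6⟩ := D.uniq hf' (sub_mem (Ic_smul hw) hw) h4
  refine ⟨?_, sub_eq_zero.1 h6⟩
  rw [← sub_eq_zero, e']
  exact Finset.sum_eq_zero fun i _ => h5 i

/-- **`N_1 × .. × N_k` fuses the vectors all of whose components are `≠ 0`.** -/
theorem fuse {f f' : ι → M} (hf : ∀ i, f i ∈ Uc H Ax R i) (hf0 : ∀ i, f i ≠ 0) (hf' : ∀ i, f' i ∈ Uc H Ax R i)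
    (hf0' : ∀ i, f' i ≠ 0) : ∃ n ∈ NN (Axs H Ax) (TT T Ax), n • ∑ i, f i = ∑ i, f' i := by
  classical
  have key : ∀ s : Finset ι, ∃ n ∈ NN (Axs H Ax) (TT T Ax), n • ∑ i, f i = ∑ i, if i ∈ s then f' i else f i := by
    intro s
    induction s using Finset.induction_on with
    | empty => exact ⟨1, one_mem _, by simp⟩
    | insert j s hj ih =>
      obtain ⟨n, hn, e⟩ := ih
      obtain ⟨m, hm, hmj⟩ := (D.comp j).tr (f j) (hf j) (hf0 j) (f' j) (hf' j) (hf0' j)
      refine ⟨m * n, mul_mem (D.axSys.NC_le_NN hm) hn, ?_⟩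
      rw [mul_smul, e, Finset.smul_sum]
      refine Finset.sum_congr rfl fun i _ => ?_
      by_cases h1 : i = j
      · subst h1
        rw [if_neg hj, if_pos (Finset.mem_insert_self _ _), hmj]
      · by_cases h2 : i ∈ s
        · rw [if_pos h2, if_pos (Finset.mem_insert_of_mem h2)]
          exact (D.Nc_fix hm).1 i h1 _ (hf' i)
        · rw [if_neg h2, if_neg (fun h3 => h2 ((Finset.mem_insert.1 h3).resolve_left h1))]
          exact (D.Nc_fix hm).1 i h1 _ (hf i)
  obtain ⟨n, hn, e⟩ := key Finset.univ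
  exact ⟨n, hn, by simpa using e⟩

end Fv

end Cfsg.Agent.Omega.NOThreeL.RSplit.Five

end
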