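import Cfsg.Agent.Omega.NOThreeL.RFour
import Cfsg.Agent.Mrg.Omega.NOThreeL.RTwo
import Cfsg.Agent.Mrg.Omega.NOThreeL.AOne
import Cfsg.Agent.Mrg.Omega.HOne.SplitP


/-!
# NO-3L, socket R: (R4) of #15623 (helper691) in the frame

`P ∈ P*(S)`, `V = V_P`, `V / C_V(O²(P))` one natural `SL₂(F)`-module (`NatK F S P V (cv S P) 1`; no hypothesis on
`E = C_Z(P)`), `H` a long group, `U = U_H` an offender on `V`. `Opp` : the elements of `P` which act as a matrix
with nonzero lower left entry ("opposite points"), `TT P U = ⋂ U^g` over `g ∈ P`.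

* `comm_of_cent` : if `H` centralises `E = C_Z(P) ≠ 1` then `[V_P, U_H] = 1`;
* `HypR.inf_le` : `U ∩ U^h ≤ TT P U` for `h ∈ Opp`; `HypR.inf_le'` : for `h ∈ P` with `Z^h` not in the line of `Z`;
* `rad` : `RFour.Rad P U V (TT P U) Opp`, so all of `RFour` applies (`[Y^g, Y^h] ≤ T`, `Y^g / T ≅ Y / T`);
  `conj_mem_opp` : `g⁻¹ u g ∈ Opp` for `u ∈ U - Y`, `g ∈ Opp`;
* `TT_inf_zc` : `T ∩ Z = C_Z(P)`; `TT_eq` : `T = C_U(O²(P))`;
* `base_long` : (R5), the hypotheses of `RFour.Base` for two long groups;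
* `lines_comm` : if `T ≤ Z`, then `[W_H, W_H^g] = 1` for `g ∈ Opp`, where `W_H` is the product of the lines on `Z`
  in `H`.
-/

set_option autoImplicit false

namespace Cfsg.Agent.Omega.NOThreeL.RFour

open Subgroup Cfsg Cfsg.Agent.ZN Cfsg.Agent.Omega.MinPar Cfsg.Agent.Omega.Frame Cfsg.Agent.Omega.FrameNOFF
open Cfsg.Agent.Omega.Node.NO3L Cfsg.Agent.Omega.NOThreeL.Basic
open Cfsg.Agent.Omega.NoFF.Basic (conj_conj mem_conj conj_le_iff conj_le_centralizer comm_mono)
open Cfsg.Agent.Omega.NOThreeL.Pair (conj_eq_of_mem zl_abel)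
open Cfsg.Agent.Omega.FFThm (Off NatK)
open Cfsg.Agent.Omega.FrameFF (cv NatOver)
open Cfsg.Agent.Omega.NatPair (ap ap_mul ap_one ap_inv_ap)
open Cfsg.Agent.Lib.SL2Mat
open Cfsg.Agent.MinSimple.VModule (zl_le le_normalizer_zl zc_le_zl zc_le zl_le_zc o2_isPGroup le_normalizer_o2
  mem_zc oddGen oddGen_le mem_oddGen le_normalizer_oddGen oddGen_le_of_sup le_o2
  le_centralizer_zc)
open Cfsg.Agent.Omega.NOThreeL.AOne (Act mem_of_up ap_up_0)
open Cfsg.Agent.Omega.NOThreeL.ThmT (conj_eq_of_mem_normalizer mem_normalizer_of_forall)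
open scoped Pointwise

universe u

/-! ### `⋂ U^g` -/

section tt

variable {G : Type u} [Group G]

/-- `⋂ U^g`, `g ∈ P` -/
def TT (P U : Subgroup G) : Subgroup G := ⨅ g : P, MulAut.conj (g : G) • U

theorem TT_le (P U : Subgroup G) {g : G} (hg : g ∈ P) : TT P U ≤ MulAut.conj g • U :=
  iInf_le (fun g : P => MulAut.conj (g : G) • U) ⟨g, hg⟩

theorem TT_le_self (P U : Subgroup G) : TT P U ≤ U := by
  have := TT_le P U P.one_mem
  rwa [map_one, one_smul] at this

theorem le_TT {P U X : Subgroup G} (h : ∀ g ∈ P, X ≤ MulAut.conj g • U) : X ≤ TT P U :=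
  le_iInf fun g => h g g.2

theorem le_normalizer_TT (P U : Subgroup G) : P ≤ normalizer (TT P U : Set G) := by
  refine mem_normalizer_of_forall fun g hg => le_TT fun h hh => ?_
  have h1 := (conj_le_iff (g := g)).2 (TT_le P U (mul_mem (inv_mem hg) hh))
  rwa [conj_conj, mul_inv_cancel_left] at h1

/-- `X ≤ U` normalised by `P` -/
theorem le_TT_of_normalizer {P U X : Subgroup G} (hX : X ≤ U) (h : P ≤ normalizer (X : Set G)) :
    X ≤ TT P U := by
  refine le_TT fun g hg => ?_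
  rw [← conj_eq_of_mem_normalizer (h hg)]
  exact conj_le_iff.2 hX

end tt

/-! ### `U ∩ U^h ≤ ⋂ U^g` -/

section key

variable {G : Type u} [Group G] {F : Type} [Field F]
variable {e : G → Fin 2 → F} {S P U V : Subgroup G}

/-- The hypotheses on `(S, P, U, V)`; no condition on the kernel of the coordinates. -/
structure HypR (e : G → Fin 2 → F) (S P U V : Subgroup G) : Prop where
  PV : P ≤ normalizer (V : Set G)
  SP : S ≤ P
  US : U ≤ S
  SU : S ≤ normalizer (U : Set G)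
  DU : ∀ g ∈ P, Act e V g 1 → g ∈ normalizer (U : Set G)
  ab : U ≤ centralizer (U : Set G)
  norm : ∀ g ∈ P, ∀ h ∈ P, ∀ A, Act e V h A → ∃ B, Act e V (g * h * g⁻¹) B
  up2 : ∀ b, ∃ u ∈ U, Act e V u (up b)
  gen : ∀ K : Subgroup G, S ≤ K → (∀ h ∈ P, ∀ A, Act e V h A → h ∈ K) → P ≤ K

/-- the elements of `P` moving the line to an opposite line -/
def Opp (e : G → Fin 2 → F) (P V : Subgroup G) : Set G :=
  {h | h ∈ P ∧ ∃ A : Matrix.SpecialLinearGroup (Fin 2) F, Act e V h A ∧ ent A 1 0 ≠ 0}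

namespace HypR

variable (D : HypR e S P U V)
include D

theorem conj_le {g : G} (hg : g ∈ P) : MulAut.conj g • U ≤ P := by
  have h1 := (conj_le_iff (g := g)).2 (D.US.trans D.SP)
  rwa [conj_eq_of_mem_normalizer (le_normalizer hg)] at h1

theorem sup_le' {h : G} (hh : h ∈ P) : U ⊔ MulAut.conj h • U ≤ P :=
  sup_le (D.US.trans D.SP) (D.conj_le hh)

/-- `⟨U, U^h⟩` induces `SL₂(F)` -/
theorem exists_act {h : G} (hh : h ∈ P) {A : Matrix.SpecialLinearGroup (Fin 2) F} (hA : Act e V h A)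
    (hne : ent A 1 0 ≠ 0) (B : Matrix.SpecialLinearGroup (Fin 2) F) :
    ∃ k ∈ U ⊔ MulAut.conj h • U, Act e V k B := by
  have hV : ∀ k ∈ U ⊔ MulAut.conj h • U, k ∈ normalizer (V : Set G) := fun k hk => D.PV (D.sup_le' hh hk)
  let K : Subgroup (Matrix.SpecialLinearGroup (Fin 2) F) :=
    { carrier := {x | ∃ k ∈ U ⊔ MulAut.conj h • U, Act e V k x}
      mul_mem' := by
        rintro x y ⟨k, hk, h1⟩ ⟨l, hl, h2⟩
        exact ⟨k * l, mul_mem hk hl, h1.mul h2 (hV l hl)⟩
      one_mem' := ⟨1, one_mem _, Act.one⟩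
      inv_mem' := by
        rintro x ⟨k, hk, h1⟩
        exact ⟨k⁻¹, inv_mem hk, h1.inv (hV k hk)⟩ }
  have hu : ∀ b, up b ∈ K := fun b => by
    obtain ⟨u, hu, h1⟩ := D.up2 b
    exact ⟨u, le_sup_left (a := U) hu, h1⟩
  have hc : ∀ b, A * up b * A⁻¹ ∈ K := fun b => by
    obtain ⟨u, hu, h1⟩ := D.up2 b
    refine ⟨h * u * h⁻¹, le_sup_right (a := U) (mem_conj_smul hu), ?_⟩
    exact (hA.mul h1 (D.PV (D.SP (D.US hu)))).mul (hA.inv (D.PV hh)) (inv_mem (D.PV hh))
  exact mem_of_up hu hne hc B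

theorem conj_eq {g k : G} (hg : g ∈ P) (hk : k ∈ P) {B : Matrix.SpecialLinearGroup (Fin 2) F}
    (h1 : Act e V g B) (h2 : Act e V k B) : MulAut.conj g • U = MulAut.conj k • U := by
  have h3 : Act e V (k⁻¹ * g) 1 := by
    have := (h2.inv (D.PV hk)).mul h1 (D.PV hg)
    rwa [inv_mul_cancel] at this
  have h4 : k⁻¹ * g ∈ P := P.mul_mem (P.inv_mem hk) hg
  have h5 := conj_eq_of_mem_normalizer (D.DU _ h4 h3)
  calc MulAut.conj g • U = MulAut.conj (k * (k⁻¹ * g)) • U := by rw [mul_inv_cancel_left]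
    _ = MulAut.conj k • U := by rw [← conj_conj, h5]

/-- `P = I S`, `I` the elements acting as matrices -/
theorem exists_mul {g : G} (hg : g ∈ P) :
    ∃ i ∈ P, ∃ s ∈ S, (∃ A, Act e V i A) ∧ g = i * s := by
  let K : Subgroup G :=
    { carrier := {g | ∃ i ∈ P, ∃ s ∈ S, (∃ A, Act e V i A) ∧ g = i * s}
      mul_mem' := by
        rintro _ _ ⟨i, hi, s, hs, ⟨A, hA⟩, rfl⟩ ⟨j, hj, t, ht, ⟨B, hB⟩, rfl⟩
        obtain ⟨B', hB'⟩ := D.norm s (D.SP hs) j hj B hB
        have h1 : s * j * s⁻¹ ∈ P := mul_mem (mul_mem (D.SP hs) hj) (inv_mem (D.SP hs))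
        refine ⟨i * (s * j * s⁻¹), mul_mem hi h1, s * t, mul_mem hs ht, ⟨_, hA.mul hB' (D.PV h1)⟩, ?_⟩
        group
      one_mem' := ⟨1, one_mem _, 1, one_mem _, ⟨1, Act.one⟩, by group⟩
      inv_mem' := by
        rintro _ ⟨i, hi, s, hs, ⟨A, hA⟩, rfl⟩
        have h0 := hA.inv (D.PV hi)
        obtain ⟨B', hB'⟩ := D.norm s⁻¹ (inv_mem (D.SP hs)) i⁻¹ (inv_mem hi) _ h0
        have h1 : s⁻¹ * i⁻¹ * s⁻¹⁻¹ ∈ P :=
          mul_mem (mul_mem (inv_mem (D.SP hs)) (inv_mem hi)) (inv_mem (inv_mem (D.SP hs)))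
        refine ⟨_, h1, s⁻¹, inv_mem hs, ⟨_, hB'⟩, ?_⟩
        group }
  have h1 : P ≤ K := D.gen K (fun s hs => ⟨1, one_mem _, s, hs, ⟨1, Act.one⟩, (one_mul s).symm⟩)
    fun h hh A hA => ⟨h, hh, 1, one_mem _, ⟨A, hA⟩, (mul_one h).symm⟩
  exact h1 hg

theorem inf_le {h : G} (hh : h ∈ Opp e P V) : U ⊓ MulAut.conj h • U ≤ TT P U := by
  obtain ⟨hhP, A, hA, hne⟩ := hh
  set T := U ⊓ MulAut.conj h • U with hT
  have hcen : ∀ t ∈ T, ∀ k ∈ U ⊔ MulAut.conj h • U, k * t = t * k := by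
    intro t ht k hk
    have h1 : U ⊔ MulAut.conj h • U ≤ centralizer (T : Set G) :=
      sup_le (D.ab.trans (centralizer_le inf_le_left))
        ((conj_le_centralizer D.ab).trans (centralizer_le inf_le_right))
    exact (mem_centralizer_iff.mp (h1 hk) t ht).symm
  intro t ht
  refine mem_iInf.2 fun g => ?_
  obtain ⟨i, hi, s, hs, ⟨B, hB⟩, hg⟩ := D.exists_mul g.2
  obtain ⟨k, hk, hkB⟩ := D.exists_act hhP hA hne B
  rw [hg, ← conj_conj, conj_eq_of_mem_normalizer (D.SU hs), D.conj_eq hi (D.sup_le' hhP hk) hB hkB, mem_conj]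
  have e1 : k⁻¹ * t * k = t := by rw [mul_assoc, ← hcen t ht k hk, inv_mul_cancel_left]
  rw [e1]
  exact (mem_inf.mp ht).1

/-- `U^g = U^i` for some `i ∈ Opp`, if `g` moves an element `z` of the centre of `S` off the line. -/
theorem exists_opp {g z : G} (hg : g ∈ P) (hz : z ∈ V) (hzS : ∀ s ∈ S, s * z = z * s)
    (h : e (g * z * g⁻¹) 1 ≠ 0) : ∃ i ∈ Opp e P V, ∃ s ∈ S, g = i * s := by
  obtain ⟨i, hi, s, hs, ⟨B, hB⟩, rfl⟩ := D.exists_mul hg
  refine ⟨i, ⟨hi, B, hB, fun h0 => h ?_⟩, s, hs, rfl⟩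
  have e1 : i * s * z * (i * s)⁻¹ = i * z * i⁻¹ := by
    have e2 : s * z * s⁻¹ = z := by rw [hzS s hs, mul_inv_cancel_right]
    calc i * s * z * (i * s)⁻¹ = i * (s * z * s⁻¹) * i⁻¹ := by group
      _ = _ := by rw [e2]
  -- the second coordinate of `z` is zero
  have h1 : e z 1 = 0 := by
    obtain ⟨u, hu, hu1⟩ := D.up2 1
    have h2 := hu1 z hz
    rw [hzS u (D.US hu), mul_inv_cancel_right] at h2
    have h3 := congrFun h2 0
    rw [ap_up_0, one_mul] at h3
    exact left_eq_add.mp h3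
  rw [e1, hB z hz, NatPair.ap_eq_mulVec, Matrix.mulVec, dotProduct, Fin.sum_univ_two]
  change ent B 1 0 * e z 0 + ent B 1 1 * e z 1 = 0
  rw [h0, h1, zero_mul, mul_zero, add_zero]

omit D in
/-- `g⁻¹ u g ∈ Opp` -/
theorem conj_mem_opp (hPV : P ≤ normalizer (V : Set G)) {g u : G} (hg : g ∈ Opp e P V) (hu : u ∈ P) {b : F}
    (hb : b ≠ 0) (h : Act e V u (up b)) : g⁻¹ * u * g ∈ Opp e P V := by
  obtain ⟨hgP, A, hA, hne⟩ := hg
  refine ⟨mul_mem (mul_mem (inv_mem hgP) hu) hgP, A⁻¹ * up b * A,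
    ((hA.inv (hPV hgP)).mul h (hPV hu)).mul hA (hPV hgP), ?_⟩
  have h1 : ent (A⁻¹ * up b * A) 1 0 = -(b * ent A 1 0 ^ 2) := by
    rw [ent_mul, ent_mul, ent_mul]
    simp only [ent_inv, up_00, up_01, up_10, up_11]
    simp
    ring
  rw [h1]
  exact neg_ne_zero.2 (mul_ne_zero hb (pow_ne_zero 2 hne))

end HypR

end key

/-! ### The frame -/

section frame

variable {G : Type u} [Group G] [Finite G] {F : Type} [Field F]
variable (hc : IsCharacteristicTwoType G) (S : Sylow 2 G) {P H : Subgroup G}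

include hc in
/-- an element of `P` which centralises `V / C_V(O²(P))` centralises `V` -/
theorem mem_centralizer_of_act [Finite F] [CharP F 2] (hP : IsParS (S : Subgroup G) P)
    (M : NatOver F P (zl (S : Subgroup G) P) (cv (S : Subgroup G) P)) {g : G} (hg : g ∈ P)
    (h : Act M.e (zl (S : Subgroup G) P) g 1) : g ∈ centralizer (zl (S : Subgroup G) P : Set G) := by
  have hk : g ∈ (HOne.sec M).kern := by
    rw [(HOne.sec M).mem_kern_iff hg]
    intro v hv
    have hgv : g * v * g⁻¹ ∈ zl (S : Subgroup G) P :=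
      (mem_normalizer_iff.1 (le_normalizer_zl _ _ hg) v).1 hv
    rw [← M.ker _ (mul_mem hgv (inv_mem hv)), M.mul _ hgv _ (inv_mem hv), h v hv, ap_one,
      ← M.mul _ hv _ (inv_mem hv), mul_inv_cancel]
    exact (M.ker 1 (one_mem _)).2 (one_mem _)
  set C : Subgroup G := centralizer (zl (S : Subgroup G) P : Set G) with hC
  obtain ⟨a, m, hm, ha⟩ := Nat.exists_eq_pow_mul_and_not_dvd (orderOf_pos g).ne' 2 (by norm_num)
  have h1 : g ^ m ∈ C := by
    rw [hC, mem_centralizer_iff]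
    intro v hv
    refine (HOne.comm_of_sec_two hc S hP M (pow_mem hg m) ⟨a, ?_⟩ (pow_mem hk m) v hv).symm
    rw [← pow_mul, mul_comm, ← ha, pow_orderOf_eq_one]
  have h2 : g ^ 2 ^ a ∈ C := by
    rw [hC, mem_centralizer_iff]
    intro v hv
    refine (HOne.ker_oddGen hc S hP M (mem_oddGen (pow_mem hg _) ?_) (pow_mem hk _) v hv).symm
    have hm0 : 0 < m := Nat.pos_of_ne_zero (by rintro rfl; simp at hm)
    have h3 : orderOf (g ^ 2 ^ a) = m := by
      rw [orderOf_pow_of_dvd (by positivity) (ha ▸ Dvd.intro _ rfl), ha, Nat.mul_div_cancel_left _ (by positivity)]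
    rw [h3]
    exact Nat.not_even_iff_odd.1 fun h => hm h.two_dvd
  have hco : Nat.Coprime m (2 ^ a) :=
    Nat.Coprime.pow_right a ((Nat.Prime.coprime_iff_not_dvd Nat.prime_two).2 hm).symm
  obtain ⟨x, y, hxy⟩ := Nat.isCoprime_iff_coprime.2 hco
  have e : g = (g ^ m) ^ x * (g ^ 2 ^ a) ^ y := by
    rw [← zpow_natCast, ← zpow_natCast, ← zpow_mul, ← zpow_mul, ← zpow_add, mul_comm (m : ℤ), mul_comm _ y, hxy,
      zpow_one]
  rw [e]
  exact mul_mem (zpow_mem h1 x) (zpow_mem h2 y)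

include hc in
/-- **(R5)** `K`, `H` long groups: the hypotheses of `RFour.Base` with `N = K`, `V = U_K`, `U = U_H`; so
`Base.comm_NN`, `Base.cent_le_normalizer_NN`, `Base.le_normalizer_NN`, `Base.le_T` apply. -/
theorem base_long {K : Subgroup G} (hK : IsLong (S : Subgroup G) K) (hH : IsLong (S : Subgroup G) H) :
    Base K (zl (S : Subgroup G) H) (zl (S : Subgroup G) K) where
  UN := (IsLong.zl_le_S hc hH).trans hK.loc.le
  NV := le_normalizer_zl _ _
  ab := (zl_abel hc S hH.loc).1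
  CU := (centralizer_le (zc_le_zl _ _)).trans (hH.cz.trans (le_normalizer_zl _ _))

section setting

variable (hP : IsParS (S : Subgroup G) P) (hH : IsLong (S : Subgroup G) H)
  (hoff : Off (zl (S : Subgroup G) P) (zl (S : Subgroup G) H))
  (M : NatK F (S : Subgroup G) P (zl (S : Subgroup G) P) (cv (S : Subgroup G) P) 1)

/-- the coordinates -/
abbrev co {S P V D : Subgroup G} (M : NatK F S P V D 1) : G → Fin 2 → F := fun g => M.e g 0

/-- the product of the lines on `Z` in `H` -/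
def WH (S H : Subgroup G) : Subgroup G := NoFF.Lines.W (zc S) (CZ S) {P | IsParS S P ∧ P ≤ H}

/-- `P = ⟨U^P⟩ S` -/
def LL (P U : Subgroup G) : Subgroup G := ⨆ g : P, MulAut.conj (g : G) • U

omit [Finite G] in
theorem le_LL (P U : Subgroup G) {g : G} (hg : g ∈ P) : MulAut.conj g • U ≤ LL P U :=
  le_iSup (fun g : P => MulAut.conj (g : G) • U) ⟨g, hg⟩

omit [Finite G] in
theorem LL_le {P U A : Subgroup G} (h : ∀ g ∈ P, MulAut.conj g • U ≤ A) : LL P U ≤ A :=
  iSup_le fun g => h g g.2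

omit [Finite G] in
theorem le_normalizer_LL (P U : Subgroup G) : P ≤ normalizer (LL P U : Set G) := by
  refine mem_normalizer_of_forall fun g hg => ?_
  rw [Subgroup.pointwise_smul_subset_iff]
  refine LL_le fun h hh => ?_
  rw [← Subgroup.pointwise_smul_subset_iff, conj_conj]
  exact le_LL P U (mul_mem hg hh)

omit [Finite G] in
/-- `⟨U^P⟩` centralises `⋂ U^g`. -/
theorem LL_le_centralizer {P U : Subgroup G} (ab : U ≤ centralizer (U : Set G)) :
    LL P U ≤ centralizer (TT P U : Set G) :=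
  LL_le fun _ hg => (conj_le_centralizer ab).trans (centralizer_le (TT_le P U hg))

include hc hP hH hoff

theorem LL_sup : LL P (zl (S : Subgroup G) H) ⊔ (S : Subgroup G) = P := by
  have hUS : zl (S : Subgroup G) H ≤ (S : Subgroup G) := IsLong.zl_le_S hc hH
  have h1 : LL P (zl (S : Subgroup G) H) ≤ P := LL_le fun g hg => by
    have h1 := (conj_le_iff (g := g)).2 (hUS.trans hP.le)
    rwa [conj_eq_of_mem_normalizer (le_normalizer hg)] at h1
  rcases hP.toIsPar.sup_eq_or_inf_le S h1 (le_normalizer_LL _ _) with h2 | h2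
  · exact h2
  · refine absurd ?_ hoff.ne
    have h3 := le_LL P (zl (S : Subgroup G) H) P.one_mem
    rw [map_one, one_smul] at h3
    have h4 := (le_inf hUS h3).trans h2
    rw [← hP.inf_centralizer S hc] at h4
    exact h4.trans inf_le_right

/-- `T ∩ Z = C_Z(P)` -/
theorem TT_inf_zc : TT P (zl (S : Subgroup G) H) ⊓ zc (S : Subgroup G) =
    zc (S : Subgroup G) ⊓ centralizer (P : Set G) := by
  apply le_antisymm
  · refine le_inf inf_le_right ?_
    rw [le_centralizer_iff]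
    refine (LL_sup hc S hP hH hoff).ge.trans (sup_le ?_ ?_)
    · exact (LL_le_centralizer (zl_abel hc S hH.loc).1).trans (centralizer_le inf_le_left)
    · exact (le_centralizer_zc _).trans (centralizer_le inf_le_right)
  · refine le_inf (le_TT fun g hg => ?_) inf_le_left
    intro x hx
    rw [mem_conj]
    have h1 := mem_centralizer_iff.1 (mem_inf.1 hx).2 g hg
    have e : g⁻¹ * x * g = x := by rw [mul_assoc, ← h1, inv_mul_cancel_left]
    rw [e]
    exact zc_le_zl _ _ (mem_inf.1 hx).1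

/-- `T = C_U(O²(P))` -/
theorem TT_eq : TT P (zl (S : Subgroup G) H) =
    zl (S : Subgroup G) H ⊓ centralizer (oddGen P : Set G) := by
  have hUS : zl (S : Subgroup G) H ≤ (S : Subgroup G) := IsLong.zl_le_S hc hH
  have h1 : LL P (zl (S : Subgroup G) H) ≤ P := LL_le fun g hg => by
    have h1 := (conj_le_iff (g := g)).2 (hUS.trans hP.le)
    rwa [conj_eq_of_mem_normalizer (le_normalizer hg)] at h1
  apply le_antisymm
  · refine le_inf (TT_le_self _ _) ?_
    rw [le_centralizer_iff]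
    refine le_trans ?_ (LL_le_centralizer (zl_abel hc S hH.loc).1)
    exact oddGen_le_of_sup (le_normalizer_LL _ _) (LL_sup hc S hP hH hoff).ge hP.le h1 S.isPGroup'
  · refine le_TT_of_normalizer inf_le_left ?_
    have h2 : oddGen P ⊔ (S : Subgroup G) = P :=
      NoFF.LinesPlug.oddGen_sup hP.le (MinSimple.Basic.not_dvd_relIndex S hP.le)
    rw [← h2]
    refine sup_le ?_ ?_
    · rw [h2]
      refine le_trans ?_ (centralizer_le_normalizer _)
      rw [le_centralizer_iff]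
      exact inf_le_right
    · rw [h2]
      refine mem_normalizer_of_forall fun s hs => ?_
      rw [Subgroup.smul_inf, conj_eq_of_mem_normalizer (hH.loc.le.trans (le_normalizer_zl _ _) hs),
        NOThreeL.ThmT.conj_centralizer_eq (le_normalizer_oddGen P (hP.le hs))]

include M

/-- `U` induces the full root group -/
theorem up_of [Finite F] [CharP F 2] :
    (∀ u ∈ zl (S : Subgroup G) H, ∃ b, Act (co M) (zl (S : Subgroup G) P) u (up b)) ∧
      ∀ b, ∃ u ∈ zl (S : Subgroup G) H, Act (co M) (zl (S : Subgroup G) P) u (up b) := by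
  have hUS : zl (S : Subgroup G) H ≤ (S : Subgroup G) := IsLong.zl_le_S hc hH
  obtain ⟨I, h1, h2⟩ := M.off _ hUS hoff
  have hI : ∀ i, i ∈ I := by
    intro i
    by_contra hi
    apply hoff.ne
    intro u hu
    obtain ⟨b, hb, hub⟩ := h1 u hu
    have hb0 : ∀ j, b j = 0 := fun j => hb j (by rwa [Subsingleton.elim j i])
    refine mem_centralizer_of_act hc S hP M.natOver (hP.le (hUS hu)) fun v hv => ?_
    have h3 : M.e (u * v * u⁻¹) 0 = ap (up (b 0)) (M.e v 0) := hub.1 v hv 0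
    rw [hb0 0, up_zero] at h3
    exact h3
  refine ⟨fun u hu => ?_, fun b => ?_⟩
  · obtain ⟨b, _, hb⟩ := h1 u hu
    exact ⟨b 0, fun v hv => hb.1 v hv 0⟩
  · obtain ⟨u, hu, hb⟩ := h2 (fun _ => b) fun i hi => absurd (hI i) hi
    exact ⟨u, hu, fun v hv => hb.1 v hv 0⟩

theorem hypR [Finite F] [CharP F 2] :
    HypR (co M) (S : Subgroup G) P (zl (S : Subgroup G) H) (zl (S : Subgroup G) P) where
  PV := le_normalizer_zl _ _
  SP := hP.le
  US := IsLong.zl_le_S hc hH
  SU := hH.loc.le.trans (le_normalizer_zl _ _)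
  DU g hg hA := by
    have h1 := mem_centralizer_of_act hc S hP M.natOver hg hA
    exact (centralizer_le (zc_le_zl _ _)).trans (hH.cz.trans (le_normalizer_zl _ _)) h1
  ab := (zl_abel hc S hH.loc).1
  norm g hg h hh A hA := by
    obtain ⟨B, hB⟩ := M.norm g hg h hh (fun _ => A) fun v hv i => by
      rw [Subsingleton.elim i 0]
      exact hA v hv
    exact ⟨B 0, fun v hv => hB v hv 0⟩
  up2 := (up_of hc S hP hH hoff M).2
  gen K hSK hK := M.gen K hSK fun h hh A hA => hK h hh (A 0) fun v hv => hA.1 v hv 0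

omit [Finite G] hc hP hH hoff in
/-- opposite elements exist -/
theorem exists_opp : ∃ g, g ∈ Opp (co M) P (zl (S : Subgroup G) P) := by
  obtain ⟨w, hw, hwA⟩ := M.lift fun _ => wm 1 one_ne_zero
  exact ⟨w, hw, _, fun v hv => hwA.1 v hv 0, by rw [wm_10, inv_one]; exact neg_ne_zero.2 one_ne_zero⟩

/-- `g⁻¹ u g` is opposite, if `g` is opposite and `u ∈ U - C_U(V)`. -/
theorem conj_mem_opp [Finite F] [CharP F 2] {g u : G} (hg : g ∈ Opp (co M) P (zl (S : Subgroup G) P))
    (hu : u ∈ zl (S : Subgroup G) H) (huV : u ∉ centralizer (zl (S : Subgroup G) P : Set G)) :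
    g⁻¹ * u * g ∈ Opp (co M) P (zl (S : Subgroup G) P) := by
  obtain ⟨b, hb⟩ := (up_of hc S hP hH hoff M).1 u hu
  have huP : u ∈ P := hP.le (IsLong.zl_le_S hc hH hu)
  refine HypR.conj_mem_opp (le_normalizer_zl _ _) hg huP ?_ hb
  rintro rfl
  rw [up_zero] at hb
  exact huV (mem_centralizer_of_act hc S hP M.natOver huP hb)

/-- **(R4) THEOREM T modulo `T`.** -/
theorem rad [Finite F] [CharP F 2] :
    Rad P (zl (S : Subgroup G) H) (zl (S : Subgroup G) P) (TT P (zl (S : Subgroup G) H))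
      (Opp (co M) P (zl (S : Subgroup G) P)) where
  UN := (IsLong.zl_le_S hc hH).trans hP.le
  NV := le_normalizer_zl _ _
  ab := (zl_abel hc S hH.loc).1
  CU := (centralizer_le (zc_le_zl _ _)).trans (hH.cz.trans (le_normalizer_zl _ _))
  TY := by
    refine le_inf (TT_le_self _ _) ?_
    have hUS : zl (S : Subgroup G) H ≤ (S : Subgroup G) := IsLong.zl_le_S hc hH
    have h1 : TT P (zl (S : Subgroup G) H) ≤ o2 P :=
      le_o2 ((TT_le_self _ _).trans (hUS.trans hP.le)) (S.isPGroup'.to_le ((TT_le_self _ _).trans hUS))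
        (le_normalizer_TT _ _)
    rw [← hP.inf_centralizer S hc] at h1
    exact h1.trans inf_le_right
  NT := le_normalizer_TT _ _
  ON := fun _ h => h.1
  inf g hg := by
    refine le_trans ?_ ((hypR hc S hP hH hoff M).inf_le hg)
    exact inf_le_inf inf_le_left (conj_le_iff.2 inf_le_left)

/-- **(R4), `T ≤ Z`: the products of the lines on opposite points commute.** -/
theorem lines_comm [Finite F] [CharP F 2] (D : Data (S : Subgroup G))
    (hT : TT P (zl (S : Subgroup G) H) ≤ zc (S : Subgroup G)) {g : G}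
    (hg : g ∈ Opp (co M) P (zl (S : Subgroup G) P)) :
    WH (S : Subgroup G) H ≤
      centralizer ((MulAut.conj g • WH (S : Subgroup G) H : Subgroup G) : Set G) := by
  have R := rad hc S hP hH hoff M
  set T := TT P (zl (S : Subgroup G) H) with hTd
  have hgP : g ∈ P := hg.1
  -- a line in `H` on `Z` is in `Y`
  have hY : ∀ {P' : Subgroup G}, IsParS (S : Subgroup G) P' → P' ≤ H → ∀ {c : G}, c ∈ CZ (S : Subgroup G) →
      MulAut.conj c • zl (S : Subgroup G) P' ≤ Y (zl (S : Subgroup G) H) (zl (S : Subgroup G) P) := by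
    intro P' hP' hP'H c hcc
    refine le_inf ?_ ?_
    · have h3 : zl (S : Subgroup G) P' ≤ zl (S : Subgroup G) H :=
        zl_le (zc_le_zl _ _) (hP'H.trans (le_normalizer_zl _ _))
      have h4 := (conj_le_iff (g := c)).2 h3
      rwa [conj_eq_of_mem (le_normalizer_zl _ _ (hH.cz hcc))] at h4
    · have h4 : WP (S : Subgroup G) ≤ centralizer (WP (S : Subgroup G) : Set G) := (Basic.geo hc D).W_comm
      exact ((line_le_WP hP' hcc).trans h4).trans (centralizer_le (zl_le_WP hP))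
  -- `Z` is in all lines on `Z`
  have hZl : ∀ {P' : Subgroup G} {c : G}, c ∈ CZ (S : Subgroup G) →
      zc (S : Subgroup G) ≤ MulAut.conj c • zl (S : Subgroup G) P' := by
    intro P' c hcc
    have h3 := (conj_le_iff (g := c)).2 (zc_le_zl (S : Subgroup G) P')
    rwa [conj_eq_of_mem (centralizer_le_normalizer _ hcc)] at h3
  have hTg : T ≤ MulAut.conj g • zc (S : Subgroup G) := by
    rw [← conj_eq_of_mem_normalizer (R.NT hgP)]
    exact conj_le_iff.2 hT
  -- commutators in `T`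
  have key : ∀ {A B : Subgroup G}, A ≤ Y (zl (S : Subgroup G) H) (zl (S : Subgroup G) P) →
      B ≤ MulAut.conj g • Y (zl (S : Subgroup G) H) (zl (S : Subgroup G) P) →
      T ≤ A → T ≤ B → A ≤ normalizer (B : Set G) ∧ B ≤ normalizer (A : Set G) := by
    intro A B hA hB hTA hTB
    refine ⟨mem_normalizer_of_forall fun a ha x hx => ?_, mem_normalizer_of_forall fun b hb x hx => ?_⟩
    · rw [mem_conj] at hx
      have h1 := mul_mem (hTB (R.comm_T hg (hA ha) (hB hx))) hx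
      have e : a * (a⁻¹ * x * a) * a⁻¹ * (a⁻¹ * x * a)⁻¹ * (a⁻¹ * x * a) = x := by group
      rwa [e] at h1
    · rw [mem_conj] at hx
      have h1 := mul_mem (inv_mem (hTA (R.comm_T hg (hA hx) (hB hb)))) hx
      have e : (b⁻¹ * x * b * b * (b⁻¹ * x * b)⁻¹ * b⁻¹)⁻¹ * (b⁻¹ * x * b) = x := by group
      rwa [e] at h1
  refine NoFF.Lines.W_le fun P₁ hP₁ c hcc => ?_
  rw [le_centralizer_iff]
  refine NoFF.Lines.conj_W_le fun P₂ hP₂ d hd => ?_
  rw [le_centralizer_iff]
  have h1 : MulAut.conj (g * d) • zl (S : Subgroup G) P₂ ≤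
      MulAut.conj g • Y (zl (S : Subgroup G) H) (zl (S : Subgroup G) P) := by
    rw [← conj_conj]
    exact conj_le_iff.2 (hY hP₂.1 hP₂.2 hd)
  have h2 : T ≤ MulAut.conj (g * d) • zl (S : Subgroup G) P₂ := by
    rw [← conj_conj]
    exact hTg.trans (conj_le_iff.2 (hZl hd))
  obtain ⟨h3, h4⟩ := key (hY hP₁.1 hP₁.2 hcc) h1 (hT.trans (hZl hcc)) h2
  exact NoFF.Lines.noff_lines (FrameNOFF.sys hc S D.noff) (P := P₁) (P' := P₂) hP₁.1 hP₂.1 h3 h4

end setting

end frame

end Cfsg.Agent.Omega.NOThreeL.RFour
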