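import Cfsg.Agent.Mrg.Omega.NOThreeL.Merge
import Cfsg.Agent.Mrg.Omega.NO3b.Union.Line
import Cfsg.Agent.Mrg.Omega.Spread.ElatOf

section


/-!
# NO-3L, the link (L) for lines which are not FF (#17634; text bb OMEGA helper184)

`S` a Sylow 2-subgroup, `P ∈ P*(S)`, `V_P = zl S P` not FF (`NotFF`), `V_P ≤ O₂(C_G(Z))`.

* `root_of_par` : the w.c. frame (`Wc.Root S P`) for `L = P`;
* `ti_line` : two conjugates of `V_P` which meet nontrivially commute (THEOREM TI for the lines of the frame, which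
  contain the conjugates of `V_P`; BETA is dead by THEOREM OFF, socket `Wc.StmtOff`);
* `comm_of_norm` : `X` a group with `U ⊴ X` elementary abelian, `O₂(X) ≤ C(U)`; a conjugate `V ≤ X` of `V_P` which
  is normalised by `U` centralises `U`;
* `comm_zl` : in particular for `U = U_H = zl S H`, `X = H ∈ L(S)`;
* `nullF_nff` : `NullF S F` for a set `F` of members of `P*(S)` with `V_P` not FF.

Nothing on case (A), on `|Z|` or on nonlocality is used.
-/

set_option autoImplicit false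

namespace Cfsg.Agent.Omega.NOThreeL.NullNff

open Subgroup Cfsg
open Cfsg.Agent.ZN (o2 zc zl)
open Cfsg.Agent.ZN.ChoiceBase (cj cj_mono cj_eq_of_mem_normalizer cj_cj mem_cj isPGroup_cj)
open Cfsg.Agent.Omega.MinPar Cfsg.Agent.Omega.Frame Cfsg.Agent.Omega.FrameNOFF
open Cfsg.Agent.Omega.Node.NO3L
open Cfsg.Agent.Omega.NO3b (NoEmp.Lines)
open Cfsg.Agent.Omega.NO3b.EZero (NotFF cj_cent cj_eq_cj_iff)
open Cfsg.Agent.Omega.NO3b.Wc
open Cfsg.Agent.Omega.NOThreeL.MutLine (NullF)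
open Cfsg.Agent.MinSimple.VModule (zl_le le_normalizer_zl zc_le_zl zc_le mem_zc zc_sq zc_comm o2_isPGroup
  le_normalizer_o2)
open scoped Pointwise

universe u

variable {G : Type u} [Group G] [Finite G] {S : Sylow 2 G}

/-- The w.c. frame for `L = P`. -/
theorem root_of_par (hc : IsCharacteristicTwoType G) {P : Subgroup G} (hP : IsParS (S : Subgroup G) P)
    (hn : NotFF (zl (S : Subgroup G) P)) : Root S P where
  le := hP.isLoc.le
  comm := fun x hx => mem_centralizer_iff.2 fun y hy =>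
    zc_comm _ _ (hP.isLoc.zl_le S hc hy) _ (hP.isLoc.zl_le S hc hx)
  sq := fun v hv => zc_sq _ v (hP.isLoc.zl_le S hc hv)
  nff := hn
  cs := by
    rw [hP.inf_centralizer S hc]
    exact le_normalizer_o2 P

/-- **TI for the lines.** -/
theorem ti_line (hc : IsCharacteristicTwoType G) (hoff : StmtOff G) (hS : zc (S : Subgroup G) ≠ ⊥)
    {P : Subgroup G} (hP : IsParS (S : Subgroup G) P) (hn : NotFF (zl (S : Subgroup G) P))
    (hlow : zl (S : Subgroup G) P ≤ o2 (centralizer (zc (S : Subgroup G) : Set G))) {a b : G}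
    (hI : cj a (zl (S : Subgroup G) P) ⊓ cj b (zl (S : Subgroup G) P) ≠ ⊥) :
    cj a (zl (S : Subgroup G) P) ≤ centralizer ((cj b (zl (S : Subgroup G) P) : Subgroup G) : Set G) := by
  have hr := root_of_par hc hP hn
  have hL := hr.lines' hc hoff hlow hS
  have h2 : IsPGroup 2 (VL (S : Subgroup G) P : Subgroup G) := hr.V_two
  have h1 := hL.comm_of_inter (fun D hD hD1 => NOne.LemmaT.char2_centralizer hc (h2.to_le hD) hD1)
    (a := a) (b := b) (fun h0 => hI (le_bot_iff.1 ((inf_le_inf (cj_mono a hr.zl_le_V)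
      (cj_mono b hr.zl_le_V)).trans h0.le)))
  exact (cj_mono a hr.zl_le_V).trans (h1.trans (centralizer_le (cj_mono b hr.zl_le_V)))

/-- A conjugate `V ≤ X` of `V_P` which is normalised by the elementary abelian normal subgroup `U` of `X`,
`O₂(X) ≤ C(U)`, centralises `U`. -/
theorem comm_of_norm (hc : IsCharacteristicTwoType G) (hoff : StmtOff G) (hS : zc (S : Subgroup G) ≠ ⊥)
    {P : Subgroup G} (hP : IsParS (S : Subgroup G) P) (hn : NotFF (zl (S : Subgroup G) P))
    (hlow : zl (S : Subgroup G) P ≤ o2 (centralizer (zc (S : Subgroup G) : Set G))) {X U : Subgroup G}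
    (hUc : ∀ a ∈ U, ∀ b ∈ U, a * b = b * a) (hU2 : ∀ a ∈ U, a ^ 2 = 1)
    (hXU : X ≤ normalizer (U : Set G)) (hoU : o2 X ≤ centralizer (U : Set G)) {g : G}
    (hV : cj g (zl (S : Subgroup G) P) ≤ X)
    (hUV : U ≤ normalizer ((cj g (zl (S : Subgroup G) P) : Subgroup G) : Set G)) :
    cj g (zl (S : Subgroup G) P) ≤ centralizer (U : Set G) := by
  have hr := root_of_par hc hP hn
  by_contra hne
  have hVcc : cj g (zl (S : Subgroup G) P) ≤
      centralizer ((cj g (zl (S : Subgroup G) P) : Subgroup G) : Set G) := cj_cent hr.comm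
  have hVc : ∀ a ∈ cj g (zl (S : Subgroup G) P), ∀ b ∈ cj g (zl (S : Subgroup G) P), a * b = b * a :=
    fun a ha b hb => ((mem_centralizer_iff.1 (hVcc ha)) b hb).symm
  have hV2 : ∀ a ∈ cj g (zl (S : Subgroup G) P), a ^ 2 = 1 := by
    intro v hv
    have h1 := hr.sq _ (mem_cj.1 hv)
    have e : v ^ 2 = g * (g⁻¹ * v * g) ^ 2 * g⁻¹ := by rw [pow_two, pow_two]; group
    rw [e, h1]; group
  have hle := NO3b.NoEmp.le_o2_of (X := X) (D := ⊥) (U := U) hV hVc hV2 hUc hU2 hXU hUV bot_le bot_le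
    (by rw [Subgroup.le_centralizer_iff]; exact bot_le) (fun h0 => hne (by
      intro v hv
      rw [mem_centralizer_iff]
      intro u hu
      have h1 := NO3b.NoEmp.comm_mem hUV (hV.trans hXU) hv hu
      have h2 := mem_bot.1 (h0 h1)
      exact (commutatorElement_eq_one_iff_mul_comm.1 h2).symm))
    (inf_le_right.trans hoU) (hn.cj g) (fun a _ b _ hab => by
      rw [cj_cj, cj_cj] at hab ⊢
      by_contra h0
      exact hab (ti_line hc hoff hS hP hn hlow (fun h1 => h0 h1.le)))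
  exact hne (hle.trans hoU)

/-- `V ≤ H ∈ L(S)` a conjugate of `V_P`, `U_H ≤ N(V)`: `[V, U_H] = 1`. -/
theorem comm_zl (hc : IsCharacteristicTwoType G) (hoff : StmtOff G) (hS : zc (S : Subgroup G) ≠ ⊥)
    {P : Subgroup G} (hP : IsParS (S : Subgroup G) P) (hn : NotFF (zl (S : Subgroup G) P))
    (hlow : zl (S : Subgroup G) P ≤ o2 (centralizer (zc (S : Subgroup G) : Set G))) {H : Subgroup G}
    (hH : IsLoc (S : Subgroup G) H) {g : G} (hV : cj g (zl (S : Subgroup G) P) ≤ H)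
    (hUV : zl (S : Subgroup G) H ≤ normalizer ((cj g (zl (S : Subgroup G) P) : Subgroup G) : Set G)) :
    cj g (zl (S : Subgroup G) P) ≤ centralizer (zl (S : Subgroup G) H : Set G) := by
  have h1 := hH.zl_le S hc
  refine comm_of_norm hc hoff hS hP hn hlow (fun a ha b hb => zc_comm _ _ (h1 ha) _ (h1 hb))
    (fun a ha => zc_sq _ a (h1 ha)) (le_normalizer_zl _ _) ?_ hV hUV
  intro x hx
  rw [mem_centralizer_iff]
  intro u hu
  exact ((mem_zc.1 (h1 hu)).2.1 x hx).symm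

/-- `[V_P, U_H] = 1` for every `H ∈ L(S)`. -/
theorem comm_self (hc : IsCharacteristicTwoType G) (hoff : StmtOff G) (hS : zc (S : Subgroup G) ≠ ⊥)
    {P : Subgroup G} (hP : IsParS (S : Subgroup G) P) (hn : NotFF (zl (S : Subgroup G) P))
    (hlow : zl (S : Subgroup G) P ≤ o2 (centralizer (zc (S : Subgroup G) : Set G))) {H : Subgroup G}
    (hH : IsLoc (S : Subgroup G) H) :
    zl (S : Subgroup G) P ≤ centralizer (zl (S : Subgroup G) H : Set G) := by
  have hr := root_of_par hc hP hn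
  have h1 : cj 1 (zl (S : Subgroup G) P) = zl (S : Subgroup G) P := ZN.ChoiceBase.cj_one _
  have h2 : zl (S : Subgroup G) H ≤ (S : Subgroup G) :=
    (hH.zl_le S hc |>.trans (zc_le _)).trans (hH.o2_le S)
  have h3 := comm_zl hc hoff hS hP hn hlow hH (g := 1) (by rw [h1]; exact hr.zl_le_S.trans hH.le)
    (by rw [h1]; exact h2.trans (hP.isLoc.le.trans (le_normalizer_zl _ _)))
  rwa [h1] at h3

/-- **(L) for the lines which are not FF.** -/
theorem nullF_nff (hc : IsCharacteristicTwoType G) (hoff : StmtOff G) (hS : zc (S : Subgroup G) ≠ ⊥)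
    {F : Set (Subgroup G)} (hF : F ⊆ PS (S : Subgroup G)) (hn : ∀ P ∈ F, NotFF (zl (S : Subgroup G) P))
    (hlow : ∀ P ∈ F, zl (S : Subgroup G) P ≤ o2 (CZ (S : Subgroup G))) : NullF (S : Subgroup G) F := by
  intro P H g hP hH h1 h2
  exact comm_zl hc hoff hS (hF hP) (hn P hP) (hlow P hP) hH.loc
    ((h1.trans (ZN.ChoiceSit.o2_le _)).trans hH.cz) h2

end Cfsg.Agent.Omega.NOThreeL.NullNff

end

section


/-!
# THEOREM LOW (#19191, helper597), (nFF): the bad line `U` is FF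

`Flat.Hyp V F`, `X = C_G(F)`, `W = W_F`, `E = V ∩ O₂(X)`, `N = C_W(E)`; `B` abelian, `F ≤ B ≤ W`, `X ≤ N(B)`,
`V ∩ B ≰ F`; `U ≤ V`, `U ≰ E`.

* `relIndex_le` : `|V ∩ B : F| ≤ |B : B ∩ N|`;
* `off` : `U ∩ F = 1`, `B ≤ N(U)`: `|U : C_U(B)| ≤ |B : C_B(U)|` and `[U, B] ≠ 1` (`B` offends on `U`);
* `le_EE_of_inf` : `U = V_P` not FF, `U ≤ O₂(C_G(Z))`, `U ∩ F ≠ 1`: `U ≤ E`;
* `ff` : **(nFF)** `U = V_P ≰ E` is FF.
-/

set_option autoImplicit false

namespace Cfsg.Agent.Omega.NOThreeL.Low.NonFF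

open Subgroup Cfsg
open Cfsg.Agent.ZN (o2 zc zl)
open Cfsg.Agent.Omega.MinPar Cfsg.Agent.Omega.Frame Cfsg.Agent.Omega.FrameNOFF
open Cfsg.Agent.Omega.NO3b.EZero (NotFF)
open Cfsg.Agent.Omega.NO3b.Wc
open Cfsg.Agent.Omega.NoFF.Basic (conj_conj conj_le_iff)
open Cfsg.Agent.Omega.NOThreeL.Pair (conj_eq_of_mem)
open Cfsg.Agent.Omega.NOne.Flat (Hyp EE WW NN BadX conj_eq_of_cent)
open Cfsg.Agent.Omega.NOne.NearFF (c c_def Near)
open Cfsg.Agent.MinSimple.VModule (le_normalizer_zl)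
open scoped Pointwise

universe u

variable {G : Type u} [Group G] [Finite G]

theorem rne (A B : Subgroup G) : A.relIndex B ≠ 0 := index_ne_zero_of_finite

section flat

variable {V F B : Subgroup G} (h : Hyp V F)
include h

omit [Finite G] h in
theorem inf_le_EE (hW : B ≤ WW V F) : V ⊓ B ≤ EE V F :=
  le_inf inf_le_left ((inf_le_right.trans hW).trans Hyp.W_le_R)

/-- `|V ∩ B : F| ≤ |B : B ∩ N|` -/
theorem relIndex_le (hW : B ≤ WW V F) (hF : F ≤ B) (hX : centralizer (F : Set G) ≤ normalizer (B : Set G)) :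
    F.relIndex (V ⊓ B) ≤ (NN V F).relIndex B := by
  obtain ⟨w, hw, hwE⟩ := h.exists_not_mem
  obtain ⟨x, hx, -, hn, -⟩ := h.exists_near hw hwE
  have hxF : MulAut.conj x • F = F := conj_eq_of_cent hx
  have h1 : F.relIndex (V ⊓ B) = F.relIndex (MulAut.conj x • (V ⊓ B)) := by
    have := NOne.Flat.Hyp.relIndex_conj x F (V ⊓ B)
    rw [hxF] at this
    exact this.symm
  set K : Subgroup G := MulAut.conj x • (V ⊓ B) with hK
  have hKB : K ≤ B := by
    have h2 : MulAut.conj x • B = B := conj_eq_of_mem (hX hx)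
    calc K ≤ MulAut.conj x • B := conj_le_iff.2 inf_le_right
      _ = B := h2
  have hKE : K ≤ MulAut.conj x • EE V F := conj_le_iff.2 (inf_le_EE hW)
  have hFK : F ≤ K := by
    rw [← hxF]
    exact conj_le_iff.2 (le_inf h.F_le_V hF)
  have h3 : NN V F ⊓ K = F := by
    refine le_antisymm ?_ (le_inf h.F_le_NN hFK)
    intro s hs
    obtain ⟨hs1, hs2⟩ := mem_inf.1 hs
    exact hn.inj s (hKE hs2) (h.c_mem_F hw hs1)
  calc F.relIndex (V ⊓ B) = F.relIndex K := h1
    _ = (NN V F ⊓ K).relIndex K := by rw [h3]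
    _ = (NN V F).relIndex K := inf_relIndex_right _ _
    _ ≤ (NN V F).relIndex B := relIndex_le_of_le_right hKB (rne _ _)

/-- there is an element of `B - N` -/
theorem exists_not_mem_NN (hW : B ≤ WW V F) (hF : F ≤ B)
    (hX : centralizer (F : Set G) ≤ normalizer (B : Set G)) (hI : ¬ V ⊓ B ≤ F) : ∃ b ∈ B, b ∉ NN V F := by
  by_contra hcon
  push Not at hcon
  have h1 := relIndex_le h hW hF hX
  rw [relIndex_eq_one.2 hcon] at h1
  exact hI (relIndex_eq_one.1 (le_antisymm h1 (Nat.one_le_iff_ne_zero.2 (rne _ _))))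

/-- `B` offends on `U`. -/
theorem off {U : Subgroup G} (hW : B ≤ WW V F) (hF : F ≤ B)
    (hX : centralizer (F : Set G) ≤ normalizer (B : Set G)) (hI : ¬ V ⊓ B ≤ F)
    (hUV : U ≤ V) (hUE : ¬ U ≤ EE V F) (hUF : U ⊓ F = ⊥) (hBU : B ≤ normalizer (U : Set G)) :
    ¬ B ≤ centralizer (U : Set G) ∧
      (centralizer (B : Set G)).relIndex U ≤ (centralizer (U : Set G)).relIndex B := by
  obtain ⟨b, hb, hbN⟩ := exists_not_mem_NN h hW hF hX hI
  obtain ⟨w, hw, hwE⟩ := SetLike.not_le_iff_exists.1 hUE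
  have hcU : ∀ u ∈ U, ∀ s ∈ B, c u s ∈ U := by
    intro u hu s hs
    have h1 := (mem_normalizer_iff.1 (hBU hs) u⁻¹).1 (inv_mem hu)
    have e : c u s = u * (s * u⁻¹ * s⁻¹) := by rw [c_def]; group
    rw [e]
    exact mul_mem hu h1
  have hcB : ∀ u ∈ U, ∀ s ∈ B, c u s ∈ B := by
    intro u hu s hs
    have h1 := (mem_normalizer_iff.1 (hX (h.V_le_X (hUV hu))) s).1 hs
    have e : c u s = (u * s * u⁻¹) * s⁻¹ := by rw [c_def]
    rw [e]
    exact mul_mem h1 (inv_mem hs)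
  have h0 : ∀ y ∈ U, y ∈ F → y = 1 := by
    intro y hy hyF
    have h1 : y ∈ U ⊓ F := mem_inf.2 ⟨hy, hyF⟩
    rw [hUF] at h1
    exact mem_bot.1 h1
  have hcomm : ∀ {u s : G}, c u s = 1 → u * s = s * u := by
    intro u s h1
    rw [c_def, mul_inv_eq_one, mul_inv_eq_iff_eq_mul] at h1
    exact h1
  refine ⟨fun hcon => hbN ?_, ?_⟩
  · refine (h.c_mem_F_iff (hUV hw) hwE (hW hb)).1 ?_
    have h1 : w * b = b * w := mem_centralizer_iff.1 (hcon hb) w hw
    rw [c_def, h1, mul_inv_cancel_right, mul_inv_cancel]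
    exact one_mem _
  · have s1 : (centralizer (B : Set G)).relIndex U ≤ (EE V F).relIndex U := by
      rw [← inf_relIndex_right (EE V F) U]
      refine relIndex_le_of_le_left ?_ (rne _ _)
      intro e he
      obtain ⟨he1, he2⟩ := mem_inf.1 he
      rw [mem_centralizer_iff]
      intro s hs
      exact (hcomm (h0 _ (hcU e he2 s hs) (h.comm_EW he1 (hW hs)))).symm
    have s2 : (EE V F).relIndex U ≤ F.relIndex (U ⊓ B) := by
      refine NOne.Flat.Cos.le (φ := fun u => c u b) ⟨fun u hu => mem_inf.2 ⟨hcU u hu b hb, hcB u hu b hb⟩, ?_⟩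
      intro u hu u' hu'
      have e : (c u b)⁻¹ * c u' b = c (u⁻¹ * u') b := by
        rw [h.c_mul_left (inv_mem (hUV hu)) (hUV hu') (hW hb), h.inv (hUV hu), h.inv (h.c_memV (hUV hu) (hW hb))]
      change (c u b)⁻¹ * c u' b ∈ F ↔ _
      rw [e]
      constructor
      · intro h1
        by_contra h2
        exact hbN ((h.c_mem_F_iff (mul_mem (inv_mem (hUV hu)) (hUV hu')) h2 (hW hb)).1 h1)
      · intro h1
        exact h.comm_EW h1 (hW hb)
    have s3 : F.relIndex (U ⊓ B) ≤ F.relIndex (V ⊓ B) :=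
      relIndex_le_of_le_right (inf_le_inf_right B hUV) (rne _ _)
    have s4 := relIndex_le h hW hF hX
    have s5 : (NN V F).relIndex B ≤ (centralizer (U : Set G)).relIndex B := by
      rw [← inf_relIndex_right (centralizer (U : Set G)) B]
      refine relIndex_le_of_le_left ?_ (rne _ _)
      intro s hs
      obtain ⟨hs1, hs2⟩ := mem_inf.1 hs
      refine (h.c_mem_F_iff (hUV hw) hwE (hW hs2)).1 ?_
      have h1 : w * s = s * w := mem_centralizer_iff.1 hs1 w hw
      rw [c_def, h1, mul_inv_cancel_right, mul_inv_cancel]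
      exact one_mem _
    exact s1.trans (s2.trans (s3.trans (s4.trans s5)))

/-- `U` is FF if `U ∩ F = 1`. -/
theorem ff_of_inf_eq_bot {U : Subgroup G} (hW : B ≤ WW V F) (hF : F ≤ B) (hBc : B ≤ centralizer (B : Set G))
    (hX : centralizer (F : Set G) ≤ normalizer (B : Set G)) (hI : ¬ V ⊓ B ≤ F)
    (hUV : U ≤ V) (hUE : ¬ U ≤ EE V F) (hUF : U ⊓ F = ⊥) (hBU : B ≤ normalizer (U : Set G)) : ¬ NotFF U := by
  intro hn
  obtain ⟨h1, h2⟩ := off h hW hF hX hI hUV hUE hUF hBU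
  refine absurd (hn B ?_ hBU ?_ ?_ h1) (not_lt.2 h2)
  · exact (ZN.isPGroup_o2 _).to_le (hW.trans Hyp.W_le_R)
  · intro a ha
    rw [pow_two, mem_centralizer_iff]
    intro u hu
    exact (Hyp.F_comm (h.sq_W (hW ha)) (h.V_le_X (hUV hu))).symm
  · intro a ha b hb
    have e : a * b = b * a := (mem_centralizer_iff.1 (hBc ha) b hb).symm
    rw [e, mul_inv_cancel_right, mul_inv_cancel]
    exact one_mem _

end flat

variable {S : Sylow 2 G}

omit [Finite G] in
theorem stmtOff (G : Type u) [Group G] [Finite G] : StmtOff G := fun _ _ h _ hF hE => h.off_all hF hE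

/-- `U = V_P` not FF, `U ≤ O₂(C_G(Z))`, `U ∩ F ≠ 1`: `U ≤ E`. -/
theorem le_EE_of_inf (hc : IsCharacteristicTwoType G) {P : Subgroup G} (hP : IsParS (S : Subgroup G) P)
    (hlow : zl (S : Subgroup G) P ≤ o2 (CZ (S : Subgroup G))) (hn : NotFF (zl (S : Subgroup G) P))
    {V F : Subgroup G} (h : Hyp V F) (hUV : zl (S : Subgroup G) P ≤ V)
    (hUF : zl (S : Subgroup G) P ⊓ F ≠ ⊥) : zl (S : Subgroup G) P ≤ EE V F := by
  have hr := NullNff.root_of_par hc hP hn
  have h1 := hr.good hc (stmtOff G) hlow (F := zl (S : Subgroup G) P ⊓ F) (inf_le_left.trans hr.zl_le_V) hUF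
  refine le_inf hUV ?_
  have h2 : centralizer (F : Set G) ≤ centralizer ((zl (S : Subgroup G) P ⊓ F : Subgroup G) : Set G) :=
    centralizer_le inf_le_right
  exact (le_inf (hr.zl_le_V.trans h1) (hUV.trans h.V_le_X)).trans (o2_inf_le h2)

/-- **(nFF)** the bad line `U = V_P` is FF. -/
theorem ff (hc : IsCharacteristicTwoType G) {P : Subgroup G} (hP : IsParS (S : Subgroup G) P)
    (hlow : zl (S : Subgroup G) P ≤ o2 (CZ (S : Subgroup G))) {V F B : Subgroup G} (h : Hyp V F)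
    (hW : B ≤ WW V F) (hF : F ≤ B) (hBc : B ≤ centralizer (B : Set G))
    (hX : centralizer (F : Set G) ≤ normalizer (B : Set G)) (hI : ¬ V ⊓ B ≤ F) (hBS : B ≤ (S : Subgroup G))
    (hUV : zl (S : Subgroup G) P ≤ V) (hUE : ¬ zl (S : Subgroup G) P ≤ EE V F) :
    ¬ NotFF (zl (S : Subgroup G) P) := by
  intro hn
  by_cases hUF : zl (S : Subgroup G) P ⊓ F = ⊥
  · exact ff_of_inf_eq_bot h hW hF hBc hX hI hUV hUE hUF
      (hBS.trans (hP.le.trans (le_normalizer_zl _ _))) hn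
  · exact hUE (le_EE_of_inf hc hP hlow hn h hUV hUF)

end Cfsg.Agent.Omega.NOThreeL.Low.NonFF

end
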