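import Cfsg.Agent.Mrg.Omega.NOThreeL.RTree
import Cfsg.Agent.Mrg.Omega.NOThreeL.RLow.Glue
import Cfsg.Agent.Mrg.Omega.NOThreeL.Low.Final


/-!
# NO-3L with THEOREM R-LOW: the tree with the weakest sockets

With THEOREM LOW (`C_Z(P) = 1`) and THEOREM R-LOW (box R) `V* = ⟨Z^M₀⟩ ≤ Q` as soon as `V*` is not FF.

* `NotFFM K` : `Data`, not (A), `V*` not FF, `V* ≤ Q` (several `P`, `M = M₀ = ⟨P*(S)⟩`); `NotFFM.of_G` : from `NotFFG`;
* `RBF S` : box R, not (A), `V*` FF; `RBzF K`, `RBcF K` : the sockets `RTree.RBz`, `RTree.RBc` with `V*` FF;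
  `RBzF.of`, `RBcF.of` : from `RTree.RBz K`, `RTree.RBc K`;
* `rg_of` : `Merge.RG K`; `r_of` : `Main.R K`; `caseB_of` : `Main.CaseB K`.
-/

set_option autoImplicit false

namespace Cfsg.Agent.Omega.NOThreeL.RTreeF

open Subgroup Cfsg Cfsg.Agent.ZN Cfsg.Agent.Omega.MinPar Cfsg.Agent.Omega.Frame Cfsg.Agent.Omega.FrameNOFF
open Cfsg.Agent.Omega.Node.NO3L Cfsg.Agent.Omega.NOThreeL.Basic Cfsg.Agent.Omega.NOThreeL.Main
open Cfsg.Agent.Omega.NO3S (FFMod)
open Cfsg.Agent.Omega.NOThreeL.Merge (MZ)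
open Cfsg.Agent.Omega.NOThreeL.ZCut (FZ)
open Cfsg.Agent.Omega.NO3b.Bang (bang)
open Cfsg.Agent.Omega.NOThreeL.RTree (RAbig RB)

universe u

section sockets

variable (K : Cls.{u})

/-- **NotFFM**: not (A), `V* = ⟨Z^M₀⟩ ≤ Q` not FF. -/
def NotFFM : Prop :=
  ∀ (G : Type u) [Group G] [Finite G], Ctx G → K G → ∀ (S : Sylow 2 G), Full (S : Subgroup G) →
    Data (S : Subgroup G) → ¬ CaseA (S : Subgroup G) → ¬ FFMod (S : Subgroup G) (MZ (S : Subgroup G)) →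
      zl (S : Subgroup G) (MZ (S : Subgroup G)) ≤ o2 (CZ (S : Subgroup G)) → IsKnownSimple' G

/-- Box R, not (A), `V*` FF. -/
structure RBF {G : Type u} [Group G] [Finite G] (S : Sylow 2 G) : Prop where
  ctx : Ctx G
  full : Full (S : Subgroup G)
  data : Data (S : Subgroup G)
  notA : ¬ CaseA (S : Subgroup G)
  ff : FFMod (S : Subgroup G) (MZ (S : Subgroup G))
  ex : ∃ P : Subgroup G, IsParS (S : Subgroup G) P ∧
    zc (S : Subgroup G) ⊓ centralizer (P : Set G) ≠ ⊥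

/-- (RC') fails: some `z ∈ Z#` is moved only by `P ∈ P*(S)` with `P ≤ N_G(V^!(S))`. -/
def RBzF : Prop :=
  ∀ (G : Type u) [Group G] [Finite G], K G → ∀ (S : Sylow 2 G), RBF S →
    ∀ z ∈ zc (S : Subgroup G), z ≠ 1 →
      (∀ P ∈ FZ (S : Subgroup G) z, P ≤ normalizer (bang (S : Subgroup G) : Set G)) → IsKnownSimple' G

/-- (RC'): every `z ∈ Z#` is moved by some `P ∈ P*(S)` with `P ≰ N_G(V^!(S))`. -/
def RBcF : Prop :=
  ∀ (G : Type u) [Group G] [Finite G], K G → ∀ (S : Sylow 2 G), RBF S →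
    (∀ z ∈ zc (S : Subgroup G), z ≠ 1 →
      ∃ P ∈ FZ (S : Subgroup G) z, ¬ P ≤ normalizer (bang (S : Subgroup G) : Set G)) → IsKnownSimple' G

end sockets

theorem RBF.toRB {G : Type u} [Group G] [Finite G] {S : Sylow 2 G} (h : RBF S) : RB S :=
  ⟨h.ctx, h.full, h.data, h.notA, Or.inl h.ff, h.ex⟩

theorem NotFFM.of_G {K : Cls.{u}} (h : Merge.NotFFG K) : NotFFM K :=
  fun G _ _ hG hK S hF D _ hff hlow => h G hK S _ (Merge.HypG.of_data hG hF D hlow hff)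

theorem RBzF.of {K : Cls.{u}} (h : RTree.RBz K) : RBzF K :=
  fun G _ _ hK S hB => h G hK S hB.toRB

theorem RBcF.of {K : Cls.{u}} (h : RTree.RBc K) : RBcF K :=
  fun G _ _ hK S hB => h G hK S hB.toRB

/-- **Box R, not (A), `V*` FF**, from the two sockets. -/
theorem rbf_of {K : Cls.{u}} (hz : RBzF K) (hc : RBcF K) {G : Type u} [Group G] [Finite G] (hK : K G)
    {S : Sylow 2 G} (hB : RBF S) : IsKnownSimple' G := by
  by_cases h : ∀ z ∈ zc (S : Subgroup G), z ≠ 1 →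
      ∃ P ∈ FZ (S : Subgroup G) z, ¬ P ≤ normalizer (bang (S : Subgroup G) : Set G)
  · exact hc G hK S hB h
  · push Not at h
    obtain ⟨z, hz1, hz2, hz3⟩ := h
    exact hz G hK S hB z hz1 hz2 hz3

/-- **Box R from its leaves** (the socket `Merge.RG`). -/
theorem rg_of (T : RLow.Parts.{u}) {K : Cls.{u}} (hq : RAbig K) (hz : RBzF K) (hc : RBcF K) :
    Merge.RG K := by
  intro G _ _ hG hK S hF D hff P hP hzP
  by_cases hA : CaseA (S : Subgroup G)
  · exact RTree.caseA_of hq hG hK hF D hA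
  · by_cases h1 : FFMod (S : Subgroup G) (MZ (S : Subgroup G))
    · exact rbf_of hz hc hK ⟨hG, hF, D, hA, h1, P, hP, hzP⟩
    · rcases hff with h2 | h2
      · exact absurd h2 h1
      · exact absurd (RLow.low_of T hG hF D hA ⟨P, hP, hzP⟩ h1) h2

/-- **Box R from its leaves** (the socket `Main.R`). -/
theorem r_of (T : RLow.Parts.{u}) {K : Cls.{u}} (h : NotFFM K) (hq : RAbig K) (hz : RBzF K)
    (hc : RBcF K) : Main.R K := by
  intro G _ _ hG hK S hF D P hP hzP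
  by_cases hA : CaseA (S : Subgroup G)
  · exact RTree.caseA_of hq hG hK hF D hA
  · by_cases h1 : FFMod (S : Subgroup G) (MZ (S : Subgroup G))
    · exact rbf_of hz hc hK ⟨hG, hF, D, hA, h1, P, hP, hzP⟩
    · exact h G hG hK S hF D hA h1 (RLow.low_of T hG hF D hA ⟨P, hP, hzP⟩ h1)

/-- **NO-3L with `C_Z(P) = 1`** from `NotFFM`. -/
theorem caseB_of {K : Cls.{u}} (h : NotFFM K) : Main.CaseB K := by
  intro G _ _ hG hcl S hF D hA
  exact h G hG hcl S hF D.toData hA (NF.vf G hG S hF D) (Low.zl_MZ_le hG hF D)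

end Cfsg.Agent.Omega.NOThreeL.RTreeF
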